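import Groth.Agent.Grass5.GrassCond

/-!
The closed immersion of Grassmannians attached to a surjection of modules.
-/

set_option autoImplicit false
set_option maxHeartbeats 400000

universe u

open AlgebraicGeometry CategoryTheory
open scoped TensorProduct

namespace Groth.Agent.Grass5

section Algebra

variable {R : Type u} [CommRing R] {M₁ M₂ : Type u} [AddCommGroup M₁] [Module R M₁]
  [AddCommGroup M₂] [Module R M₂] (v : M₁ →ₗ[R] M₂) {k : ℕ}
  {A : Type u} [CommRing A] [Algebra R A] {C : Type u} [CommRing C] [Algebra R C]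

/-- the elements `1 ⊗ m`, `v m = 0`. -/
def kerGen (A : Type u) [CommRing A] [Algebra R A] : Set (A ⊗[R] M₁) :=
  {x | ∃ m, v m = 0 ∧ (1 : A) ⊗ₜ[R] m = x}

lemma bc_image_kerGen (f : A →ₐ[R] C) : bc f '' kerGen v A = kerGen v C := by
  ext x
  constructor
  · rintro ⟨_, ⟨m, hm, rfl⟩, rfl⟩
    exact ⟨m, hm, by simp⟩
  · rintro ⟨m, hm, rfl⟩
    exact ⟨(1 : A) ⊗ₜ[R] m, ⟨m, hm, rfl⟩, by simp⟩

lemma bc_map_baseChange (f : A →ₐ[R] C) (z : A ⊗[R] M₁) :
    bc f (v.baseChange A z) = v.baseChange C (bc f z) := by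
  induction z using TensorProduct.induction_on with
  | zero => simp
  | tmul a m => simp
  | add x y hx hy => simp only [map_add, hx, hy]

variable {v} (hv : Function.Surjective v)
include hv

lemma ker_baseChange_eq_span :
    LinearMap.ker (v.baseChange A) = Submodule.span A (kerGen v A) := by
  apply le_antisymm
  · intro x hx
    have hex := lTensor_exact (R := R) A
      (f := (LinearMap.ker v).subtype) (LinearMap.exact_subtype_ker_map v) hv
    obtain ⟨y, rfl⟩ := (hex x).mp (by simpa [LinearMap.baseChange_eq_ltensor] using hx)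
    clear hx
    induction y using TensorProduct.induction_on with
    | zero => simp
    | tmul a m =>
      rw [LinearMap.lTensor_tmul, Submodule.subtype_apply, ← mul_one a, ← smul_eq_mul,
        ← TensorProduct.smul_tmul']
      exact Submodule.smul_mem _ _ (Submodule.subset_span ⟨_, m.2, rfl⟩)
    | add y y' hy hy' => rw [map_add]; exact add_mem hy hy'
  · rw [Submodule.span_le]
    rintro _ ⟨m, hm, rfl⟩
    simp [hm]

/-- quotient equivalence. -/
noncomputable def quotComapEquiv (N : Submodule A (A ⊗[R] M₂)) :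
    ((A ⊗[R] M₁) ⧸ N.comap (v.baseChange A)) ≃ₗ[A] ((A ⊗[R] M₂) ⧸ N) :=
  (Submodule.quotEquivOfEq _ _ (by rw [LinearMap.ker_comp, Submodule.ker_mkQ])).trans
    ((N.mkQ.comp (v.baseChange A)).quotKerEquivOfSurjective
      ((Submodule.mkQ_surjective N).comp (LinearMap.baseChange_surjective A hv)))

/-- preimage of a point. -/
noncomputable def pullN (N : Module.Grassmannian A (A ⊗[R] M₂) k) :
    Module.Grassmannian A (A ⊗[R] M₁) k where
  toSubmodule := N.toSubmodule.comap (v.baseChange A)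
  finite_quotient := Module.Finite.equiv (quotComapEquiv hv N.toSubmodule).symm
  projective_quotient := Module.Projective.of_equiv (quotComapEquiv hv N.toSubmodule).symm
  rankAtStalk_eq p := (congrFun (Module.rankAtStalk_eq_of_equiv (quotComapEquiv hv _)) p).trans
    (N.rankAtStalk_eq p)

/-- image of a point containing the kernel. -/
noncomputable def pushN (U : Module.Grassmannian A (A ⊗[R] M₁) k)
    (h : LinearMap.ker (v.baseChange A) ≤ U.toSubmodule) :
    Module.Grassmannian A (A ⊗[R] M₂) k :=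
  let e : ((A ⊗[R] M₁) ⧸ U.toSubmodule) ≃ₗ[A]
      ((A ⊗[R] M₂) ⧸ U.toSubmodule.map (v.baseChange A)) :=
    (Submodule.quotEquivOfEq _ _ (Submodule.comap_map_eq_self h).symm).trans
      (quotComapEquiv hv _)
  { toSubmodule := U.toSubmodule.map (v.baseChange A)
    finite_quotient := Module.Finite.equiv e
    projective_quotient := Module.Projective.of_equiv e
    rankAtStalk_eq := fun p ↦
      (congrFun (Module.rankAtStalk_eq_of_equiv e.symm) p).trans (U.rankAtStalk_eq p) }

lemma kerGen_le_pullN (N : Module.Grassmannian A (A ⊗[R] M₂) k) :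
    Submodule.span A (kerGen v A) ≤ (pullN hv N).toSubmodule := by
  rw [← ker_baseChange_eq_span hv]
  exact Submodule.comap_mono bot_le

lemma pushN_map (f : A →ₐ[R] C) (U : Module.Grassmannian A (A ⊗[R] M₁) k)
    (h : LinearMap.ker (v.baseChange A) ≤ U.toSubmodule)
    (h' : LinearMap.ker (v.baseChange C) ≤ (Module.Grassmannian.map f U).toSubmodule) :
    pushN hv (Module.Grassmannian.map f U) h' = Module.Grassmannian.map f (pushN hv U h) := by
  apply Module.Grassmannian.ext
  simp only [pushN, map_eq_span, Submodule.map_span, Submodule.map_coe, Set.image_image,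
    bc_map_baseChange]

lemma pullN_map (f : A →ₐ[R] C) (N : Module.Grassmannian A (A ⊗[R] M₂) k) :
    pullN hv (Module.Grassmannian.map f N) = Module.Grassmannian.map f (pullN hv N) := by
  have hle : LinearMap.ker (v.baseChange A) ≤ (pullN hv N).toSubmodule := Submodule.comap_mono bot_le
  have hle' : LinearMap.ker (v.baseChange C) ≤
      (Module.Grassmannian.map f (pullN hv N)).toSubmodule := by
    rw [ker_baseChange_eq_span hv, ← bc_image_kerGen v f, map_eq_span]
    exact Submodule.span_mono (Set.image_mono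
      (Submodule.span_le.1 (kerGen_le_pullN hv N)))
  have hN : pushN hv (pullN hv N) hle = N := Module.Grassmannian.ext
    (Submodule.map_comap_eq_of_surjective (LinearMap.baseChange_surjective A hv) _)
  apply Module.Grassmannian.ext
  conv_lhs => rw [← hN, ← pushN_map hv f _ hle hle']
  exact Submodule.comap_map_eq_self hle'

end Algebra

variable {R : Type u} [CommRing R] {M₁ M₂ : Type u} [AddCommGroup M₁] [Module R M₁]
  [AddCommGroup M₂] [Module R M₂] {v : M₁ →ₗ[R] M₂} (hv : Function.Surjective v) {k : ℕ}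
  {X₁ X₂ : Over (Spec (CommRingCat.of R))}
  (e₁ : ∀ A : CommAlgCat.{u} R, (pt A ⟶ X₁) ≃ Module.Grassmannian A ((A : Type u) ⊗[R] M₁) k)
  (he₁ : ∀ (A B : CommAlgCat.{u} R) (φ : A ⟶ B) (g : pt A ⟶ X₁) (g' : pt B ⟶ X₁),
      g'.left = Spec.map (CommRingCat.ofHom φ.hom.toRingHom) ≫ g.left →
        e₁ B g' = Module.Grassmannian.map φ.hom (e₁ A g))
  (e₂ : ∀ A : CommAlgCat.{u} R, (pt A ⟶ X₂) ≃ Module.Grassmannian A ((A : Type u) ⊗[R] M₂) k)
  (he₂ : ∀ (A B : CommAlgCat.{u} R) (φ : A ⟶ B) (g : pt A ⟶ X₂) (g' : pt B ⟶ X₂),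
      g'.left = Spec.map (CommRingCat.ofHom φ.hom.toRingHom) ≫ g.left →
        e₂ B g' = Module.Grassmannian.map φ.hom (e₂ A g))

/-- `Spec` of an algebra map, over the base. -/
noncomputable def ptMap {A B : CommAlgCat.{u} R} (φ : A ⟶ B) : pt B ⟶ pt A :=
  Over.homMk (Spec.map (CommRingCat.ofHom φ.hom.toRingHom)) (by
    change Spec.map _ ≫ Spec.map _ = Spec.map _
    rw [← Spec.map_comp, ← CommRingCat.ofHom_comp]
    exact congr(Spec.map (CommRingCat.ofHom $(φ.hom.comp_algebraMap))))

include hv he₁ he₂ in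
theorem exists_comap_hom :
    ∃ c : X₂ ⟶ X₁, ∀ (A : CommAlgCat.{u} R) (g : pt A ⟶ X₂),
      (e₁ A (g ≫ c)).toSubmodule = (e₂ A g).toSubmodule.comap (v.baseChange A) := by
  obtain ⟨c, hc⟩ := exists_hom_of_pts (Y := X₂) (X := X₁)
    (fun A g ↦ (e₁ A).symm (pullN hv (e₂ A g))) (by
      intro A C φ g g' h
      have key : (e₁ C).symm (pullN hv (e₂ C g')) = ptMap φ ≫ (e₁ A).symm (pullN hv (e₂ A g)) := by
        rw [Equiv.symm_apply_eq, he₁ A C φ ((e₁ A).symm (pullN hv (e₂ A g))) (ptMap φ ≫ _) rfl,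
          Equiv.apply_symm_apply, he₂ A C φ g g' h, pullN_map]
      exact congr($(key).left))
  refine ⟨c, fun A g ↦ ?_⟩
  rw [hc A g, Equiv.apply_symm_apply]
  rfl

include hv he₁ he₂ in
theorem isClosedImmersion_of_comap (c : X₂ ⟶ X₁)
    (hc : ∀ (A : CommAlgCat.{u} R) (g : pt A ⟶ X₂),
      (e₁ A (g ≫ c)).toSubmodule = (e₂ A g).toSubmodule.comap (v.baseChange A)) :
    IsClosedImmersion c.left := by
  obtain ⟨Z, ι, hι, hZ⟩ := exists_closedImmersion_of_le e₁ he₁
    (fun A _ ↦ Submodule.span A (kerGen v A))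
    (fun A C φ _ ↦ by rw [span_bc_span, bc_image_kerGen])
  let Zo : Over (Spec (CommRingCat.of R)) := Over.mk (ι ≫ X₁.hom)
  let ιo : Zo ⟶ X₁ := Over.homMk ι rfl
  have hcond : ∀ (A : CommAlgCat.{u} R) (g : pt A ⟶ X₂), ∃ h : pt A ⟶ Zo, h ≫ ιo = g ≫ c := by
    intro A g
    obtain ⟨h, hh⟩ := (hZ A (g ≫ c)).mpr (by
      rw [hc A g]; exact kerGen_le_pullN hv _)
    exact ⟨Over.homMk h (by
      rw [show Zo.hom = ι ≫ X₁.hom from rfl, ← Category.assoc, hh]
      exact Over.w (g ≫ c)), Over.OverMorphism.ext hh⟩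
  have hιo : Mono ιo := Over.mono_of_mono_left ιo
  choose a₀ ha₀ using hcond
  obtain ⟨a, ha⟩ := exists_hom_of_pts (Y := X₂) (X := Zo) a₀ (by
    intro A C φ g g' h
    have e : g' = ptMap φ ≫ g := Over.OverMorphism.ext h
    have key : a₀ C g' = ptMap φ ≫ a₀ A g := by
      rw [← cancel_mono ιo, Category.assoc, ha₀, ha₀, e, Category.assoc]
    exact congr($(key).left))
  have hac : a ≫ ιo = c := hom_ext_pts _ _ fun A g ↦ by rw [← Category.assoc, ha, ha₀]
  have hker : ∀ (A : CommAlgCat.{u} R) (g : pt A ⟶ Zo),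
      LinearMap.ker (v.baseChange A) ≤ (e₁ A (g ≫ ιo)).toSubmodule := fun A g ↦
    (ker_baseChange_eq_span hv).trans_le ((hZ A (g ≫ ιo)).mp ⟨g.left, rfl⟩)
  obtain ⟨b, hb⟩ := exists_hom_of_pts (Y := Zo) (X := X₂)
    (fun A g ↦ (e₂ A).symm (pushN hv (e₁ A (g ≫ ιo)) (hker A g))) (by
      intro A C φ g g' h
      have e : g' = ptMap φ ≫ g := Over.OverMorphism.ext h
      have key : (e₂ C).symm (pushN hv (e₁ C (g' ≫ ιo)) (hker C g')) =
          ptMap φ ≫ (e₂ A).symm (pushN hv (e₁ A (g ≫ ιo)) (hker A g)) := by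
        rw [Equiv.symm_apply_eq,
          he₂ A C φ ((e₂ A).symm (pushN hv _ (hker A g))) (ptMap φ ≫ _) rfl,
          Equiv.apply_symm_apply]
        have h1 := he₁ A C φ (g ≫ ιo) (g' ≫ ιo) (by rw [e, Category.assoc]; rfl)
        exact Module.Grassmannian.ext ((congr(Submodule.map (v.baseChange C) ($h1).toSubmodule)).trans
          (congrArg Module.Grassmannian.toSubmodule
            (pushN_map hv φ.hom (e₁ A (g ≫ ιo)) (hker A g) (h1 ▸ hker C g'))))
      exact congr($(key).left))
  have hbc : b ≫ c = ιo := hom_ext_pts _ _ fun A g ↦ by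
    rw [← Category.assoc]
    apply (e₁ A).injective
    apply Module.Grassmannian.ext
    rw [hc, hb, Equiv.apply_symm_apply]
    exact Submodule.comap_map_eq_self (hker A g)
  have hab : a ≫ b = 𝟙 X₂ := hom_ext_pts _ _ fun A g ↦ by
    rw [← Category.assoc, Category.comp_id, hb, Equiv.symm_apply_eq]
    apply Module.Grassmannian.ext
    change Submodule.map _ (e₁ A ((g ≫ a) ≫ ιo)).toSubmodule = _
    rw [Category.assoc, hac, hc]
    exact Submodule.map_comap_eq_of_surjective (LinearMap.baseChange_surjective A hv) _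
  have hba : b ≫ a = 𝟙 Zo := by
    rw [← cancel_mono ιo, Category.assoc, hac, hbc, Category.id_comp]
  let e : X₂ ≅ Zo := ⟨a, b, hab, hba⟩
  rw [← hac, Over.comp_left]
  haveI : IsIso a := e.isIso_hom
  haveI : IsIso a.left := inferInstanceAs (IsIso ((Over.forget _).map a))
  haveI : IsClosedImmersion ιo.left := hι
  infer_instance

end Groth.Agent.Grass5
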