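import Groth.Agent.Grass5.Rep
import Groth.Agent.Grass5.GrassMap

/-!
Representing schemes of Grassmannians: existence, Plücker embedding, affine cover.
-/

set_option autoImplicit false
set_option maxHeartbeats 400000
set_option backward.isDefEq.respectTransparency false

universe u

open CategoryTheory CategoryTheory.Limits AlgebraicGeometry
open scoped TensorProduct

noncomputable section

namespace Groth.Agent.Grass5

variable {R : Type u} [CommRing R]

section General

variable {M : Type u} [AddCommGroup M] [Module R M] {k : ℕ}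

/-- `e` is a natural bijection with the Grassmannian functor. -/
def IsRep {X : Over (Spec (CommRingCat.of R))}
    (e : ∀ A : CommAlgCat.{u} R, (pt A ⟶ X) ≃ Module.Grassmannian A ((A : Type u) ⊗[R] M) k) : Prop :=
  ∀ (A B : CommAlgCat.{u} R) (φ : A ⟶ B) (g : pt A ⟶ X) (g' : pt B ⟶ X),
    g'.left = Spec.map (CommRingCat.ofHom φ.hom.toRingHom) ≫ g.left →
      e B g' = Module.Grassmannian.map φ.hom (e A g)

theorem exists_hom_rep {X Y : Over (Spec (CommRingCat.of R))}
    {e : ∀ A : CommAlgCat.{u} R, (pt A ⟶ X) ≃ Module.Grassmannian A ((A : Type u) ⊗[R] M) k}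
    {e' : ∀ A : CommAlgCat.{u} R, (pt A ⟶ Y) ≃ Module.Grassmannian A ((A : Type u) ⊗[R] M) k}
    (he : IsRep e) (he' : IsRep e') :
    ∃ a : X ⟶ Y, ∀ (A : CommAlgCat.{u} R) (g : pt A ⟶ X), e' A (g ≫ a) = e A g := by
  obtain ⟨a, ha⟩ := exists_hom_of_pts (Y := X) (X := Y) (fun A g ↦ (e' A).symm (e A g)) (by
    intro A C φ g g' h
    have key : (e' C).symm (e C g') = ptMap φ ≫ (e' A).symm (e A g) := by
      rw [Equiv.symm_apply_eq, he' A C φ ((e' A).symm (e A g)) (ptMap φ ≫ _) rfl,
        Equiv.apply_symm_apply, he A C φ g g' h]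
    exact congr($(key).left))
  exact ⟨a, fun A g ↦ by rw [ha, Equiv.apply_symm_apply]⟩

theorem exists_iso_rep {X Y : Over (Spec (CommRingCat.of R))}
    {e : ∀ A : CommAlgCat.{u} R, (pt A ⟶ X) ≃ Module.Grassmannian A ((A : Type u) ⊗[R] M) k}
    {e' : ∀ A : CommAlgCat.{u} R, (pt A ⟶ Y) ≃ Module.Grassmannian A ((A : Type u) ⊗[R] M) k}
    (he : IsRep e) (he' : IsRep e') : Nonempty (X ≅ Y) := by
  obtain ⟨a, ha⟩ := exists_hom_rep he he'
  obtain ⟨b, hb⟩ := exists_hom_rep he' he
  refine ⟨⟨a, b, hom_ext_pts _ _ fun A g ↦ (e A).injective ?_,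
    hom_ext_pts _ _ fun A g ↦ (e' A).injective ?_⟩⟩
  · rw [← Category.assoc, hb, ha, Category.comp_id]
  · rw [← Category.assoc, ha, hb, Category.comp_id]

theorem exists_rep_of_surjective {M₁ : Type u} [AddCommGroup M₁] [Module R M₁]
    {v : M₁ →ₗ[R] M} (hv : Function.Surjective v) {X₁ : Over (Spec (CommRingCat.of R))}
    (e₁ : ∀ A : CommAlgCat.{u} R, (pt A ⟶ X₁) ≃ Module.Grassmannian A ((A : Type u) ⊗[R] M₁) k)
    (he₁ : IsRep e₁) :
    ∃ (X : Over (Spec (CommRingCat.of R)))
      (e : ∀ A : CommAlgCat.{u} R, (pt A ⟶ X) ≃ Module.Grassmannian A ((A : Type u) ⊗[R] M) k),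
      IsRep e := by
  obtain ⟨Z, ι, hι, hZ⟩ := exists_closedImmersion_of_le e₁ he₁
    (fun A _ ↦ Submodule.span A (kerGen v A))
    (fun A C φ _ ↦ by rw [span_bc_span, bc_image_kerGen])
  let Zo : Over (Spec (CommRingCat.of R)) := Over.mk (ι ≫ X₁.hom)
  let ιo : Zo ⟶ X₁ := Over.homMk ι rfl
  haveI : Mono ιo.left := (inferInstance : Mono ι)
  have hιo : Mono ιo := Over.mono_of_mono_left ιo
  have hker : ∀ (A : CommAlgCat.{u} R) (g : pt A ⟶ Zo),
      LinearMap.ker (v.baseChange A) ≤ (e₁ A (g ≫ ιo)).toSubmodule := fun A g ↦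
    (ker_baseChange_eq_span hv).trans_le ((hZ A (g ≫ ιo)).mp ⟨g.left, rfl⟩)
  have hlift : ∀ (A : CommAlgCat.{u} R) (N : Module.Grassmannian A ((A : Type u) ⊗[R] M) k),
      ∃ g : pt A ⟶ Zo, g ≫ ιo = (e₁ A).symm (pullN hv N) := fun A N ↦ by
    obtain ⟨h, hh⟩ := (hZ A ((e₁ A).symm (pullN hv N))).mpr (by
      rw [Equiv.apply_symm_apply]; exact kerGen_le_pullN hv N)
    exact ⟨Over.homMk h (by
      rw [show Zo.hom = ι ≫ X₁.hom from rfl, ← Category.assoc, hh]
      exact Over.w _), Over.OverMorphism.ext hh⟩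
  choose G hG using hlift
  refine ⟨Zo, fun A ↦
    { toFun := fun g ↦ pushN hv (e₁ A (g ≫ ιo)) (hker A g)
      invFun := G A
      left_inv := fun g ↦ by
        rw [← cancel_mono ιo, hG, Equiv.symm_apply_eq]
        exact Module.Grassmannian.ext (Submodule.comap_map_eq_self (hker A g))
      right_inv := fun N ↦ by
        apply Module.Grassmannian.ext
        change Submodule.map _ (e₁ A (G A N ≫ ιo)).toSubmodule = _
        rw [hG, Equiv.apply_symm_apply]
        exact Submodule.map_comap_eq_of_surjective (LinearMap.baseChange_surjective A hv) _ },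
    fun A B φ g g' h ↦ ?_⟩
  have h1 := he₁ A B φ (g ≫ ιo) (g' ≫ ιo) (by rw [Over.comp_left, h, Category.assoc]; rfl)
  apply Module.Grassmannian.ext
  exact (congr(Submodule.map (v.baseChange B) ($h1).toSubmodule)).trans
    (congrArg Module.Grassmannian.toSubmodule
      (pushN_map hv φ.hom (e₁ A (g ≫ ιo)) (hker A g) (h1 ▸ hker B g')))

theorem exists_rep_of_finite [Module.Finite R M] (k : ℕ) :
    ∃ (X : Over (Spec (CommRingCat.of R)))
      (e : ∀ A : CommAlgCat.{u} R, (pt A ⟶ X) ≃ Module.Grassmannian A ((A : Type u) ⊗[R] M) k),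
      IsRep e := by
  obtain ⟨n, v, hv⟩ := Module.Finite.exists_fin' R M
  let p : (Fin (n + k) → R) →ₗ[R] (Fin n → R) :=
    LinearMap.funLeft R R (Fin.castAdd k)
  have hp : Function.Surjective p :=
    LinearMap.funLeft_surjective_of_injective _ _ _ (Fin.castAdd_injective n k)
  obtain ⟨e₁, -, he₁⟩ := Free.exists_representing (k := k) (n := n + k) (Nat.le_add_left k n) R
  exact exists_rep_of_surjective (v := v.comp p) (hv.comp hp) e₁ he₁

/-- transport along an isomorphism of modules. -/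
theorem exists_rep_transport {M' : Type u} [AddCommGroup M'] [Module R M'] (v : M' ≃ₗ[R] M)
    {X : Over (Spec (CommRingCat.of R))}
    (e : ∀ A : CommAlgCat.{u} R, (pt A ⟶ X) ≃ Module.Grassmannian A ((A : Type u) ⊗[R] M) k)
    (he : IsRep e) :
    ∃ e' : ∀ A : CommAlgCat.{u} R, (pt A ⟶ X) ≃ Module.Grassmannian A ((A : Type u) ⊗[R] M') k,
      IsRep e' := by
  have hv : Function.Surjective (v : M' →ₗ[R] M) := v.surjective
  have hinj : ∀ A : CommAlgCat.{u} R, Function.Injective ((v : M' →ₗ[R] M).baseChange A) :=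
    fun A ↦ (LinearEquiv.baseChange R A M' M v).injective
  have hker : ∀ (A : CommAlgCat.{u} R) (U : Module.Grassmannian A ((A : Type u) ⊗[R] M') k),
      LinearMap.ker ((v : M' →ₗ[R] M).baseChange A) ≤ U.toSubmodule := fun A U ↦ by
    rw [LinearMap.ker_eq_bot.2 (hinj A)]; exact bot_le
  refine ⟨fun A ↦ (e A).trans
    { toFun := pullN hv
      invFun := fun U ↦ pushN hv U (hker A U)
      left_inv := fun N ↦ Module.Grassmannian.ext
        (Submodule.map_comap_eq_of_surjective (LinearMap.baseChange_surjective A hv) _)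
      right_inv := fun U ↦ Module.Grassmannian.ext (Submodule.comap_map_eq_self (hker A U)) },
    fun A B φ g g' h ↦ ?_⟩
  change pullN hv (e B g') = _
  rw [he A B φ g g' h]
  exact pullN_map hv φ.hom (e A g)

end General

section FreeModule

variable {n k : ℕ}

theorem exists_plucker (hk : k ≤ n) {X : Over (Spec (CommRingCat.of R))}
    (e : ∀ A : CommAlgCat.{u} R,
      (pt A ⟶ X) ≃ Module.Grassmannian A ((A : Type u) ⊗[R] (Fin n → R)) k) (he : IsRep e) :
    ∃ c : X.left ⟶ CohB1.ProjSpaceOver (n.choose k - 1) (Spec (CommRingCat.of R)),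
      IsClosedImmersion c ∧
        c ≫ CohB1.ProjSpaceOver.toBase (n.choose k - 1) (Spec (CommRingCat.of R)) = X.hom := by
  obtain ⟨e₀, -, he₀⟩ := Free.exists_representing hk R
  obtain ⟨I⟩ := exists_iso_rep he (e' := e₀) he₀
  haveI : IsIso I.hom.left := inferInstanceAs (IsIso ((Over.forget _).map I.hom))
  exact ⟨I.hom.left ≫ Free.ι₀ hk R, inferInstance, (Category.assoc _ _ _).trans (Over.w I.hom)⟩

lemma isStandardSmooth_mvPolynomial (R : Type u) [CommRing R] (σ : Type) [Finite σ] :
    Algebra.IsStandardSmoothOfRelativeDimension (Nat.card σ) R (MvPolynomial σ R) := by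
  let P : Algebra.SubmersivePresentation R (MvPolynomial σ R) σ PEmpty.{1} :=
    { toGenerators := Algebra.Generators.mvPolynomial R σ
      relation := PEmpty.elim
      span_range_relation_eq_ker := by
        simp only [Set.range_eq_empty, Ideal.span_empty]
        refine (Algebra.Generators.ker_eq_ker_aeval_val _).trans ?_ |>.symm
        show RingHom.ker (MvPolynomial.aeval (R := R) (MvPolynomial.X : σ → MvPolynomial σ R)) = ⊥
        ext a
        simp
      map := PEmpty.elim
      map_inj := fun a => a.elim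
      jacobian_isUnit := by
        rw [Algebra.PreSubmersivePresentation.jacobian]
        rw [LinearMap.det_eq_one_of_subsingleton, map_one]
        exact isUnit_one }
  exact P.isStandardSmoothOfRelativeDimension (by simp [Algebra.Presentation.dimension])

/-- `Spec` of a polynomial ring is affine space. -/
theorem exists_iso_affineSpace (σ : Type) [Finite σ] (d : ℕ) (hd : Nat.card σ = d) :
    Nonempty (Over.mk (Spec.map (CommRingCat.ofHom (algebraMap R (MvPolynomial σ R)))) ≅
      Over.mk (𝔸(ULift.{u} (Fin d); Spec (CommRingCat.of R)) ↘ Spec (CommRingCat.of R))) := by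
  let ε : σ ≃ ULift.{u} (Fin d) :=
    (Finite.equivFinOfCardEq hd).trans Equiv.ulift.symm
  let r : MvPolynomial (ULift.{u} (Fin d)) R ≃ₐ[R] MvPolynomial σ R :=
    MvPolynomial.renameEquiv R ε.symm
  let S := AffineSpace.SpecIso (ULift.{u} (Fin d)) (CommRingCat.of R)
  let J : Spec (CommRingCat.of (MvPolynomial σ R)) ≅
      Spec (CommRingCat.of (MvPolynomial (ULift.{u} (Fin d)) R)) :=
    Scheme.Spec.mapIso r.toRingEquiv.toCommRingCatIso.op
  refine ⟨Over.isoMk (J ≪≫ S.symm) ?_⟩
  have h1 : S.inv ≫ (𝔸(ULift.{u} (Fin d); Spec (CommRingCat.of R)) ↘ Spec (CommRingCat.of R)) =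
      Spec.map (CommRingCat.ofHom MvPolynomial.C) := AffineSpace.SpecIso_inv_over _
  change (J.hom ≫ S.inv) ≫ _ = _
  rw [Category.assoc]
  change J.hom ≫ (S.inv ≫ (𝔸(ULift.{u} (Fin d); Spec (CommRingCat.of R)) ↘ Spec (CommRingCat.of R))) = _
  rw [h1]
  change Spec.map _ ≫ Spec.map _ = Spec.map _
  rw [← Spec.map_comp]
  congr 1
  exact CommRingCat.hom_ext (RingHom.ext fun x ↦ r.commutes x)

theorem smooth_and_cover (hk : k ≤ n) {X : Over (Spec (CommRingCat.of R))}
    (e : ∀ A : CommAlgCat.{u} R,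
      (pt A ⟶ X) ≃ Module.Grassmannian A ((A : Type u) ⊗[R] (Fin n → R)) k) (he : IsRep e) :
    SmoothOfRelativeDimension (k * (n - k)) X.hom ∧
      ∃ (ι : Type) (_ : Finite ι) (U : ι → X.left.Opens), ⨆ i, U i = ⊤ ∧
        ∀ i, Nonempty (Over.mk ((U i).ι ≫ X.hom) ≅
          Over.mk (𝔸(ULift.{u} (Fin (k * (n - k))); Spec (CommRingCat.of R)) ↘
            Spec (CommRingCat.of R))) := by
  obtain ⟨e₀, -, he₀⟩ := Free.exists_representing hk R
  obtain ⟨I⟩ := exists_iso_rep he (e' := e₀) he₀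
  haveI : IsIso I.hom.left := inferInstanceAs (IsIso ((Over.forget _).map I.hom))
  let c := I.hom.left ≫ Free.ι₀ hk R
  have hc : c ≫ CohB1.ProjSpaceOver.toBase _ (Spec (CommRingCat.of R)) = X.hom :=
    (Category.assoc _ _ _).trans (Over.w I.hom)
  have hcard : ∀ s : Free.Idx n k, Nat.card ({j : Fin n // j ∉ s.1} × Fin k) = k * (n - k) := fun s ↦ by
    rw [Nat.card_eq_fintype_card, Fintype.card_prod, Fintype.card_subtype_compl, Fintype.card_coe,
      s.2, Fintype.card_fin, Fintype.card_fin, Nat.mul_comm]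
  let U : Free.Idx n k → X.left.Opens := fun s ↦ c ⁻¹ᵁ Free.Vo hk R s
  have hUtop : ⨆ s, U s = ⊤ := by
    refine top_le_iff.1 fun x _ ↦ ?_
    obtain ⟨s, hs⟩ := Free.exists_mem_Vo hk (c x)
    exact TopologicalSpace.Opens.mem_iSup.2 ⟨s, hs⟩
  have hiso : ∀ s, Nonempty (Over.mk ((U s).ι ≫ X.hom) ≅
      Over.mk (Spec.map (CommRingCat.ofHom (algebraMap R (Free.P R s))))) := by
    intro s
    haveI : IsAffineHom c := inferInstance
    have hU : IsAffineOpen (U s) := (Free.affVo hk s).preimage c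
    obtain ⟨l₀, hl₀⟩ := Free.plF_factors hk (R := R) (A := Free.P R s) (Free.genW R s) (Free.genW_isFrame R s)
    let l : Spec (CommRingCat.of (Free.P R s)) ⟶ X.left := l₀ ≫ inv I.hom.left
    have hl : l ≫ c = Free.cmap hk R s := by
      simp only [l, c, Category.assoc, IsIso.inv_hom_id_assoc]
      exact hl₀
    have hr : Set.range l ⊆ Set.range (U s).ι := by
      rw [Scheme.Opens.range_ι]
      rintro _ ⟨q, rfl⟩
      show c (l q) ∈ Free.Vo hk R s
      rw [← Scheme.Hom.comp_apply, hl]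
      exact Free.cmap_range hk s ⟨q, rfl⟩
    let a : Spec (CommRingCat.of (Free.P R s)) ⟶ (U s) := IsOpenImmersion.lift (U s).ι l hr
    have ha : a ≫ (U s).ι = l := IsOpenImmersion.lift_fac _ _ _
    letI : Algebra R Γ(X.left, U s) := (Spec.preimage (hU.fromSpec ≫ X.hom)).hom.toAlgebra
    obtain ⟨W, hW, eW⟩ := Free.exists_frame_of_factors hk s (A := Γ(X.left, U s)) (hU.fromSpec ≫ c)
      (by rw [Category.assoc, hc]; exact (Spec.map_preimage (hU.fromSpec ≫ X.hom)).symm)
      ⟨hU.fromSpec ≫ I.hom.left, Category.assoc _ _ _⟩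
      (by rintro _ ⟨q, rfl⟩
          rw [Scheme.Hom.comp_apply]
          exact hU.range_fromSpec.le ⟨q, rfl⟩)
    let b : (U s : Scheme.{u}) ⟶ Spec (CommRingCat.of (Free.P R s)) :=
      hU.isoSpec.hom ≫ Spec.map (CommRingCat.ofHom (Free.classMap (R := R) (s := s) W).toRingHom)
    have hb : b ≫ Free.cmap hk R s = (U s).ι ≫ c := by
      simp only [b, Category.assoc]
      rw [← Free.plF_eq_cmap hk W hW, ← eW, ← Category.assoc, IsAffineOpen.isoSpec_hom_fromSpec]
    haveI : Mono (Free.cmap hk R s) := by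
      rw [← Free.psi_fac]
      haveI : IsClosedImmersion (Spec.map (Free.psi hk R s)) :=
        IsClosedImmersion.spec_of_surjective _ (Free.psi_surjective hk s)
      infer_instance
    haveI : Mono c := inferInstance
    have h1 : b ≫ a = 𝟙 _ := by
      rw [← cancel_mono (U s).ι, ← cancel_mono c, Category.assoc, Category.assoc, ← Category.assoc a,
        ha, hl, Category.id_comp, hb]
    have h2 : a ≫ b = 𝟙 _ := by
      rw [← cancel_mono (Free.cmap hk R s), Category.assoc, hb, ← Category.assoc, ha, hl,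
        Category.id_comp]
    refine ⟨Over.isoMk ⟨b, a, h1, h2⟩ ?_⟩
    change b ≫ Spec.map _ = (U s).ι ≫ X.hom
    have e1 : Free.cmap hk R s ≫ CohB1.ProjSpaceOver.toBase _ (Spec (CommRingCat.of R)) =
        Spec.map (CommRingCat.ofHom (algebraMap R (Free.P R s))) :=
      Free.plF_toBase hk (R := R) (A := Free.P R s) (Free.genW R s) (Free.genW_isFrame R s)
    exact (congrArg (b ≫ ·) e1.symm).trans ((Category.assoc _ _ _).symm.trans
      ((congrArg (· ≫ CohB1.ProjSpaceOver.toBase _ (Spec (CommRingCat.of R))) hb).trans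
        ((Category.assoc _ _ _).trans (congrArg ((U s).ι ≫ ·) hc))))
  refine ⟨?_, Free.Idx n k, inferInstance, U, hUtop, fun s ↦ ?_⟩
  · refine (IsZariskiLocalAtSource.iff_of_openCover (P := @SmoothOfRelativeDimension (k * (n - k)))
      (X.left.openCoverOfIsOpenCover U (TopologicalSpace.IsOpenCover.mk hUtop))).2 fun s ↦ ?_
    obtain ⟨J⟩ := hiso s
    haveI : IsIso J.hom.left := inferInstanceAs (IsIso ((Over.forget _).map J.hom))
    have h1 : SmoothOfRelativeDimension (k * (n - k))
        (Spec.map (CommRingCat.ofHom (algebraMap R (Free.P R s)))) := by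
      rw [HasRingHomProperty.Spec_iff (P := @SmoothOfRelativeDimension (k * (n - k)))]
      refine RingHom.locally_of RingHom.isStandardSmoothOfRelativeDimension_respectsIso _
        ((RingHom.isStandardSmoothOfRelativeDimension_algebraMap _).2 ?_)
      exact hcard s ▸ isStandardSmooth_mvPolynomial R _
    change SmoothOfRelativeDimension (k * (n - k)) ((U s).ι ≫ X.hom)
    rw [show (U s).ι ≫ X.hom =
      J.hom.left ≫ Spec.map (CommRingCat.ofHom (algebraMap R (Free.P R s))) from (Over.w J.hom).symm]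
    exact (MorphismProperty.cancel_left_of_respectsIso
      (@SmoothOfRelativeDimension (k * (n - k))) _ _).2 h1
  · obtain ⟨J⟩ := hiso s
    obtain ⟨K⟩ := exists_iso_affineSpace (R := R) _ _ (hcard s)
    exact ⟨J ≪≫ K⟩

end FreeModule

end Groth.Agent.Grass5
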