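import Groth.Agent.Grass5.QuotBC
import Groth.Agent.Amp73.PullTensor
import Groth.Prelude.Def_FrameBundle

/-!
One step of a partial flag scheme is a Grassmannian.
-/

set_option autoImplicit false
set_option backward.isDefEq.respectTransparency false
set_option backward.isDefEq.respectTransparency.types false
set_option maxHeartbeats 400000

universe u

open CategoryTheory CategoryTheory.Limits AlgebraicGeometry

namespace Groth.Agent.Grass5.QuotBC

theorem isFinLocFreeOfRank_pullback {X Y : Scheme.{u}} (φ : Y ⟶ X) {n : ℕ} {M : X.Modules}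
    (h : FlatMod.IsFinLocFreeOfRank n M) :
    FlatMod.IsFinLocFreeOfRank n ((Scheme.Modules.pullback φ).obj M) := fun y => by
  obtain ⟨V, hyV, ⟨i⟩⟩ := h (φ y)
  exact ⟨φ ⁻¹ᵁ V, hyV, ⟨((Amp73.pullRestrictIso φ V).app M).symm ≪≫
      (Scheme.Modules.pullback (φ ∣_ V)).mapIso
        (((Scheme.Modules.restrictFunctorIsoPullback V.ι).app M).symm ≪≫ i) ≪≫
      FrB.pullbackFreeIso (φ ∣_ V) n⟩⟩

theorem quotBC_rfl {X G T : Scheme.{u}} (h : T ⟶ G) (π : G ⟶ X) {E : X.Modules} {Q : G.Modules}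
    (q : (Scheme.Modules.pullback π).obj E ⟶ Q) :
    Grass.quotBC (rfl : h ≫ π = h ≫ π) q =
      (Scheme.Modules.pullbackComp h π).inv.app E ≫ (Scheme.Modules.pullback h).map q := by
  simp [Grass.quotBC, Scheme.Modules.pullbackCongr]

/-- stacking two base changes. -/
theorem quotBC_stack {X F F' T : Scheme.{u}} {π : F ⟶ X} {π' : F' ⟶ X} {k : F' ⟶ F}
    (hk : k ≫ π = π') {h : T ⟶ F'} {g : T ⟶ F} (hg : h ≫ k = g) {p : T ⟶ X} (hgπ : g ≫ π = p)
    (hp : h ≫ π' = p) {E : X.Modules} {Q : F.Modules} {P : F'.Modules}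
    (q : (Scheme.Modules.pullback π).obj E ⟶ Q) (u : (Scheme.Modules.pullback k).obj Q ⟶ P) :
    Grass.quotBC hgπ q ≫ Grass.quotBC hg u = Grass.quotBC hp (Grass.quotBC hk q ≫ u) := by
  subst hg hgπ
  rw [quotBC_postcomp, quotBC_comp hk hp rfl]
  refine Eq.trans ?_ (Category.assoc _ _ _).symm
  congr 1

theorem quotBC_id_iso {X G T : Scheme.{u}} {h h' : T ⟶ G} {π : G ⟶ X} {p : T ⟶ X} (e : h = h')
    (hp : h ≫ π = p) (hp' : h' ≫ π = p) {E : X.Modules} {Q : G.Modules}
    (q : (Scheme.Modules.pullback π).obj E ⟶ Q) :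
    Grass.quotBC hp q ≫ ((Scheme.Modules.pullbackCongr e).app Q).hom = Grass.quotBC hp' q := by
  subst e
  simp [Scheme.Modules.pullbackCongr]

theorem isGrass_step {X F F' : Scheme.{u}} {π : F ⟶ X} {π' : F' ⟶ X} {E : X.Modules}
    {m : ℕ} {n : Fin (m + 2) → ℕ}
    {Q : Fin (m + 1) → F.Modules} {q : ∀ i, (Scheme.Modules.pullback π).obj E ⟶ Q i}
    (hF : Grass.IsFlag π E (fun i => n (Fin.castSucc i)) Q q)
    {Q' : Fin (m + 2) → F'.Modules} {q' : ∀ i, (Scheme.Modules.pullback π').obj E ⟶ Q' i}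
    (hF' : Grass.IsFlag π' E n Q' q') (k : F' ⟶ F) (hk : k ≫ π = π')
    (ek : ∀ i, (Scheme.Modules.pullback k).obj (Q i) ≅ Q' (Fin.castSucc i))
    (hek : ∀ i, Grass.quotBC hk (q i) ≫ (ek i).hom = q' (Fin.castSucc i))
    (t : Q' (Fin.castSucc (Fin.last m)) ⟶ Q' (Fin.last (m + 1)))
    (ht : q' (Fin.castSucc (Fin.last m)) ≫ t = q' (Fin.last (m + 1))) :
    Grass.IsGrass k (Q (Fin.last m)) (n (Fin.last (m + 1))) (Q' (Fin.last (m + 1)))
      ((ek (Fin.last m)).hom ≫ t) where
  rank := hF'.rank _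
  epi := by
    haveI := hF'.epi (Fin.last (m + 1))
    have : Grass.quotBC hk (q (Fin.last m)) ≫ ((ek (Fin.last m)).hom ≫ t) = q' (Fin.last (m + 1)) := by
      rw [← Category.assoc, hek, ht]
    exact epi_of_epi_fac this
  univ T g L hL s hs := by
    let P : Fin (m + 2) → Σ M : T.Modules, (Scheme.Modules.pullback (g ≫ π)).obj E ⟶ M :=
      Fin.lastCases ⟨L, Grass.quotBC rfl (q (Fin.last m)) ≫ s⟩
        (fun i => ⟨(Scheme.Modules.pullback g).obj (Q i), Grass.quotBC rfl (q i)⟩)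
    have hPl : P (Fin.last (m + 1)) = ⟨L, Grass.quotBC rfl (q (Fin.last m)) ≫ s⟩ := by simp [P]
    have hPc : ∀ i, P (Fin.castSucc i) =
        ⟨(Scheme.Modules.pullback g).obj (Q i), Grass.quotBC rfl (q i)⟩ := fun i => by simp [P]
    have hqi : ∀ i, Epi (Grass.quotBC (rfl : g ≫ π = g ≫ π) (q i)) := fun i => by
      haveI := hF.epi i; exact epi_quotBC _ _
    have hrk : ∀ i, FlatMod.IsFinLocFreeOfRank (n i) (P i).1 := by
      refine Fin.lastCases ?_ (fun i => ?_)
      · rw [hPl]; exact hL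
      · rw [hPc]; exact isFinLocFreeOfRank_pullback g (hF.rank i)
    have hep : ∀ i, Epi (P i).2 := by
      refine Fin.lastCases ?_ (fun i => ?_)
      · rw [hPl]; haveI := hqi (Fin.last m); exact epi_comp _ _
      · rw [hPc]; exact hqi i
    have hfac : ∀ i : Fin (m + 1), ∀ j, i ≤ j → ∃ t' : (Scheme.Modules.pullback g).obj (Q i) ⟶
        (Scheme.Modules.pullback g).obj (Q j), Grass.quotBC rfl (q i) ≫ t' = Grass.quotBC (rfl : g ≫ π = g ≫ π) (q j) := by
      intro i j hij
      obtain ⟨t', ht'⟩ := hF.nested i j hij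
      exact ⟨_, by rw [← quotBC_postcomp, ht']⟩
    have hne : ∀ i j, i ≤ j → ∃ t' : (P i).1 ⟶ (P j).1, (P i).2 ≫ t' = (P j).2 := by
      refine Fin.lastCases ?_ (fun i => ?_)
      · intro j hj
        obtain rfl : j = Fin.last (m + 1) := le_antisymm (Fin.le_last j) hj
        exact ⟨𝟙 _, Category.comp_id _⟩
      · refine Fin.lastCases ?_ (fun j => ?_)
        · intro _
          rw [hPc, hPl]
          obtain ⟨t', ht'⟩ := hfac i (Fin.last m) (Fin.le_last i)
          exact ⟨t' ≫ s, by rw [← Category.assoc, ht']⟩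
        · intro hij
          rw [hPc, hPc]
          exact hfac i j (Fin.castSucc_le_castSucc_iff.mp hij)
    obtain ⟨h, ⟨hp, e, he⟩, huniq⟩ :=
      hF'.univ T (g ≫ π) (fun i => (P i).1) hrk (fun i => (P i).2) hep hne
    have hec : ∀ i, ∃ e' : (Scheme.Modules.pullback h).obj (Q' (Fin.castSucc i)) ≅
        (Scheme.Modules.pullback g).obj (Q i),
        Grass.quotBC hp (q' (Fin.castSucc i)) ≫ e'.hom = Grass.quotBC rfl (q i) := by
      intro i
      have := he (Fin.castSucc i)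
      generalize e (Fin.castSucc i) = e1 at this
      revert e1
      rw [hPc]
      exact fun e1 h1 => ⟨e1, h1⟩
    choose ec hec using hec
    obtain ⟨el, hel⟩ : ∃ e' : (Scheme.Modules.pullback h).obj (Q' (Fin.last (m + 1))) ≅ L,
        Grass.quotBC hp (q' (Fin.last (m + 1))) ≫ e'.hom = Grass.quotBC rfl (q (Fin.last m)) ≫ s := by
      have := he (Fin.last (m + 1))
      generalize e (Fin.last (m + 1)) = e1 at this
      revert e1
      rw [hPl]
      exact fun e1 h1 => ⟨e1, h1⟩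
    have hkp : (h ≫ k) ≫ π = g ≫ π := by rw [Category.assoc, hk, hp]
    have hg : h ≫ k = g := by
      refine (hF.univ T (g ≫ π) (fun i => (Scheme.Modules.pullback g).obj (Q i))
        (fun i => isFinLocFreeOfRank_pullback g (hF.rank i))
        (fun i => Grass.quotBC rfl (q i)) hqi hfac).unique
        ⟨hkp, fun i => ((Scheme.Modules.pullbackComp h k).symm.app (Q i) ≪≫
          (Scheme.Modules.pullback h).mapIso (ek i)) ≪≫ ec i, fun i => ?_⟩
        ⟨rfl, fun i => Iso.refl _, fun i => Category.comp_id _⟩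
      rw [Iso.trans_hom, ← Category.assoc, exists_iso_comp hk hp hkp (q i) _ (ek i) (hek i)]
      exact hec i
    have stack : ∀ (h₁ : T ⟶ F') (hg₁ : h₁ ≫ k = g) (hp₁ : h₁ ≫ π' = g ≫ π),
        Grass.quotBC rfl (q (Fin.last m)) ≫ Grass.quotBC hg₁ ((ek (Fin.last m)).hom ≫ t) =
          Grass.quotBC hp₁ (q' (Fin.last (m + 1))) := by
      intro h₁ hg₁ hp₁
      rw [quotBC_stack hk hg₁ rfl hp₁, ← Category.assoc, hek, ht]
    refine ⟨h, ⟨hg, el, ?_⟩, ?_⟩
    · haveI := hqi (Fin.last m)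
      rw [← cancel_epi (Grass.quotBC (rfl : g ≫ π = g ≫ π) (q (Fin.last m))), ← Category.assoc,
        stack h hg hp, hel]
    · rintro h' ⟨hg', e', he'⟩
      have hp' : h' ≫ π' = g ≫ π := by rw [← hk, ← Category.assoc, hg']
      refine huniq h' ⟨hp', ?_⟩
      have hall : ∀ i, ∃ e1 : (Scheme.Modules.pullback h').obj (Q' i) ≅ (P i).1,
          Grass.quotBC hp' (q' i) ≫ e1.hom = (P i).2 := by
        refine Fin.lastCases ?_ (fun i => ?_)
        · rw [hPl]
          exact ⟨e', by simp only [← stack h' hg' hp', Category.assoc, he']⟩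
        · rw [hPc]
          have hkp' : (h' ≫ k) ≫ π = g ≫ π := by rw [Category.assoc, hk, hp']
          let a := (Scheme.Modules.pullbackComp h' k).symm.app (Q i) ≪≫
            (Scheme.Modules.pullback h').mapIso (ek i)
          refine ⟨a.symm ≪≫ (Scheme.Modules.pullbackCongr hg').app (Q i), ?_⟩
          rw [← exists_iso_comp hk hp' hkp' (q i) _ (ek i) (hek i)]
          refine Eq.trans (Category.assoc _ _ _) ?_
          refine Eq.trans (congrArg (Grass.quotBC hkp' (q i) ≫ ·)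
            (a.hom_inv_id_assoc ((Scheme.Modules.pullbackCongr hg').app (Q i)).hom)) ?_
          exact quotBC_id_iso hg' hkp' rfl (q i)
      choose e1 he1 using hall
      exact ⟨e1, he1⟩

end Groth.Agent.Grass5.QuotBC
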