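import Groth.Prelude.Def_GrassD

/-!
Composition of base changes of quotients of inverse images.
-/

set_option autoImplicit false
set_option backward.isDefEq.respectTransparency false
set_option backward.isDefEq.respectTransparency.types false
set_option maxHeartbeats 400000

universe u

open CategoryTheory CategoryTheory.Limits AlgebraicGeometry

namespace Groth.Agent.Grass5.QuotBC

variable {X G H T : Scheme.{u}} {π : G ⟶ X} {τ : H ⟶ X} {g : T ⟶ X} {E : X.Modules}

/-- associativity of composition isomorphisms of inverse images. -/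
theorem pullbackComp_assoc_app (h : T ⟶ G) (k : G ⟶ H) (τ : H ⟶ X) (E : X.Modules) :
    (Scheme.Modules.pullbackCongr (Category.assoc h k τ)).hom.app E ≫
      (Scheme.Modules.pullbackComp h (k ≫ τ)).inv.app E ≫
      (Scheme.Modules.pullback h).map ((Scheme.Modules.pullbackComp k τ).inv.app E) =
    (Scheme.Modules.pullbackComp (h ≫ k) τ).inv.app E ≫
      (Scheme.Modules.pullbackComp h k).inv.app ((Scheme.Modules.pullback τ).obj E) := by
  have key := congr_app (Scheme.Modules.pseudofunctor_associativity (f := h) (g := k) (h := τ)) E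
  simp only [NatTrans.comp_app, Functor.whiskerRight_app, Functor.whiskerLeft_app,
    Functor.associator_hom_app, Category.id_comp, eqToHom_app] at key
  rw [← cancel_mono ((Scheme.Modules.pullbackComp h k).hom.app ((Scheme.Modules.pullback τ).obj E) ≫
    (Scheme.Modules.pullbackComp (h ≫ k) τ).hom.app E)]
  simp only [Category.assoc, key, Iso.inv_hom_id_app_assoc, Iso.inv_hom_id_app,
    Scheme.Modules.pullbackCongr, eqToIso.hom, eqToHom_refl]
  erw [NatTrans.id_app, Category.id_comp]
  rfl

/-- base change in two steps. -/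
theorem quotBC_comp {h : T ⟶ G} {k : G ⟶ H} (hk : k ≫ τ = π) (hg : h ≫ π = g)
    (hg' : (h ≫ k) ≫ τ = g) {Q : H.Modules} (q : (Scheme.Modules.pullback τ).obj E ⟶ Q) :
    Grass.quotBC hg (Grass.quotBC hk q) =
      Grass.quotBC hg' q ≫ (Scheme.Modules.pullbackComp h k).inv.app Q := by
  subst hk hg'
  simp only [Grass.quotBC, Functor.map_comp, Category.assoc]
  have n := (Scheme.Modules.pullbackComp h k).inv.naturality q
  simp only [Functor.comp_map] at n
  rw [n, ← Category.assoc ((Scheme.Modules.pullbackComp (h ≫ k) τ).inv.app E), ← pullbackComp_assoc_app]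
  simp [Scheme.Modules.pullbackCongr, ← Category.assoc]
  erw [Category.id_comp]

/-- a compatible isomorphism after two base changes. -/
theorem exists_iso_comp {h : T ⟶ G} {k : G ⟶ H} (hk : k ≫ τ = π) (hg : h ≫ π = g)
    (hg' : (h ≫ k) ≫ τ = g) {Q : H.Modules} (q : (Scheme.Modules.pullback τ).obj E ⟶ Q)
    {P : G.Modules} (p : (Scheme.Modules.pullback π).obj E ⟶ P)
    (e : (Scheme.Modules.pullback k).obj Q ≅ P) (he : Grass.quotBC hk q ≫ e.hom = p) :
    Grass.quotBC hg' q ≫ ((Scheme.Modules.pullbackComp h k).symm.app Q ≪≫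
      (Scheme.Modules.pullback h).mapIso e).hom = Grass.quotBC hg p := by
  rw [← he]
  simp only [Iso.trans_hom, Iso.app_hom, Iso.symm_hom, Functor.mapIso_hom]
  rw [← Category.assoc, ← quotBC_comp hk hg hg']
  simp [Grass.quotBC]

/-- base change of a quotient followed by a map. -/
theorem quotBC_postcomp {h : T ⟶ G} (hg : h ≫ π = g) {Q Q' : G.Modules}
    (q : (Scheme.Modules.pullback π).obj E ⟶ Q) (t : Q ⟶ Q') :
    Grass.quotBC hg (q ≫ t) = Grass.quotBC hg q ≫ (Scheme.Modules.pullback h).map t := by
  simp [Grass.quotBC]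

theorem epi_quotBC {h : T ⟶ G} (hg : h ≫ π = g) {Q : G.Modules}
    (q : (Scheme.Modules.pullback π).obj E ⟶ Q) [Epi q] : Epi (Grass.quotBC hg q) := by
  haveI := Grass.epi_pullback_map h q
  unfold Grass.quotBC
  infer_instance

end Groth.Agent.Grass5.QuotBC
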