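import Groth.Prelude.Def_HilbD
import Groth.Agent.Sga84.IdealDescent
import Groth.Agent.S9867

/-!
Basic lemmas on the Hilbert functor of points: pullback of families, graphs of sections, descent.
-/

set_option autoImplicit false
set_option backward.isDefEq.respectTransparency false
set_option backward.isDefEq.respectTransparency.types false

universe u

open CategoryTheory CategoryTheory.Limits AlgebraicGeometry

namespace Groth.Agent.Grass5.Hilb

variable {X S : Scheme.{u}} (f : X ⟶ S) {T T' : Over S}

theorem pull_eq_comap (g : T' ⟶ T) (I : (PicF.XT f T).IdealSheafData) :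
    HilbD.pull f g I = I.comap (PicF.XTmap f g) := by
  rw [HilbD.pull, ← pullbackSymmetry_hom_comp_fst I.subschemeι (PicF.XTmap f g),
    Scheme.Hom.ker_comp_of_isIso]
  rfl

theorem pull_comp {T'' : Over S} (g : T' ⟶ T) (h : T'' ⟶ T') (I : (PicF.XT f T).IdealSheafData) :
    HilbD.pull f h (HilbD.pull f g I) = HilbD.pull f (h ≫ g) I := by
  simp only [pull_eq_comap, ← Scheme.IdealSheafData.comap_comp]
  congr 1
  refine pullback.hom_ext ?_ ?_ <;> simp [PicF.XTmap]

theorem isPullback_XTmap (g : T' ⟶ T) :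
    IsPullback (PicF.XTmap f g) (PicF.XTproj f T') (PicF.XTproj f T) g.left := by
  refine IsPullback.of_right ?_ (by simp [PicF.XTmap, PicF.XTproj])
    (IsPullback.of_hasPullback f T.hom).flip.flip
  have h := IsPullback.of_hasPullback f T'.hom
  rw [Over.w g]
  simpa [PicF.XTmap, PicF.XTproj] using h

/-- the subscheme of the pulled back ideal is the base change. -/
theorem isPullback_pull (g : T' ⟶ T) (I : (PicF.XT f T).IdealSheafData) :
    ∃ q : (HilbD.pull f g I).subscheme ⟶ I.subscheme,
      IsPullback q ((HilbD.pull f g I).subschemeι ≫ PicF.XTproj f T')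
        (I.subschemeι ≫ PicF.XTproj f T) g.left := by
  rw [pull_eq_comap]
  refine ⟨(I.comapIso (PicF.XTmap f g)).hom ≫ pullback.snd _ _, ?_⟩
  have h1 : IsPullback ((I.comapIso (PicF.XTmap f g)).hom ≫ pullback.snd _ _)
      (I.comap (PicF.XTmap f g)).subschemeι I.subschemeι (PicF.XTmap f g) :=
    (IsPullback.of_hasPullback (PicF.XTmap f g) I.subschemeι).flip.of_iso
      (I.comapIso (PicF.XTmap f g)).symm (Iso.refl _) (Iso.refl _) (Iso.refl _)
      (by simp [-Scheme.IdealSheafData.comapIso_hom_snd, -Scheme.IdealSheafData.comapIso_hom_snd_assoc])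
      (by simp) (by simp) (by simp)
  exact h1.paste_vert (isPullback_XTmap f g)

section Section

variable [IsSeparated f]

/-- the section attached to a point. -/
noncomputable def sec (T : Over S) (x : T.left ⟶ X) (hx : x ≫ f = T.hom) : T.left ⟶ PicF.XT f T :=
  pullback.lift x (𝟙 T.left) (by simpa using hx)

variable (T) (x : T.left ⟶ X) (hx : x ≫ f = T.hom)

lemma sec_proj : sec f T x hx ≫ PicF.XTproj f T = 𝟙 T.left := pullback.lift_snd _ _ _

lemma sec_fst : sec f T x hx ≫ pullback.fst f T.hom = x := pullback.lift_fst _ _ _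

instance isClosedImmersion_sec : IsClosedImmersion (sec f T x hx) := by
  have : IsSeparated (PicF.XTproj f T) := MorphismProperty.pullback_snd _ _ inferInstance
  have : IsClosedImmersion (sec f T x hx ≫ PicF.XTproj f T) := by rw [sec_proj]; infer_instance
  exact IsClosedImmersion.of_comp _ (PicF.XTproj f T)

lemma secGraph_eq : HilbD.secGraph f T x hx = (sec f T x hx).ker := rfl

theorem isIso_secGraph :
    IsIso ((HilbD.secGraph f T x hx).subschemeι ≫ PicF.XTproj f T) := by
  have h : (sec f T x hx).toImage ≫ (HilbD.secGraph f T x hx).subschemeι = sec f T x hx :=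
    (sec f T x hx).toImage_imageι
  have : IsIso ((sec f T x hx).toImage ≫
      ((HilbD.secGraph f T x hx).subschemeι ≫ PicF.XTproj f T)) := by
    rw [← Category.assoc, h, sec_proj]; infer_instance
  exact IsIso.of_isIso_comp_left (sec f T x hx).toImage _

theorem finLocFree_one_secGraph :
    Mor2.IsFinLocFreeOfDeg 1 ((HilbD.secGraph f T x hx).subschemeι ≫ PicF.XTproj f T) := by
  have := isIso_secGraph f T x hx
  exact ⟨⟨inferInstance, inferInstance, inferInstance⟩,
    fun y ↦ congrFun (Scheme.Hom.finrank_eq_one_of_isIso _) y⟩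

theorem pull_secGraph (g : T' ⟶ T) :
    HilbD.pull f g (HilbD.secGraph f T x hx) =
      HilbD.secGraph f T' (g.left ≫ x) (by rw [Category.assoc, hx, Over.w g]) := by
  rw [pull_eq_comap, secGraph_eq, secGraph_eq]
  have h : IsPullback g.left (sec f T' (g.left ≫ x) (by rw [Category.assoc, hx, Over.w g]))
      (sec f T x hx) (PicF.XTmap f g) := by
    refine IsPullback.of_bot ?_ ?_ (isPullback_XTmap f g)
    · rw [sec_proj, sec_proj]
      exact IsPullback.of_vert_isIso ⟨by simp⟩
    · refine pullback.hom_ext ?_ ?_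
      · simp [sec, PicF.XTmap]
      · simp [sec, PicF.XTmap]
        exact (Category.id_comp _).symm
  rw [← Scheme.IdealSheafData.ker_fst_of_isClosedImmersion, ← h.flip.isoPullback_hom_fst,
    Scheme.Hom.ker_comp_of_isIso]

theorem secGraph_injective (y : T.left ⟶ X) (hy : y ≫ f = T.hom)
    (h : HilbD.secGraph f T x hx = HilbD.secGraph f T y hy) : x = y := by
  rw [secGraph_eq, secGraph_eq] at h
  let l := IsClosedImmersion.lift (sec f T x hx) (sec f T y hy) h.le
  have hl : l ≫ sec f T x hx = sec f T y hy := IsClosedImmersion.lift_fac _ _ _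
  have h1 : l = 𝟙 _ := by
    have := congr($hl ≫ PicF.XTproj f T)
    rwa [Category.assoc, sec_proj, sec_proj, Category.comp_id] at this
  rw [h1, Category.id_comp] at hl
  rw [← sec_fst f T x hx, ← sec_fst f T y hy, hl]

theorem eq_secGraph_of_deg_one (Z : HilbD.Obj f 1 T) :
    ∃ (x : T.left ⟶ X) (hx : x ≫ f = T.hom), Z.1 = HilbD.secGraph f T x hx := by
  obtain ⟨⟨hfin, hflat, hlfp⟩, hdeg⟩ := Z.2
  haveI := hfin; haveI := hflat; haveI := hlfp
  haveI : IsIso (Z.1.subschemeι ≫ PicF.XTproj f T) :=
    (Scheme.Hom.isIso_iff_finrank_eq _).2 (funext hdeg)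
  let s := inv (Z.1.subschemeι ≫ PicF.XTproj f T) ≫ Z.1.subschemeι
  have hs : s ≫ PicF.XTproj f T = 𝟙 _ := by simp [s]
  refine ⟨s ≫ pullback.fst f T.hom, ?_, ?_⟩
  · rw [Category.assoc, pullback.condition]
    change s ≫ PicF.XTproj f T ≫ T.hom = T.hom
    rw [← Category.assoc, hs, Category.id_comp]
  · have e : sec f T (s ≫ pullback.fst f T.hom) (by
        rw [Category.assoc, pullback.condition]
        change s ≫ PicF.XTproj f T ≫ T.hom = T.hom
        rw [← Category.assoc, hs, Category.id_comp]) = s :=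
      pullback.hom_ext (sec_fst f T _ _) ((sec_proj f T _ _).trans hs.symm)
    rw [secGraph_eq, e, Scheme.Hom.ker_comp_of_isIso, Scheme.IdealSheafData.ker_subschemeι]

end Section

theorem existsUnique_descent (d : ℕ) (T : Over S) {U : Scheme.{u}} (g : U ⟶ T.left)
    [QuasiCompact g] [Flat g] [Surjective g] (Z' : HilbD.Obj f d (HilbD.coverOver T g))
    (hZ' : HilbD.pull f (HilbD.overlapFst T g) Z'.1 = HilbD.pull f (HilbD.overlapSnd T g) Z'.1) :
    ∃! I : (PicF.XT f T).IdealSheafData, Mor2.IsFinLocFreeOfDeg d (I.subschemeι ≫ PicF.XTproj f T) ∧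
      HilbD.pull f (HilbD.coverHom T g) I = Z'.1 := by
  let h := PicF.XTmap f (HilbD.coverHom T g)
  have hpb := isPullback_XTmap f (HilbD.coverHom T g)
  haveI : QuasiCompact h := MorphismProperty.of_isPullback hpb.flip (inferInstanceAs (QuasiCompact g))
  haveI : Flat h := MorphismProperty.of_isPullback hpb.flip (inferInstanceAs (Flat g))
  haveI : Surjective h := MorphismProperty.of_isPullback hpb.flip (inferInstanceAs (Surjective g))
  have hcoc : Z'.1.comap (pullback.fst h h) = Z'.1.comap (pullback.snd h h) := by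
    let p := PicF.XTproj f (HilbD.coverOver T g)
    have hc : (pullback.fst h h ≫ p) ≫ g = (pullback.snd h h ≫ p) ≫ g := by
      have e : p ≫ g = h ≫ PicF.XTproj f T := hpb.w.symm
      rw [Category.assoc, Category.assoc, e, ← Category.assoc, ← Category.assoc, pullback.condition]
    let w : pullback h h ⟶ PicF.XT f (HilbD.overlapOver T g) :=
      pullback.lift (pullback.fst h h ≫ pullback.fst f _)
        (pullback.lift (pullback.fst h h ≫ p) (pullback.snd h h ≫ p) hc) (by
        simp [p, PicF.XTproj, pullback.condition]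
        try simpa [p, PicF.XTproj] using congr($hc ≫ T.hom))
    have h1 : w ≫ PicF.XTmap f (HilbD.overlapFst T g) = pullback.fst h h := by
      refine pullback.hom_ext ?_ ?_ <;> simp [w, p, PicF.XTmap, PicF.XTproj, HilbD.overlapFst]
    have h2 : w ≫ PicF.XTmap f (HilbD.overlapSnd T g) = pullback.snd h h := by
      refine pullback.hom_ext ?_ ?_
      · have := congr($(pullback.condition (f := h) (g := h)) ≫ pullback.fst f T.hom)
        simpa [w, h, PicF.XTmap] using this
      · simp [w, p, PicF.XTmap, PicF.XTproj, HilbD.overlapSnd]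
    rw [← h1, ← h2, Scheme.IdealSheafData.comap_comp, Scheme.IdealSheafData.comap_comp,
      ← pull_eq_comap, ← pull_eq_comap, hZ']
  obtain ⟨J, hJ⟩ := Sga84.exists_comap_eq h Z'.1 hcoc
  have hJ' : HilbD.pull f (HilbD.coverHom T g) J = Z'.1 := (pull_eq_comap f _ J).trans hJ
  refine ⟨J, ⟨?_, hJ'⟩, fun I hI ↦ ?_⟩
  · obtain ⟨q, hq⟩ := isPullback_pull f (HilbD.coverHom T g) J
    have key : ∀ K, K = Z'.1 → Mor2.IsFinLocFreeOfDeg d
        (K.subschemeι ≫ PicF.XTproj f (HilbD.coverOver T g)) := fun K e ↦ e ▸ Z'.2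
    exact (Groth.Agent.S9867.result.2 d).of_isPullback hq.flip
      ⟨⟨inferInstanceAs (Surjective g), inferInstanceAs (Flat g)⟩, inferInstanceAs (QuasiCompact g)⟩ (key _ hJ')
  · have h' : I.comap h = Z'.1 := (pull_eq_comap f _ I).symm.trans hI.2
    rw [← Sga84.map_comap_of_flat_surjective h I, ← Sga84.map_comap_of_flat_surjective h J, h', hJ]

end Groth.Agent.Grass5.Hilb
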