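import Mathlib

/-!
Ideals of a base change of an algebra whose quotient has prescribed elements as a basis.
-/

set_option autoImplicit false
set_option linter.style.haveILetI false
set_option maxHeartbeats 400000
set_option backward.isDefEq.respectTransparency false
set_option backward.isDefEq.respectTransparency.types false

universe u

open scoped TensorProduct

noncomputable section

namespace Groth.Agent.Grass5.AffHilb

variable {k : Type u} [CommRing k] {R : Type u} [CommRing R] [Algebra k R] {d : ℕ} (σ : Fin d → R)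
  {B : Type u} [CommRing B] [Algebra k B] {B' : Type u} [CommRing B'] [Algebra k B']

/-- coordinates of a monogenic quotient in the basis `σ`. -/
structure IsCoord (L : R →ₗ[k] (Fin d → B)) : Prop where
  unit : ∀ i, L (σ i) = Pi.single i 1
  mul : ∀ x y, L (y * x) = ∑ i, L x i • L (y * σ i)

variable (B) in
/-- the images of the chosen elements. -/
def basisVec (i : Fin d) : B ⊗[k] R := (1 : B) ⊗ₜ[k] σ i

variable (B) in
/-- the map spanned by the chosen elements. -/
def theta : (Fin d → B) →ₗ[B] B ⊗[k] R := Fintype.linearCombination B (basisVec σ B)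

/-- the coordinate map. -/
abbrev cmap (L : R →ₗ[k] (Fin d → B)) : B ⊗[k] R →ₗ[B] (Fin d → B) := LinearMap.liftBaseChange B L

lemma cmap_theta {L : R →ₗ[k] (Fin d → B)} (hL : IsCoord σ L) (v : Fin d → B) :
    cmap L (theta σ B v) = v := by
  simp only [theta, basisVec, Fintype.linearCombination_apply, map_sum, map_smul,
    LinearMap.liftBaseChange_tmul, one_smul, hL.unit]
  funext j
  simp [Finset.sum_apply, Pi.single_apply]

lemma cmap_mul {L : R →ₗ[k] (Fin d → B)} (hL : IsCoord σ L) (y : R) (z : B ⊗[k] R) :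
    cmap L ((1 : B) ⊗ₜ[k] y * z) = ∑ i, cmap L z i • L (y * σ i) := by
  induction z with
  | zero => simp
  | add u v hu hv =>
    simp only [mul_add, map_add, hu, hv, Pi.add_apply, add_smul, Finset.sum_add_distrib]
  | tmul b x =>
    simp only [Algebra.TensorProduct.tmul_mul_tmul, one_mul, LinearMap.liftBaseChange_tmul, hL.mul x y,
      Finset.smul_sum, Pi.smul_apply, smul_smul, smul_eq_mul]

/-- the ideal of coordinates zero. -/
def idl {L : R →ₗ[k] (Fin d → B)} (hL : IsCoord σ L) : Ideal (B ⊗[k] R) where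
  carrier := {z | cmap L z = 0}
  zero_mem' := map_zero _
  add_mem' {a b} ha hb := by
    show cmap L (a + b) = 0
    rw [map_add, ha, hb, add_zero]
  smul_mem' w z hz := by
    show cmap L (w * z) = 0
    induction w with
    | zero => simp
    | add u v hu hv => rw [add_mul, map_add, hu, hv, add_zero]
    | tmul b y =>
      have : b ⊗ₜ[k] y * z = b • ((1 : B) ⊗ₜ[k] y * z) := by
        rw [← smul_mul_assoc, TensorProduct.smul_tmul', smul_eq_mul, mul_one]
      rw [this, map_smul, cmap_mul σ hL, show cmap L z = 0 from hz]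
      simp

lemma mem_idl {L : R →ₗ[k] (Fin d → B)} {hL : IsCoord σ L} {z : B ⊗[k] R} :
    z ∈ idl σ hL ↔ cmap L z = 0 := Iff.rfl

lemma sub_theta_mem {L : R →ₗ[k] (Fin d → B)} (hL : IsCoord σ L) (z : B ⊗[k] R) :
    z - theta σ B (cmap L z) ∈ idl σ hL := by
  rw [mem_idl, map_sub, cmap_theta σ hL, sub_self]

/-- an ideal containing the rewriting rules contains the ideal of coordinates zero. -/
lemma idl_le {L : R →ₗ[k] (Fin d → B)} (hL : IsCoord σ L) (J : Ideal (B ⊗[k] R))
    (h : ∀ x, (1 : B) ⊗ₜ[k] x - theta σ B (L x) ∈ J) : idl σ hL ≤ J := by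
  intro z hz
  suffices key : ∀ w, w - theta σ B (cmap L w) ∈ J by simpa [(mem_idl σ).1 hz] using key z
  intro w
  induction w with
  | zero => simp
  | add u v hu hv =>
    rw [map_add, map_add, add_sub_add_comm]
    exact add_mem hu hv
  | tmul b x =>
    rw [LinearMap.liftBaseChange_tmul, map_smul, show b ⊗ₜ[k] x = b • ((1 : B) ⊗ₜ[k] x) by
      rw [TensorProduct.smul_tmul', smul_eq_mul, mul_one], ← smul_sub]
    exact Submodule.smul_of_tower_mem J b (h x)

/-- the quotient by the ideal of coordinates zero is free on `σ`. -/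
def quotEquiv {L : R →ₗ[k] (Fin d → B)} (hL : IsCoord σ L) :
    ((B ⊗[k] R) ⧸ idl σ hL) ≃ₗ[B] (Fin d → B) :=
  (Submodule.Quotient.restrictScalarsEquiv B (idl σ hL)).symm.trans
    ((Submodule.quotEquivOfEq _ (LinearMap.ker (cmap L)) (Submodule.ext fun _ => Iff.rfl)).trans
      ((cmap L).quotKerEquivOfSurjective fun v => ⟨theta σ B v, cmap_theta σ hL v⟩))

/-- the ideal has `σ` as a basis of the quotient. -/
def Good (J : Ideal (B ⊗[k] R)) : Prop := ∃ L : R →ₗ[k] (Fin d → B), ∃ hL : IsCoord σ L, J = idl σ hL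

lemma coord_unique {L L' : R →ₗ[k] (Fin d → B)} (hL : IsCoord σ L) (hL' : IsCoord σ L')
    (h : idl σ hL = idl σ hL') : L = L' := by
  refine LinearMap.ext fun x => ?_
  have hm : (1 : B) ⊗ₜ[k] x - theta σ B (L x) ∈ idl σ hL' := by
    rw [← h]; simpa using sub_theta_mem σ hL ((1 : B) ⊗ₜ[k] x)
  rw [mem_idl, map_sub, cmap_theta σ hL', LinearMap.liftBaseChange_one_tmul, sub_eq_zero] at hm
  exact hm.symm

/-- base change of coordinates. -/
def mapL (φ : B →ₐ[k] B') (L : R →ₗ[k] (Fin d → B)) : R →ₗ[k] (Fin d → B') :=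
  φ.toLinearMap.compLeft (Fin d) ∘ₗ L

lemma mapL_apply (φ : B →ₐ[k] B') (L : R →ₗ[k] (Fin d → B)) (x : R) (i : Fin d) :
    mapL φ L x i = φ (L x i) := rfl

variable {σ} in
lemma IsCoord.map {L : R →ₗ[k] (Fin d → B)} (hL : IsCoord σ L) (φ : B →ₐ[k] B') :
    IsCoord σ (mapL φ L) where
  unit i := by
    funext j
    rw [mapL_apply, hL.unit]
    by_cases h : j = i <;> simp [Pi.single_apply, h]
  mul x y := by
    funext j
    rw [mapL_apply, hL.mul]
    simp [Finset.sum_apply, mapL_apply]

lemma map_theta (φ : B →ₐ[k] B') (v : Fin d → B) :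
    Algebra.TensorProduct.map φ (AlgHom.id k R) (theta σ B v) = theta σ B' (φ ∘ v) := by
  simp only [theta, Fintype.linearCombination_apply, map_sum, basisVec, TensorProduct.smul_tmul',
    smul_eq_mul, mul_one, Algebra.TensorProduct.map_tmul, AlgHom.id_apply, Function.comp_apply]

theorem idl_map {L : R →ₗ[k] (Fin d → B)} (hL : IsCoord σ L) (φ : B →ₐ[k] B') :
    (idl σ hL).map (Algebra.TensorProduct.map φ (AlgHom.id k R)).toRingHom = idl σ (hL.map φ) := by
  refine le_antisymm (Ideal.map_le_iff_le_comap.2 fun z hz => ?_) (idl_le σ _ _ fun x => ?_)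
  · show cmap (mapL φ L) (Algebra.TensorProduct.map φ (AlgHom.id k R) z) = 0
    have key : ∀ w : B ⊗[k] R, cmap (mapL φ L) (Algebra.TensorProduct.map φ (AlgHom.id k R) w) =
        φ.toLinearMap.compLeft (Fin d) (cmap L w) := by
      intro w
      induction w with
      | zero => simp
      | add u v hu hv => simp [hu, hv]
      | tmul b x =>
        funext i
        simp [mapL_apply]
    rw [key, (mem_idl σ).1 hz, map_zero]
  · have := Ideal.mem_map_of_mem (Algebra.TensorProduct.map φ (AlgHom.id k R)).toRingHom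
      (sub_theta_mem σ hL ((1 : B) ⊗ₜ[k] x))
    rw [LinearMap.liftBaseChange_one_tmul] at this
    have e : (Algebra.TensorProduct.map φ (AlgHom.id k R)).toRingHom ((1 : B) ⊗ₜ[k] x - theta σ B (L x)) =
        (1 : B') ⊗ₜ[k] x - theta σ B' (mapL φ L x) := by
      show Algebra.TensorProduct.map φ (AlgHom.id k R) _ = _
      rw [map_sub, map_theta]
      congr 1
      simp
    rwa [e] at this

theorem Good.map {J : Ideal (B ⊗[k] R)} (h : Good σ J) (φ : B →ₐ[k] B') :
    Good σ (J.map (Algebra.TensorProduct.map φ (AlgHom.id k R)).toRingHom) := by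
  obtain ⟨L, hL, rfl⟩ := h
  exact ⟨mapL φ L, hL.map φ, idl_map σ hL φ⟩

/-- a locally free quotient of rank `d` spanned by `σ` is free on `σ`. -/
theorem good_of_surjective (J : Ideal (B ⊗[k] R)) [Module.Finite B ((B ⊗[k] R) ⧸ J)]
    [Module.Flat B ((B ⊗[k] R) ⧸ J)]
    (hr : ∀ p, Module.rankAtStalk (R := B) ((B ⊗[k] R) ⧸ J) p = d)
    (hs : Function.Surjective ((Ideal.Quotient.mkₐ B J).toLinearMap ∘ₗ theta σ B : (Fin d → B) →ₗ[B] _)) : Good σ J := by
  have hb := Module.bijective_of_surjective_of_rankAtStalk_eq hs (fun m _ => by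
    haveI : Nontrivial B := ⟨⟨0, 1, fun h => Ideal.IsPrime.ne_top (I := m) inferInstance
      ((Ideal.eq_top_iff_one m).2 (h ▸ m.zero_mem))⟩⟩
    rw [Module.rankAtStalk_eq_finrank_of_free, hr]; simp)
  let e := LinearEquiv.ofBijective _ hb
  let incR : R →ₗ[k] B ⊗[k] R := (Algebra.TensorProduct.includeRight : R →ₐ[k] B ⊗[k] R).toLinearMap
  let L : R →ₗ[k] (Fin d → B) :=
    ((e.symm : ((B ⊗[k] R) ⧸ J) →ₗ[B] (Fin d → B)) ∘ₗ (Ideal.Quotient.mkₐ B J).toLinearMap).restrictScalars k
      ∘ₗ incR
  have he : ∀ v, e v = Ideal.Quotient.mk J (theta σ B v) := fun v => rfl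
  have hLx : ∀ x, L x = e.symm (Ideal.Quotient.mk J ((1 : B) ⊗ₜ[k] x)) := fun x => rfl
  have hmem : ∀ x, (1 : B) ⊗ₜ[k] x - theta σ B (L x) ∈ J := fun x => by
    rw [← Ideal.Quotient.mk_eq_mk_iff_sub_mem, ← he, hLx, e.apply_symm_apply]
  have hL : IsCoord σ L := by
    refine ⟨fun i => ?_, fun x y => ?_⟩
    · rw [hLx, LinearEquiv.symm_apply_eq, he]
      simp [theta, Fintype.linearCombination_apply, Pi.single_apply, basisVec]
    · apply e.injective
      rw [map_sum, hLx, e.apply_symm_apply]
      simp only [map_smul, hLx (y * σ _), e.apply_symm_apply]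
      rw [show (1 : B) ⊗ₜ[k] (y * x) = (1 : B) ⊗ₜ[k] y * (1 : B) ⊗ₜ[k] x by simp, map_mul,
        show Ideal.Quotient.mk J ((1 : B) ⊗ₜ[k] x) = e (L x) by rw [hLx, e.apply_symm_apply], he]
      simp only [theta, Fintype.linearCombination_apply, map_sum, Finset.mul_sum, basisVec]
      refine Finset.sum_congr rfl fun i _ => ?_
      rw [← Ideal.Quotient.mkₐ_eq_mk B, map_smul, mul_smul_comm, ← map_mul,
        Algebra.TensorProduct.tmul_mul_tmul, one_mul]
  refine ⟨L, hL, le_antisymm (fun z hz => ?_) (idl_le σ hL J hmem)⟩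
  have h1 : z - theta σ B (cmap L z) ∈ J := idl_le σ hL J hmem (sub_theta_mem σ hL z)
  have h2 : theta σ B (cmap L z) ∈ J := by simpa using sub_mem hz h1
  rw [mem_idl, ← e.map_eq_zero_iff, he]
  exact Ideal.Quotient.eq_zero_iff_mem.2 h2

/-- a finite module is absorbed by a submodule near a prime when it is so at a point over it. -/
theorem exists_smul_mem {M : Type*} [AddCommGroup M] [Module B M] [Module.Finite B M] (N : Submodule B M)
    (q : Ideal B) [q.IsPrime] {L : Type u} [Field L] [Algebra B L]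
    (hq : RingHom.ker (algebraMap B L) = q)
    (h : ∀ f : M →ₗ[B] L, (∀ x ∈ N, f x = 0) → f = 0) : ∃ g ∉ q, ∀ m, g • m ∈ N := by
  by_cases hsupp : (⟨q, inferInstance⟩ : PrimeSpectrum B) ∈ Module.support B (M ⧸ N)
  · exfalso
    rw [Module.mem_support_iff_nontrivial_residueField_tensorProduct] at hsupp
    obtain ⟨z, hz⟩ := exists_ne (0 : q.ResidueField ⊗[B] (M ⧸ N))
    obtain ⟨ψ, hψ⟩ := Module.Projective.exists_dual_ne_zero q.ResidueField hz
    let j : q.ResidueField →+* L := IsFractionRing.lift (A := B ⧸ q)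
      (g := Ideal.Quotient.lift q (algebraMap B L) (fun x hx => by
        rwa [← RingHom.mem_ker, hq]))
      (RingHom.lift_injective_of_ker_le_ideal q _ hq.le)
    have hj : ∀ b : B, j (algebraMap B q.ResidueField b) = algebraMap B L b := fun b => by
      rw [IsScalarTower.algebraMap_apply B (B ⧸ q) q.ResidueField]
      simp only [j, IsFractionRing.lift_algebraMap, Ideal.Quotient.algebraMap_eq, Ideal.Quotient.lift_mk]
    let f : M →ₗ[B] L :=
      { toFun := fun m => j (ψ (1 ⊗ₜ[B] (N.mkQ m)))
        map_add' := fun a b => by simp [TensorProduct.tmul_add]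
        map_smul' := fun b m => by
          rw [map_smul, TensorProduct.tmul_smul, RingHom.id_apply, Algebra.smul_def,
            ← IsScalarTower.algebraMap_smul q.ResidueField b, map_smul, smul_eq_mul, map_mul, hj] }
    have hf := h f (fun x hx => by
      simp [f, (Submodule.Quotient.mk_eq_zero N).2 hx])
    refine hψ ?_
    clear hψ hz
    induction z with
    | zero => simp
    | add u v hu hv => rw [map_add, hu, hv, add_zero]
    | tmul c y =>
      obtain ⟨m, rfl⟩ := N.mkQ_surjective y
      have h0 : ψ (1 ⊗ₜ[B] (N.mkQ m)) = 0 :=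
        j.injective ((LinearMap.congr_fun hf m).trans (map_zero j).symm)
      rw [show c ⊗ₜ[B] N.mkQ m = c • ((1 : q.ResidueField) ⊗ₜ[B] N.mkQ m) by
        rw [TensorProduct.smul_tmul', smul_eq_mul, mul_one], map_smul, h0, smul_zero]
  · rw [Module.mem_support_iff_of_finite, SetLike.not_le_iff_exists] at hsupp
    obtain ⟨g, hg, hgq⟩ := hsupp
    refine ⟨g, hgq, fun m => ?_⟩
    rw [← Submodule.Quotient.mk_eq_zero, Submodule.Quotient.mk_smul]
    exact Module.mem_annihilator.1 hg _

/-- being free on `σ` at a point spreads to a standard open. -/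
theorem exists_away (J : Ideal (B ⊗[k] R)) [Module.Finite B ((B ⊗[k] R) ⧸ J)]
    {L : Type u} [Field L] [Algebra k L] (φ : B →ₐ[k] L)
    (h : Good σ (J.map (Algebra.TensorProduct.map φ (AlgHom.id k R)).toRingHom)) :
    ∃ g : B, φ g ≠ 0 ∧ ∀ m : (B ⊗[k] R) ⧸ J,
      g • m ∈ LinearMap.range ((Ideal.Quotient.mkₐ B J).toLinearMap ∘ₗ theta σ B) := by
  letI := φ.toRingHom.toAlgebra
  haveI : IsScalarTower k B L := IsScalarTower.of_algebraMap_eq fun x => (φ.commutes x).symm
  let q : Ideal B := RingHom.ker φ.toRingHom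
  haveI : q.IsPrime := RingHom.ker_isPrime φ.toRingHom
  obtain ⟨g, hg, hgm⟩ := exists_smul_mem
    (LinearMap.range ((Ideal.Quotient.mkₐ B J).toLinearMap ∘ₗ theta σ B)) q (L := L) rfl (fun f hf => by
      obtain ⟨Lc, hLc, hJ⟩ := h
      let Φ := Algebra.TensorProduct.map φ (AlgHom.id k R)
      let F : L ⊗[k] R →ₗ[L] L := LinearMap.liftBaseChange L
        ((f ∘ₗ (Ideal.Quotient.mkₐ B J).toLinearMap).restrictScalars k ∘ₗ
          (Algebra.TensorProduct.includeRight : R →ₐ[k] B ⊗[k] R).toLinearMap)
      have hFΦ : ∀ z : B ⊗[k] R, F (Φ z) = f (Ideal.Quotient.mk J z) := by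
        intro z
        induction z with
        | zero => simp
        | add u v hu hv => simp [hu, hv]
        | tmul b x =>
          rw [show Ideal.Quotient.mk J (b ⊗ₜ[k] x) = b • Ideal.Quotient.mk J ((1 : B) ⊗ₜ[k] x) by
            rw [← Ideal.Quotient.mkₐ_eq_mk B, ← map_smul, TensorProduct.smul_tmul', smul_eq_mul, mul_one],
            map_smul]
          simp [F, Φ]
          exact (Algebra.smul_def b _).symm
      have hspan : ∀ w : L ⊗[k] R, w ∈ Submodule.span L (Set.range Φ) := by
        intro w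
        induction w with
        | zero => exact zero_mem _
        | add u v hu hv => exact add_mem hu hv
        | tmul c x =>
          have : c ⊗ₜ[k] x = c • Φ ((1 : B) ⊗ₜ[k] x) := by simp [Φ, TensorProduct.smul_tmul']
          rw [this]
          exact Submodule.smul_mem _ _ (Submodule.subset_span ⟨_, rfl⟩)
      have hFJ : ∀ w ∈ J.map Φ.toRingHom, ∀ v, F (v * w) = 0 := by
        intro w hw
        induction hw using Submodule.span_induction with
        | mem y hy =>
          obtain ⟨z, hz, rfl⟩ := hy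
          intro v
          induction hspan v using Submodule.span_induction with
          | mem u hu =>
            obtain ⟨u, rfl⟩ := hu
            show F (Φ u * Φ z) = 0
            rw [← map_mul, hFΦ, Ideal.Quotient.eq_zero_iff_mem.2 (J.mul_mem_left u hz), map_zero]
          | zero => simp
          | add a b _ _ ha hb => rw [add_mul, map_add, ha, hb, add_zero]
          | smul c a _ ha => rw [smul_mul_assoc, map_smul, ha, smul_zero]
        | zero => simp
        | add a b _ _ ha hb => intro v; rw [mul_add, map_add, ha, hb, add_zero]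
        | smul c a _ ha => intro v; rw [smul_eq_mul, ← mul_assoc]; exact ha _
      have hθ : ∀ v, F (theta σ L v) = 0 := by
        intro v
        simp only [theta, Fintype.linearCombination_apply, map_sum, map_smul]
        refine Finset.sum_eq_zero fun i _ => ?_
        have : F (basisVec σ L i) = 0 := by
          have e : basisVec σ L i = Φ (basisVec σ B i) := by simp [basisVec, Φ]
          rw [e, hFΦ]
          refine hf _ ⟨Pi.single i 1, ?_⟩
          simp [theta, Fintype.linearCombination_apply, Pi.single_apply]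
        rw [this, smul_zero]
      refine LinearMap.ext fun m => ?_
      obtain ⟨z, rfl⟩ := Ideal.Quotient.mk_surjective m
      rw [← hFΦ, LinearMap.zero_apply]
      have h1 := hFJ (Φ z - theta σ L (cmap Lc (Φ z))) (hJ ▸ sub_theta_mem σ hLc (Φ z)) 1
      rwa [one_mul, map_sub, hθ, sub_zero] at h1)
  exact ⟨g, hg, hgm⟩

section Universal

variable (k)

/-- the polynomial ring of coordinates. -/
abbrev PR : Type u := MvPolynomial (R × Fin d) k

variable (R d) in
/-- the tautological coordinates. -/
def taut (x : R) : Fin d → PR (R := R) (d := d) k := fun i => MvPolynomial.X (x, i)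

/-- the relations of coordinates. -/
def rels : Set (PR (R := R) (d := d) k) :=
  (Set.range fun q : Fin d × Fin d => taut k R d (σ q.1) q.2 - Pi.single (M := fun _ => PR (R := R) (d := d) k) q.1 1 q.2) ∪
    (Set.range fun q : R × R × Fin d => taut k R d (q.1 + q.2.1) q.2.2 - taut k R d q.1 q.2.2 - taut k R d q.2.1 q.2.2) ∪
    (Set.range fun q : k × R × Fin d => taut k R d (q.1 • q.2.1) q.2.2 - q.1 • taut k R d q.2.1 q.2.2) ∪
    (Set.range fun q : R × R × Fin d => taut k R d (q.2.1 * q.1) q.2.2 -
      ∑ i, taut k R d q.1 i * taut k R d (q.2.1 * σ i) q.2.2)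

/-- the coordinate ring of a chart. -/
abbrev CR : Type u := PR (R := R) (d := d) k ⧸ Ideal.span (rels k σ)

variable {k}

lemma rel_eq_zero {p : PR (R := R) (d := d) k} (h : p ∈ rels k σ) : Ideal.Quotient.mkₐ k (Ideal.span (rels k σ)) p = 0 :=
  Ideal.Quotient.eq_zero_iff_mem.2 (Ideal.subset_span h)

variable (k)

/-- the universal coordinates. -/
def univL : R →ₗ[k] (Fin d → CR k σ) where
  toFun x i := Ideal.Quotient.mkₐ k _ (taut k R d x i)
  map_add' x y := by
    funext i
    have := rel_eq_zero σ (k := k) (p := _) (Or.inl (Or.inl (Or.inr ⟨(x, y, i), rfl⟩)))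
    rw [map_sub, map_sub, sub_sub, sub_eq_zero] at this
    exact this
  map_smul' c x := by
    funext i
    have := rel_eq_zero σ (k := k) (p := _) (Or.inl (Or.inr ⟨(c, x, i), rfl⟩))
    rw [map_sub, map_smul, sub_eq_zero] at this
    exact this

theorem univL_isCoord : IsCoord σ (univL k σ) where
  unit i := by
    funext j
    have := rel_eq_zero σ (k := k) (p := _) (Or.inl (Or.inl (Or.inl ⟨(i, j), rfl⟩)))
    rw [map_sub, sub_eq_zero] at this
    refine this.trans ?_
    by_cases h : j = i
    · subst h; simp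
    · simp [Pi.single_apply, h]
  mul x y := by
    funext j
    have := rel_eq_zero σ (k := k) (p := _) (Or.inr ⟨(x, y, j), rfl⟩)
    rw [map_sub, map_sum, sub_eq_zero] at this
    refine this.trans ?_
    rw [Finset.sum_apply]
    exact Finset.sum_congr rfl fun i _ => map_mul _ _ _

variable {k}

theorem existsUnique_classify {L : R →ₗ[k] (Fin d → B)} (hL : IsCoord σ L) :
    ∃! φ : CR k σ →ₐ[k] B, mapL φ (univL k σ) = L := by
  let ev : PR (R := R) (d := d) k →ₐ[k] B := MvPolynomial.aeval fun q => L q.1 q.2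
  have hev : ∀ x i, ev (taut k R d x i) = L x i := fun x i => MvPolynomial.aeval_X _ _
  have hle : Ideal.span (rels k σ) ≤ RingHom.ker ev := by
    refine Ideal.span_le.2 ?_
    rintro p (((⟨⟨i, j⟩, rfl⟩ | ⟨⟨x, y, i⟩, rfl⟩) | ⟨⟨c, x, i⟩, rfl⟩) | ⟨⟨x, y, j⟩, rfl⟩)
    · simp only [SetLike.mem_coe, RingHom.mem_ker, map_sub, hev, hL.unit, sub_eq_zero]
      by_cases h : j = i
      · subst h; simp
      · simp [Pi.single_apply, h]
    · simp [RingHom.mem_ker, hev]
    · simp [RingHom.mem_ker, hev]
    · simp only [SetLike.mem_coe, RingHom.mem_ker, map_sub, map_sum, map_mul, hev, sub_eq_zero,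
        hL.mul x y, Finset.sum_apply, Pi.smul_apply, smul_eq_mul]
  refine ⟨Ideal.Quotient.liftₐ _ ev (fun a ha => hle ha), ?_, fun φ hφ => ?_⟩
  · ext x i
    exact hev x i
  · refine Ideal.Quotient.algHom_ext k (MvPolynomial.algHom_ext fun q => ?_)
    obtain ⟨x, i⟩ := q
    exact (congr($hφ x i) : φ _ = L x i).trans (hev x i).symm

end Universal

end Groth.Agent.Grass5.AffHilb
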