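import Groth.Agent.Grass5.HilbLocus
import Groth.Agent.Desc59.IdealFpqc

/-!
The Hilbert functor of points as a Zariski sheaf on schemes over the base.
-/

set_option autoImplicit false
set_option linter.style.haveILetI false
set_option maxHeartbeats 400000
set_option backward.isDefEq.respectTransparency false
set_option backward.isDefEq.respectTransparency.types false

universe u

open CategoryTheory CategoryTheory.Limits AlgebraicGeometry Opposite

namespace Groth.Agent.Grass5.Hilb

variable {X S : Scheme.{u}} (f : X ⟶ S) (d : ℕ)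

theorem pull_id (T : Over S) (I : (PicF.XT f T).IdealSheafData) : HilbD.pull f (𝟙 T) I = I := by
  rw [pull_eq_comap, show PicF.XTmap f (𝟙 T) = 𝟙 _ from pullback.hom_ext (by simp [PicF.XTmap])
    (by simp [PicF.XTmap]), Scheme.IdealSheafData.comap_id]

/-- the functor of families. -/
noncomputable def presheaf : (Over S)ᵒᵖ ⥤ Type u where
  obj T := HilbD.Obj f d (unop T)
  map g := TypeCat.ofHom fun Z => objPull g.unop Z
  map_id T := ConcreteCategory.hom_ext _ _ fun Z => Subtype.ext (pull_id f _ _)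
  map_comp g g' := ConcreteCategory.hom_ext _ _ fun Z => Subtype.ext (pull_comp f _ _ _).symm

lemma presheaf_map {T T' : Over S} (g : T' ⟶ T) (Z : HilbD.Obj f d T) :
    ((presheaf f d).map g.op Z : HilbD.Obj f d T') = objPull g Z := rfl

/-- points of a cartesian square. -/
theorem exists_preimage {P A B Z : Scheme.{u}} {fst : P ⟶ A} {snd : P ⟶ B} {a : A ⟶ Z} {b : B ⟶ Z}
    (h : IsPullback fst snd a b) (x : A) (y : B) (e : a x = b y) : ∃ z, fst z = x ∧ snd z = y := by
  obtain ⟨t, ht₁, ht₂⟩ := Scheme.Pullback.exists_preimage_pullback (f := a) (g := b) x y e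
  refine ⟨h.isoPullback.inv t, ?_, ?_⟩
  · rw [← Scheme.Hom.comp_apply, h.isoPullback_inv_fst]; exact ht₁
  · rw [← Scheme.Hom.comp_apply, h.isoPullback_inv_snd]; exact ht₂

/-- families agreeing on an open cover agree. -/
theorem ext_of_cover {T : Over S} {ι : Type u} {U : ι → Over S} (j : ∀ i, U i ⟶ T)
    [∀ i, IsOpenImmersion (j i).left] (hcov : ∀ x : T.left, ∃ i y, (j i).left y = x)
    {I I' : (PicF.XT f T).IdealSheafData} (h : ∀ i, HilbD.pull f (j i) I = HilbD.pull f (j i) I') :
    I = I' := by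
  refine Desc59.IdealFpqc.ext_of_family (fun i => PicF.XTmap f (j i)) (fun i => ?_) (fun z => ?_)
    (fun i => by rw [← pull_eq_comap, ← pull_eq_comap]; exact h i)
  · haveI : IsOpenImmersion (PicF.XTmap f (j i)) :=
      MorphismProperty.of_isPullback (isPullback_XTmap f (j i)).flip inferInstance
    infer_instance
  · obtain ⟨i, y, hy⟩ := hcov (PicF.XTproj f T z)
    obtain ⟨t, ht, -⟩ := exists_preimage (isPullback_XTmap f (j i)) z y hy.symm
    exact ⟨i, t, ht⟩

/-- being finite locally free of degree `d` is local on the base. -/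
theorem finLocFreeOfDeg_of_cover {T : Over S} {ι : Type u} {U : ι → Over S} (j : ∀ i, U i ⟶ T)
    [∀ i, IsOpenImmersion (j i).left] (hcov : ∀ x : T.left, ∃ i y, (j i).left y = x)
    (I : (PicF.XT f T).IdealSheafData)
    (h : ∀ i, Mor2.IsFinLocFreeOfDeg d ((HilbD.pull f (j i) I).subschemeι ≫ PicF.XTproj f (U i))) :
    Mor2.IsFinLocFreeOfDeg d (I.subschemeι ≫ PicF.XTproj f T) := by
  let 𝒰 : T.left.OpenCover := Scheme.Cover.mkOfCovers (P := @IsOpenImmersion) ι (fun i => (U i).left)
    (fun i => (j i).left) hcov (fun i => inferInstance)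
  let w := I.subschemeι ≫ PicF.XTproj f T
  have h' : ∀ i, Mor2.IsFinLocFreeOfDeg d (pullback.snd w (j i).left) := fun i => by
    obtain ⟨q, hq⟩ := isPullback_pull f (j i) I
    exact finLocFreeOfDeg_isPullback
      (IsPullback.of_horiz_isIso (fst := hq.isoPullback.inv) (g := 𝟙 _) ⟨by simp [w]⟩) (h i)
  haveI : IsFinite w := IsZariskiLocalAtTarget.of_openCover 𝒰 (fun i => (h' i).1.1)
  haveI : Flat w := IsZariskiLocalAtTarget.of_openCover 𝒰 (fun i => (h' i).1.2.1)
  refine ⟨⟨inferInstance, inferInstance,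
    IsZariskiLocalAtTarget.of_openCover 𝒰 (fun i => (h' i).1.2.2)⟩, fun x => ?_⟩
  obtain ⟨i, y, rfl⟩ := hcov x
  rw [← Scheme.Hom.finrank_pullback_snd w (j i).left]
  exact (h' i).2 y

/-- the functor of families is a Zariski sheaf. -/
theorem isSheaf_presheaf : Presheaf.IsSheaf (Scheme.zariskiTopology.over S) (presheaf f d) := by
  rw [isSheaf_iff_isSheaf_of_type]
  intro T R hR x hx
  obtain ⟨𝒰, h𝒰⟩ := Scheme.mem_grothendieckTopology_iff.1 ((GrothendieckTopology.mem_over_iff _ R).1 hR)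
  let U : 𝒰.I₀ → Over S := fun i => Over.mk (𝒰.f i ≫ T.hom)
  let j : ∀ i, U i ⟶ T := fun i => Over.homMk (𝒰.f i) rfl
  haveI : ∀ i, IsOpenImmersion (j i).left := fun i => inferInstanceAs (IsOpenImmersion (𝒰.f i))
  have hj : ∀ i, R (j i) := fun i => (Sieve.overEquiv_iff R (𝒰.f i)).1 (h𝒰 _ (𝒰.f i) (Presieve.ofArrows.mk i))
  have hcov : ∀ p : T.left, ∃ i y, (j i).left y = p := 𝒰.exists_eq
  let g := fun i => PicF.XTmap f (j i)
  haveI hg : ∀ i, IsOpenImmersion (g i) := fun i =>
    MorphismProperty.of_isPullback (isPullback_XTmap f (j i)).flip inferInstance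
  have hI : ∀ i i' ⦃Z : Scheme.{u}⦄ (a : Z ⟶ PicF.XT f (U i)) (b : Z ⟶ PicF.XT f (U i')),
      a ≫ g i = b ≫ g i' → (x _ (hj i)).1.comap a = (x _ (hj i')).1.comap b := by
    intro i i' Z a b e
    let W : Over S := Over.mk (pullback.fst (j i).left (j i').left ≫ (U i).hom)
    let w₁ : W ⟶ U i := Over.homMk (pullback.fst _ _) rfl
    let w₂ : W ⟶ U i' := Over.homMk (pullback.snd _ _) (by
      show pullback.snd (j i).left (j i').left ≫ 𝒰.f i' ≫ T.hom =
        pullback.fst (j i).left (j i').left ≫ 𝒰.f i ≫ T.hom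
      exact (pullback.condition_assoc (f := (j i).left) (g := (j i').left) T.hom).symm)
    have hw : w₁ ≫ j i = w₂ ≫ j i' := Over.OverMorphism.ext pullback.condition
    have hx' : HilbD.pull f w₁ (x _ (hj i)).1 = HilbD.pull f w₂ (x _ (hj i')).1 :=
      congrArg Subtype.val (hx w₁ w₂ (hj i) (hj i') hw)
    have ef := congr($e ≫ pullback.fst f T.hom)
    have es := congr($e ≫ pullback.snd f T.hom)
    simp only [g, PicF.XTmap, Category.assoc, pullback.lift_fst, pullback.lift_snd, Category.comp_id] at ef es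
    let l : Z ⟶ PicF.XT f W := pullback.lift (a ≫ pullback.fst f _)
      (pullback.lift (a ≫ PicF.XTproj f (U i)) (b ≫ PicF.XTproj f (U i'))
        (by simpa [PicF.XTproj] using es)) (by
      simp [W, PicF.XTproj, pullback.condition])
    have ha : l ≫ PicF.XTmap f w₁ = a := by
      refine pullback.hom_ext ?_ ?_ <;> simp [l, w₁, W, PicF.XTmap, PicF.XTproj]
    have hb : l ≫ PicF.XTmap f w₂ = b := by
      refine pullback.hom_ext ?_ ?_
      · simp [l, PicF.XTmap]; exact ef
      · simp [l, w₂, W, PicF.XTmap, PicF.XTproj]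
    rw [← ha, ← hb, Scheme.IdealSheafData.comap_comp, Scheme.IdealSheafData.comap_comp, ← pull_eq_comap,
      ← pull_eq_comap, hx']
  have hsurj : ∀ z : PicF.XT f T, ∃ i y, g i y = z := fun z => by
    obtain ⟨i, y, hy⟩ := hcov (PicF.XTproj f T z)
    obtain ⟨t, ht, -⟩ := exists_preimage (isPullback_XTmap f (j i)) z y hy.symm
    exact ⟨i, t, ht⟩
  let 𝒲 : (PicF.XT f T).OpenCover := Scheme.Cover.mkOfCovers (P := @IsOpenImmersion) 𝒰.I₀
    (fun i => PicF.XT f (U i)) g hsurj hg
  haveI : QuasiCompactCover (⟨𝒰.I₀, fun i => PicF.XT f (U i), g⟩ : PreZeroHypercover.{u} (PicF.XT f T)) :=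
    (inferInstance : QuasiCompactCover 𝒲.toPreZeroHypercover)
  obtain ⟨J, hJ, -⟩ := Desc59.IdealFpqc.existsUnique_comap_eq hI (fun i => inferInstance) hsurj
  have hJ' : ∀ i, HilbD.pull f (j i) J = (x _ (hj i)).1 := fun i => (pull_eq_comap f _ J).trans (hJ i)
  refine ⟨⟨J, finLocFreeOfDeg_of_cover f d j hcov J fun i => by rw [hJ']; exact (x _ (hj i)).2⟩,
    fun V v hv => Subtype.ext ?_, fun Z hZ => Subtype.ext ?_⟩
  · show HilbD.pull f v J = (x v hv).1
    let P : 𝒰.I₀ → Over S := fun i => Over.mk (pullback.fst v.left (j i).left ≫ V.hom)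
    let p₁ : ∀ i, P i ⟶ V := fun i => Over.homMk (pullback.fst _ _) rfl
    let p₂ : ∀ i, P i ⟶ U i := fun i => Over.homMk (pullback.snd _ _) (by
      show pullback.snd v.left (j i).left ≫ 𝒰.f i ≫ T.hom = pullback.fst v.left (j i).left ≫ V.hom
      rw [← Over.w v, pullback.condition_assoc]
      rfl)
    have hp : ∀ i, p₁ i ≫ v = p₂ i ≫ j i := fun i => Over.OverMorphism.ext pullback.condition
    haveI : ∀ i, IsOpenImmersion (p₁ i).left := fun i =>
      inferInstanceAs (IsOpenImmersion (pullback.fst v.left (j i).left))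
    refine ext_of_cover f p₁ (fun q => ?_) fun i => ?_
    · obtain ⟨i, y, hy⟩ := hcov (v.left q)
      obtain ⟨t, ht, -⟩ := Scheme.Pullback.exists_preimage_pullback (f := v.left) (g := (j i).left) q y hy.symm
      exact ⟨i, t, ht⟩
    · have hx' : HilbD.pull f (p₁ i) (x v hv).1 = HilbD.pull f (p₂ i) (x _ (hj i)).1 :=
        congrArg Subtype.val (hx (p₁ i) (p₂ i) hv (hj i) (hp i))
      rw [pull_comp, hp i, ← pull_comp, hJ', hx']
  · refine ext_of_cover f j hcov fun i => ?_
    rw [hJ']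
    exact congrArg Subtype.val (hZ (j i) (hj i))

end Groth.Agent.Grass5.Hilb
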