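import Groth.Agent.Grass5.PunctPt
import Groth.Agent.Grass5.AffAlg
import Groth.Agent.Grass5.HilbSheaf
import Groth.Agent.Mag88.OverRep

/-!
Representability of the Hilbert functor of points of an affine scheme over an affine base.
-/

set_option autoImplicit false
set_option linter.style.haveILetI false
set_option maxHeartbeats 400000
set_option backward.isDefEq.respectTransparency false
set_option backward.isDefEq.respectTransparency.types false

universe u

open CategoryTheory CategoryTheory.Limits AlgebraicGeometry Opposite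
open scoped TensorProduct

noncomputable section

namespace Groth.Agent.Grass5.AffHilb

open Groth.Agent.Grass5.Hilb Groth.Agent.Grass5.Punct

variable {k : Type u} [CommRing k] {R : Type u} [CommRing R] [Algebra k R] {d : ℕ} {σ : Fin d → R}

section Dict

variable {B : Type u} [CommRing B] [Algebra k B] {B' : Type u} [CommRing B'] [Algebra k B']

theorem moduleData {J : Ideal (B ⊗[k] R)}
    (h : Mor2.IsFinLocFreeOfDeg d ((sh J).subschemeι ≫ PicF.XTproj (str k R) (TB k B))) :
    Module.Finite B ((B ⊗[k] R) ⧸ J) ∧ Module.Flat B ((B ⊗[k] R) ⧸ J) ∧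
      ∀ p, Module.rankAtStalk (R := B) ((B ⊗[k] R) ⧸ J) p = d := by
  rw [finLocFreeOfDeg_sh_iff] at h
  obtain ⟨⟨h1, h2, -⟩, h3⟩ := h
  haveI h1' : Module.Finite B ((B ⊗[k] R) ⧸ J) := RingHom.finite_algebraMap.1 ((IsFinite.SpecMap_iff _).1 h1)
  haveI h2' : Module.Flat B ((B ⊗[k] R) ⧸ J) := RingHom.flat_algebraMap_iff.1 (Flat.SpecMap_iff.1 h2)
  exact ⟨h1', h2', fun p => by rw [← Scheme.Hom.finrank_SpecMap_algebraMap]; exact h3 p⟩

theorem finLocFreeOfDeg_of_good {J : Ideal (B ⊗[k] R)} (h : Good σ J) :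
    Mor2.IsFinLocFreeOfDeg d ((sh J).subschemeι ≫ PicF.XTproj (str k R) (TB k B)) := by
  obtain ⟨L, hL, rfl⟩ := h
  rw [finLocFreeOfDeg_sh_iff]
  let e := quotEquiv σ hL
  haveI := Module.Free.of_equiv e.symm
  haveI := Module.Finite.equiv e.symm
  haveI := Module.finitePresentation_of_projective B ((B ⊗[k] R) ⧸ idl σ hL)
  refine ⟨⟨(IsFinite.SpecMap_iff _).2 (RingHom.finite_algebraMap.2 inferInstance),
    Flat.SpecMap_iff.2 (RingHom.flat_algebraMap_iff.2 inferInstance),
    (HasRingHomProperty.Spec_iff (P := @LocallyOfFinitePresentation)).2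
      (RingHom.finitePresentation_algebraMap.2 inferInstance)⟩, fun y => ?_⟩
  let y' : PrimeSpectrum B := y
  haveI : Nontrivial B := ⟨⟨0, 1, fun h => y'.2.ne_top ((Ideal.eq_top_iff_one _).2 (h ▸ y'.asIdeal.zero_mem))⟩⟩
  rw [Scheme.Hom.finrank_SpecMap_algebraMap, Module.rankAtStalk_eq_finrank_of_free]
  show Module.finrank B _ = d
  rw [e.finrank_eq]
  simp

theorem sh_injective {J J' : Ideal (B ⊗[k] R)} (h : sh J = sh J') : J = J' := by
  have key : ∀ J J' : Ideal (B ⊗[k] R), (inclJ J).ker ≤ (inclJ J').ker → J ≤ J' := by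
    intro J J' hle
    let l := IsClosedImmersion.lift (inclJ J) (inclJ J') hle
    have hl : l ≫ Spec.map (CommRingCat.ofHom (Ideal.Quotient.mk J)) =
        Spec.map (CommRingCat.ofHom (Ideal.Quotient.mk J')) := by
      rw [← cancel_mono (eXT k R B).inv, Category.assoc]
      exact IsClosedImmersion.lift_fac (inclJ J) (inclJ J') hle
    obtain ⟨a, ha⟩ := Spec.map_surjective l
    rw [← ha, ← Spec.map_comp] at hl
    intro x hx
    rw [← Ideal.Quotient.eq_zero_iff_mem]
    have := congr($(Spec.map_injective hl) x)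
    change a.hom (Ideal.Quotient.mk J x) = Ideal.Quotient.mk J' x at this
    rw [← this, Ideal.Quotient.eq_zero_iff_mem.2 hx, map_zero]
  exact le_antisymm (key J J' (le_of_eq h)) (key J' J (le_of_eq h.symm))

theorem exists_gT (u : TB k B' ⟶ TB k B) : ∃ φ : B →ₐ[k] B', u = gT φ := by
  obtain ⟨a, ha⟩ := Spec.map_surjective u.left
  have hw : CommRingCat.ofHom (algebraMap k B) ≫ a = CommRingCat.ofHom (algebraMap k B') := by
    apply Spec.map_injective
    rw [Spec.map_comp, ha]
    exact Over.w u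
  exact ⟨{ a.hom with commutes' := fun c => congr($hw c) }, Over.OverMorphism.ext ha.symm⟩

/-- an affine neighbourhood. -/
theorem exists_nbhd (T : Over (Spec (CommRingCat.of k))) (U : T.left.Opens) (p : T.left) (hp : p ∈ U) :
    ∃ (B : Type u) (_ : CommRing B) (_ : Algebra k B) (j : TB k B ⟶ T),
      IsOpenImmersion j.left ∧ p ∈ Set.range j.left ∧ Set.range j.left ⊆ (U : Set T.left) := by
  obtain ⟨_, ⟨U', hU', rfl⟩, hpU, hUle⟩ := T.left.isBasis_affineOpens.exists_subset_of_mem_open hp U.2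
  let a := Spec.preimage (hU'.fromSpec ≫ T.hom)
  letI : Algebra k Γ(T.left, U') := a.hom.toAlgebra
  refine ⟨Γ(T.left, U'), inferInstance, inferInstance, Over.homMk hU'.fromSpec (Spec.map_preimage _).symm,
    inferInstanceAs (IsOpenImmersion hU'.fromSpec), ?_, ?_⟩
  · show p ∈ Set.range hU'.fromSpec
    rw [hU'.range_fromSpec]; exact hpU
  · show Set.range hU'.fromSpec ⊆ _
    rw [hU'.range_fromSpec]; exact hUle

/-- a point with values in a field. -/
theorem exists_point (T : Over (Spec (CommRingCat.of k))) (p : T.left) :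
    ∃ (L : Type u) (_ : Field L) (_ : Algebra k L) (j : TB k L ⟶ T), ∀ y, j.left y = p := by
  let a := Spec.preimage (T.left.fromSpecResidueField p ≫ T.hom)
  letI : Algebra k (T.left.residueField p) := a.hom.toAlgebra
  refine ⟨T.left.residueField p, inferInstance, inferInstance,
    Over.homMk (T.left.fromSpecResidueField p) (Spec.map_preimage _).symm, fun y => ?_⟩
  show T.left.fromSpecResidueField p y = p
  have : T.left.fromSpecResidueField p y ∈ Set.range (T.left.fromSpecResidueField p) := ⟨y, rfl⟩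
  simpa using this

end Dict

variable (k σ) in
/-- the chart. -/
abbrev W : Over (Spec (CommRingCat.of k)) := TB k (CR k σ)

variable (k σ) in
/-- the universal family on a chart. -/
def Zu : HilbD.Obj (str k R) d (W k σ) :=
  ⟨sh (idl σ (univL_isCoord k σ)), finLocFreeOfDeg_of_good ⟨_, _, rfl⟩⟩

section Affine

variable {B : Type u} [CommRing B] [Algebra k B]

theorem good_of_pull (u : TB k B ⟶ W k σ) :
    ∃ J, Good σ J ∧ HilbD.pull (str k R) u (Zu k σ).1 = sh J := by
  obtain ⟨φ, rfl⟩ := exists_gT u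
  exact ⟨_, Good.map σ ⟨_, univL_isCoord k σ, rfl⟩ φ, pull_sh φ _⟩

theorem existsUnique_lift {J : Ideal (B ⊗[k] R)} (h : Good σ J) :
    ∃! u : TB k B ⟶ W k σ, HilbD.pull (str k R) u (Zu k σ).1 = sh J := by
  obtain ⟨L, hL, rfl⟩ := h
  obtain ⟨φ, hφ, huniq⟩ := existsUnique_classify σ hL
  subst hφ
  refine ⟨gT φ, (pull_sh φ _).trans (congrArg sh (idl_map σ _ φ)), fun u hu => ?_⟩
  obtain ⟨ψ, rfl⟩ := exists_gT u
  have h1 : idl σ ((univL_isCoord k σ).map ψ) = idl σ hL := by
    rw [← idl_map σ (univL_isCoord k σ) ψ]; exact sh_injective ((pull_sh ψ _).symm.trans hu)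
  rw [huniq ψ (coord_unique σ _ _ h1)]

theorem hom_ext_affine (u v : TB k B ⟶ W k σ)
    (h : HilbD.pull (str k R) u (Zu k σ).1 = HilbD.pull (str k R) v (Zu k σ).1) : u = v := by
  obtain ⟨J, hJ, e⟩ := good_of_pull u
  exact (existsUnique_lift hJ).unique e (h.symm.trans e)

end Affine

theorem hom_ext_W {T : Over (Spec (CommRingCat.of k))} (u v : T ⟶ W k σ)
    (h : HilbD.pull (str k R) u (Zu k σ).1 = HilbD.pull (str k R) v (Zu k σ).1) : u = v := by
  refine Over.OverMorphism.ext ?_
  choose B hB hA j hj hp _ using fun p : T.left => exists_nbhd T ⊤ p trivial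
  let 𝒰 : T.left.OpenCover := Scheme.Cover.mkOfCovers (P := @IsOpenImmersion) T.left
    (fun p => (TB k (B p)).left) (fun p => (j p).left) (fun p => ⟨p, hp p⟩) hj
  refine 𝒰.hom_ext _ _ fun p => ?_
  have := hom_ext_affine (j p ≫ u) (j p ≫ v) (by rw [← pull_comp, h, pull_comp])
  exact congr($(this).left)

variable (σ) in
/-- the open locus of a chart. -/
def V (T : Over (Spec (CommRingCat.of k))) (Z : HilbD.Obj (str k R) d T) : T.left.Opens :=
  sSup {U | ∃ (B : Type u) (_ : CommRing B) (_ : Algebra k B) (j : TB k B ⟶ T) (_ : IsOpenImmersion j.left)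
    (J : Ideal (B ⊗[k] R)), Good σ J ∧ HilbD.pull (str k R) j Z.1 = sh J ∧ U = j.left.opensRange}

theorem mem_V_of_point {T : Over (Spec (CommRingCat.of k))} (Z : HilbD.Obj (str k R) d T) {L : Type u}
    [Field L] [Algebra k L] (j : TB k L ⟶ T) {J : Ideal (L ⊗[k] R)} (hJ : Good σ J)
    (e : HilbD.pull (str k R) j Z.1 = sh J) (y : (TB k L).left) : j.left y ∈ V σ T Z := by
  obtain ⟨B, _, _, i, hi, hp, -⟩ := exists_nbhd T ⊤ (j.left y) trivial
  haveI := hi
  haveI : Subsingleton (TB k L).left := inferInstanceAs (Subsingleton (PrimeSpectrum L))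
  have hr : Set.range j.left ⊆ Set.range i.left := by
    rintro _ ⟨z, rfl⟩
    rwa [Subsingleton.elim z y]
  let l : TB k L ⟶ TB k B := Over.homMk (IsOpenImmersion.lift i.left j.left hr) (by
    rw [← Over.w i, IsOpenImmersion.lift_fac_assoc, Over.w j])
  have hl : l ≫ i = j := Over.OverMorphism.ext (IsOpenImmersion.lift_fac _ _ _)
  obtain ⟨φ, hφ⟩ := exists_gT l
  obtain ⟨I, hI⟩ := exists_sh (k := k) (R := R) (B := B) (HilbD.pull (str k R) i Z.1)
  obtain ⟨f1, f2, -⟩ := moduleData (J := I) (d := d) (hI ▸ (objPull i Z).2)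
  haveI := f1
  have hIJ : I.map (bcA R φ).toRingHom = J := sh_injective (by
    rw [← pull_sh, ← hI, pull_comp, ← hφ, hl, e])
  obtain ⟨g, hg, hgm⟩ := exists_away σ I φ (hIJ.symm ▸ hJ)
  let ψ : B →ₐ[k] Localization.Away g := IsScalarTower.toAlgHom k B (Localization.Away g)
  let θ : Localization.Away g →ₐ[k] L :=
    IsLocalization.liftAlgHom (M := Submonoid.powers g) (f := φ) (fun a => by
      obtain ⟨n, hn⟩ := a.2
      rw [← hn, map_pow]
      exact (IsUnit.mk0 _ hg).pow n)
  have hθ : θ.comp ψ = φ := by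
    ext b
    simp [θ, ψ]
  let i' : TB k (Localization.Away g) ⟶ T := gT ψ ≫ i
  haveI : IsOpenImmersion (gT ψ).left :=
    inferInstanceAs (IsOpenImmersion (Spec.map (CommRingCat.ofHom (algebraMap B (Localization.Away g)))))
  haveI hi' : IsOpenImmersion i'.left := by
    show IsOpenImmersion ((gT ψ).left ≫ i.left)
    infer_instance
  let I' := I.map (bcA R ψ).toRingHom
  have hI' : HilbD.pull (str k R) i' Z.1 = sh I' := by
    show HilbD.pull _ (gT ψ ≫ i) _ = _
    rw [← pull_comp, hI, pull_sh]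
  obtain ⟨g1, g2, g3⟩ := moduleData (J := I') (d := d) (hI' ▸ (objPull i' Z).2)
  haveI := g1; haveI := g2
  have hgood : Good σ I' := by
    refine good_of_surjective σ I' g3 ?_
    rw [← LinearMap.range_eq_top, eq_top_iff]
    rintro w -
    obtain ⟨w, rfl⟩ := Ideal.Quotient.mk_surjective w
    induction w with
    | zero => simp
    | add a b ha hb => rw [map_add]; exact add_mem ha hb
    | tmul b x =>
      obtain ⟨v, hv⟩ := hgm (Ideal.Quotient.mk I ((1 : B) ⊗ₜ[k] x))
      have hmem : g • ((1 : B) ⊗ₜ[k] x) - theta σ B v ∈ I := by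
        rw [← Ideal.Quotient.mk_eq_mk_iff_sub_mem, ← Ideal.Quotient.mkₐ_eq_mk B, map_smul]
        exact hv.symm
      have h2 := Ideal.mem_map_of_mem (bcA R ψ).toRingHom hmem
      have h3 : (bcA R ψ).toRingHom (g • ((1 : B) ⊗ₜ[k] x) - theta σ B v) =
          algebraMap B (Localization.Away g) g • ((1 : Localization.Away g) ⊗ₜ[k] x) -
            theta σ (Localization.Away g) (ψ ∘ v) := by
        show bcA R ψ _ = _
        rw [map_sub, map_theta]
        congr 1
        simp [TensorProduct.smul_tmul', ψ, Algebra.smul_def]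
      rw [h3, ← Ideal.Quotient.mk_eq_mk_iff_sub_mem, ← Ideal.Quotient.mkₐ_eq_mk (Localization.Away g),
        map_smul] at h2
      obtain ⟨u, hu⟩ : IsUnit (algebraMap B (Localization.Away g) g) :=
        IsLocalization.Away.algebraMap_isUnit g
      refine ⟨(b * ↑u⁻¹) • (ψ ∘ v), ?_⟩
      rw [map_smul, LinearMap.comp_apply]
      change (b * ↑u⁻¹) • Ideal.Quotient.mkₐ (Localization.Away g) I' (theta σ (Localization.Away g) (ψ ∘ v)) =
        Ideal.Quotient.mkₐ (Localization.Away g) I' (b ⊗ₜ[k] x)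
      rw [← h2, smul_smul, mul_assoc, ← hu, Units.inv_mul, mul_one, ← map_smul, TensorProduct.smul_tmul',
        smul_eq_mul, mul_one]
  have hU : i'.left.opensRange ≤ V σ T Z := le_sSup ⟨_, _, _, i', hi', I', hgood, hI', rfl⟩
  refine hU ?_
  have hfac : gT θ ≫ i' = j := by
    rw [← hl, hφ, ← hθ, ← Category.assoc]
    congr 1
    apply Over.OverMorphism.ext
    show Spec.map _ ≫ Spec.map _ = Spec.map _
    rw [← Spec.map_comp]
    rfl
  exact ⟨(gT θ).left y, congr($(hfac).left y)⟩

theorem mem_range_iff {T T' : Over (Spec (CommRingCat.of k))} (Z : HilbD.Obj (str k R) d T) (t : T' ⟶ T) :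
    (∃ u : T' ⟶ W k σ, HilbD.pull (str k R) u (Zu k σ).1 = HilbD.pull (str k R) t Z.1) ↔
      Set.range t.left ⊆ (V σ T Z : Set T.left) := by
  constructor
  · rintro ⟨u, hu⟩ _ ⟨p, rfl⟩
    obtain ⟨L, _, _, j, hj⟩ := exists_point T' p
    obtain ⟨J, hJ, e⟩ := good_of_pull (j ≫ u)
    let y : (TB k L).left := (⟨⊥, Ideal.isPrime_bot⟩ : PrimeSpectrum L)
    have := mem_V_of_point Z (j ≫ t) hJ (by rw [← e, ← pull_comp, ← pull_comp, hu]) y
    rwa [Over.comp_left, Scheme.Hom.comp_apply, hj y] at this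
  · intro hsub
    have hex : ∀ p : T'.left, ∃ (B' : Type u) (_ : CommRing B') (_ : Algebra k B') (j : TB k B' ⟶ T')
        (u : TB k B' ⟶ W k σ), IsOpenImmersion j.left ∧ p ∈ Set.range j.left ∧
          HilbD.pull (str k R) u (Zu k σ).1 = HilbD.pull (str k R) (j ≫ t) Z.1 := by
      intro p
      obtain ⟨U, ⟨B, _, _, i, hi, J, hJ, eJ, rfl⟩, hpU⟩ :=
        TopologicalSpace.Opens.mem_sSup.1 (hsub ⟨p, rfl⟩)
      haveI := hi
      obtain ⟨B', _, _, j, hj, hp, hjr⟩ := exists_nbhd T' (t.left ⁻¹ᵁ i.left.opensRange) p hpU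
      have hr : Set.range (j.left ≫ t.left) ⊆ Set.range i.left := by
        rintro _ ⟨z, rfl⟩
        exact hjr ⟨z, rfl⟩
      let l : TB k B' ⟶ TB k B := Over.homMk (IsOpenImmersion.lift i.left (j.left ≫ t.left) hr) (by
        rw [← Over.w i, IsOpenImmersion.lift_fac_assoc, Category.assoc, Over.w t, Over.w j])
      have hl : l ≫ i = j ≫ t := Over.OverMorphism.ext (IsOpenImmersion.lift_fac _ _ _)
      obtain ⟨φ, hφ⟩ := exists_gT l
      obtain ⟨u, hu, -⟩ := existsUnique_lift (hJ.map σ φ)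
      exact ⟨B', _, _, j, u, hj, hp, by rw [hu, ← hl, ← pull_comp, eJ, hφ]; exact (pull_sh φ J).symm⟩
    choose B' hB hA j u hj hp hu using hex
    let 𝒰 : T'.left.OpenCover := Scheme.Cover.mkOfCovers (P := @IsOpenImmersion) T'.left
      (fun p => (TB k (B' p)).left) (fun p => (j p).left) (fun p => ⟨p, hp p⟩) hj
    have hcomp : ∀ p q, pullback.fst (𝒰.f p) (𝒰.f q) ≫ (u p).left =
        pullback.snd (𝒰.f p) (𝒰.f q) ≫ (u q).left := by
      intro p q
      let P : Over (Spec (CommRingCat.of k)) :=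
        Over.mk (pullback.fst (j p).left (j q).left ≫ (TB k (B' p)).hom)
      let p₁ : P ⟶ TB k (B' p) := Over.homMk (pullback.fst _ _) rfl
      let p₂ : P ⟶ TB k (B' q) := Over.homMk (pullback.snd _ _) (by
        show pullback.snd (j p).left (j q).left ≫ _ = pullback.fst (j p).left (j q).left ≫ _
        rw [← Over.w (j q), ← Over.w (j p), pullback.condition_assoc])
      have he : p₁ ≫ j p = p₂ ≫ j q := Over.OverMorphism.ext pullback.condition
      have := hom_ext_W (p₁ ≫ u p) (p₂ ≫ u q) (by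
        rw [← pull_comp, ← pull_comp, hu, hu, pull_comp, pull_comp, ← Category.assoc, he, Category.assoc])
      exact congr($(this).left)
    let w : T'.left ⟶ (W k σ).left := 𝒰.glueMorphisms (fun p => (u p).left) hcomp
    have hw : ∀ p, (j p).left ≫ w = (u p).left := fun p => 𝒰.ι_glueMorphisms _ hcomp p
    let wo : T' ⟶ W k σ := Over.homMk w (by
      refine 𝒰.hom_ext _ _ fun p => ?_
      show (j p).left ≫ w ≫ _ = (j p).left ≫ _
      rw [← Category.assoc, hw, Over.w (u p), Over.w (j p)])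
    refine ⟨wo, ext_of_cover (str k R) j (fun p => ⟨p, hp p⟩) fun p => ?_⟩
    haveI := hj p
    rw [pull_comp, pull_comp, show j p ≫ wo = u p from Over.OverMorphism.ext (hw p), hu]

theorem exists_mem_V {T : Over (Spec (CommRingCat.of k))} (Z : HilbD.Obj (str k R) d T) (p : T.left) :
    ∃ σ : Fin d → R, p ∈ V σ T Z := by
  obtain ⟨L, _, _, j, hj⟩ := exists_point T p
  obtain ⟨J, hJ⟩ := exists_sh (k := k) (R := R) (B := L) (HilbD.pull (str k R) j Z.1)
  obtain ⟨h1, h2, h3⟩ := moduleData (J := J) (d := d) (hJ ▸ (objPull j Z).2)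
  haveI := h1; haveI := h2
  let y : PrimeSpectrum L := ⟨⊥, Ideal.isPrime_bot⟩
  have hd : Module.finrank L ((L ⊗[k] R) ⧸ J) = d := by
    have := h3 y
    rwa [Module.rankAtStalk_eq_finrank_of_free] at this
  have hspan : Submodule.span L (Set.range fun x : R => Ideal.Quotient.mk J ((1 : L) ⊗ₜ[k] x)) = ⊤ := by
    rw [eq_top_iff]
    rintro w -
    obtain ⟨w, rfl⟩ := Ideal.Quotient.mk_surjective w
    induction w with
    | zero => simp
    | add a b ha hb => rw [map_add]; exact add_mem ha hb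
    | tmul c x =>
      rw [show c ⊗ₜ[k] x = c • ((1 : L) ⊗ₜ[k] x) by rw [TensorProduct.smul_tmul', smul_eq_mul, mul_one],
        ← Ideal.Quotient.mkₐ_eq_mk L, map_smul]
      exact Submodule.smul_mem _ _ (Submodule.subset_span ⟨x, rfl⟩)
  obtain ⟨g, hg, hgspan, -⟩ := Submodule.exists_fun_fin_finrank_span_eq L
    (Set.range fun x : R => Ideal.Quotient.mk J ((1 : L) ⊗ₜ[k] x))
  have e : Module.finrank L
      (Submodule.span L (Set.range fun x : R => Ideal.Quotient.mk J ((1 : L) ⊗ₜ[k] x))) = d := by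
    rw [hspan, finrank_top, hd]
  choose σ' hσ' using hg
  let σ : Fin d → R := fun i => σ' (Fin.cast e.symm i)
  refine ⟨σ, ?_⟩
  have := mem_V_of_point (σ := σ) Z j (J := J) (good_of_surjective σ J h3 ?_) hJ y
  · rwa [hj] at this
  rw [← LinearMap.range_eq_top, eq_top_iff, ← hspan, ← hgspan, Submodule.span_le]
  rintro _ ⟨i, rfl⟩
  refine ⟨Pi.single (Fin.cast e i) 1, ?_⟩
  simp [theta, Fintype.linearCombination_apply, Pi.single_apply, basisVec, σ, hσ']

theorem representable_str : HilbD.Representable (str k R) d := by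
  let u : ∀ σ : Fin d → R, yoneda.obj (W k σ) ⟶ presheaf (str k R) d := fun σ => yonedaEquiv.symm (Zu k σ)
  have hu : ∀ σ (T : Over (Spec (CommRingCat.of k))) (h : T ⟶ W k σ),
      (u σ).app (op T) h = objPull h (Zu k σ) := fun σ T h => rfl
  obtain ⟨H, ⟨r⟩⟩ := Mag88.OverRep.exists_representableBy (presheaf (str k R) d)
    (isSheaf_presheaf (str k R) d) (fun σ : Fin d → R => W k σ) u
    (fun σ T a b e => hom_ext_W a b (congrArg Subtype.val e))
    (fun T Z σ => V σ T Z) (fun T T' Z t σ => by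
      rw [← mem_range_iff Z t]
      constructor
      · rintro ⟨h, hh⟩
        exact ⟨h, congrArg Subtype.val hh⟩
      · rintro ⟨h, hh⟩
        exact ⟨h, Subtype.ext hh⟩) (fun T Z p => exists_mem_V Z p)
  refine ⟨H, r.homEquiv (𝟙 H), fun T Z => ⟨r.homEquiv.symm Z, ?_, fun g hg => ?_⟩⟩
  · exact congrArg Subtype.val ((r.homEquiv_eq _).symm.trans (r.homEquiv.apply_symm_apply Z))
  · refine r.homEquiv.injective ?_
    rw [r.homEquiv.apply_symm_apply, r.homEquiv_eq]
    exact Subtype.ext hg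

end Groth.Agent.Grass5.AffHilb
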