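import Groth.Agent.Grass5.GrFun
import Groth.Agent.Props58.LocFree.Criteria

/-!
The open set on which given sections of a locally free module form a basis.
-/

set_option autoImplicit false
set_option backward.isDefEq.respectTransparency false
set_option backward.isDefEq.respectTransparency.types false
set_option maxHeartbeats 400000

noncomputable section

universe u

open CategoryTheory CategoryTheory.Limits AlgebraicGeometry TopologicalSpace Opposite
open Groth.Agent.QC70 Groth.Agent.Props58.LocFree

namespace Groth.Agent.Grass5.BasisLocus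

variable {T : Scheme.{u}} {L L' : T.Modules} {W : T.Opens} {e : ℕ}

/-- The points at which the sections form a basis. -/
def basisSet (t : Fin e → Γ(L, W)) : Set T := {p | ∃ hp : p ∈ W, Function.Bijective (germComb t p hp)}

theorem stalkBasis_iff (t : Fin e → Γ(L, W)) : StalkBasis t ↔ (W : Set T) ⊆ basisSet t :=
  ⟨fun h p hp => ⟨hp, h p hp⟩, fun h p hp => (h hp).2⟩

theorem exists_matrix (hL : FlatMod.IsFinLocFreeOfRank e L) (t : Fin e → Γ(L, W)) {p : T} (hp : p ∈ W) :
    ∃ (V : T.Opens) (hV : V ≤ W) (s : Fin e → Γ(L, V)) (A : Matrix (Fin e) (Fin e) Γ(T, V)),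
      p ∈ V ∧ StalkBasis s ∧ ∀ k, ∑ i, A i k • s i = res L hV (t k) := by
  obtain ⟨U, hpU, ⟨i⟩⟩ := hL p
  obtain ⟨s, hs⟩ := exists_stalkBasis_of_iso i
  choose a ha using fun k => hs.exists_comb (inf_le_left : U ⊓ W ≤ U) (res L inf_le_right (t k))
  exact ⟨U ⊓ W, inf_le_right, _, fun i k => a k i, ⟨hpU, hp⟩, hs.restrict inf_le_left, ha⟩

theorem mem_basisSet_iff {V : T.Opens} (hV : V ≤ W) {s : Fin e → Γ(L, V)} (hs : StalkBasis s)
    {t : Fin e → Γ(L, W)} {A : Matrix (Fin e) (Fin e) Γ(T, V)} (hA : ∀ k, ∑ i, A i k • s i = res L hV (t k))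
    {p : T} (hp : p ∈ V) : p ∈ basisSet t ↔ p ∈ T.basicOpen A.det := by
  let Ap := (T.presheaf.germ V p hp).hom.mapMatrix A
  have key : germComb t p (hV hp) = germComb s p hp ∘ Ap.mulVec := by
    funext c
    have ht : ∀ k, germM L W p (hV hp) (t k) = ∑ i, Ap i k • germM L V p hp (s i) := fun k => by
      rw [← germM_res hV hp (t k), ← hA k, germM_sum]
      exact Finset.sum_congr rfl fun i _ => germM_smul hp _ _
    simp only [germComb, Function.comp_apply, Matrix.mulVec, dotProduct, ht, Finset.smul_sum,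
      Finset.sum_smul, smul_smul]
    rw [Finset.sum_comm]
    exact Finset.sum_congr rfl fun i _ => Finset.sum_congr rfl fun k _ => by rw [mul_comm]
  have hdet : (T.presheaf.germ V p hp).hom A.det = Ap.det := RingHom.map_det _ A
  rw [Scheme.mem_basicOpen T A.det p hp]
  constructor
  · rintro ⟨hp', hb⟩
    change Function.Bijective (germComb t p (hV hp)) at hb
    rw [key, Function.Bijective.of_comp_iff' (hs p hp)] at hb
    show IsUnit ((T.presheaf.germ V p hp).hom A.det)
    rw [hdet, ← Matrix.isUnit_iff_isUnit_det]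
    exact Matrix.mulVec_surjective_iff_isUnit.mp hb.2
  · intro hu
    refine ⟨hV hp, ?_⟩
    rw [key]
    refine (hs p hp).comp ?_
    have hu' : IsUnit Ap := by
      rw [Matrix.isUnit_iff_isUnit_det, ← hdet]
      exact hu
    obtain ⟨u, hu''⟩ := hu'
    refine Function.bijective_iff_has_inverse.mpr ⟨(↑u⁻¹ : Matrix (Fin e) (Fin e) _).mulVec, fun c => ?_, fun c => ?_⟩
    · rw [Matrix.mulVec_mulVec, ← hu'', Units.inv_mul, Matrix.one_mulVec]
    · rw [Matrix.mulVec_mulVec, ← hu'', Units.mul_inv, Matrix.one_mulVec]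

theorem isOpen_basisSet (hL : FlatMod.IsFinLocFreeOfRank e L) (t : Fin e → Γ(L, W)) :
    IsOpen (basisSet t) := by
  rw [isOpen_iff_forall_mem_open]
  intro p hp
  obtain ⟨V, hV, s, A, hpV, hs, hA⟩ := exists_matrix hL t hp.1
  exact ⟨T.basicOpen A.det, fun q hq => (mem_basisSet_iff hV hs hA (T.basicOpen_le _ hq)).mpr hq,
    (T.basicOpen A.det).2, (mem_basisSet_iff hV hs hA hpV).mp hp⟩

theorem basisSet_pullS (hL : FlatMod.IsFinLocFreeOfRank e L) (t : Fin e → Γ(L, W)) {T' : Scheme.{u}}
    (h : T' ⟶ T) : basisSet (fun k => Amp73.pullS h L W (t k)) = h ⁻¹' basisSet t := by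
  ext y
  by_cases hy : h y ∈ W
  swap
  · exact iff_of_false (fun hh => hy hh.1) (fun hh => hy hh.1)
  obtain ⟨V, hV, s, A, hyV, hs, hA⟩ := exists_matrix hL t hy
  rw [Set.mem_preimage, mem_basisSet_iff hV hs hA hyV]
  rw [mem_basisSet_iff (h.preimage_mono hV) (Pinch99.stalkBasis_pullS h hs)
    (A := (h.app V).hom.mapMatrix A) (fun k => ?_) (show y ∈ h ⁻¹ᵁ V from hyV),
    ← RingHom.map_det, ← Scheme.preimage_basicOpen]
  · rfl
  · rw [Pinch99.pullS_res h L hV, ← hA k, Pinch99.pullS_sum]
    exact Finset.sum_congr rfl fun i _ => (Amp73.pullS_smul h L V (A i k) (s i)).symm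

theorem germComb_map (φ : L ⟶ L') (t : Fin e → Γ(L, W)) (p : T) (hp : p ∈ W) :
    germComb (fun k => φ.app W (t k)) p hp = stalkMapM φ p ∘ germComb t p hp := by
  funext c
  simp only [germComb, Function.comp_apply]
  refine Eq.symm ((map_sum (stalkLinear φ p) _ _).trans (Finset.sum_congr rfl fun i _ => ?_))
  refine (map_smul (stalkLinear φ p) _ _).trans ?_
  exact congrArg (c i • ·) (stalkMapM_germ φ hp (t i))

theorem bijective_stalkMapM (φ : L ≅ L') (p : T) : Function.Bijective (stalkMapM φ.hom p) :=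
  ⟨injective_stalkMapM_of_mono _ p, surjective_stalkMapM_of_epi _ p⟩

theorem basisSet_iso (φ : L ≅ L') (t : Fin e → Γ(L, W)) :
    basisSet (fun k => φ.hom.app W (t k)) = basisSet t := by
  ext p
  refine exists_congr fun hp => ?_
  rw [germComb_map, Function.Bijective.of_comp_iff' (bijective_stalkMapM φ p)]

theorem basisSet_res {V : T.Opens} (h : V ≤ W) (t : Fin e → Γ(L, W)) :
    basisSet (fun k => res L h (t k)) = (V : Set T) ∩ basisSet t := by
  ext p
  constructor
  · rintro ⟨hp, hb⟩
    refine ⟨hp, h hp, ?_⟩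
    have : germComb (fun k => res L h (t k)) p hp = germComb t p (h hp) := funext (germComb_res t h p hp)
    rwa [← this]
  · rintro ⟨hp, hp', hb⟩
    refine ⟨hp, ?_⟩
    rw [show germComb (fun k => res L h (t k)) p hp = germComb t p (h hp) from funext (germComb_res t h p hp)]
    exact hb

theorem hom_app_eq_of_basis {t : Fin e → Γ(L, ⊤)} (ht : StalkBasis t) (φ ψ : L ⟶ L')
    (h : ∀ k, φ.app ⊤ (t k) = ψ.app ⊤ (t k)) : φ = ψ := by
  refine Scheme.Modules.hom_ext _ _ fun V => ?_
  ext z
  obtain ⟨a, rfl⟩ := ht.exists_comb (le_top : V ≤ ⊤) z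
  simp only [map_sum, Scheme.Modules.Hom.app_smul, QC70.app_res, h]

/-- The map between modules with bases sending a basis to given sections. -/
def ofBasis {t : Fin e → Γ(L, ⊤)} (ht : StalkBasis t) (u : Fin e → Γ(L', ⊤)) : L ⟶ L' :=
  (HomOn.toHom (M := L) (N := L')
    { app := fun V _ =>
        (Fintype.linearCombination Γ(T, V) fun k => res L' (le_top : V ≤ ⊤) (u k)).comp
          (LinearEquiv.ofBijective (Fintype.linearCombination Γ(T, V) fun k => res L (le_top : V ≤ ⊤) (t k))
            (by
              have : ⇑(Fintype.linearCombination Γ(T, V) fun k => res L (le_top : V ≤ ⊤) (t k)) =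
                  fun a : Fin e → Γ(T, V) => ∑ i, a i • res L le_top (t i) := funext fun a => by
                rw [Fintype.linearCombination_apply]
              rw [this]
              exact ht.bijective le_top)).symm.toLinearMap
      app_res := fun {V V'} _ hle z => by
        obtain ⟨a, rfl⟩ := ht.exists_comb (le_top : V ≤ ⊤) z
        have e1 : ∀ (V : T.Opens) (b : Fin e → Γ(T, V)),
            (LinearEquiv.ofBijective (Fintype.linearCombination Γ(T, V) fun k => res L (le_top : V ≤ ⊤) (t k))
              (by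
                have : ⇑(Fintype.linearCombination Γ(T, V) fun k => res L (le_top : V ≤ ⊤) (t k)) =
                    fun a : Fin e → Γ(T, V) => ∑ i, a i • res L le_top (t i) := funext fun a => by
                  rw [Fintype.linearCombination_apply]
                rw [this]
                exact ht.bijective le_top)).symm (∑ i, b i • res L le_top (t i)) = b := fun V b => by
          rw [LinearEquiv.symm_apply_eq, LinearEquiv.ofBijective_apply, Fintype.linearCombination_apply]
        simp only [LinearMap.comp_apply, LinearEquiv.coe_coe, res_sum, res_smul, res_res, e1,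
          Fintype.linearCombination_apply] })

theorem ofBasis_app {t : Fin e → Γ(L, ⊤)} (ht : StalkBasis t) (u : Fin e → Γ(L', ⊤)) (k : Fin e) :
    (ofBasis ht u).app ⊤ (t k) = u k := by
  classical
  rw [ofBasis, HomOn.toHom_app]
  simp only [LinearMap.comp_apply, LinearEquiv.coe_coe]
  rw [show (LinearEquiv.ofBijective _ _).symm (t k) = (Pi.single k 1 : Fin e → Γ(T, ⊤)) by
    rw [LinearEquiv.symm_apply_eq, LinearEquiv.ofBijective_apply, Fintype.linearCombination_apply_single,
      one_smul, res_self]]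
  rw [Fintype.linearCombination_apply_single, one_smul, res_self]

/-- Two bases give an isomorphism. -/
def isoOfBasis {t : Fin e → Γ(L, ⊤)} (ht : StalkBasis t) {u : Fin e → Γ(L', ⊤)} (hu : StalkBasis u) : L ≅ L' where
  hom := ofBasis ht u
  inv := ofBasis hu t
  hom_inv_id := hom_app_eq_of_basis ht _ _ fun k => by
    show (ofBasis hu t).app ⊤ ((ofBasis ht u).app ⊤ (t k)) = t k
    rw [ofBasis_app, ofBasis_app]
  inv_hom_id := hom_app_eq_of_basis hu _ _ fun k => by
    show (ofBasis ht u).app ⊤ ((ofBasis hu t).app ⊤ (u k)) = u k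
    rw [ofBasis_app, ofBasis_app]

theorem stalkBasis_unitVec (n : ℕ) : StalkBasis (unitVec T n) := fun y hy => by
  constructor
  · intro c d hcd
    obtain ⟨V, hV, hyV, a, ha⟩ := exists_common_lift hy (c - d)
    have h0 : germComb (unitVec T n) y hy (c - d) = 0 := by
      simp only [germComb, Pi.sub_apply, sub_smul, Finset.sum_sub_distrib]
      exact sub_eq_zero.mpr hcd
    obtain ⟨V', hV', hyV', e'⟩ := exists_comb_eq hV a 0 hyV (by
      rw [funext ha, h0]; exact (germM_zero hyV).symm)
    rw [res_zero] at e'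
    have h1 : (fun i => resO T hV' (a i)) = (0 : Fin n → Γ(T, V')) :=
      free_eq_of_comb (e'.trans (by simp))
    funext i
    have h2 := congrArg (fun r => T.presheaf.germ V' y hyV' r) (congrFun h1 i)
    simp only [Pi.zero_apply, map_zero, germ_resO, ha, Pi.sub_apply, sub_eq_zero] at h2
    exact h2
  · intro z
    obtain ⟨V, hyV, x, rfl⟩ := germM_exist z
    obtain ⟨a, ha⟩ := free_exists_comb x
    refine ⟨fun i => T.presheaf.germ V y hyV (a i), ?_⟩
    rw [← germ_comb (unitVec T n) (le_top : V ≤ ⊤) a y hyV, ha]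

end Groth.Agent.Grass5.BasisLocus
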