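import Groth.Agent.Approx60.ProjCharts
import Mathlib

/-!
Affine points of projective space over an affine base given by vectors with a unit coordinate.
-/

set_option autoImplicit false
set_option maxHeartbeats 400000
set_option backward.isDefEq.respectTransparency false

universe u

open CategoryTheory CategoryTheory.Limits AlgebraicGeometry HomogeneousLocalization

noncomputable section

namespace Groth.Agent.Grass5.ProjPt

open Groth.Agent.Approx60.ProjCharts

variable {N : ℕ} {A B : Type u} [CommRing A] [CommRing B]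

/-- the base ring of projective space. -/
abbrev ZZ' : Type u := ULift.{u} ℤ

local notation "Z'" => ZZ'

local notation "𝒜" => CohB1.polyGrading N ZZ' 
local notation "Poly" => MvPolynomial (Fin (N + 1)) ZZ' 

variable (A) in
/-- the constants. -/
def κ : Z' →+* A := (Int.castRingHom A).comp ULift.ringEquiv.toRingHom

lemma zhom_ext (f g : Z' →+* A) : f = g := by
  have := RingHom.ext_int (f.comp ULift.ringEquiv.symm.toRingHom) (g.comp ULift.ringEquiv.symm.toRingHom)
  refine RingHom.ext fun x ↦ ?_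
  obtain ⟨x⟩ := x
  exact congr($this x)

/-- evaluation. -/
abbrev ev (a : Fin (N + 1) → A) : Poly →+* A := MvPolynomial.eval₂Hom (κ A) a

lemma ev_map (φ : A →+* B) (a : Fin (N + 1) → A) : φ.comp (ev a) = ev (φ ∘ a) :=
  MvPolynomial.ringHom_ext
    (fun r ↦ by
      simp only [RingHom.comp_apply, MvPolynomial.eval₂Hom_C]
      exact congr($(zhom_ext (φ.comp (κ A)) (κ B)) r))
    (fun i ↦ by simp)

/-- a point, on the open where `t` is invertible. -/
def plT (a : Fin (N + 1) → A) (t : Poly) {d : ℕ} (ht : t ∈ 𝒜 d) (hd : 0 < d)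
    (hu : IsUnit (ev a t)) : Spec (CommRingCat.of A) ⟶ CohB1.ProjSpace N Z' :=
  Spec.map (CommRingCat.ofHom (awayEval (ev a) t hu)) ≫ Proj.awayι 𝒜 t ht hd

/-- a point with unit coordinate `j`. -/
def pl (a : Fin (N + 1) → A) (j : Fin (N + 1)) (hu : IsUnit (a j)) :
    Spec (CommRingCat.of A) ⟶ CohB1.ProjSpace N Z' :=
  plT a (MvPolynomial.X j) (X₁ Z' N j).2 one_pos (isUnit_eval_X (κ A) a j hu)

lemma pl_congr {a b : Fin (N + 1) → A} (h : a = b) (j : Fin (N + 1)) (hu : IsUnit (a j)) :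
    pl a j hu = pl b j (h ▸ hu) := by subst h; rfl

lemma map_awayEval (φ : A →+* B) (a : Fin (N + 1) → A) (t : Poly) (hu : IsUnit (ev a t))
    (hu' : IsUnit (ev (φ ∘ a) t)) :
    φ.comp (awayEval (ev a) t hu) = awayEval (ev (φ ∘ a)) t hu' := by
  refine RingHom.ext fun z ↦ ?_
  obtain ⟨c, rfl⟩ := HomogeneousLocalization.mk_surjective z
  refine (isUnit_den _ t hu' c).mul_right_cancel ?_
  rw [awayEval_spec, RingHom.comp_apply, ← ev_map φ a, RingHom.comp_apply, RingHom.comp_apply,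
    ← map_mul, awayEval_spec]

lemma pl_map (φ : A →+* B) (a : Fin (N + 1) → A) (j : Fin (N + 1)) (hu : IsUnit (a j)) :
    Spec.map (CommRingCat.ofHom φ) ≫ pl a j hu = pl (φ ∘ a) j (hu.map φ) := by
  rw [pl, pl, plT, plT, ← Category.assoc, ← Spec.map_comp, ← CommRingCat.ofHom_comp,
    map_awayEval φ a _ _ (isUnit_eval_X (κ B) _ j (hu.map φ))]

lemma plT_mul (a : Fin (N + 1) → A) (t s : Poly) {d : ℕ} (ht : t ∈ 𝒜 1) (hs : s ∈ 𝒜 d) {x : Poly}
    (hx : x = t * s) (hxd : x ∈ 𝒜 (1 + d)) (hu : IsUnit (ev a t)) (hux : IsUnit (ev a x)) :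
    plT a x hxd (by omega) hux = plT a t ht one_pos hu := by
  rw [plT, plT, ← Proj.SpecMap_awayMap_awayι 𝒜 ht one_pos hs hx, ← Spec.map_comp_assoc,
    ← CommRingCat.ofHom_comp, awayEval_awayMap _ t s hs hx hu hux]

lemma pl_eq (a : Fin (N + 1) → A) (i j : Fin (N + 1)) (hi : IsUnit (a i)) (hj : IsUnit (a j)) :
    pl a i hi = pl a j hj := by
  have hu : IsUnit (ev a ((MvPolynomial.X i * MvPolynomial.X j : Poly))) := by
    simp only [map_mul, MvPolynomial.eval₂Hom_X']; exact hi.mul hj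
  have hxd := SetLike.mul_mem_graded (X₁ Z' N i).2 (X₁ Z' N j).2
  have e1 := plT_mul a (MvPolynomial.X i : Poly) (MvPolynomial.X j) (X₁ Z' N i).2 (X₁ Z' N j).2
    rfl hxd (isUnit_eval_X (κ A) a i hi) hu
  have e2 := plT_mul a (MvPolynomial.X j : Poly) (MvPolynomial.X i) (X₁ Z' N j).2 (X₁ Z' N i).2
    (mul_comm _ _) hxd (isUnit_eval_X (κ A) a j hj) hu
  exact e1.symm.trans e2

lemma pl_smul (a : Fin (N + 1) → A) (r : A) (hr : IsUnit r) (j : Fin (N + 1)) (hu : IsUnit (a j)) :
    pl (fun i ↦ r * a i) j (hr.mul hu) = pl a j hu := by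
  rw [pl, pl, plT, plT, awayEval_smul (κ A) r hr a _ _ (isUnit_eval_X (κ A) a j hu)]

lemma pl_mem_U (a : Fin (N + 1) → A) (j : Fin (N + 1)) (hu : IsUnit (a j))
    (p : Spec (CommRingCat.of A)) : pl a j hu p ∈ U Z' N j :=
  (Proj.opensRange_awayι 𝒜 (MvPolynomial.X j) (X₁ Z' N j).2 one_pos).le ⟨_, rfl⟩

lemma awayEval_isLocalizationElem (a : Fin (N + 1) → A) (j l : Fin (N + 1)) (hu : IsUnit (a j)) :
    awayEval (ev a) _ (isUnit_eval_X (κ A) a j hu)
      (Away.isLocalizationElem (X₁ Z' N j).2 (X₁ Z' N l).2) * a j = a l := by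
  have e : (Away.isLocalizationElem (X₁ Z' N j).2 (X₁ Z' N l).2 :
      Away 𝒜 (MvPolynomial.X j : Poly)) = frac Z' N j (X₁ Z' N l) := by
    apply HomogeneousLocalization.val_injective
    simp [Away.isLocalizationElem, frac, Away.val_mk, HomogeneousLocalization.val_mk, X₁]
  rw [e]
  have := awayEval_spec (ev a) _ (isUnit_eval_X (κ A) a j hu)
    ⟨1, X₁ Z' N l, X₁ Z' N j, ⟨1, pow_one _⟩⟩
  simp only [X₁, MvPolynomial.eval₂Hom_X'] at this
  exact this

lemma isUnit_of_range (a : Fin (N + 1) → A) (j l : Fin (N + 1)) (hu : IsUnit (a j))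
    (h : ∀ p, pl a j hu p ∈ U Z' N l) : IsUnit (a l) := by
  rw [← awayEval_isLocalizationElem a j l hu]
  refine IsUnit.mul ?_ hu
  have key : ∀ z : A, (∀ p : PrimeSpectrum A, p ∈ PrimeSpectrum.basicOpen z) → IsUnit z := by
    intro z hz
    by_contra hn
    obtain ⟨m, hm, hzm⟩ := exists_max_ideal_of_mem_nonunits (show z ∈ nonunits A from hn)
    exact hz ⟨m, hm.isPrime⟩ hzm
  refine key _ fun p ↦ ?_
  have h1 : Spec.map (CommRingCat.ofHom (awayEval (ev a) _ (isUnit_eval_X (κ A) a j hu))) p ∈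
      Proj.awayι 𝒜 (MvPolynomial.X j) (X₁ Z' N j).2 one_pos ⁻¹ᵁ
        Proj.basicOpen 𝒜 (MvPolynomial.X l) := h p
  rw [Proj.awayι_preimage_basicOpen 𝒜 (f := (MvPolynomial.X j : Poly)) (X₁ Z' N j).2 (zero_lt_one' ℕ)
    (g := (MvPolynomial.X l : Poly)) (X₁ Z' N l).2 (hm' := one_pos)] at h1
  exact h1

lemma pl_injective (a b : Fin (N + 1) → A) (j : Fin (N + 1)) (ha : a j = 1) (hb : b j = 1)
    (h : pl a j (ha ▸ isUnit_one) = pl b j (hb ▸ isUnit_one)) : a = b := by
  haveI : Mono (Proj.awayι 𝒜 (MvPolynomial.X j) (X₁ Z' N j).2 one_pos) := inferInstance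
  rw [pl, pl, plT, plT, cancel_mono] at h
  have h' := congr(CommRingCat.Hom.hom $(Spec.map_injective h))
  funext i
  have := congr($h' (frac Z' N j (X₁ Z' N i)))
  simp only [CommRingCat.hom_ofHom] at this
  rwa [awayEval_frac _ a j ha, awayEval_frac _ b j hb] at this

section Over

variable (R : Type u) [CommRing R] (N)

/-- projective space over `R`. -/
abbrev PR : Scheme.{u} := CohB1.ProjSpaceOver N (Spec (CommRingCat.of R))

/-- the projection to projective space over the integers. -/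
abbrev toZ : PR N R ⟶ CohB1.ProjSpace N Z' := pullback.fst _ _

/-- standard opens over `R`. -/
def V (j : Fin (N + 1)) : (PR N R).Opens := toZ N R ⁻¹ᵁ U Z' N j

instance : IsAffineHom (specULiftZIsTerminal.from (Spec (CommRingCat.of R))) :=
  isAffineHom_of_isAffine _

lemma isAffineOpen_V (j : Fin (N + 1)) : IsAffineOpen (V N R j) :=
  haveI : IsAffineHom (toZ N R) := MorphismProperty.pullback_fst _ _ inferInstance
  (isAffineOpen_U Z' N j).preimage (toZ N R)

lemma exists_mem_V (x : PR N R) : ∃ j, x ∈ V N R j := exists_mem_U Z' N (toZ N R x)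

variable {N R} [Algebra R A]

/-- point of projective space over `R`. -/
def plR (a : Fin (N + 1) → A) (j : Fin (N + 1)) (hu : IsUnit (a j)) :
    Spec (CommRingCat.of A) ⟶ PR N R :=
  pullback.lift (pl a j hu) (Spec.map (CommRingCat.ofHom (algebraMap R A)))
    (specULiftZIsTerminal.hom_ext _ _)

@[simp] lemma plR_toZ (a : Fin (N + 1) → A) (j : Fin (N + 1)) (hu : IsUnit (a j)) :
    plR (R := R) a j hu ≫ toZ N R = pl a j hu := pullback.lift_fst _ _ _

@[simp] lemma plR_toBase (a : Fin (N + 1) → A) (j : Fin (N + 1)) (hu : IsUnit (a j)) :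
    plR (R := R) a j hu ≫ CohB1.ProjSpaceOver.toBase N (Spec (CommRingCat.of R)) =
      Spec.map (CommRingCat.ofHom (algebraMap R A)) := pullback.lift_snd _ _ _

lemma plR_ext (g : Spec (CommRingCat.of A) ⟶ PR N R) (a : Fin (N + 1) → A) (j : Fin (N + 1))
    (hu : IsUnit (a j)) (h1 : g ≫ toZ N R = pl a j hu)
    (h2 : g ≫ CohB1.ProjSpaceOver.toBase N (Spec (CommRingCat.of R)) =
      Spec.map (CommRingCat.ofHom (algebraMap R A))) : g = plR a j hu :=
  pullback.hom_ext (h1.trans (plR_toZ a j hu).symm) (h2.trans (plR_toBase a j hu).symm)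

lemma plR_map [Algebra R B] (φ : A →ₐ[R] B) (a : Fin (N + 1) → A) (j : Fin (N + 1))
    (hu : IsUnit (a j)) :
    Spec.map (CommRingCat.ofHom φ.toRingHom) ≫ plR (R := R) a j hu =
      plR (φ ∘ a) j (hu.map φ) := by
  refine plR_ext _ _ _ _ ?_ ?_
  · rw [Category.assoc, plR_toZ]
    exact pl_map φ.toRingHom a j hu
  · rw [Category.assoc, plR_toBase, ← Spec.map_comp, ← CommRingCat.ofHom_comp]
    congr 2
    exact φ.comp_algebraMap

lemma plR_mem_V (a : Fin (N + 1) → A) (j : Fin (N + 1)) (hu : IsUnit (a j))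
    (p : Spec (CommRingCat.of A)) : plR (R := R) a j hu p ∈ V N R j := by
  show toZ N R (plR (R := R) a j hu p) ∈ U Z' N j
  rw [← Scheme.Hom.comp_apply, plR_toZ]
  exact pl_mem_U a j hu p

lemma isUnit_of_range_V (a : Fin (N + 1) → A) (j l : Fin (N + 1)) (hu : IsUnit (a j))
    (h : ∀ p, plR (R := R) a j hu p ∈ V N R l) : IsUnit (a l) :=
  isUnit_of_range a j l hu fun p ↦ by
    have : toZ N R (plR (R := R) a j hu p) ∈ U Z' N l := h p
    rwa [← Scheme.Hom.comp_apply, plR_toZ] at this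

end Over

end Groth.Agent.Grass5.ProjPt
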