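import Groth.Agent.Grass5.Glue
import Groth.Agent.Grass5.ProjPt

/-!
Plücker coordinates of frames and the standard charts of the Grassmannian.
-/

set_option autoImplicit false
set_option maxHeartbeats 400000

universe u

open CategoryTheory CategoryTheory.Limits AlgebraicGeometry
open scoped TensorProduct

noncomputable section

namespace Groth.Agent.Grass5.Free

open ProjPt

variable (n k : ℕ)

/-- `k`-element subsets. -/
abbrev Idx := {s : Finset (Fin n) // s.card = k}

/-- dimension of the Plücker space. -/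
abbrev plN := n.choose k - 1

variable {n k}

/-- increasing enumeration. -/
def sig (s : Idx n k) : Fin k → Fin n := s.1.orderEmbOfFin s.2

lemma sig_injective (s : Idx n k) : Function.Injective (sig s) := (s.1.orderEmbOfFin s.2).injective

lemma sig_mem (s : Idx n k) (a : Fin k) : sig s a ∈ s.1 := Finset.orderEmbOfFin_mem _ _ a

lemma exists_sig_eq (s : Idx n k) {j : Fin n} (hj : j ∈ s.1) : ∃ a, sig s a = j := by
  have := (Finset.range_orderEmbOfFin s.1 s.2).ge hj
  exact this

/-- numbering of subsets. -/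
def enum (hk : k ≤ n) : Fin (plN n k + 1) ≃ Idx n k :=
  (Fintype.equivFinOfCardEq (by
    rw [plN, Nat.sub_add_cancel (Nat.choose_pos hk)]
    simp [Idx, Fintype.card_finset_len])).symm

variable (hk : k ≤ n) {R : Type u} [CommRing R] {A : Type u} [CommRing A] [Algebra R A]
  {C : Type u} [CommRing C] [Algebra R C]

/-- Plücker vector. -/
def plk (W : Fin n → Fin k → A) : Fin (plN n k + 1) → A := fun i ↦ minor W (sig (enum hk i))

lemma plk_enum (W : Fin n → Fin k → A) (s : Idx n k) :
    plk hk W ((enum hk).symm s) = minor W (sig s) := by simp [plk]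

lemma plk_map (f : A →ₐ[R] C) (W : Fin n → Fin k → A) :
    plk hk (fun j a ↦ f (W j a)) = f ∘ plk hk W := funext fun _ ↦ minor_map f W _

lemma isUnit_plk {s : Idx n k} {W : Fin n → Fin k → A} (h : IsFrame (sig s) W) :
    IsUnit (plk hk W ((enum hk).symm s)) := by
  rw [plk_enum, minor_self h]; exact isUnit_one

lemma minor_perm (W : Fin n → Fin k → A) (τ : Fin k → Fin n) (π : Equiv.Perm (Fin k)) :
    minor W (τ ∘ π) = (Equiv.Perm.sign π : A) * minor W τ :=
  Matrix.det_permute π (Matrix.of fun a b ↦ W (τ a) b)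

lemma exists_sig_perm {τ : Fin k → Fin n} (hτ : Function.Injective τ) :
    ∃ (s : Idx n k) (π : Equiv.Perm (Fin k)), τ = sig s ∘ π := by
  classical
  let s : Idx n k := ⟨Finset.univ.image τ, by
    rw [Finset.card_image_of_injective _ hτ, Finset.card_univ, Fintype.card_fin]⟩
  have h : ∀ a, ∃ b, sig s b = τ a := fun a ↦ exists_sig_eq s (by simp [s])
  choose π hπ using h
  have hinj : Function.Injective π := fun a b hab ↦ hτ (by rw [← hπ a, ← hπ b, hab])
  exact ⟨s, Equiv.ofBijective π (Finite.injective_iff_bijective.1 hinj), funext fun a ↦ (hπ a).symm⟩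

lemma exists_sig_frame {τ : Fin k → Fin n} (hτ : Function.Injective τ) {W : Fin n → Fin k → A}
    (h : IsFrame τ W) :
    ∃ (s : Idx n k) (W' : Fin n → Fin k → A) (h' : IsFrame (sig s) W'),
      frameN (R := R) W' h' = frameN W h := by
  obtain ⟨s, π, rfl⟩ := exists_sig_perm hτ
  have hu : IsUnit (minor W (sig s)) := by
    refine isUnit_of_mul_isUnit_right (x := (Equiv.Perm.sign π : A)) ?_
    rw [← minor_perm, minor_self h]
    exact isUnit_one
  obtain ⟨W', h', e, -⟩ := exists_frame_of_isUnit (R := R) h hu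
  exact ⟨s, W', h', e⟩

lemma frame_entry {τ : Fin k → Fin n} {W : Fin n → Fin k → A} (h : IsFrame τ W) (j : Fin n)
    (b : Fin k) : minor W (Function.update τ b j) = W j b := by
  classical
  have e : (Matrix.of fun a c ↦ W (Function.update τ b j a) c) =
      (1 : Matrix (Fin k) (Fin k) A).updateRow b (∑ c, W j c • (1 : Matrix (Fin k) (Fin k) A) c) := by
    ext a c
    by_cases ha : a = b
    · subst ha
      simp [Finset.sum_apply, Matrix.one_apply]
    · simp [Matrix.updateRow_ne ha, Function.update_of_ne ha, h a, Matrix.one_apply,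
        Pi.single_apply, eq_comm]
  rw [minor, e, Matrix.det_updateRow_sum, Matrix.det_one, smul_eq_mul, mul_one]

lemma entry_eq_plk {s : Idx n k} (j : Fin n) (hj : j ∉ s.1) (b : Fin k) :
    ∃ (i : Fin (plN n k + 1)) (π : Equiv.Perm (Fin k)),
      ∀ (B : Type u) [CommRing B] (W : Fin n → Fin k → B), IsFrame (sig s) W →
        W j b = (Equiv.Perm.sign π : B) * plk hk W i := by
  classical
  have hinj : Function.Injective (Function.update (sig s) b j) := by
    intro a c e
    by_cases ha : a = b <;> by_cases hc : c = b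
    · rw [ha, hc]
    · rw [ha, Function.update_self, Function.update_of_ne hc] at e
      exact (hj (e ▸ sig_mem s c)).elim
    · rw [hc, Function.update_self, Function.update_of_ne ha] at e
      exact (hj (e ▸ sig_mem s a)).elim
    · rw [Function.update_of_ne ha, Function.update_of_ne hc] at e
      exact sig_injective s e
  obtain ⟨t, π, hπ⟩ := exists_sig_perm hinj
  refine ⟨(enum hk).symm t, π, fun B _ W hW ↦ ?_⟩
  rw [plk_enum, ← minor_perm, ← hπ, frame_entry hW]

lemma frame_ext {s : Idx n k} {W W' : Fin n → Fin k → A} (h : IsFrame (sig s) W)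
    (h' : IsFrame (sig s) W') (e : plk hk W = plk hk W') : W = W' := by
  funext j b
  by_cases hj : j ∈ s.1
  · obtain ⟨a, rfl⟩ := exists_sig_eq s hj
    rw [h a, h' a]
  · obtain ⟨i, π, hi⟩ := entry_eq_plk hk j hj b
    rw [hi A W h, hi A W' h', e]

/-- the point of projective space of a frame. -/
def plF (R : Type u) [CommRing R] [Algebra R A] {s : Idx n k} (W : Fin n → Fin k → A)
    (h : IsFrame (sig s) W) : Spec (CommRingCat.of A) ⟶ PR (plN n k) R :=
  plR (plk hk W) ((enum hk).symm s) (isUnit_plk hk h)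

lemma plR_congr {N : ℕ} {a b : Fin (N + 1) → A} (h : a = b) (j : Fin (N + 1)) (hu : IsUnit (a j)) :
    plR (R := R) a j hu = plR b j (h ▸ hu) := by subst h; rfl

lemma plF_map (f : A →ₐ[R] C) {s : Idx n k} (W : Fin n → Fin k → A) (h : IsFrame (sig s) W) :
    Spec.map (CommRingCat.ofHom f.toRingHom) ≫ plF hk R W h = plF hk R _ (h.map f) := by
  rw [plF, plR_map, plF]
  exact plR_congr (plk_map hk f W).symm _ _

lemma plF_toBase {s : Idx n k} (W : Fin n → Fin k → A) (h : IsFrame (sig s) W) :
    plF hk R W h ≫ CohB1.ProjSpaceOver.toBase (plN n k) (Spec (CommRingCat.of R)) =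
      Spec.map (CommRingCat.ofHom (algebraMap R A)) := plR_toBase _ _ _

lemma plR_smul {N : ℕ} (a : Fin (N + 1) → A) (r : A) (hr : IsUnit r) (j : Fin (N + 1))
    (hu : IsUnit (a j)) :
    plR (R := R) (fun i ↦ r * a i) j (hr.mul hu) = plR a j hu := by
  refine plR_ext _ _ _ _ ?_ (plR_toBase _ _ _)
  rw [plR_toZ]
  exact pl_smul a r hr j hu

lemma plR_eq {N : ℕ} (a : Fin (N + 1) → A) (i j : Fin (N + 1)) (hi : IsUnit (a i))
    (hj : IsUnit (a j)) : plR (R := R) a i hi = plR a j hj := by
  refine plR_ext _ _ _ _ ?_ (plR_toBase _ _ _)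
  rw [plR_toZ]
  exact pl_eq a i j hi hj

/-- frames of the same point give the same point of projective space. -/
lemma plF_eq_of_frameN_eq {s t : Idx n k} {W W' : Fin n → Fin k → A} (h : IsFrame (sig s) W)
    (h' : IsFrame (sig t) W') (e : frameN (R := R) W h = frameN W' h') :
    plF hk R W h = plF hk R W' h' := by
  have hu : IsUnit (minor W (sig t)) := isUnit_minor_of_eq h h' e
  obtain ⟨W'', h'', e'', hm⟩ := exists_frame_of_isUnit (R := R) h hu
  obtain rfl : W'' = W' := frame_unique (R := R) h'' h' (e''.trans e)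
  have hW : plk hk W = fun i ↦ minor W (sig t) * plk hk W'' i := funext fun i ↦ hm _
  rw [plF, plF, plR_eq _ _ ((enum hk).symm t) _ (by rw [plk_enum]; exact hu), plR_congr hW,
    plR_smul _ _ hu _ (isUnit_plk hk h')]

/-- a point of projective space determines the frame. -/
lemma frameN_eq_of_plF_eq {s t : Idx n k} {W W' : Fin n → Fin k → A} (h : IsFrame (sig s) W)
    (h' : IsFrame (sig t) W') (e : plF hk R W h = plF hk R W' h') :
    frameN (R := R) W h = frameN W' h' := by
  have hu : IsUnit (minor W (sig t)) := by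
    rw [← plk_enum hk]
    refine isUnit_of_range_V (R := R) _ _ _ (isUnit_plk hk h) fun p ↦ ?_
    rw [show plR (R := R) (plk hk W) _ (isUnit_plk hk h) = plF hk R W' h' from e]
    exact plR_mem_V _ _ _ p
  obtain ⟨W'', h'', e'', -⟩ := exists_frame_of_isUnit (R := R) h hu
  rw [← e'']
  have he : plF hk R W'' h'' = plF hk R W' h' := (plF_eq_of_frameN_eq hk h'' h e'').trans e
  have h1 := congr($he ≫ toZ (plN n k) R)
  rw [plF, plF, plR_toZ, plR_toZ] at h1
  have : plk hk W'' = plk hk W' := pl_injective _ _ _ (by rw [plk_enum, minor_self h''])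
    (by rw [plk_enum, minor_self h']) h1
  obtain rfl : W'' = W' := frame_ext hk h'' h' this
  rfl

section Chart

variable (R)

/-- coordinate ring of a chart. -/
abbrev P (s : Idx n k) : Type u := MvPolynomial ({j : Fin n // j ∉ s.1} × Fin k) R

/-- universal frame of a chart. -/
def genW (s : Idx n k) : Fin n → Fin k → P R s := fun j ↦
  if h : j ∈ s.1 then Pi.single ((s.1.orderIsoOfFin s.2).symm ⟨j, h⟩) 1
  else fun b ↦ MvPolynomial.X (⟨j, h⟩, b)

lemma genW_isFrame (s : Idx n k) : IsFrame (sig s) (genW R s) := by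
  intro a
  rw [genW, dif_pos (sig_mem s a)]
  congr 1
  rw [OrderIso.symm_apply_eq]
  rfl

lemma genW_of_notMem (s : Idx n k) {j : Fin n} (h : j ∉ s.1) (b : Fin k) :
    genW R s j b = MvPolynomial.X (⟨j, h⟩, b) := by rw [genW, dif_neg h]

variable {R}

/-- classifying map of a frame. -/
def classMap {s : Idx n k} (W : Fin n → Fin k → A) : P R s →ₐ[R] A :=
  MvPolynomial.aeval fun x ↦ W x.1.1 x.2

lemma classMap_genW {s : Idx n k} (W : Fin n → Fin k → A) (h : IsFrame (sig s) W) :
    (fun j a ↦ classMap (R := R) (s := s) W (genW R s j a)) = W := by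
  funext j b
  by_cases hj : j ∈ s.1
  · obtain ⟨a, rfl⟩ := exists_sig_eq s hj
    rw [genW_isFrame R s a, h a]
    by_cases hb : b = a
    · subst hb; simp
    · simp [hb]
  · rw [genW_of_notMem R s hj]
    simp [classMap]

variable (R)

/-- the chart. -/
def cmap (s : Idx n k) : Spec (CommRingCat.of (P R s)) ⟶ PR (plN n k) R :=
  plF hk R (genW R s) (genW_isFrame R s)

variable {R}

lemma plF_eq_cmap {s : Idx n k} (W : Fin n → Fin k → A) (h : IsFrame (sig s) W) :
    plF hk R W h =
      Spec.map (CommRingCat.ofHom (classMap (R := R) (s := s) W).toRingHom) ≫ cmap hk R s := by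
  rw [cmap, plF_map]
  refine (plR_congr ?_ _ _).symm
  exact congrArg (plk hk) (classMap_genW W h)

end Chart

end Groth.Agent.Grass5.Free
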