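import Groth.Agent.Grass5.FlagAlg

/-!
The bound on homomorphisms from an ideal of finite colength of a two dimensional regular algebra.
-/

set_option autoImplicit false
set_option linter.style.haveILetI false
set_option maxHeartbeats 400000

universe u

noncomputable section

namespace Groth.Agent.Grass5.HomBd

open Groth.Agent.Grass5

section Gens

variable {A : Type u} [CommRing A]

/-- every maximal ideal is generated by two elements modulo its square. -/
def TwoGen (A : Type u) [CommRing A] : Prop :=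
  ∀ 𝔪 : Ideal A, 𝔪.IsMaximal → ∃ x y, x ∈ 𝔪 ∧ y ∈ 𝔪 ∧ 𝔪 ≤ Ideal.span {x, y} ⊔ 𝔪 * 𝔪

/-- at a point of a finite subscheme, two elements generate up to units along the subscheme. -/
theorem exists_gens [IsNoetherianRing A] (h2 : TwoGen A) (I 𝔪 : Ideal A) [hm : 𝔪.IsMaximal]
    (hfin : {M : Ideal A | M.IsMaximal ∧ I ≤ M}.Finite) :
    ∃ x y u, x ∈ 𝔪 ∧ y ∈ 𝔪 ∧ u - 1 ∈ I ∧ ∀ a ∈ 𝔪, u * a ∈ Ideal.span {x, y} := by
  classical
  obtain ⟨x, y, hx, hy, hxy⟩ := h2 𝔪 hm
  let T := hfin.toFinset.erase 𝔪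
  let K : Ideal A := T.inf id
  have hK : ∀ M : Ideal A, M.IsMaximal → I ≤ M → M ≠ 𝔪 → K ≤ M := fun M hM hI hne =>
    Finset.inf_le (f := id) (Finset.mem_erase.2 ⟨hne, hfin.mem_toFinset.2 ⟨hM, hI⟩⟩)
  have hcop : K ⊔ 𝔪 * 𝔪 = ⊤ := by
    by_contra hne
    obtain ⟨M, hM, hle⟩ := Ideal.exists_le_maximal _ hne
    have h1 : 𝔪 ≤ M := by
      rcases hM.isPrime.mul_le.1 (le_sup_right.trans hle) with h | h <;> exact h
    obtain rfl : 𝔪 = M := hm.eq_of_le hM.ne_top h1
    obtain ⟨M', hM', hle'⟩ := (hM.isPrime.inf_le').1 (le_sup_left.trans hle : T.inf id ≤ 𝔪)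
    obtain ⟨hne', hM'2⟩ := Finset.mem_erase.1 hM'
    exact hne' ((hfin.mem_toFinset.1 hM'2).1.eq_of_le hM.ne_top hle')
  obtain ⟨e, he, w, hw, hew⟩ := Submodule.mem_sup.1 (show (1 : A) ∈ K ⊔ 𝔪 * 𝔪 by rw [hcop]; trivial)
  have hw1 : w ∈ 𝔪 := Ideal.mul_le_right hw
  let y' := e * y + w
  have hy' : y' ∈ 𝔪 := add_mem (𝔪.mul_mem_left e hy) hw1
  let L : Ideal A := Ideal.span {x, y'}
  have hyy : y - y' ∈ 𝔪 * 𝔪 := by
    have : y - y' = w * (y - 1) := by
      simp only [y']; rw [show e = 1 - w from eq_sub_of_add_eq hew]; ring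
    rw [this]
    exact Ideal.mul_mem_right _ _ hw
  have hmL : 𝔪 ≤ L ⊔ 𝔪 * 𝔪 := by
    refine hxy.trans (sup_le (Ideal.span_le.2 ?_) le_sup_right)
    intro z hz
    rcases hz with h | h
    · rw [h]; exact Ideal.mem_sup_left (Ideal.subset_span (by simp))
    · rw [show z = y from h]
      have h1 : y' ∈ L ⊔ 𝔪 * 𝔪 := Ideal.mem_sup_left (Ideal.subset_span (by simp) : y' ∈ L)
      have h3 : y - y' ∈ L ⊔ 𝔪 * 𝔪 := Ideal.mem_sup_right hyy
      simpa using add_mem h1 h3
  suffices hC : L.colon (𝔪 : Set A) ⊔ I = ⊤ by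
    obtain ⟨u, hu, i, hi, hui⟩ := Submodule.mem_sup.1 (show (1 : A) ∈ L.colon (𝔪 : Set A) ⊔ I by rw [hC]; trivial)
    refine ⟨x, y', u, hx, hy', ?_, fun a ha => Submodule.mem_colon.1 hu a ha⟩
    rw [show u - 1 = -i by rw [← hui]; ring]
    exact neg_mem hi
  by_contra hne
  obtain ⟨M, hM, hle⟩ := Ideal.exists_le_maximal _ hne
  have hIM : I ≤ M := le_sup_right.trans hle
  by_cases hMm : M = 𝔪
  · subst hMm
    let N : Submodule A (A ⧸ L) := Submodule.map L.mkQ M
    have hN : N ≤ M • N := by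
      rintro _ ⟨a, ha, rfl⟩
      obtain ⟨l, hl, z, hz, rfl⟩ := Submodule.mem_sup.1 (hmL ha)
      rw [map_add, show L.mkQ l = 0 from (Submodule.Quotient.mk_eq_zero L).2 hl, zero_add]
      refine Submodule.mul_induction_on hz (fun p hp q hq => ?_) fun p q hp hq => by rw [map_add]; exact add_mem hp hq
      rw [← smul_eq_mul, map_smul]
      exact Submodule.smul_mem_smul hp ⟨q, hq, rfl⟩
    obtain ⟨r, hr, hr0⟩ := Submodule.exists_sub_one_mem_and_smul_eq_zero_of_fg_of_le_smul M N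
      (Submodule.FG.map L.mkQ (IsNoetherian.noetherian M)) hN
    have hrC : r ∈ L.colon (M : Set A) := Submodule.mem_colon.2 fun a ha => by
      refine (Submodule.Quotient.mk_eq_zero L).1 ?_
      show L.mkQ (r • a) = 0
      rw [map_smul]
      exact hr0 _ ⟨a, ha, rfl⟩
    refine hm.ne_top ((Ideal.eq_top_iff_one _).2 ?_)
    simpa using sub_mem (hle (Ideal.mem_sup_left hrC)) hr
  · have h1 : y' ∈ M := hle (Ideal.mem_sup_left (Submodule.mem_colon.2 fun a _ =>
      L.mul_mem_right a (Ideal.subset_span (by simp))))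
    have he' : e ∈ M := hK M hM hIM hMm he
    have : w ∈ M := by simpa [y'] using sub_mem h1 (M.mul_mem_right y he')
    exact hM.ne_top ((Ideal.eq_top_iff_one _).2 (hew ▸ add_mem he' this))

end Gens

variable {K : Type u} [Field K] {A : Type u} [CommRing A] [Algebra K A]

/-- every proper ideal of finite colength is a step of a larger one. -/
theorem exists_step_up [IsAlgClosed K] {J : Ideal A} (hfin : Flag.Fin' K J) (hJ : J ≠ ⊤) :
    ∃ (ε : A →ₐ[K] K) (J' : Ideal A), Flag.Step ε J' J := by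
  haveI : Module.Finite K (A ⧸ J.restrictScalars K) := hfin
  haveI : Module.Finite K (A ⧸ J) := Module.Finite.equiv (Submodule.Quotient.restrictScalarsEquiv K J)
  haveI : IsArtinianRing (A ⧸ J) := IsArtinianRing.of_finite K _
  haveI : Nontrivial (A ⧸ J) := Ideal.Quotient.nontrivial_iff.2 hJ
  obtain ⟨Q, hQ, hQmin⟩ := IsArtinian.set_has_minimal {Q : Ideal (A ⧸ J) | Q ≠ ⊥} ⟨⊤, top_ne_bot⟩
  obtain ⟨q, hq, hq0⟩ := Submodule.exists_mem_ne_zero_of_ne_bot hQ
  obtain ⟨s, rfl⟩ := Ideal.Quotient.mk_surjective q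
  have hsJ : s ∉ J := fun h => hq0 (Ideal.Quotient.eq_zero_iff_mem.2 h)
  let 𝔪 : Ideal A := J.colon {s}
  have h𝔪 : ∀ a, a ∈ 𝔪 ↔ a * s ∈ J := fun a => Submodule.mem_colon_singleton
  have hmax : 𝔪.IsMaximal := Ideal.isMaximal_iff.2 ⟨fun h => hsJ (by simpa using (h𝔪 1).1 h),
    fun M a hM ha haM => by
      have h1 : Ideal.span {Ideal.Quotient.mk J (a * s)} = Q := by
        refine eq_of_le_of_not_lt ?_ (hQmin _ ?_)
        · rw [Ideal.span_singleton_le_iff_mem, map_mul]
          exact Ideal.mul_mem_left Q _ hq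
        · show Ideal.span {Ideal.Quotient.mk J (a * s)} ≠ ⊥
          rw [Ne, Ideal.span_singleton_eq_bot, Ideal.Quotient.eq_zero_iff_mem, ← h𝔪]
          exact ha
      rw [← h1, Ideal.mem_span_singleton'] at hq
      obtain ⟨b, hb⟩ := hq
      obtain ⟨b, rfl⟩ := Ideal.Quotient.mk_surjective b
      rw [← map_mul, Ideal.Quotient.eq] at hb
      have h2 : b * a - 1 ∈ M := hM ((h𝔪 _).2 (by rwa [sub_mul, one_mul, mul_assoc]))
      simpa using sub_mem (M.mul_mem_left b haM) h2⟩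
  haveI := hmax
  letI : Field (A ⧸ 𝔪) := Ideal.Quotient.field 𝔪
  haveI : Module.Finite K (A ⧸ 𝔪) :=
    have h : J ≤ 𝔪 := fun x hx => (h𝔪 x).2 (J.mul_mem_right s hx)
    Module.Finite.of_surjective (Ideal.Quotient.factorₐ K h).toLinearMap (Ideal.Quotient.factor_surjective h)
  have hbij : Function.Bijective (algebraMap K (A ⧸ 𝔪)) := IsAlgClosed.algebraMap_bijective_of_isIntegral
  let ε : A →ₐ[K] K :=
    ((AlgEquiv.ofBijective (Algebra.ofId K (A ⧸ 𝔪)) hbij).symm.toAlgHom).comp (Ideal.Quotient.mkₐ K 𝔪)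
  have hker : ∀ a ∈ RingHom.ker ε, a * s ∈ J := fun a ha => (h𝔪 a).1 (Ideal.Quotient.eq_zero_iff_mem.1 (by
    have := RingHom.mem_ker.1 ha
    simpa [ε] using this))
  refine ⟨ε, Punct.idealOf ε _ (Punct.mem_of_span_stable hker), fun x hx => Submodule.mem_sup_left hx,
    fun a ha x hx => ?_, s, Submodule.mem_sup_right (Submodule.mem_span_singleton_self _), hsJ,
    Punct.idealOf_restrictScalars _ _ _⟩
  obtain ⟨w, hw, c, rfl⟩ := Flag.mem_sup_span.1 hx
  rw [mul_add, mul_smul_comm]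
  exact add_mem (J.mul_mem_left a hw) (J.smul_of_tower_mem c (hker a ha))

variable {I : Ideal A} {J J' : Ideal A} {ε : A →ₐ[K] K}

/-- extension of a homomorphism across a step. -/
theorem exists_extend {M : Type u} [AddCommGroup M] [Module A M] [Module K M] [IsScalarTower K A M] (h : Flag.Step ε J' J) {s : A}
    (hs : s ∈ J') (hsJ : s ∉ J) (hgen : J'.restrictScalars K = J.restrictScalars K ⊔ Submodule.span K {s})
    (φ : J →ₗ[A] M) (q : M) (hq : ∀ a (ha : a ∈ RingHom.ker ε), φ ⟨a * s, h.mul a ha s hs⟩ = a • q) :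
    ∃ ψ : J' →ₗ[A] M, ψ.comp (Submodule.inclusion h.le) = φ ∧ ψ ⟨s, hs⟩ = q := by
  classical
  have hdec : ∀ z : J', ∃ c : K, (z : A) - c • s ∈ J := fun z => by
    obtain ⟨w, hw, c, hwc⟩ := Flag.mem_sup_span.1 (hgen.le z.2)
    exact ⟨c, by rw [← hwc, add_sub_cancel_right]; exact hw⟩
  choose c hc using hdec
  have huniq : ∀ (z : J') (d : K), (z : A) - d • s ∈ J → c z = d := by
    intro z d hd
    by_contra hne
    refine hsJ ?_
    have h1 : (d - c z) • s ∈ J := by
      have := sub_mem (hc z) hd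
      rwa [show ((z : A) - c z • s) - ((z : A) - d • s) = (d - c z) • s by rw [sub_smul]; abel] at this
    have := J.smul_of_tower_mem (d - c z)⁻¹ h1
    rwa [smul_smul, inv_mul_cancel₀ (sub_ne_zero.2 (Ne.symm hne)), one_smul] at this
  let F : J' → M := fun z => φ ⟨(z : A) - c z • s, hc z⟩ + c z • q
  have hadd : ∀ z w, F (z + w) = F z + F w := by
    intro z w
    have e : c (z + w) = c z + c w := huniq _ _ (by
      have := add_mem (hc z) (hc w)
      rw [show ((z + w : J') : A) - (c z + c w) • s = ((z : A) - c z • s) + ((w : A) - c w • s) by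
        rw [Submodule.coe_add, add_smul]; abel]
      exact this)
    simp only [F, e, add_smul]
    rw [show (⟨((z + w : J') : A) - (c z • s + c w • s), _⟩ : J) =
      ⟨(z : A) - c z • s, hc z⟩ + ⟨(w : A) - c w • s, hc w⟩ from Subtype.ext (by push_cast; abel), map_add]
    abel
  have hsmul : ∀ (a : A) z, F (a • z) = a • F z := by
    intro a z
    have ha' : a - algebraMap K A (ε a) ∈ RingHom.ker ε := Punct.sub_mem_ker ε a
    have hdecomp : ((a • z : J') : A) - (c z * ε a) • s =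
        a * ((z : A) - c z • s) + c z • ((a - algebraMap K A (ε a)) * s) := by
      rw [Submodule.coe_smul, smul_eq_mul, mul_sub, mul_smul_comm, sub_mul, smul_sub, ← Algebra.smul_def, mul_smul]
      abel
    have e : c (a • z) = c z * ε a := huniq _ _ (by
      rw [hdecomp]
      exact add_mem (J.mul_mem_left a (hc z)) (J.smul_of_tower_mem _ (h.mul _ ha' s hs)))
    have hmem : (a - algebraMap K A (ε a)) * s ∈ J := h.mul _ ha' s hs
    simp only [F, e]
    rw [show (⟨((a • z : J') : A) - (c z * ε a) • s, _⟩ : J) =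
      a • ⟨(z : A) - c z • s, hc z⟩ + algebraMap K A (c z) • ⟨_, hmem⟩ from Subtype.ext (by
        refine hdecomp.trans ?_; simp [Algebra.smul_def]), map_add, map_smul, map_smul, hq _ ha', smul_add,
      algebraMap_smul, sub_smul, smul_sub, algebraMap_smul, mul_smul, smul_comm (c z) a q]
    abel
  refine ⟨{ toFun := F, map_add' := hadd, map_smul' := hsmul }, LinearMap.ext fun z => ?_, ?_⟩
  · have e : c (Submodule.inclusion h.le z) = 0 := huniq _ _ (by simp)
    show F _ = φ z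
    simp only [F, e, zero_smul, add_zero]
    exact congrArg φ (Subtype.ext (sub_zero _))
  · have e : c ⟨s, hs⟩ = 1 := huniq _ _ (by simp)
    show F _ = q
    simp only [F, e, one_smul]
    rw [show (⟨((⟨s, hs⟩ : J') : A) - s, _⟩ : J) = 0 from Subtype.ext (sub_self _), map_zero, zero_add]

/-- one step increases the homomorphisms by at most one dimension. -/
theorem finrank_hom_step [IsNoetherianRing A] (h2 : TwoGen A) [Module.Finite K (A ⧸ I)]
    (h : Flag.Step ε J' J) (hIJ : I ≤ J)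
    [Module.Finite K (J' →ₗ[A] A ⧸ I)] :
    Module.Finite K (J →ₗ[A] A ⧸ I) ∧
      Module.finrank K (J →ₗ[A] A ⧸ I) ≤ Module.finrank K (J' →ₗ[A] A ⧸ I) + 1 := by
  obtain ⟨s, hs, hsJ, hgen⟩ := h.gen
  let 𝔪 := RingHom.ker ε
  haveI : 𝔪.IsMaximal := RingHom.ker_isMaximal_of_surjective ε fun c => ⟨algebraMap K A c, by simp⟩
  haveI : IsArtinianRing (A ⧸ I) := IsArtinianRing.of_finite K _
  have hIm : I ≤ 𝔪 := by
    intro a ha
    by_contra hne
    refine hsJ ?_
    have h1 : (a - algebraMap K A (ε a)) * s ∈ J := h.mul _ (Punct.sub_mem_ker ε a) s hs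
    have h2 := sub_mem (hIJ (I.mul_mem_right s ha)) h1
    rw [sub_mul, ← Algebra.smul_def, sub_sub_cancel] at h2
    have h3 := J.smul_of_tower_mem (ε a)⁻¹ h2
    rwa [smul_smul, inv_mul_cancel₀ (show ε a ≠ 0 from hne), one_smul] at h3
  obtain ⟨x, y, u, hx, hy, hu, huxy⟩ := exists_gens h2 I 𝔪 (by
    have hz : (PrimeSpectrum.zeroLocus (I : Set A)).Finite := by
      rw [← Ideal.mk_ker (I := I), ← range_comap_of_surjective _ _ Ideal.Quotient.mk_surjective]
      exact Set.finite_range _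
    refine (hz.image PrimeSpectrum.asIdeal).subset fun M hM => ?_
    exact ⟨⟨M, hM.1.isPrime⟩, hM.2, rfl⟩)
  have huQ : ∀ v : A ⧸ I, u • v = v := by
    intro v
    obtain ⟨v, rfl⟩ := Ideal.Quotient.mk_surjective v
    show Ideal.Quotient.mk I (u * v) = _
    rw [Ideal.Quotient.eq, show u * v - v = (u - 1) * v by ring]
    exact I.mul_mem_right v hu
  let res : (J' →ₗ[A] A ⧸ I) →ₗ[K] (J →ₗ[A] A ⧸ I) :=
    (LinearMap.lcomp A (A ⧸ I) (Submodule.inclusion h.le)).restrictScalars K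
  let Φ : (J →ₗ[A] A ⧸ I) →ₗ[K] (A ⧸ I) × (A ⧸ I) :=
    { toFun := fun φ => (φ ⟨x * s, h.mul x hx s hs⟩, φ ⟨y * s, h.mul y hy s hs⟩)
      map_add' := fun φ ψ => rfl
      map_smul' := fun c φ => rfl }
  let d0 : (A ⧸ I) →ₗ[K] (A ⧸ I) × (A ⧸ I) :=
    ((x • LinearMap.id (R := A) (M := A ⧸ I)).prod (y • LinearMap.id (R := A) (M := A ⧸ I))).restrictScalars K
  let d1 : (A ⧸ I) × (A ⧸ I) →ₗ[K] (A ⧸ I) :=
    ((y • LinearMap.fst A (A ⧸ I) (A ⧸ I)) - (x • LinearMap.snd A (A ⧸ I) (A ⧸ I))).restrictScalars K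
  have hd1 : ∀ p, d1 p = y • p.1 - x • p.2 := fun p => rfl
  have hd0 : ∀ q, d0 q = (x • q, y • q) := fun q => rfl
  have hd : LinearMap.range d0 ≤ LinearMap.ker d1 := by
    rintro _ ⟨q, rfl⟩
    rw [LinearMap.mem_ker, hd1, hd0, smul_comm x y q, sub_self]
  have hΦ : ∀ φ, Φ φ ∈ LinearMap.ker d1 := by
    intro φ
    rw [LinearMap.mem_ker, hd1]
    show y • φ _ - x • φ _ = 0
    rw [← map_smul, ← map_smul, ← map_sub]
    convert map_zero φ
    refine Subtype.ext ?_
    show y * (x * s) - x * (y * s) = 0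
    ring
  have hker : Submodule.comap Φ (LinearMap.range d0) ≤ LinearMap.range res := by
    rintro φ ⟨q, hq⟩
    have e1 : φ ⟨x * s, h.mul x hx s hs⟩ = x • q := congrArg Prod.fst hq.symm
    have e2 : φ ⟨y * s, h.mul y hy s hs⟩ = y • q := congrArg Prod.snd hq.symm
    obtain ⟨ψ, hψ, -⟩ := exists_extend h hs hsJ hgen φ q (fun a ha => by
      obtain ⟨α, β, hab⟩ := Ideal.mem_span_pair.1 (huxy a ha)
      calc φ ⟨a * s, h.mul a ha s hs⟩ = u • φ ⟨a * s, h.mul a ha s hs⟩ := (huQ _).symm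
        _ = α • φ ⟨x * s, h.mul x hx s hs⟩ + β • φ ⟨y * s, h.mul y hy s hs⟩ := by
            rw [← map_smul, ← map_smul, ← map_smul, ← map_add]
            exact congrArg φ (Subtype.ext (by
              show u * (a * s) = α * (x * s) + β * (y * s)
              rw [← mul_assoc u, ← hab]; ring))
        _ = (u * a) • q := by rw [e1, e2, smul_smul, smul_smul, ← add_smul, hab]
        _ = a • q := by rw [mul_smul, huQ])
    exact ⟨ψ, hψ⟩
  let e0 : LinearMap.ker d0 →ₗ[K] (A ⧸ I) := (LinearMap.ker d0).subtype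
  -- the finiteness
  let ΦQ := (LinearMap.range d0).mkQ ∘ₗ Φ
  have hkΦ : LinearMap.ker ΦQ ≤ LinearMap.range res := by
    rwa [LinearMap.ker_comp, Submodule.ker_mkQ]
  haveI : Module.Finite K ↥(LinearMap.ker ΦQ) := Submodule.finiteDimensional_of_le hkΦ
  haveI : Module.Finite K ((J →ₗ[A] A ⧸ I) ⧸ LinearMap.ker ΦQ) :=
    Module.Finite.equiv ΦQ.quotKerEquivRange.symm
  haveI hfinJ : Module.Finite K (J →ₗ[A] A ⧸ I) := Module.Finite.of_submodule_quotient (LinearMap.ker ΦQ)
  refine ⟨hfinJ, ?_⟩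
  have hr1 : LinearMap.range ΦQ ≤ Submodule.map (LinearMap.range d0).mkQ (LinearMap.ker d1) := by
    rintro _ ⟨φ, rfl⟩
    exact ⟨Φ φ, hΦ φ, rfl⟩
  have f1 := LinearMap.finrank_range_add_finrank_ker ΦQ
  have f2 : Module.finrank K ↥(LinearMap.range ΦQ) + Module.finrank K ↥(LinearMap.range d0) ≤
      Module.finrank K ↥(LinearMap.ker d1) := by
    have h1 := Submodule.finrank_mono hr1
    have h2 := LinearMap.finrank_range_add_finrank_ker ((LinearMap.range d0).mkQ ∘ₗ (LinearMap.ker d1).subtype)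
    rw [LinearMap.range_comp, Submodule.range_subtype, LinearMap.ker_comp, Submodule.ker_mkQ,
      (Submodule.comapSubtypeEquivOfLe hd).finrank_eq] at h2
    omega
  have f3 := LinearMap.finrank_range_add_finrank_ker d0
  have f4 := LinearMap.finrank_range_add_finrank_ker d1
  rw [Module.finrank_prod] at f4
  have f5 : Module.finrank K (A ⧸ I) ≤ Module.finrank K ↥(LinearMap.range d1) + 1 := by
    have hsup : LinearMap.range d1 ⊔ Submodule.span K {Ideal.Quotient.mk I 1} = ⊤ := by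
      refine eq_top_iff.2 fun v _ => ?_
      obtain ⟨v, rfl⟩ := Ideal.Quotient.mk_surjective v
      refine Flag.mem_sup_span.2 ⟨Ideal.Quotient.mk I (v - algebraMap K A (ε v)), ?_, ε v, ?_⟩
      · obtain ⟨α, β, hab⟩ := Ideal.mem_span_pair.1 (huxy _ (Punct.sub_mem_ker ε v))
        refine ⟨(Ideal.Quotient.mk I β, -Ideal.Quotient.mk I α), ?_⟩
        have := huQ (Ideal.Quotient.mk I (v - algebraMap K A (ε v)))
        rw [hd1, ← this]
        show Ideal.Quotient.mk I (y * β) - x • (-(Ideal.Quotient.mk I α)) = Ideal.Quotient.mk I (u * _)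
        rw [← hab, smul_neg, sub_neg_eq_add, show x • Ideal.Quotient.mk I α = Ideal.Quotient.mk I (x * α) from rfl,
          ← map_add]
        congr 1
        ring
      · rw [map_one, map_sub, Ideal.Quotient.mk_algebraMap, Algebra.smul_def, mul_one, sub_add_cancel]
    have h1 := Submodule.finrank_add_le_finrank_add_finrank (LinearMap.range d1)
      (Submodule.span K {Ideal.Quotient.mk I (1 : A)})
    rw [hsup, finrank_top] at h1
    exact h1.trans (Nat.add_le_add_left (by simpa using finrank_span_le_card ({Ideal.Quotient.mk I (1 : A)} : Set (A ⧸ I))) _)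
  -- the socle is in the kernel of the restriction
  have hsoc : ∀ q : LinearMap.ker d0, ∃ ψ : J' →ₗ[A] A ⧸ I,
      ψ.comp (Submodule.inclusion h.le) = 0 ∧ ψ ⟨s, hs⟩ = (q : A ⧸ I) := fun q => by
    have h0 := LinearMap.mem_ker.1 q.2
    rw [hd0, Prod.mk_eq_zero] at h0
    refine exists_extend h hs hsJ hgen 0 (q : A ⧸ I) fun a ha => ?_
    obtain ⟨α, β, hab⟩ := Ideal.mem_span_pair.1 (huxy a ha)
    rw [LinearMap.zero_apply, ← huQ (a • (q : A ⧸ I)), smul_smul, ← hab, add_smul, mul_smul, mul_smul,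
      h0.1, h0.2, smul_zero, smul_zero, add_zero]
  choose ψ hψ0 hψs using hsoc
  have f6 : Module.finrank K ↥(LinearMap.ker d0) ≤ Module.finrank K ↥(LinearMap.ker res) := by
    let ev : LinearMap.ker res →ₗ[K] A ⧸ I :=
      { toFun := fun ψ => ψ.1 ⟨s, hs⟩, map_add' := fun _ _ => rfl, map_smul' := fun _ _ => rfl }
    calc Module.finrank K ↥(LinearMap.ker d0) ≤ Module.finrank K ↥(LinearMap.range ev) :=
          Submodule.finrank_mono fun q hq => ⟨⟨ψ ⟨q, hq⟩, hψ0 ⟨q, hq⟩⟩, hψs ⟨q, hq⟩⟩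
      _ ≤ _ := LinearMap.finrank_range_le ev
  have f7 := LinearMap.finrank_range_add_finrank_ker res
  have f8 := Submodule.finrank_mono hkΦ
  omega

/-- **Fogarty's bound.** -/
theorem finrank_hom_le [IsAlgClosed K] [IsNoetherianRing A] (h2 : TwoGen A) (I : Ideal A)
    [Module.Finite K (A ⧸ I)] :
    Module.Finite K (I →ₗ[A] A ⧸ I) ∧
      Module.finrank K (I →ₗ[A] A ⧸ I) ≤ 2 * Module.finrank K (A ⧸ I) := by
  have hI : Flag.Fin' K I := Module.Finite.equiv (Submodule.Quotient.restrictScalarsEquiv K I).symm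
  suffices h : ∀ (d : ℕ) (J : Ideal A), I ≤ J → Punct.codim K J = d →
      Module.Finite K (J →ₗ[A] A ⧸ I) ∧
        Module.finrank K (J →ₗ[A] A ⧸ I) ≤ Module.finrank K (A ⧸ I) + d by
    obtain ⟨hf, hle⟩ := h _ I le_rfl rfl
    refine ⟨hf, hle.trans (le_of_eq ?_)⟩
    rw [two_mul, Punct.codim, (Submodule.Quotient.restrictScalarsEquiv K I).finrank_eq]
  intro d
  induction d with
  | zero =>
    intro J hIJ hJ
    haveI : Module.Finite K (A ⧸ J.restrictScalars K) := Flag.fin_of_le hIJ hI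
    obtain rfl : J = ⊤ := by
      rw [eq_top_iff]
      intro a _
      have : Subsingleton (A ⧸ J.restrictScalars K) := Module.finrank_zero_iff.1 hJ
      exact (Submodule.Quotient.mk_eq_zero (J.restrictScalars K)).1 (Subsingleton.elim _ _)
    let ev : ((⊤ : Ideal A) →ₗ[A] A ⧸ I) →ₗ[K] A ⧸ I :=
      { toFun := fun φ => φ ⟨1, trivial⟩, map_add' := fun _ _ => rfl, map_smul' := fun _ _ => rfl }
    have hev : Function.Injective ev := fun φ ψ e => LinearMap.ext fun z => by
      have hz : z = (z : A) • (⟨1, trivial⟩ : (⊤ : Ideal A)) := Subtype.ext (mul_one _).symm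
      rw [hz, map_smul, map_smul]
      exact congrArg _ e
    exact ⟨Module.Finite.of_injective ev hev, (LinearMap.finrank_le_finrank_of_injective hev).trans (Nat.le_add_right _ _)⟩
  | succ d ih =>
    intro J hIJ hJ
    have hne : J ≠ ⊤ := by
      rintro rfl
      haveI : Subsingleton (A ⧸ (⊤ : Ideal A).restrictScalars K) :=
        Submodule.Quotient.subsingleton_iff.2 (Submodule.restrictScalars_top K A A)
      rw [Punct.codim, Module.finrank_zero_of_subsingleton] at hJ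
      omega
    obtain ⟨ε, J', hstep⟩ := exists_step_up (Flag.fin_of_le hIJ hI) hne
    have hJ' : Punct.codim K J' = d := by
      have := hstep.codim (Flag.fin_of_le hstep.le (Flag.fin_of_le hIJ hI))
      omega
    obtain ⟨hf', hle'⟩ := ih J' (hIJ.trans hstep.le) hJ'
    haveI := hf'
    obtain ⟨hf, hle⟩ := finrank_hom_step h2 hstep hIJ
    exact ⟨hf, by omega⟩

end Groth.Agent.Grass5.HomBd
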