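import Groth.Agent.Grass5.AffAlg
import Groth.Agent.Grass5.HomBound

/-!
The coordinate ring of a chart of the Hilbert scheme of points: finite type and tangent bound.
-/

set_option autoImplicit false
set_option linter.style.haveILetI false
set_option maxHeartbeats 400000
set_option backward.isDefEq.respectTransparency false
set_option backward.isDefEq.respectTransparency.types false

universe u

open scoped TensorProduct

noncomputable section

namespace Groth.Agent.Grass5.ChartTan

open Groth.Agent.Grass5.AffHilb

theorem finiteType_CR {k : Type u} [CommRing k] {R : Type u} [CommRing R] [Algebra k R] [Algebra.FiniteType k R]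
    {d : ℕ} (σ : Fin d → R) : Algebra.FiniteType k (CR k σ) := by
  classical
  obtain ⟨G, hG⟩ := (inferInstance : Algebra.FiniteType k R).out
  let u := univL k σ
  let s : Finset (CR k σ) := (Finset.univ.image fun i => u 1 i) ∪
    ((G ×ˢ (Finset.univ : Finset (Fin d × Fin d))).image fun q => u (q.1 * σ q.2.1) q.2.2)
  let S := Algebra.adjoin k (s : Set (CR k σ))
  let M : Submodule k R :=
    { carrier := {x | ∀ i, u x i ∈ S}
      zero_mem' := fun i => by simp
      add_mem' := fun hx hy i => by rw [map_add]; exact add_mem (hx i) (hy i)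
      smul_mem' := fun c x hx i => by rw [map_smul]; exact S.smul_mem (hx i) c }
  let Mul' : Subalgebra k R :=
    { carrier := {a | ∀ x ∈ M, a * x ∈ M}
      mul_mem' := fun {a b} ha hb x hx => by rw [mul_assoc]; exact ha _ (hb x hx)
      one_mem' := fun x hx => by rwa [one_mul]
      add_mem' := fun {a b} ha hb x hx => by rw [add_mul]; exact add_mem (ha x hx) (hb x hx)
      zero_mem' := fun x hx => by rw [zero_mul]; exact zero_mem _
      algebraMap_mem' := fun c x hx => by rw [← Algebra.smul_def]; exact M.smul_mem c hx }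
  have htop : (⊤ : Subalgebra k R) ≤ Mul' := by
    rw [← hG, Algebra.adjoin_le_iff]
    intro g hg x hx i
    rw [(univL_isCoord k σ).mul x g, Finset.sum_apply]
    refine sum_mem fun j _ => ?_
    rw [Pi.smul_apply, smul_eq_mul]
    exact mul_mem (hx j) (Algebra.subset_adjoin (Finset.mem_coe.2 (Finset.mem_union_right _
      (Finset.mem_image.2 ⟨(g, j, i), Finset.mem_product.2 ⟨hg, Finset.mem_univ _⟩, rfl⟩))))
  have hall : ∀ x i, u x i ∈ S := fun x => by
    have h1 : (1 : R) ∈ M := fun i => Algebra.subset_adjoin (Finset.mem_coe.2 (Finset.mem_union_left _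
      (Finset.mem_image.2 ⟨i, Finset.mem_univ _, rfl⟩)))
    have h2 : x * 1 ∈ M := htop (Algebra.mem_top (R := k) (x := x)) 1 h1
    rw [mul_one] at h2
    exact h2
  refine ⟨⟨s, eq_top_iff.2 fun z hz => ?_⟩⟩
  clear hz
  obtain ⟨p, rfl⟩ := Ideal.Quotient.mkₐ_surjective k _ z
  induction p using MvPolynomial.induction_on with
  | C c => rw [← MvPolynomial.algebraMap_eq, AlgHom.commutes]; exact S.algebraMap_mem c
  | add p q hp hq => rw [map_add]; exact add_mem hp hq
  | mul_X p q hp => rw [map_mul]; exact mul_mem hp (hall q.1 q.2)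

variable {k : Type u} [Field k] [IsAlgClosed k] {R : Type u} [CommRing R] [Algebra k R] {d : ℕ}
  (σ : Fin d → R)

/-- **The tangent spaces of a chart have dimension at most `2d`.** -/
theorem exists_gens_ker [IsNoetherianRing R] (h2 : HomBd.TwoGen R) (χ : CR k σ →ₐ[k] k) :
    ∃ c : Fin (2 * d) → CR k σ, (∀ j, c j ∈ RingHom.ker χ) ∧
      RingHom.ker χ ≤ Ideal.span (Set.range c) ⊔ RingHom.ker χ * RingHom.ker χ := by
  classical
  let u := univL k σ
  let L0 : R →ₗ[k] Fin d → k := mapL χ u
  have hL0 : IsCoord σ L0 := (univL_isCoord k σ).map χ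
  let I : Ideal R :=
    { carrier := {x | L0 x = 0}
      zero_mem' := map_zero _
      add_mem' := fun {a b} ha hb => by
        show L0 (a + b) = 0
        rw [map_add, show L0 a = 0 from ha, show L0 b = 0 from hb, add_zero]
      smul_mem' := fun y x hx => by
        show L0 (y * x) = 0
        rw [hL0.mul x y]
        exact Finset.sum_eq_zero fun i _ => by rw [show L0 x = 0 from hx, Pi.zero_apply, zero_smul] }
  let θ : (Fin d → k) →ₗ[k] R := Fintype.linearCombination k σ
  have hθ : ∀ v, L0 (θ v) = v := by
    intro v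
    simp only [θ, Fintype.linearCombination_apply, map_sum, map_smul, hL0.unit]
    funext j
    simp [Finset.sum_apply, Pi.single_apply]
  let e : (R ⧸ I) ≃ₗ[k] (Fin d → k) :=
    (Submodule.Quotient.restrictScalarsEquiv k I).symm.trans
      ((Submodule.quotEquivOfEq _ (LinearMap.ker L0) (Submodule.ext fun _ => Iff.rfl)).trans
        (L0.quotKerEquivOfSurjective fun v => ⟨θ v, hθ v⟩))
  haveI : Module.Finite k (R ⧸ I) := Module.Finite.equiv e.symm
  have hd : Module.finrank k (R ⧸ I) = d := by rw [e.finrank_eq]; simp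
  have hres : ∀ w, w - θ (L0 w) ∈ I := fun w => by
    show L0 (w - θ (L0 w)) = 0
    rw [map_sub, hθ, sub_self]
  obtain ⟨hfin, hbound⟩ := HomBd.finrank_hom_le (K := k) h2 I
  haveI := hfin
  -- the space of first order data
  let N : Submodule k (CR k σ) :=
    ((RingHom.ker χ * RingHom.ker χ : Ideal (CR k σ)).restrictScalars k) ⊔ Submodule.span k {1}
  have hder : ∀ (l : Module.Dual k ((CR k σ) ⧸ N)) (a b : CR k σ),
      l (N.mkQ (a * b)) = χ a * l (N.mkQ b) + χ b * l (N.mkQ a) := by
    intro l a b
    have h1 : N.mkQ ((a - algebraMap k _ (χ a)) * (b - algebraMap k _ (χ b))) = 0 :=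
      (Submodule.Quotient.mk_eq_zero N).2 (Submodule.mem_sup_left (Ideal.mul_mem_mul
        (Punct.sub_mem_ker χ a) (Punct.sub_mem_ker χ b)))
    have h2 : N.mkQ (1 : CR k σ) = 0 :=
      (Submodule.Quotient.mk_eq_zero N).2 (Submodule.mem_sup_right (Submodule.mem_span_singleton_self _))
    have e1 : a * b = (a - algebraMap k _ (χ a)) * (b - algebraMap k _ (χ b)) + χ a • b + χ b • a -
        (χ a * χ b) • (1 : CR k σ) := by
      simp only [Algebra.algebraMap_eq_smul_one, sub_mul, mul_sub, smul_mul_assoc, mul_smul_comm, one_mul,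
        mul_one, smul_sub, smul_smul, mul_comm (χ b) (χ a)]
      abel
    rw [e1, map_sub, map_add, map_add, h1, map_smul, map_smul, map_smul, h2, smul_zero, zero_add, sub_zero,
      map_add, map_smul, map_smul, smul_eq_mul, smul_eq_mul]
  have hone : ∀ l : Module.Dual k ((CR k σ) ⧸ N), l (N.mkQ 1) = 0 := fun l => by
    rw [show N.mkQ (1 : CR k σ) = 0 from
      (Submodule.Quotient.mk_eq_zero N).2 (Submodule.mem_sup_right (Submodule.mem_span_singleton_self _)), map_zero]
  let M : Module.Dual k ((CR k σ) ⧸ N) → R → Fin d → k := fun l x i => l (N.mkQ (u x i))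
  let Ψ : Module.Dual k ((CR k σ) ⧸ N) →ₗ[k] (I →ₗ[R] R ⧸ I) :=
    { toFun := fun l =>
        { toFun := fun x => Ideal.Quotient.mk I (θ (M l x))
          map_add' := fun x y => by
            rw [← map_add, ← map_add]
            exact congrArg _ (congrArg θ (funext fun i => by simp [M]))
          map_smul' := fun y x => by
            show Ideal.Quotient.mk I (θ (M l (y * (x : R)))) = Ideal.Quotient.mk I (y * θ (M l x))
            have e1 : M l (y * (x : R)) = ∑ i, M l x i • L0 (y * σ i) := by
              funext j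
              show l (N.mkQ (u (y * (x : R)) j)) = _
              rw [(univL_isCoord k σ).mul (x : R) y, Finset.sum_apply, map_sum, map_sum, Finset.sum_apply]
              refine Finset.sum_congr rfl fun i _ => ?_
              rw [Pi.smul_apply, smul_eq_mul, hder]
              rw [show χ (univL k σ (x : R) i) = 0 from congrFun (show L0 (x : R) = 0 from x.2) i, zero_mul,
                zero_add, Pi.smul_apply, smul_eq_mul, mul_comm]
              rfl
            rw [e1, map_sum, map_sum, show θ (M l x) = ∑ i, M l x i • σ i from rfl, Finset.mul_sum, map_sum]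
            refine Finset.sum_congr rfl fun i _ => ?_
            rw [map_smul, mul_smul_comm, Ideal.Quotient.eq, ← smul_sub]
            exact I.smul_of_tower_mem _ (by simpa using neg_mem (hres (y * σ i))) }
      map_add' := fun l l' => LinearMap.ext fun x => by
        show Ideal.Quotient.mk I _ = Ideal.Quotient.mk I _ + Ideal.Quotient.mk I _
        rw [← map_add, ← map_add]
        exact congrArg _ (congrArg θ (funext fun i => by simp [M]))
      map_smul' := fun c l => LinearMap.ext fun x => by
        show Ideal.Quotient.mk I (θ (M (c • l) x)) = c • Ideal.Quotient.mk I (θ (M l x))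
        rw [show M (c • l) x = c • M l x from funext fun i => rfl, map_smul]
        exact map_smul (Ideal.Quotient.mkₐ k I) _ _ }
  have hinj : Function.Injective Ψ := by
    refine (injective_iff_map_eq_zero Ψ).2 fun l hl => ?_
    have h0 : ∀ x ∈ I, M l x = 0 := fun x hx => by
      have h1 : L0 (θ (M l x)) = 0 := Ideal.Quotient.eq_zero_iff_mem.1 (LinearMap.congr_fun hl ⟨x, hx⟩)
      rwa [hθ] at h1
    have hσ : ∀ i j, l (N.mkQ (u (σ i) j)) = 0 := fun i j => by
      rw [(univL_isCoord k σ).unit i, Pi.single_apply]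
      split
      · exact hone l
      · rw [map_zero, map_zero]
    have hx : ∀ x j, l (N.mkQ (u x j)) = 0 := fun x j => by
      have h1 := congrFun (h0 _ (hres x)) j
      simp only [M, map_sub, Pi.sub_apply, Pi.zero_apply, θ, Fintype.linearCombination_apply, map_sum,
        map_smul, Finset.sum_apply, Pi.smul_apply, hσ, smul_zero, Finset.sum_const_zero, sub_zero] at h1
      exact h1
    refine LinearMap.ext fun q => ?_
    obtain ⟨z, rfl⟩ := N.mkQ_surjective q
    obtain ⟨p, rfl⟩ := Ideal.Quotient.mkₐ_surjective k _ z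
    rw [LinearMap.zero_apply]
    induction p using MvPolynomial.induction_on with
    | C c =>
      rw [← MvPolynomial.algebraMap_eq, AlgHom.commutes, Algebra.algebraMap_eq_smul_one, map_smul, map_smul,
        hone, smul_zero]
    | add p q hp hq => rw [map_add, map_add, map_add, hp, hq, add_zero]
    | mul_X p q hp =>
      rw [map_mul (Ideal.Quotient.mkₐ k _), hder, hp, mul_zero, add_zero]
      exact mul_eq_zero_of_right _ (hx q.1 q.2)
  haveI : Module.Finite k (Module.Dual k ((CR k σ) ⧸ N)) := Module.Finite.of_injective Ψ hinj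
  haveI : Module.Finite k ((CR k σ) ⧸ N) := Module.finite_dual_iff k |>.1 inferInstance
  have hrank : Module.finrank k ((CR k σ) ⧸ N) ≤ 2 * d := by
    rw [← Subspace.dual_finrank_eq]
    calc _ ≤ _ := LinearMap.finrank_le_finrank_of_injective hinj
      _ ≤ _ := hbound.trans_eq (by rw [hd])
  let b := Module.finBasis k ((CR k σ) ⧸ N)
  choose c hc using fun j => N.mkQ_surjective (b j)
  let c' : Fin (2 * d) → CR k σ := fun j =>
    if h : (j : ℕ) < Module.finrank k ((CR k σ) ⧸ N) then c ⟨j, h⟩ - algebraMap k _ (χ (c ⟨j, h⟩)) else 0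
  refine ⟨c', fun j => ?_, fun z hz => ?_⟩
  · simp only [c']
    split
    · exact Punct.sub_mem_ker χ _
    · exact zero_mem _
  have hbz : ∀ i, N.mkQ (c' (Fin.castLE hrank i)) = b i := fun i => by
    simp only [c', Fin.val_castLE, i.2, dite_true, map_sub, Algebra.algebraMap_eq_smul_one, map_smul,
      show N.mkQ (1 : CR k σ) = 0 from
        (Submodule.Quotient.mk_eq_zero N).2 (Submodule.mem_sup_right (Submodule.mem_span_singleton_self _)),
      smul_zero, sub_zero, Fin.eta, hc]
  let z' := z - ∑ i, b.repr (N.mkQ z) i • c' (Fin.castLE hrank i)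
  have hz' : z' ∈ N := by
    rw [← Submodule.Quotient.mk_eq_zero N]
    show N.mkQ z' = 0
    simp only [z', map_sub, map_sum, map_smul, hbz, b.sum_repr, sub_self]
  have hsum : ∀ i, b.repr (N.mkQ z) i • c' (Fin.castLE hrank i) ∈ Ideal.span (Set.range c') := fun i =>
    Submodule.smul_of_tower_mem _ _ (Ideal.subset_span ⟨_, rfl⟩)
  obtain ⟨w, hw, a, ha⟩ := Flag.mem_sup_span.1 hz'
  have hc' : ∀ i, χ (c' (Fin.castLE hrank i)) = 0 := fun i => by
    simp only [c']
    split
    · exact RingHom.mem_ker.1 (Punct.sub_mem_ker χ _)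
    · exact map_zero χ
  have ha0 : a = 0 := by
    have h1 := congrArg χ ha
    have hz0 : χ z' = 0 := by simp [z', hc', RingHom.mem_ker.1 hz]
    rw [map_add, map_smul, map_one, hz0, RingHom.mem_ker.1 (Ideal.mul_le_right hw), zero_add, smul_eq_mul, mul_one] at h1
    exact h1
  rw [ha0, zero_smul, add_zero] at ha
  refine Submodule.mem_sup.2
    ⟨∑ i, b.repr (N.mkQ z) i • c' (Fin.castLE hrank i), sum_mem fun i _ => hsum i, w, hw, ?_⟩
  rw [ha]
  exact add_sub_cancel _ _

end Groth.Agent.Grass5.ChartTan
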