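import Groth.Agent.Grass5.Chart
import Groth.Agent.Approx60.Segre

/-!
The closed subscheme of projective space swept out by the charts.
-/

set_option autoImplicit false
set_option maxHeartbeats 400000
set_option backward.isDefEq.respectTransparency false

universe u

open CategoryTheory CategoryTheory.Limits AlgebraicGeometry
open scoped TensorProduct

noncomputable section

namespace Groth.Agent.Grass5.Free

open ProjPt

variable {n k : ℕ} (hk : k ≤ n) {R : Type u} [CommRing R] {A : Type u} [CommRing A] [Algebra R A]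

lemma plR_range {N : ℕ} (a : Fin (N + 1) → A) (j : Fin (N + 1)) (hu : IsUnit (a j)) :
    Set.range (plR (R := R) a j hu) ⊆ V N R j := by
  rintro _ ⟨p, rfl⟩; exact plR_mem_V a j hu p

variable (R) in
/-- the standard open of a chart. -/
abbrev Vo (s : Idx n k) : (PR (plN n k) R).Opens := V _ R ((enum hk).symm s)

lemma affVo (s : Idx n k) : IsAffineOpen (Vo hk R s) := isAffineOpen_V _ R _

lemma exists_mem_Vo (x : PR (plN n k) R) : ∃ s : Idx n k, x ∈ Vo hk R s := by
  obtain ⟨j, hj⟩ := exists_mem_V _ R x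
  exact ⟨enum hk j, by simpa [Vo] using hj⟩

/-- morphisms into an affine open, as ring maps. -/
def coordMap {X : Scheme.{u}} {U : X.Opens} {B : CommRingCat.{u}} (g : Spec B ⟶ X)
    (h : Set.range g ⊆ U) : Γ(X, U) ⟶ B :=
  g.appLE U ⊤ (fun p _ ↦ h ⟨p, rfl⟩) ≫ (Scheme.ΓSpecIso B).hom

lemma coordMap_fac {X : Scheme.{u}} {U : X.Opens} (hU : IsAffineOpen U) {B : CommRingCat.{u}}
    (g : Spec B ⟶ X) (h : Set.range g ⊆ U) : Spec.map (coordMap g h) ≫ hU.fromSpec = g := by
  rw [coordMap, Spec.map_comp, Category.assoc,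
    IsAffineOpen.SpecMap_appLE_fromSpec g hU (isAffineOpen_top _), IsAffineOpen.fromSpec_top,
    ← Category.assoc, Scheme.isoSpec_Spec_inv, ← Spec.map_comp, Iso.inv_hom_id, Spec.map_id,
    Category.id_comp]

lemma coordMap_eq_zero {X : Scheme.{u}} {U : X.Opens} {B : CommRingCat.{u}} (g : Spec B ⟶ X)
    (h : Set.range g ⊆ U) (x : Γ(X, U)) (hx : (g.app U).hom x = 0) :
    (coordMap g h).hom x = 0 := by
  simp [coordMap, Scheme.Hom.appLE, hx]

lemma cmap_range (s : Idx n k) : Set.range (cmap hk R s) ⊆ Vo hk R s := plR_range _ _ _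

variable (R) in
/-- the chart as a quotient of the standard open. -/
def psi (s : Idx n k) : Γ(PR (plN n k) R, Vo hk R s) ⟶ CommRingCat.of (P R s) :=
  coordMap (cmap hk R s) (cmap_range hk s)

lemma psi_fac (s : Idx n k) : Spec.map (psi hk R s) ≫ (affVo hk s).fromSpec = cmap hk R s :=
  coordMap_fac _ _ _

lemma psi_surjective (s : Idx n k) : Function.Surjective (psi hk R s).hom := by
  classical
  let S := (psi hk R s).hom.range
  have hV := affVo (R := R) hk s
  -- constants
  have hR : ∀ r : R, algebraMap R (P R s) r ∈ S := by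
    have h : CommRingCat.ofHom (algebraMap R (P R s)) =
        Spec.preimage (hV.fromSpec ≫ CohB1.ProjSpaceOver.toBase _ (Spec (CommRingCat.of R))) ≫
          psi hk R s := by
      apply Spec.map_injective
      rw [Spec.map_comp, Spec.map_preimage, ← Category.assoc, psi_fac]
      exact (plF_toBase hk _ _).symm
    intro r
    exact ⟨_, (congr($(h).hom r)).symm⟩
  -- coordinates
  have hX : ∀ i, plk hk (genW R s) i ∈ S := by
    intro i
    set j := (enum hk).symm s
    let β : Spec Γ(PR (plN n k) R, Vo hk R s) ⟶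
        Spec (CommRingCat.of (HomogeneousLocalization.Away (CohB1.polyGrading (plN n k) ZZ')
          (MvPolynomial.X j : MvPolynomial (Fin (plN n k + 1)) ZZ'))) :=
      IsOpenImmersion.lift (Proj.awayι _ _ (Approx60.ProjCharts.X₁ ZZ' _ j).2 one_pos)
        (hV.fromSpec ≫ toZ _ R) (by
          rw [show Set.range (Proj.awayι (CohB1.polyGrading (plN n k) ZZ') (MvPolynomial.X j)
              (Approx60.ProjCharts.X₁ ZZ' _ j).2 one_pos) = _ from
            congrArg SetLike.coe (Proj.opensRange_awayι _ _ _ _)]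
          rintro _ ⟨p, rfl⟩
          exact hV.range_fromSpec.le ⟨p, rfl⟩)
    have h : CommRingCat.ofHom (Approx60.ProjCharts.awayEval (ev (plk hk (genW R s)))
        (MvPolynomial.X j) (Approx60.ProjCharts.isUnit_eval_X _ _ _
          (isUnit_plk hk (genW_isFrame R s)))) = Spec.preimage β ≫ psi hk R s := by
      apply Spec.map_injective
      rw [Spec.map_comp, Spec.map_preimage, ← cancel_mono (Proj.awayι _ _
        (Approx60.ProjCharts.X₁ ZZ' _ j).2 one_pos), Category.assoc]
      erw [IsOpenImmersion.lift_fac]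
      rw [← Category.assoc, psi_fac]
      exact (plR_toZ _ _ _).symm
    refine ⟨_, (congr($(h).hom (Approx60.ProjCharts.frac ZZ' _ j
      (Approx60.ProjCharts.X₁ ZZ' _ i)))).symm.trans ?_⟩
    exact Approx60.ProjCharts.awayEval_frac _ _ j (by rw [plk_enum, minor_self (genW_isFrame R s)]) _ i
  intro x
  show x ∈ S
  induction x using MvPolynomial.induction_on with
  | C r => exact hR r
  | add p q hp hq => exact add_mem hp hq
  | mul_X p y hp =>
    refine mul_mem hp ?_
    obtain ⟨⟨j, hj⟩, b⟩ := y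
    obtain ⟨i, π, hi⟩ := entry_eq_plk hk j hj b
    have := hi (P R s) (genW R s) (genW_isFrame R s)
    rw [genW_of_notMem R s hj] at this
    rw [this]
    exact mul_mem (intCast_mem S _) (hX i)

variable (R) in
/-- every function on a standard open killed in its own chart is killed in all charts. -/
lemma app_eq_zero (s t : Idx n k) (x : Γ(PR (plN n k) R, Vo hk R s))
    (hx : (psi hk R s).hom x = 0) : ((cmap hk R t).app (Vo hk R s)).hom x = 0 := by
  set W := cmap hk R t ⁻¹ᵁ Vo hk R s
  refine (Spec (CommRingCat.of (P R t))).IsSheaf.section_ext fun p hp ↦ ?_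
  obtain ⟨_, ⟨Y, hY, rfl⟩, hpY, hYW⟩ :=
    (Spec (CommRingCat.of (P R t))).isBasis_affineOpens.exists_subset_of_mem_open
      (show p ∈ W from hp) W.2
  refine ⟨Y, hYW, hpY, ?_⟩
  rw [map_zero]
  let B := Γ(Spec (CommRingCat.of (P R t)), Y)
  let ρ : CommRingCat.of (P R t) ⟶ B := Spec.preimage hY.fromSpec
  letI : Algebra R B := (ρ.hom.comp (algebraMap R (P R t))).toAlgebra
  let ρₐ : P R t →ₐ[R] B := { ρ.hom with commutes' := fun _ ↦ rfl }
  have hF := (genW_isFrame R t).map ρₐ
  have e1 : hY.fromSpec ≫ cmap hk R t = plF hk R _ hF := by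
    rw [← plF_map hk ρₐ (genW R t) (genW_isFrame R t), cmap]
    congr 1
    exact (Spec.map_preimage hY.fromSpec).symm
  have hu : IsUnit (minor (fun j a ↦ ρₐ (genW R t j a)) (sig s)) := by
    rw [← plk_enum hk]
    refine isUnit_of_range_V (R := R) _ _ _ (isUnit_plk hk hF) fun q ↦ ?_
    change plF hk R _ hF q ∈ Vo hk R s
    rw [← e1, Scheme.Hom.comp_apply]
    exact hYW (hY.range_fromSpec.le ⟨q, rfl⟩)
  obtain ⟨W', h', e', -⟩ := exists_frame_of_isUnit (R := R) hF hu
  have e2 : plF hk R _ hF = plF hk R W' h' := (plF_eq_of_frameN_eq hk h' hF e').symm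
  rw [plF_eq_cmap hk W' h'] at e2
  have key : (cmap hk R t).appLE (Vo hk R s) Y hYW =
      psi hk R s ≫ CommRingCat.ofHom (classMap (R := R) (s := s) W').toRingHom := by
    apply Spec.map_injective
    rw [← cancel_mono (affVo hk s).fromSpec, IsAffineOpen.SpecMap_appLE_fromSpec _ (affVo hk s) hY,
      Spec.map_comp, Category.assoc, psi_fac, e1, e2]

  have h2 := congr($(key).hom x)
  rw [CommRingCat.comp_apply, hx, map_zero] at h2
  exact h2

instance : IsProper (CohB1.ProjSpaceOver.toBase (plN n k) (Spec (CommRingCat.of R))) :=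
  Approx60.Segre.isProper_toBase _ _

instance : QuasiSeparatedSpace (PR (plN n k) R) :=
  quasiSeparatedSpace_of_quasiSeparated
    (CohB1.ProjSpaceOver.toBase (plN n k) (Spec (CommRingCat.of R)))

variable (R) in
/-- all charts together. -/
def allCharts : (∐ fun s : Idx n k ↦ Spec (CommRingCat.of (P R s))) ⟶ PR (plN n k) R :=
  Sigma.desc fun s ↦ cmap hk R s

instance : QuasiCompact (allCharts hk R) := quasiCompact_of_compactSpace _

variable (R) in
/-- the Grassmannian inside projective space. -/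
def G₀ : Scheme.{u} := (allCharts hk R).ker.subscheme

variable (R) in
/-- the inclusion. -/
def ι₀ : G₀ hk R ⟶ PR (plN n k) R := (allCharts hk R).ker.subschemeι

instance : IsClosedImmersion (ι₀ hk R) :=
  inferInstanceAs (IsClosedImmersion (allCharts hk R).ker.subschemeι)

lemma mem_ker_ideal (s : Idx n k) (x : Γ(PR (plN n k) R, Vo hk R s))
    (hx : (psi hk R s).hom x = 0) :
    x ∈ (allCharts hk R).ker.ideal ⟨Vo hk R s, affVo hk s⟩ := by
  rw [← (allCharts hk R).iInf_ker_openCover_map_comp_apply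
    (sigmaOpenCover fun s : Idx n k ↦ Spec (CommRingCat.of (P R s))), Ideal.mem_iInf]
  intro t
  haveI : QuasiCompact (cmap hk R t) := quasiCompact_of_compactSpace _
  have e : (sigmaOpenCover fun s : Idx n k ↦ Spec (CommRingCat.of (P R s))).f t ≫ allCharts hk R
      = cmap hk R t := Sigma.ι_desc _ _
  rw [e, Scheme.Hom.ker_apply]
  exact app_eq_zero hk R s t x hx

lemma plF_factors {s : Idx n k} (W : Fin n → Fin k → A) (h : IsFrame (sig s) W) :
    ∃ l : Spec (CommRingCat.of A) ⟶ G₀ hk R, l ≫ ι₀ hk R = plF hk R W h := by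
  have hle : (ι₀ hk R).ker ≤ (plF hk R W h).ker := by
    change (allCharts hk R).ker.subschemeι.ker ≤ _
    rw [plF_eq_cmap, Scheme.IdealSheafData.ker_subschemeι,
      show cmap hk R s = Sigma.ι (fun s : Idx n k ↦ Spec (CommRingCat.of (P R s))) s ≫ allCharts hk R
        from (Sigma.ι_desc _ _).symm, ← Category.assoc]
    exact Scheme.Hom.le_ker_comp _ _
  exact ⟨IsClosedImmersion.lift (ι₀ hk R) _ hle, IsClosedImmersion.lift_fac _ _ _⟩

/-- points of the Grassmannian in a standard open come from frames. -/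
theorem exists_frame_of_factors (s : Idx n k) (g : Spec (CommRingCat.of A) ⟶ PR (plN n k) R)
    (hg : g ≫ CohB1.ProjSpaceOver.toBase (plN n k) (Spec (CommRingCat.of R)) =
      Spec.map (CommRingCat.ofHom (algebraMap R A)))
    (hf : ∃ l, l ≫ ι₀ hk R = g) (hr : Set.range g ⊆ Vo hk R s) :
    ∃ (W : Fin n → Fin k → A) (h : IsFrame (sig s) W), g = plF hk R W h := by
  obtain ⟨l, hl⟩ := hf
  have hle : (allCharts hk R).ker ≤ g.ker := by
    rw [← hl]
    exact (Scheme.IdealSheafData.ker_subschemeι _).ge.trans (Scheme.Hom.le_ker_comp _ _)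
  set χ := coordMap g hr
  have hχ : RingHom.ker (psi hk R s).hom ≤ RingHom.ker χ.hom := fun x hx ↦
    coordMap_eq_zero g hr x (g.ideal_ker_le _ (hle _ (mem_ker_ideal hk s x hx)))
  let θ : P R s →+* A := (psi hk R s).hom.liftOfSurjective (psi_surjective hk s) ⟨χ.hom, hχ⟩
  have hθ : g = Spec.map (CommRingCat.ofHom θ) ≫ cmap hk R s := by
    rw [← psi_fac, ← Category.assoc, ← Spec.map_comp]
    conv_lhs => rw [← coordMap_fac (affVo hk s) g hr]
    congr 2
    refine CommRingCat.hom_ext (RingHom.ext fun x ↦ ?_)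
    exact ((psi hk R s).hom.liftOfRightInverse_comp_apply _ (Function.rightInverse_surjInv (psi_surjective hk s)) ⟨χ.hom, hχ⟩ x).symm
  have hc : ∀ r, θ (algebraMap R (P R s) r) = algebraMap R A r := by
    rw [hθ, Category.assoc, cmap, plF_toBase, ← Spec.map_comp] at hg
    exact fun r ↦ congr($(Spec.map_injective hg).hom r)
  let θₐ : P R s →ₐ[R] A := { θ with commutes' := hc }
  exact ⟨_, (genW_isFrame R s).map θₐ, hθ.trans (plF_map hk θₐ _ _)⟩

end Groth.Agent.Grass5.Free
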