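import Mathlib

/-!
Closed subfunctors cut out by natural families of ideals, and morphisms from natural
transformations on affine points, for schemes over an affine base.
-/

set_option autoImplicit false
set_option maxHeartbeats 200000

universe u

open AlgebraicGeometry CategoryTheory

namespace Groth.Agent.Grass5

variable {R : Type u} [CommRing R]

/-- `Spec A` over `Spec R`. -/
noncomputable abbrev pt (A : CommAlgCat.{u} R) : Over (Spec (CommRingCat.of R)) :=
  Over.mk (Spec.map (CommRingCat.ofHom (algebraMap R A)))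

variable (X : Over (Spec (CommRingCat.of R)))

/-- the algebra of a morphism `Spec B ⟶ X`. -/
noncomputable def algOf {B : CommRingCat.{u}} (f : Spec B ⟶ X.left) : CommAlgCat.{u} R :=
  letI : Algebra R B := (Spec.preimage (f ≫ X.hom)).hom.toAlgebra
  CommAlgCat.of R B

lemma algOf_specMap {B : CommRingCat.{u}} (f : Spec B ⟶ X.left) :
    Spec.map (CommRingCat.ofHom (algebraMap R (algOf X f))) = f ≫ X.hom :=
  Spec.map_preimage (f ≫ X.hom)

/-- a morphism `Spec B ⟶ X` as a point. -/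
noncomputable def ptOf {B : CommRingCat.{u}} (f : Spec B ⟶ X.left) : pt (algOf X f) ⟶ X :=
  Over.homMk f (algOf_specMap X f).symm

@[simp] lemma ptOf_left {B : CommRingCat.{u}} (f : Spec B ⟶ X.left) : (ptOf X f).left = f := rfl

variable {X}

lemma pt_w {A : CommAlgCat.{u} R} (g : pt A ⟶ X) :
    g.left ≫ X.hom = Spec.map (CommRingCat.ofHom (algebraMap R A)) := Over.w g

lemma algebraMap_comm {A : CommAlgCat.{u} R} (g : pt A ⟶ X) {B : CommRingCat.{u}}
    (ψ : CommRingCat.of A ⟶ B) (f : Spec B ⟶ X.left) (h : Spec.map ψ ≫ g.left = f) (r : R) :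
    ψ.hom (algebraMap R A r) = algebraMap R (algOf X f) r := by
  have : CommRingCat.ofHom (algebraMap R A) ≫ ψ
      = CommRingCat.ofHom (algebraMap R (algOf X f)) := by
    refine Spec.map_injective ?_
    rw [Spec.map_comp, ← pt_w g]
    refine ((algOf_specMap X f).trans ?_).symm
    rw [← h, Category.assoc]
  exact congr($(this).hom r)

/-- algebra map attached to a factorisation. -/
noncomputable def homOf {A : CommAlgCat.{u} R} (g : pt A ⟶ X) {B : CommRingCat.{u}}
    (ψ : CommRingCat.of A ⟶ B) (f : Spec B ⟶ X.left) (h : Spec.map ψ ≫ g.left = f) :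
    A ⟶ algOf X f :=
  letI : Algebra R B := (Spec.preimage (f ≫ X.hom)).hom.toAlgebra
  CommAlgCat.ofHom
    ({ toRingHom := ψ.hom
       commutes' := algebraMap_comm g ψ f h } : (A : Type u) →ₐ[R] B)

lemma specMap_homOf {A : CommAlgCat.{u} R} (g : pt A ⟶ X) {B : CommRingCat.{u}}
    (ψ : CommRingCat.of A ⟶ B) (f : Spec B ⟶ X.left) (h : Spec.map ψ ≫ g.left = f) :
    (ptOf X f).left = Spec.map (CommRingCat.ofHom (homOf g ψ f h).hom.toRingHom) ≫ g.left :=
  h.symm

section Ideals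

variable (I : ∀ A : CommAlgCat.{u} R, (pt A ⟶ X) → Ideal A)

/-- the ideal of a morphism `Spec B ⟶ X`. -/
noncomputable def idealAt {B : CommRingCat.{u}} (f : Spec B ⟶ X.left) : Ideal B :=
  I (algOf X f) (ptOf X f)

/-- naturality of a family of ideals. -/
def IsNat : Prop := ∀ (A C : CommAlgCat.{u} R) (φ : A ⟶ C) (g : pt A ⟶ X) (g' : pt C ⟶ X),
    g'.left = Spec.map (CommRingCat.ofHom φ.hom.toRingHom) ≫ g.left →
      I C g' = (I A g).map φ.hom.toRingHom

variable {I}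

lemma idealAt_eq (hI : IsNat I) {A : CommAlgCat.{u} R} (g : pt A ⟶ X) {B : CommRingCat.{u}}
    (ψ : CommRingCat.of A ⟶ B) (f : Spec B ⟶ X.left) (h : Spec.map ψ ≫ g.left = f) :
    idealAt I f = (I A g).map ψ.hom :=
  hI A (algOf X f) (homOf g ψ f h) g (ptOf X f) (specMap_homOf g ψ f h)

lemma idealAt_map (hI : IsNat I) {B C : CommRingCat.{u}} (ψ : B ⟶ C) (f : Spec B ⟶ X.left)
    (f' : Spec C ⟶ X.left) (h : Spec.map ψ ≫ f = f') :
    idealAt I f' = (idealAt I f).map ψ.hom :=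
  idealAt_eq hI (ptOf X f) ψ f' h

variable (hI : IsNat I)

/-- the ideal sheaf of the family. -/
noncomputable def idealSheaf : X.left.IdealSheafData where
  ideal U := idealAt I U.2.fromSpec
  map_ideal_basicOpen U f := (idealAt_map hI _ _ _ (U.2.map_fromSpec
    (X.left.affineBasicOpen f).2 (homOfLE (X.left.basicOpen_le f)).op)).symm

lemma preimage_fromSpec_spec {A : CommRingCat.{u}} {V : (Spec A).Opens} (hV : IsAffineOpen V) :
    Spec.map ((Scheme.ΓSpecIso A).inv ≫ (Spec A).presheaf.map (homOfLE le_top).op) =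
      hV.fromSpec := by
  rw [Spec.map_comp, ← hV.fromSpec_toSpecΓ, Category.assoc,
    toSpecΓ_SpecMap_ΓSpecIso_inv, Category.comp_id]

lemma local_eq {A : CommAlgCat.{u} R} (g : pt A ⟶ X) (U : X.left.affineOpens)
    (V : (Spec (CommRingCat.of A)).affineOpens) (hVU : V.1 ≤ g.left ⁻¹ᵁ U.1) :
    ((idealSheaf hI).ideal U).map (g.left.appLE U.1 V.1 hVU).hom =
      (I A g).map ((Scheme.ΓSpecIso (CommRingCat.of A)).inv ≫
        (Spec (CommRingCat.of A)).presheaf.map (homOfLE le_top).op).hom := by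
  have h1 := idealAt_map hI (g.left.appLE U.1 V.1 hVU) U.2.fromSpec (V.2.fromSpec ≫ g.left)
    (IsAffineOpen.SpecMap_appLE_fromSpec g.left U.2 V.2 hVU)
  have h2 := idealAt_eq hI g ((Scheme.ΓSpecIso (CommRingCat.of A)).inv ≫
        (Spec (CommRingCat.of A)).presheaf.map (homOfLE le_top).op) (V.2.fromSpec ≫ g.left)
    (by rw [preimage_fromSpec_spec V.2])
  exact h1.symm.trans h2

lemma idealSheaf_le_ker_iff {A : CommAlgCat.{u} R} (g : pt A ⟶ X) :
    idealSheaf hI ≤ g.left.ker ↔ I A g = ⊥ := by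
  constructor
  · intro h
    rw [eq_bot_iff]
    intro a ha
    rw [Ideal.mem_bot]
    apply (Scheme.ΓSpecIso (CommRingCat.of A)).commRingCatIsoToRingEquiv.symm.injective
    rw [map_zero]
    refine (Spec (CommRingCat.of A)).IsSheaf.section_ext fun p _ ↦ ?_
    obtain ⟨_, ⟨U, hU, rfl⟩, hpU, -⟩ := X.left.isBasis_affineOpens.exists_subset_of_mem_open
      (Set.mem_univ (g.left p)) isOpen_univ
    obtain ⟨_, ⟨V, hV, rfl⟩, hpV, hVU⟩ :=
      (Spec (CommRingCat.of A)).isBasis_affineOpens.exists_subset_of_mem_open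
        (show p ∈ g.left ⁻¹ᵁ U from hpU) (g.left ⁻¹ᵁ U).2
    refine ⟨V, le_top, hpV, ?_⟩
    rw [map_zero]
    have h' := local_eq hI g ⟨U, hU⟩ ⟨V, hV⟩ hVU
    have hbot : ((idealSheaf hI).ideal ⟨U, hU⟩).map (g.left.appLE U V hVU).hom = ⊥ := by
      rw [Ideal.map_eq_bot_iff_le_ker]
      intro x hx
      have := g.left.ideal_ker_le ⟨U, hU⟩ (h _ hx)
      rw [RingHom.mem_ker] at this ⊢
      simp only [Scheme.Hom.appLE, CommRingCat.hom_comp, RingHom.comp_apply]
      rw [this, map_zero]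
    rw [hbot] at h'
    have := (Ideal.map_eq_bot_iff_le_ker _).mp h'.symm ha
    exact this
  · intro h
    refine Scheme.IdealSheafData.le_ofIdeals_iff.mpr fun U x hx ↦ ?_
    rw [RingHom.mem_ker]
    refine (Spec (CommRingCat.of A)).IsSheaf.section_ext fun p hp ↦ ?_
    obtain ⟨_, ⟨V, hV, rfl⟩, hpV, hVU⟩ :=
      (Spec (CommRingCat.of A)).isBasis_affineOpens.exists_subset_of_mem_open
        (show p ∈ g.left ⁻¹ᵁ U.1 from hp) (g.left ⁻¹ᵁ U.1).2
    refine ⟨V, hVU, hpV, ?_⟩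
    rw [map_zero]
    have h' := local_eq hI g U ⟨V, hV⟩ hVU
    rw [h, Ideal.map_bot] at h'
    exact (Ideal.map_eq_bot_iff_le_ker _).mp h' hx

/-- A natural family of ideals on affine points cuts out a closed subscheme. -/
theorem exists_closedImmersion_of_ideals (hI : IsNat I) :
    ∃ (Z : Scheme.{u}) (ι : Z ⟶ X.left), IsClosedImmersion ι ∧
      ∀ (A : CommAlgCat.{u} R) (g : pt A ⟶ X),
        (∃ h : (pt A).left ⟶ Z, h ≫ ι = g.left) ↔ I A g = ⊥ := by
  refine ⟨(idealSheaf hI).subscheme, (idealSheaf hI).subschemeι, inferInstance, fun A g ↦ ?_⟩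
  rw [← idealSheaf_le_ker_iff hI g]
  constructor
  · rintro ⟨h, e⟩
    rw [← e]
    exact (Scheme.IdealSheafData.ker_subschemeι _).ge.trans
      (Scheme.Hom.le_ker_comp h (idealSheaf hI).subschemeι)
  · intro h
    exact ⟨IsClosedImmersion.lift _ g.left ((Scheme.IdealSheafData.ker_subschemeι _).le.trans h),
      IsClosedImmersion.lift_fac _ _ _⟩

end Ideals

section Yoneda

variable {Y : Over (Spec (CommRingCat.of R))}

lemma hom_left_ext {Z : Scheme.{u}} {W : Scheme.{u}} (a b : W ⟶ Z)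
    (h : ∀ (B : CommRingCat.{u}) (f : Spec B ⟶ W), f ≫ a = f ≫ b) : a = b :=
  W.affineOpenCover.openCover.hom_ext a b fun i ↦ h _ _

/-- morphisms over the base are determined by affine points. -/
lemma hom_ext_pts (a b : Y ⟶ X) (h : ∀ (A : CommAlgCat.{u} R) (g : pt A ⟶ Y), g ≫ a = g ≫ b) :
    a = b := by
  refine Over.OverMorphism.ext (hom_left_ext _ _ fun B f ↦ ?_)
  exact congr($(h (algOf Y f) (ptOf Y f)).left)

variable (F : ∀ A : CommAlgCat.{u} R, (pt A ⟶ Y) → (pt A ⟶ X))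
  (hF : ∀ (A C : CommAlgCat.{u} R) (φ : A ⟶ C) (g : pt A ⟶ Y) (g' : pt C ⟶ Y),
    g'.left = Spec.map (CommRingCat.ofHom φ.hom.toRingHom) ≫ g.left →
      (F C g').left = Spec.map (CommRingCat.ofHom φ.hom.toRingHom) ≫ (F A g).left)

/-- image of a morphism `Spec B ⟶ Y`. -/
noncomputable def imgAt {B : CommRingCat.{u}} (f : Spec B ⟶ Y.left) : Spec B ⟶ X.left :=
  (F (algOf Y f) (ptOf Y f)).left

include hF in
lemma imgAt_eq {A : CommAlgCat.{u} R} (g : pt A ⟶ Y) {B : CommRingCat.{u}}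
    (ψ : CommRingCat.of A ⟶ B) (f : Spec B ⟶ Y.left) (h : Spec.map ψ ≫ g.left = f) :
    imgAt F f = Spec.map ψ ≫ (F A g).left :=
  hF A (algOf Y f) (homOf g ψ f h) g (ptOf Y f) (specMap_homOf g ψ f h)

include hF in
lemma imgAt_comp {B C : CommRingCat.{u}} (q : Spec C ⟶ Spec B) (f : Spec B ⟶ Y.left) :
    imgAt F (q ≫ f) = q ≫ imgAt F f := by
  have h : Spec.map (Spec.preimage q) ≫ (ptOf Y f).left = q ≫ f := by
    rw [Spec.map_preimage, ptOf_left]
  exact (imgAt_eq F hF (ptOf Y f) (Spec.preimage q) (q ≫ f) h).trans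
    (by rw [Spec.map_preimage]; rfl)

include hF in
lemma imgAt_glue {B B' C : CommRingCat.{u}} (k : Spec C ⟶ Spec B) (k' : Spec C ⟶ Spec B')
    (f : Spec B ⟶ Y.left) (f' : Spec B' ⟶ Y.left) (h : k ≫ f = k' ≫ f') :
    k ≫ imgAt F f = k' ≫ imgAt F f' := by
  rw [← imgAt_comp F hF, ← imgAt_comp F hF, h]

include hF in
/-- A natural map on affine points comes from a morphism. -/
theorem exists_hom_of_pts :
    ∃ c : Y ⟶ X, ∀ (A : CommAlgCat.{u} R) (g : pt A ⟶ Y), g ≫ c = F A g := by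
  let 𝒰 := Y.left.affineOpenCover
  let c₀ : Y.left ⟶ X.left := 𝒰.openCover.glueMorphisms (fun i ↦ imgAt F (𝒰.f i)) (fun i j ↦
    hom_left_ext _ _ fun B q ↦
      (Category.assoc _ _ _).symm.trans <| (imgAt_glue F hF
        (q ≫ Limits.pullback.fst _ _) (q ≫ Limits.pullback.snd _ _) (𝒰.f i) (𝒰.f j)
        ((Category.assoc _ _ _).trans
          ((congrArg (q ≫ ·) Limits.pullback.condition).trans (Category.assoc _ _ _).symm))).trans
        (Category.assoc _ _ _))
  have hι : ∀ i, 𝒰.f i ≫ c₀ = imgAt F (𝒰.f i) :=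
    fun i ↦ Scheme.Cover.ι_glueMorphisms 𝒰.openCover _ _ i
  have hc : ∀ (B : CommRingCat.{u}) (f : Spec B ⟶ Y.left), f ≫ c₀ = imgAt F f := by
    intro B f
    refine Scheme.Cover.hom_ext (Precoverage.ZeroHypercover.pullback₁ f 𝒰.openCover) _ _
      fun i ↦ hom_left_ext _ _ fun C q ↦ ?_
    let k : Spec C ⟶ Spec B := q ≫ Limits.pullback.fst f (𝒰.openCover.f i)
    let k' : Spec C ⟶ Spec (𝒰.X i) := q ≫ Limits.pullback.snd f (𝒰.openCover.f i)
    have hk : k ≫ f = k' ≫ 𝒰.f i :=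
      (Category.assoc _ _ _).trans
          ((congrArg (q ≫ ·) Limits.pullback.condition).trans (Category.assoc _ _ _).symm)
    have e : k ≫ f ≫ c₀ = k ≫ imgAt F f :=
      calc k ≫ f ≫ c₀ = (k ≫ f) ≫ c₀ := (Category.assoc _ _ _).symm
        _ = (k' ≫ 𝒰.f i) ≫ c₀ := congrArg (· ≫ c₀) hk
        _ = k' ≫ 𝒰.f i ≫ c₀ := Category.assoc _ _ _
        _ = k' ≫ imgAt F (𝒰.f i) := congrArg (k' ≫ ·) (hι i)
        _ = k ≫ imgAt F f := (imgAt_glue F hF k k' f (𝒰.f i) hk).symm
    exact (Category.assoc _ _ _).symm.trans (e.trans (Category.assoc _ _ _))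
  have hw : c₀ ≫ X.hom = Y.hom := by
    refine hom_left_ext _ _ fun B f ↦ ?_
    exact ((Category.assoc _ _ _).symm.trans (congrArg (· ≫ X.hom) (hc B f))).trans
      ((pt_w (F (algOf Y f) (ptOf Y f))).trans (algOf_specMap Y f))
  refine ⟨Over.homMk c₀ hw, fun A g ↦ ?_⟩
  refine Over.OverMorphism.ext ?_
  exact ((hc (CommRingCat.of A) g.left).trans
    (imgAt_eq F hF g (𝟙 _) g.left (by simp))).trans (by simp)

end Yoneda

end Groth.Agent.Grass5
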