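import Groth.Agent.FBase64.ExtPow.Unique
import Groth.Agent.Om3.DetSeq
import Groth.Agent.Grass5.BasisLocus
import Groth.Agent.FlatMor68.LocFree

/-!
Morphisms out of exterior powers, and wedges of sections of a locally free module.
-/

set_option autoImplicit false
set_option backward.isDefEq.respectTransparency false
set_option backward.isDefEq.respectTransparency.types false
set_option maxHeartbeats 400000

noncomputable section

universe u

open CategoryTheory CategoryTheory.Limits AlgebraicGeometry TopologicalSpace Opposite exteriorPower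
open Groth.Agent Groth.Agent.QC70 Groth.Agent.Props58.LocFree Groth.Agent.Om3 Groth.Agent.FBase64.ExtPowExists

namespace Groth.Agent.Grass5.ExtHom

variable {X : Scheme.{u}} {p : ℕ} {E L T : X.Modules}

theorem exists_hom (F : ∀ U : X.Opens, ↥(⋀[Γ(X, U)]^p Γ(E, U)) →ₗ[Γ(X, U)] Γ(T, U))
    (hF : ∀ (U V : X.Opens) (h : V ≤ U) x, res T h (F U x) = F V (resExt E p h x)) :
    ∃ θ : (CohB1.sheafifyMod X).obj (pre E p) ⟶ T, ∀ (U : X.Opens) (x : ↥(⋀[Γ(X, U)]^p Γ(E, U))),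
      θ.app U ((unit E p).app (op U) x) = F U x := by
  let η : pre E p ⟶ T.val :=
    { app := fun U => ModuleCat.ofHom (F U.unop)
      naturality := fun {U V} i => by
        ext x
        exact (hF U.unop V.unop i.unop.le x).symm }
  let adj := PresheafOfModules.sheafificationAdjunction (𝟙 X.ringCatSheaf.obj)
  let θ : (CohB1.sheafifyMod X).obj (pre E p) ⟶ T := (adj.homEquiv (pre E p) T).symm η
  have hθ : adj.homEquiv (pre E p) T θ = η := Equiv.apply_symm_apply _ _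
  rw [Adjunction.homEquiv_unit] at hθ
  exact ⟨θ, fun U x => congrArg (fun a => a.app (op U) x) hθ⟩

theorem mu_natural {ψ : ∀ W : X.affineOpens, ↥(⋀[Γ(X, W.1)]^p Γ(E, W.1)) ≃ₗ[Γ(X, W.1)] Γ(L, W.1)}
    {μ : ∀ U : X.Opens, ↥(⋀[Γ(X, U)]^p Γ(E, U)) →ₗ[Γ(X, U)] Γ(L, U)}
    (hμ : ∀ (U : X.Opens) (V : X.affineOpens) (hV : V.1 ≤ U) x, res L hV (μ U x) = ψ V (resExt E p hV x))
    {U V : X.Opens} (h : V ≤ U) (x : ↥(⋀[Γ(X, U)]^p Γ(E, U))) : res L h (μ U x) = μ V (resExt E p h x) := by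
  refine section_ext _ _ _ fun q hq => ?_
  obtain ⟨W, hW, hqW, hle⟩ := exists_isAffineOpen_mem_and_subset (x := q) (U := V) hq
  refine ⟨W, hle, hqW, ?_⟩
  rw [res_res, hμ U ⟨W, hW⟩ (fun a ha => h (hle ha)), hμ V ⟨W, hW⟩ hle, resExt_resExt]

theorem mu_affine {ψ : ∀ W : X.affineOpens, ↥(⋀[Γ(X, W.1)]^p Γ(E, W.1)) ≃ₗ[Γ(X, W.1)] Γ(L, W.1)}
    {μ : ∀ U : X.Opens, ↥(⋀[Γ(X, U)]^p Γ(E, U)) →ₗ[Γ(X, U)] Γ(L, U)}
    (hμ : ∀ (U : X.Opens) (V : X.affineOpens) (hV : V.1 ≤ U) x, res L hV (μ U x) = ψ V (resExt E p hV x))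
    (V : X.affineOpens) (x : ↥(⋀[Γ(X, V.1)]^p Γ(E, V.1))) : μ V.1 x = ψ V x := by
  have h := hμ V.1 V le_rfl x
  rwa [res_self, FBase64.ExtPowExists.resExt_self] at h

variable [E.IsQuasicoherent]

/-- A morphism out of an exterior power. -/
theorem exists_hom_of_isExtPow {ψ : ∀ W : X.affineOpens, ↥(⋀[Γ(X, W.1)]^p Γ(E, W.1)) ≃ₗ[Γ(X, W.1)] Γ(L, W.1)}
    (hψ : ∀ (U V : X.affineOpens) (h : V.1 ≤ U.1) (x : ↥(⋀[Γ(X, U.1)]^p Γ(E, U.1))),
      res L h (ψ U x) = ψ V (resExt E p h x))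
    (F : ∀ U : X.Opens, ↥(⋀[Γ(X, U)]^p Γ(E, U)) →ₗ[Γ(X, U)] Γ(T, U))
    (hF : ∀ (U V : X.Opens) (h : V ≤ U) x, res T h (F U x) = F V (resExt E p h x)) :
    ∃ θ : L ⟶ T, ∀ (W : X.affineOpens) (x : ↥(⋀[Γ(X, W.1)]^p Γ(E, W.1))),
      θ.app W.1 (ψ W x) = F W.1 x := by
  choose μ hμ using FBase64.ExtPowExists.exists_mu ψ hψ
  obtain ⟨α, hα⟩ := exists_hom μ fun U V h x => mu_natural hμ h x
  have : IsIso α := isIso_of_affine_bijective α fun U => by
    have h1 : ∀ x : ↥(⋀[Γ(X, U.1)]^p Γ(E, U.1)), α.app U.1 ((unit E p).app (op U.1) x) = ψ U x :=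
      fun x => (hα U.1 x).trans (mu_affine hμ U x)
    refine ⟨fun a b hab => ?_, fun l => ?_⟩
    · obtain ⟨x, rfl⟩ := (unit_bijective E p U.2).2 a
      obtain ⟨y, rfl⟩ := (unit_bijective E p U.2).2 b
      rw [h1, h1] at hab
      rw [(ψ U).injective hab]
    · exact ⟨(unit E p).app (op U.1) ((ψ U).symm l), (h1 _).trans ((ψ U).apply_symm_apply l)⟩
  obtain ⟨β, hβ⟩ := exists_hom F hF
  refine ⟨inv α ≫ β, fun W x => ?_⟩
  rw [← mu_affine hμ W x, ← hα W.1 x]
  show ((α ≫ inv α ≫ β).app W.1) _ = _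
  rw [IsIso.hom_inv_id_assoc]
  exact hβ W.1 x

section wedge

variable {R M : Type u} [CommRing R] [AddCommGroup M] [Module R M] {r : ℕ}

omit [E.IsQuasicoherent] in
theorem ιMulti_matrix (s : Fin r → M) (hs : Function.Bijective fun a : Fin r → R => ∑ i, a i • s i)
    (A : Matrix (Fin r) (Fin r) R) :
    ιMulti R r (fun k => ∑ i, A i k • s i) = A.det • ιMulti R r s := by
  classical
  let b : Module.Basis (Fin r) R M := Module.Basis.ofEquivFun (LinearEquiv.ofBijective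
    (Fintype.linearCombination R s) (by
      refine (congrArg Function.Bijective (funext fun a => ?_)).mp hs
      simp [Fintype.linearCombination_apply])).symm
  have hb : (⇑b : Fin r → M) = s := funext fun j => by
    rw [Module.Basis.coe_ofEquivFun, LinearEquiv.symm_symm]
    show Fintype.linearCombination R s (Pi.single j 1) = _
    rw [Fintype.linearCombination_apply_single, one_smul]
  obtain ⟨a, ha⟩ := (DetSeq.bijective_smul_top b).2 (ιMulti R r fun k => ∑ i, A i k • s i)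
  have hdet : b.det (fun k => ∑ i, A i k • s i) = A.det := by
    rw [Module.Basis.det_apply]
    congr 1
    ext i k
    rw [Module.Basis.toMatrix_apply, ← hb, Module.Basis.repr_sum_self]
  have := congrArg (alternatingMapLinearEquiv b.det) ha
  rw [map_smul, alternatingMapLinearEquiv_apply_ιMulti, alternatingMapLinearEquiv_apply_ιMulti,
    Module.Basis.det_self, smul_eq_mul, mul_one, hdet] at this
  rw [← ha, this, hb]

omit [E.IsQuasicoherent] in
theorem ιMulti_update (s : Fin r → M) (k : Fin r) (c : Fin r → R) :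
    ιMulti R r (Function.update s k (∑ i, c i • s i)) = c k • ιMulti R r s := by
  classical
  rw [AlternatingMap.map_update_sum, Finset.sum_eq_single k]
  · rw [AlternatingMap.map_update_smul, Function.update_eq_self]
  · intro i _ hik
    rw [AlternatingMap.map_update_smul, AlternatingMap.map_eq_zero_of_eq _ _ (i := k) (j := i)
      (by rw [Function.update_self, Function.update_of_ne hik]) (Ne.symm hik), smul_zero]
  · exact fun h => absurd (Finset.mem_univ _) h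

end wedge

section det

variable {D : X.Modules} {r : ℕ}

theorem exists_affine_basis {Q : X.Modules} (hQ : FlatMod.IsFinLocFreeOfRank r Q) (x : X) :
    ∃ (V : X.affineOpens) (s : Fin r → Γ(Q, V.1)), x ∈ V.1 ∧ StalkBasis s := by
  obtain ⟨U, hxU, ⟨i⟩⟩ := hQ x
  obtain ⟨s, hs⟩ := exists_stalkBasis_of_iso i
  obtain ⟨V, hV, hxV, hle⟩ := exists_isAffineOpen_mem_and_subset hxU
  exact ⟨⟨V, hV⟩, _, hxV, hs.restrict (fun p hp => hle hp : V ≤ U)⟩

theorem bijective_top_smul {Q : X.Modules} {V : X.affineOpens} {s : Fin r → Γ(Q, V.1)} (hs : StalkBasis s) :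
    Function.Bijective fun a : Γ(X, V.1) => a • ιMulti Γ(X, V.1) r s := by
  let b : Module.Basis (Fin r) Γ(X, V.1) Γ(Q, V.1) := Module.Basis.ofEquivFun (LinearEquiv.ofBijective
    (Fintype.linearCombination Γ(X, V.1) s) (by
      refine (congrArg Function.Bijective (funext fun a => ?_)).mp (hs.bijective (le_refl V.1))
      simp [Fintype.linearCombination_apply, res_self])).symm
  have hb : (⇑b : Fin r → Γ(Q, V.1)) = s := funext fun j => by
    rw [Module.Basis.coe_ofEquivFun, LinearEquiv.symm_symm]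
    show Fintype.linearCombination Γ(X, V.1) s (Pi.single j 1) = _
    rw [Fintype.linearCombination_apply_single, one_smul]
  rw [← hb]
  exact DetSeq.bijective_smul_top b

theorem exists_det_iso [D.IsQuasicoherent] {Q : X.Modules}
    (ψ : ∀ W : X.affineOpens, ↥(⋀[Γ(X, W.1)]^r Γ(Q, W.1)) ≃ₗ[Γ(X, W.1)] Γ(D, W.1))
    {V : X.affineOpens} {s : Fin r → Γ(Q, V.1)} (hs : StalkBasis s) :
    Nonempty (D.restrict V.1.ι ≅ FlatMod.freeMod (↑V.1 : Scheme.{u}) 1) ∧
      ∀ z : Γ(D, V.1), ∃ a : Γ(X, V.1), a • ψ V (ιMulti Γ(X, V.1) r s) = z := by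
  let e₁ := LinearEquiv.ofBijective (LinearMap.toSpanSingleton Γ(X, V.1) _ (ιMulti Γ(X, V.1) r s))
    (bijective_top_smul hs)
  refine ⟨FlatMor68.LocFree.restrict_iso_free D V.2 1
    ((ψ V).symm ≪≫ₗ e₁.symm ≪≫ₗ (LinearEquiv.funUnique (Fin 1) Γ(X, V.1) Γ(X, V.1)).symm), fun z => ?_⟩
  obtain ⟨a, ha⟩ := (bijective_top_smul hs).2 ((ψ V).symm z)
  exact ⟨a, by rw [← map_smul, show a • ιMulti Γ(X, V.1) r s = _ from ha, LinearEquiv.apply_symm_apply]⟩

variable {Q : X.Modules} [Q.IsQuasicoherent] (hQ : FlatMod.IsFinLocFreeOfRank r Q)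
  (hD : ExtPow.IsExtPow r Q D)

include hQ hD

omit [E.IsQuasicoherent] in
theorem rank_det : FlatMod.IsFinLocFreeOfRank 1 D := fun x => by
  haveI := Om3.isQuasicoherent_of_isExtPow hD
  obtain ⟨ψ, hψ⟩ := exists_psi hD
  obtain ⟨V, s, hx, hs⟩ := exists_affine_basis hQ x
  exact ⟨V.1, hx, (exists_det_iso ψ hs).1⟩

omit [E.IsQuasicoherent] in
theorem basisSet_wedge {ψ : ∀ W : X.affineOpens, ↥(⋀[Γ(X, W.1)]^r Γ(Q, W.1)) ≃ₗ[Γ(X, W.1)] Γ(D, W.1)}
    {μ : ∀ U : X.Opens, ↥(⋀[Γ(X, U)]^r Γ(Q, U)) →ₗ[Γ(X, U)] Γ(D, U)}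
    (hμ : ∀ (U : X.Opens) (V : X.affineOpens) (hV : V.1 ≤ U) x, res D hV (μ U x) = ψ V (resExt Q r hV x))
    {W : X.Opens} (t : Fin r → Γ(Q, W)) :
    BasisLocus.basisSet (fun _ : Fin 1 => μ W (ιMulti Γ(X, W) r t)) = BasisLocus.basisSet t := by
  haveI := Om3.isQuasicoherent_of_isExtPow hD
  ext x
  by_cases hx : x ∈ W
  swap
  · exact iff_of_false (fun h => hx h.1) (fun h => hx h.1)
  obtain ⟨U, hxU, ⟨i⟩⟩ := hQ x
  obtain ⟨s₀, hs₀⟩ := exists_stalkBasis_of_iso i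
  obtain ⟨V, hV, hxV, hle⟩ := exists_isAffineOpen_mem_and_subset (x := x) (U := U ⊓ W) ⟨hxU, hx⟩
  have hVU : V ≤ U := fun a ha => (hle ha).1
  have hVW : V ≤ W := fun a ha => (hle ha).2
  let s := fun k => res Q hVU (s₀ k)
  have hs : StalkBasis s := hs₀.restrict hVU
  choose a ha using fun k => hs.exists_comb (le_refl V) (res Q hVW (t k))
  let A : Matrix (Fin r) (Fin r) Γ(X, V) := fun i k => a k i
  have hA : ∀ k, ∑ i, A i k • s i = res Q hVW (t k) := fun k => by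
    have := ha k
    simp only [res_self] at this
    exact this
  obtain ⟨⟨iD⟩, hgen⟩ := exists_det_iso ψ (V := ⟨V, hV⟩) hs
  obtain ⟨s', hs'⟩ := exists_stalkBasis_of_iso iD
  let e := ψ ⟨V, hV⟩ (ιMulti Γ(X, V) r s)
  obtain ⟨d, hd⟩ : ∃ d : Γ(X, V), d • s' 0 = e := by
    obtain ⟨d, hd⟩ := hs'.exists_comb (le_refl V) e
    refine ⟨d 0, ?_⟩
    simpa [res_self] using hd
  obtain ⟨d', hd'⟩ := hgen (s' 0)
  have hdd : d' * d = 1 := by
    have h1 : (fun _ : Fin 1 => d' * d) = fun _ : Fin 1 => (1 : Γ(X, V)) := hs'.eq_of_comb (le_refl V) (by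
      simp only [Fin.sum_univ_one, res_self, one_smul, mul_smul, hd]
      exact hd')
    exact congrFun h1 0
  have hW : res D hVW (μ W (ιMulti Γ(X, W) r t)) = (A.det * d) • s' 0 := by
    rw [hμ W ⟨V, hV⟩ hVW, resExt_ιMulti, ← funext hA, ιMulti_matrix s (by
      refine (congrArg Function.Bijective (funext fun c => ?_)).mp (hs.bijective (le_refl V))
      simp [res_self]) A, map_smul, mul_smul, hd]
  rw [BasisLocus.mem_basisSet_iff hVW hs' (t := fun _ : Fin 1 => μ W (ιMulti Γ(X, W) r t))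
    (A := fun _ _ => A.det * d) (fun _ => by rw [Fin.sum_univ_one]; exact hW.symm) hxV,
    BasisLocus.mem_basisSet_iff hVW hs hA hxV]
  have hu : IsUnit d := IsUnit.of_mul_eq_one_right _ hdd
  rw [Matrix.det_fin_one, Scheme.mem_basicOpen _ _ _ hxV, Scheme.mem_basicOpen _ _ _ hxV, map_mul,
    IsUnit.mul_iff, and_iff_left (hu.map _)]

end det

end Groth.Agent.Grass5.ExtHom
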