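import Groth.Agent.Grass5.HilbLocus

/-!
A finite locally free morphism of degree `d` has at most `d` points in each fibre.
-/

set_option autoImplicit false
set_option linter.style.haveILetI false
set_option maxHeartbeats 400000
set_option backward.isDefEq.respectTransparency false
set_option backward.isDefEq.respectTransparency.types false

universe u

open CategoryTheory CategoryTheory.Limits AlgebraicGeometry

namespace Groth.Agent.Grass5.Hilb

/-- a finite algebra over a field has at most as many primes as its dimension. -/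
theorem card_primeSpectrum_le (K A : Type u) [Field K] [CommRing A] [Algebra K A] [Module.Finite K A] :
    Finite (PrimeSpectrum A) ∧ Nat.card (PrimeSpectrum A) ≤ Module.finrank K A := by
  haveI : IsArtinianRing A := IsArtinianRing.of_finite K A
  haveI : Finite (PrimeSpectrum A) := inferInstance
  refine ⟨inferInstance, ?_⟩
  haveI := Fintype.ofFinite (PrimeSpectrum A)
  let Ψ : A →ₗ[K] ((p : PrimeSpectrum A) → A ⧸ p.asIdeal) :=
    LinearMap.pi fun p => (Ideal.Quotient.mkₐ K p.asIdeal).toLinearMap
  have hΨ : Function.Surjective Ψ := by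
    intro v
    obtain ⟨a, ha⟩ := Ideal.quotientInfToPiQuotient_surj (I := fun p : PrimeSpectrum A => p.asIdeal)
      (fun p q hpq => Ideal.isCoprime_of_isMaximal fun h => hpq (PrimeSpectrum.ext h)) v
    obtain ⟨a, rfl⟩ := Ideal.Quotient.mk_surjective a
    exact ⟨a, ha⟩
  refine le_trans ?_ (LinearMap.finrank_le_finrank_of_surjective hΨ)
  rw [Module.finrank_pi_fintype, Nat.card_eq_fintype_card, ← Finset.card_univ, Finset.card_eq_sum_ones]
  refine Finset.sum_le_sum fun p _ => ?_
  haveI : Nontrivial (A ⧸ p.asIdeal) := Ideal.Quotient.nontrivial_iff.2 p.2.ne_top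
  exact Module.finrank_pos

theorem card_fibre_le {Y T : Scheme.{u}} (w : Y ⟶ T) {d : ℕ} (hw : Mor2.IsFinLocFreeOfDeg d w) (p : T) :
    (w.base ⁻¹' {p}).Finite ∧ (w.base ⁻¹' {p}).ncard ≤ d := by
  haveI := hw.1.1
  let j := T.fromSpecResidueField p
  let P := pullback w j
  haveI : IsFinite (pullback.snd w j) := MorphismProperty.pullback_snd _ _ inferInstance
  haveI : IsAffine P := isAffine_of_isAffineHom (pullback.snd w j)
  let a := Spec.preimage (P.isoSpec.inv ≫ pullback.snd w j)
  have ha : IsPullback (P.isoSpec.inv) (Spec.map a) (pullback.snd w j) (𝟙 _) :=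
    IsPullback.of_horiz_isIso ⟨by simp [a]⟩
  have hdeg := finLocFreeOfDeg_isPullback ha
    (finLocFreeOfDeg_isPullback (IsPullback.of_hasPullback w j) hw)
  letI : Algebra (T.residueField p) Γ(P, ⊤) := a.hom.toAlgebra
  haveI hfin : Module.Finite (T.residueField p) Γ(P, ⊤) := (IsFinite.SpecMap_iff a).1 hdeg.1.1
  have hrank : Module.finrank (T.residueField p) Γ(P, ⊤) = d := by
    let y : PrimeSpectrum (T.residueField p) := ⟨⊥, Ideal.isPrime_bot⟩
    have h1 : (Spec.map (CommRingCat.ofHom (algebraMap (T.residueField p) Γ(P, ⊤)))).finrank y = d :=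
      hdeg.2 y
    rwa [Scheme.Hom.finrank_SpecMap_algebraMap, Module.rankAtStalk_eq_finrank_of_free] at h1
  obtain ⟨hf, hcard⟩ := card_primeSpectrum_le (T.residueField p) Γ(P, ⊤)
  have hsub : w.base ⁻¹' {p} ⊆ Set.range fun q : PrimeSpectrum Γ(P, ⊤) => pullback.fst w j (P.isoSpec.inv q) := by
    intro z hz
    obtain ⟨y, hy⟩ : p ∈ Set.range j := by simp [j]
    obtain ⟨t, ht, -⟩ := Scheme.Pullback.exists_preimage_pullback (f := w) (g := j) z y (hz.trans hy.symm)
    refine ⟨P.isoSpec.hom t, ?_⟩
    show pullback.fst w j (P.isoSpec.inv (P.isoSpec.hom t)) = z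
    rw [← Scheme.Hom.comp_apply P.isoSpec.hom, Iso.hom_inv_id]
    exact ht
  haveI := hf
  refine ⟨(Set.finite_range _).subset hsub, (Set.ncard_le_ncard hsub (Set.finite_range _)).trans ?_⟩
  rw [← Set.image_univ]
  refine (Set.ncard_image_le Set.finite_univ).trans ?_
  rw [Set.ncard_univ]
  omega

end Groth.Agent.Grass5.Hilb
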