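import Groth.Agent.Grass5.PunctAlg

/-!
Flags of ideals with prescribed rational points, and their connectedness by elementary steps.
-/

set_option autoImplicit false
set_option maxHeartbeats 400000

universe u

noncomputable section

namespace Groth.Agent.Grass5.Flag

open Groth.Agent.Grass5.Punct

variable {K : Type u} [Field K] {A : Type u} [CommRing A] [Algebra K A]

/-- the quotient by an ideal is finite dimensional. -/
def Fin' (K : Type u) [Field K] {A : Type u} [CommRing A] [Algebra K A] (I : Ideal A) : Prop :=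
  Module.Finite K (A ⧸ I.restrictScalars K)

/-- an ideal hyperplane supported at a rational point. -/
structure Step (ε : A →ₐ[K] K) (I' I : Ideal A) : Prop where
  le : I ≤ I'
  mul : ∀ a ∈ RingHom.ker ε, ∀ x ∈ I', a * x ∈ I
  gen : ∃ s ∈ I', s ∉ I ∧ I'.restrictScalars K = I.restrictScalars K ⊔ Submodule.span K {s}

/-- ideals with a flag with given points. -/
def FlagA : List (A →ₐ[K] K) → Ideal A → Prop
  | [], I => I = ⊤
  | ε :: P, I => ∃ I', FlagA P I' ∧ Step ε I' I

/-- one elementary step at some point. -/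
def AnyAdj (I I' : Ideal A) : Prop := ∃ ε : A →ₐ[K] K, Adj ε I I'

lemma mem_sup_span {W : Submodule K A} {s x : A} :
    x ∈ W ⊔ Submodule.span K {s} ↔ ∃ w ∈ W, ∃ c : K, w + c • s = x := by
  simp [Submodule.mem_sup, Submodule.mem_span_singleton]

lemma fin_of_le {I I' : Ideal A} (h : I ≤ I') (hI : Fin' K I) : Fin' K I' := by
  unfold Fin' at *
  exact Module.Finite.of_surjective (Submodule.factor (show I.restrictScalars K ≤ I'.restrictScalars K from h))
    (Submodule.factor_surjective _)

lemma ker_factor {I I' : Ideal A} (h : I.restrictScalars K ≤ I'.restrictScalars K) {s : A}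
    (hs : I'.restrictScalars K = I.restrictScalars K ⊔ Submodule.span K {s}) :
    LinearMap.ker (Submodule.factor h) = Submodule.span K {(I.restrictScalars K).mkQ s} := by
  rw [Submodule.factor, Submodule.ker_mapQ, Submodule.comap_id, hs, Submodule.map_sup, Submodule.mkQ_map_self,
    bot_sup_eq, Submodule.map_span, Set.image_singleton]

lemma fin_of_sup {I I' : Ideal A} {s : A}
    (hs : I'.restrictScalars K = I.restrictScalars K ⊔ Submodule.span K {s}) (hI' : Fin' K I') : Fin' K I := by
  have h : I.restrictScalars K ≤ I'.restrictScalars K := hs ▸ le_sup_left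
  unfold Fin' at *
  have hk : Module.Finite K ↥(LinearMap.ker (Submodule.factor h)) := by
    rw [ker_factor h hs]; infer_instance
  have he := ((Submodule.factor h).quotKerEquivOfSurjective (Submodule.factor_surjective h)).symm
  haveI := hk
  haveI : Module.Finite K ((A ⧸ I.restrictScalars K) ⧸ LinearMap.ker (Submodule.factor h)) :=
    Module.Finite.equiv he
  exact Module.Finite.of_submodule_quotient (LinearMap.ker (Submodule.factor h))

lemma Step.fin {ε : A →ₐ[K] K} {I' I : Ideal A} (h : Step ε I' I) (hI' : Fin' K I') : Fin' K I := by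
  obtain ⟨s, -, -, hs⟩ := h.gen
  exact fin_of_sup hs hI'

lemma Step.codim {ε : A →ₐ[K] K} {I' I : Ideal A} (h : Step ε I' I) (hI' : Fin' K I') :
    Punct.codim K I = Punct.codim K I' + 1 := by
  obtain ⟨s, -, hsI, hs⟩ := h.gen
  have hle : I.restrictScalars K ≤ I'.restrictScalars K := h.le
  have hfin := h.fin hI'
  unfold Fin' at hfin
  haveI := hfin
  have h2 := LinearMap.finrank_range_add_finrank_ker (Submodule.factor hle)
  rw [LinearMap.range_eq_top.2 (Submodule.factor_surjective hle), finrank_top, ker_factor hle hs,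
    finrank_span_singleton (show (I.restrictScalars K).mkQ s ≠ 0 from
      fun h0 => hsI ((Submodule.Quotient.mk_eq_zero (I.restrictScalars K)).1 h0))] at h2
  exact h2.symm

/-- a step from dimensions. -/
lemma Step.of_codim {ε : A →ₐ[K] K} {I' I : Ideal A} (hle : I ≤ I')
    (hmul : ∀ a ∈ RingHom.ker ε, ∀ x ∈ I', a * x ∈ I) (hI : Fin' K I)
    (hc : Punct.codim K I = Punct.codim K I' + 1) : Step ε I' I := by
  refine ⟨hle, hmul, ?_⟩
  obtain ⟨s, hsI', hsI⟩ : ∃ s ∈ I', s ∉ I := by
    by_contra hcon
    push Not at hcon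
    obtain rfl : I = I' := le_antisymm hle hcon
    omega
  refine ⟨s, hsI', hsI, le_antisymm (fun x hx => ?_) (sup_le hle (by simpa using hsI'))⟩
  have hle' : I.restrictScalars K ≤ I'.restrictScalars K := hle
  unfold Fin' at hI
  haveI := hI
  have h2 := LinearMap.finrank_range_add_finrank_ker (Submodule.factor hle')
  rw [LinearMap.range_eq_top.2 (Submodule.factor_surjective hle'), finrank_top] at h2
  have hs0 : (I.restrictScalars K).mkQ s ≠ 0 := fun h0 => hsI ((Submodule.Quotient.mk_eq_zero (I.restrictScalars K)).1 h0)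
  have hker : Submodule.span K {(I.restrictScalars K).mkQ s} = LinearMap.ker (Submodule.factor hle') := by
    refine Submodule.eq_of_le_of_finrank_le ?_ ?_
    · rw [Submodule.span_singleton_le_iff_mem, LinearMap.mem_ker]
      exact (Submodule.Quotient.mk_eq_zero (I'.restrictScalars K)).2 hsI'
    · rw [finrank_span_singleton hs0]
      unfold Punct.codim at hc
      omega
  have hx' : (I.restrictScalars K).mkQ x ∈ LinearMap.ker (Submodule.factor hle') :=
    (Submodule.Quotient.mk_eq_zero (I'.restrictScalars K)).2 hx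
  rw [← hker, Submodule.mem_span_singleton] at hx'
  obtain ⟨c, hc'⟩ := hx'
  refine mem_sup_span.2 ⟨x - c • s, ?_, c, sub_add_cancel _ _⟩
  rw [← Submodule.Quotient.mk_eq_zero (I.restrictScalars K)]
  show (I.restrictScalars K).mkQ (x - c • s) = 0
  rw [map_sub, map_smul, hc', sub_self]

lemma FlagA.fin : ∀ {P : List (A →ₐ[K] K)} {I : Ideal A}, FlagA P I → Fin' K I
  | [], I, h => by
    obtain rfl : I = ⊤ := h
    haveI : Subsingleton (A ⧸ (⊤ : Ideal A).restrictScalars K) :=
      Submodule.Quotient.subsingleton_iff.2 (Submodule.restrictScalars_top K A A)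
    exact Module.Finite.of_finite
  | _ :: _, _, h => by
    obtain ⟨I', hI', hs⟩ := h
    exact hs.fin (FlagA.fin hI')

lemma FlagA.codim : ∀ {P : List (A →ₐ[K] K)} {I : Ideal A}, FlagA P I → Punct.codim K I = P.length
  | [], I, h => by
    obtain rfl : I = ⊤ := h
    haveI : Subsingleton (A ⧸ (⊤ : Ideal A).restrictScalars K) :=
      Submodule.Quotient.subsingleton_iff.2 (Submodule.restrictScalars_top K A A)
    exact Module.finrank_zero_of_subsingleton
  | _ :: _, _, h => by
    obtain ⟨I', hI', hs⟩ := h
    rw [hs.codim (FlagA.fin hI'), FlagA.codim hI']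
    rfl

/-- no ideal of finite codimension is reproduced by the ideal of the point. -/
def NoIso (ε : A →ₐ[K] K) : Prop := ∀ I : Ideal A, Fin' K I → ¬ I ≤ RingHom.ker ε * I

lemma exists_step {ε : A →ₐ[K] K} (hε : NoIso ε) {I : Ideal A} (hI : Fin' K I) : ∃ J, Step ε I J := by
  obtain ⟨s, hsI, hsM⟩ := SetLike.not_le_iff_exists.1 (hε I hI)
  obtain ⟨g, hg, hgM⟩ :=
    Submodule.exists_dual_map_eq_bot_of_notMem (p := (RingHom.ker ε * I).restrictScalars K) hsM inferInstance
  have hgM' : ∀ x ∈ RingHom.ker ε * I, g x = 0 := fun x hx => by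
    have := Submodule.mem_map_of_mem (f := g) (show x ∈ (RingHom.ker ε * I).restrictScalars K from hx)
    rwa [hgM, Submodule.mem_bot] at this
  let W : Submodule K A := I.restrictScalars K ⊓ LinearMap.ker g
  have hst : ∀ a ∈ RingHom.ker ε, ∀ w ∈ I, a * w ∈ W := fun a ha w hw =>
    ⟨I.mul_mem_left a hw, hgM' _ (Ideal.mul_mem_mul ha hw)⟩
  refine ⟨idealOf ε W fun a ha w hw => hst a ha w hw.1, ⟨fun x hx => hx.1, hst, s, hsI, fun h => hg h.2, ?_⟩⟩
  rw [idealOf_restrictScalars]
  refine le_antisymm (fun x hx => ?_) (sup_le inf_le_left (by simpa using hsI))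
  refine mem_sup_span.2 ⟨x - (g x / g s) • s, ⟨sub_mem hx ((I.restrictScalars K).smul_mem _ hsI), ?_⟩,
    g x / g s, sub_add_cancel _ _⟩
  simp [hg]

theorem exists_flag {P : List (A →ₐ[K] K)} (hP : ∀ ε ∈ P, NoIso ε) : ∃ I, FlagA P I := by
  induction P with
  | nil => exact ⟨⊤, rfl⟩
  | cons ε P ih =>
    obtain ⟨I', hI'⟩ := ih fun e he => hP e (List.mem_cons_of_mem _ he)
    obtain ⟨J, hJ⟩ := exists_step (hP ε (List.mem_cons_self)) (FlagA.fin hI')
    exact ⟨J, I', hI', hJ⟩

/-- two hyperplanes of one ideal at the same point are adjacent. -/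
lemma two_steps {ε : A →ₐ[K] K} {I H₁ H₂ : Ideal A} (h₁ : Step ε I H₁) (h₂ : Step ε I H₂) :
    Relation.ReflTransGen (AnyAdj (K := K)) H₁ H₂ := by
  obtain ⟨s₁, hs₁I, hs₁, he₁⟩ := h₁.gen
  obtain ⟨s₂, hs₂I, hs₂, he₂⟩ := h₂.gen
  by_cases heq : H₁ = H₂
  · subst heq; exact .refl
  -- neither contains the other
  have key : ∀ {H H' : Ideal A} {t : A}, H' ≤ I → H ≤ I →
      I.restrictScalars K = H.restrictScalars K ⊔ Submodule.span K {t} → H ≤ H' → t ∉ H' → H = H' := by
    intro H H' t hH'I _ he hle ht
    refine le_antisymm hle fun x hx => ?_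
    obtain ⟨w, hw, c, rfl⟩ := mem_sup_span.1 (he.le (hH'I hx))
    by_cases hc : c = 0
    · simpa [hc] using hw
    · refine absurd ?_ ht
      have h3 : c • t ∈ H'.restrictScalars K := by
        have := sub_mem (show w + c • t ∈ H'.restrictScalars K from hx) (show w ∈ H'.restrictScalars K from hle hw)
        simpa using this
      simpa [hc] using (H'.restrictScalars K).smul_mem c⁻¹ h3
  obtain ⟨s, hs, hsn⟩ : ∃ s ∈ H₁, s ∉ H₂ := by
    by_contra hcon
    push Not at hcon
    refine heq (key h₂.le h₁.le he₁ hcon fun ht => ?_)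
    exact hs₂ (by
      have : I.restrictScalars K ≤ H₂.restrictScalars K := by
        rw [he₁]
        exact sup_le hcon (by simpa using ht)
      exact this hs₂I)
  obtain ⟨s', hs', hs'n⟩ : ∃ s' ∈ H₂, s' ∉ H₁ := by
    by_contra hcon
    push Not at hcon
    refine heq (key h₁.le h₂.le he₂ hcon fun ht => ?_).symm
    exact hs₁ (by
      have : I.restrictScalars K ≤ H₁.restrictScalars K := by
        rw [he₂]
        exact sup_le hcon (by simpa using ht)
      exact this hs₁I)
  have span' : ∀ {H H' : Ideal A} {t : A}, Step ε I H' → H ≤ I → t ∈ H → t ∉ H' →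
      H.restrictScalars K = (H ⊓ H').restrictScalars K ⊔ Submodule.span K {t} := by
    intro H H' t hS hHI ht htn
    obtain ⟨u, -, -, heu⟩ := hS.gen
    refine le_antisymm (fun x hx => ?_) (sup_le (fun x hx => hx.1) (by simpa using ht))
    obtain ⟨w, hw, c, hwc⟩ := mem_sup_span.1 (heu.le (hHI hx))
    obtain ⟨w', hw', c', hwc'⟩ := mem_sup_span.1 (heu.le (hHI ht))
    have hc' : c' ≠ 0 := by
      rintro rfl
      exact htn (by simpa [← hwc'] using hw')
    refine mem_sup_span.2 ⟨x - (c / c') • t, ⟨sub_mem hx ((H.restrictScalars K).smul_mem _ ht), ?_⟩,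
      c / c', sub_add_cancel _ _⟩
    have : x - (c / c') • t = w - (c / c') • w' := by
      rw [← hwc, ← hwc', smul_add, smul_smul, div_mul_cancel₀ c hc']
      abel
    rw [this]
    exact sub_mem hw ((H'.restrictScalars K).smul_mem _ hw')
  refine Relation.ReflTransGen.single ⟨ε, H₁ ⊓ H₂, s, s', fun a ha => ⟨H₁.mul_mem_left a hs, h₂.mul a ha s (h₁.le hs)⟩,
    fun a ha => ⟨h₁.mul a ha s' (h₂.le hs'), H₂.mul_mem_left a hs'⟩, fun c d hcd => ?_,
    span' h₂ h₁.le hs hsn, ?_⟩
  · have hd : d = 0 := by
      by_contra hd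
      refine hs'n ?_
      have h3 : d • s' ∈ H₁.restrictScalars K := by
        have := sub_mem (show c • s + d • s' ∈ H₁.restrictScalars K from hcd.1) ((H₁.restrictScalars K).smul_mem c hs)
        simpa using this
      simpa [hd] using (H₁.restrictScalars K).smul_mem d⁻¹ h3
    refine ⟨?_, hd⟩
    by_contra hc
    refine hsn ?_
    subst hd
    simpa [hc] using (H₂.restrictScalars K).smul_mem c⁻¹ (show c • s ∈ H₂.restrictScalars K by simpa using hcd.2)
  · rw [inf_comm]
    exact span' h₁ h₂.le hs' hs'n

lemma exists_separating {p q : A →ₐ[K] K} (h : p ≠ q) : ∃ b, p b = 0 ∧ q b = 1 := by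
  obtain ⟨a, ha⟩ : ∃ a, p a ≠ q a := by
    by_contra hcon
    push Not at hcon
    exact h (AlgHom.ext hcon)
  refine ⟨(q a - p a)⁻¹ • (a - algebraMap K A (p a)), ?_, ?_⟩
  · simp
  · simp [inv_mul_cancel₀ (sub_ne_zero.2 (Ne.symm ha))]

/-- ideals with flags at the same points are connected by elementary steps. -/
theorem reflTransGen_flag : ∀ {P : List (A →ₐ[K] K)}, (∀ ε ∈ P, NoIso ε) → ∀ {J J' : Ideal A},
    FlagA P J → FlagA P J' → Relation.ReflTransGen (AnyAdj (K := K)) J J'
  | [], _, J, J', h, h' => by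
    obtain rfl : J = ⊤ := h
    obtain rfl : J' = ⊤ := h'
    exact .refl
  | p :: P, hP, J, J', h, h' => by
    obtain ⟨I, hI, hJ⟩ := h
    obtain ⟨I', hI', hJ'⟩ := h'
    have hchain := reflTransGen_flag (fun e he => hP e (List.mem_cons_of_mem _ he)) hI hI'
    suffices key : Fin' K I → ∀ H, Step p I H → Relation.ReflTransGen (AnyAdj (K := K)) H J' from
      key (FlagA.fin hI) J hJ
    clear hI hJ
    induction hchain using Relation.ReflTransGen.head_induction_on with
    | refl => exact fun _ H hH => two_steps hH hJ'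
    | @head I₁ I₂ hadj _ ih =>
      intro hfin H hH
      obtain ⟨q, I₀, s, s', hs, hs', hind, he, he'⟩ := hadj
      have hI₀₁ : I₀ ≤ I₁ := fun x hx => he.ge (Submodule.mem_sup_left (show x ∈ I₀.restrictScalars K from hx))
      have hI₀₂ : I₀ ≤ I₂ := fun x hx => he'.ge (Submodule.mem_sup_left (show x ∈ I₀.restrictScalars K from hx))
      have hsn : s ∉ I₀ := fun h => one_ne_zero (hind 1 0 (by simpa using h)).1
      have hs'n : s' ∉ I₀ := fun h => one_ne_zero (hind 0 1 (by simpa using h)).2
      have hsI : s ∈ I₁ := he.ge (Submodule.mem_sup_right (Submodule.mem_span_singleton_self _))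
      have hs'I : s' ∈ I₂ := he'.ge (Submodule.mem_sup_right (Submodule.mem_span_singleton_self _))
      have hfin₀ : Fin' K I₀ := fin_of_sup he hfin
      have hfin₂ : Fin' K I₂ := fin_of_le hI₀₂ hfin₀
      have stepq : ∀ {I : Ideal A} {t : A}, I₀ ≤ I → t ∈ I → t ∉ I₀ → (∀ a ∈ RingHom.ker q, a * t ∈ I₀) →
          I.restrictScalars K = I₀.restrictScalars K ⊔ Submodule.span K {t} → Step q I I₀ := by
        intro I t hle htI htn hqt het
        refine ⟨hle, fun a ha x hx => ?_, t, htI, htn, het⟩
        obtain ⟨w, hw, c, rfl⟩ := mem_sup_span.1 (het.le hx)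
        rw [mul_add, mul_smul_comm]
        exact add_mem (I₀.mul_mem_left a hw) ((I₀.restrictScalars K).smul_mem c (hqt a ha))
      by_cases hpq : p = q
      · subst hpq
        exact (two_steps hH (stepq hI₀₁ hsI hsn hs he)).trans
          (ih hfin₂ I₀ (stepq hI₀₂ hs'I hs'n hs' he'))
      obtain ⟨N, hN⟩ := exists_step (hP p List.mem_cons_self) hfin₀
      obtain ⟨t, htI₀, htN, het⟩ := hN.gen
      obtain ⟨b, hpb, hqb⟩ := exists_separating hpq
      have hb : ∀ u, (∀ a ∈ RingHom.ker q, a * u ∈ I₀) →
          (∀ a ∈ RingHom.ker q, a * (b * u) ∈ N) ∧ b * u - u ∈ I₀ := fun u hu =>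
        ⟨fun a ha => by rw [mul_left_comm]; exact hN.mul b hpb _ (hu a ha),
          by rw [show b * u - u = (b - 1) * u by ring]; exact hu _ (by simp [RingHom.mem_ker, hqb])⟩
      -- the hyperplane made of `N` and a separated element
      have mk : ∀ {I : Ideal A} {u : A}, I₀ ≤ I → u ∈ I → u ∉ I₀ → (∀ a ∈ RingHom.ker q, a * u ∈ I₀) →
          I.restrictScalars K = I₀.restrictScalars K ⊔ Submodule.span K {u} →
          ∃ H' : Ideal A, Step p I H' ∧
            H'.restrictScalars K = N.restrictScalars K ⊔ Submodule.span K {b * u} := by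
        intro I u hle huI hun hu heu
        obtain ⟨h1, h2⟩ := hb u hu
        refine ⟨idealOf q _ (mem_of_span_stable h1), ?_, idealOf_restrictScalars _ _ _⟩
        refine ⟨fun x hx => ?_, fun a ha x hx => ?_, t, hle htI₀, fun ht => ?_, ?_⟩
        · obtain ⟨w, hw, c, rfl⟩ := mem_sup_span.1 hx
          exact add_mem (hle (hN.le hw)) ((I.restrictScalars K).smul_mem c (I.mul_mem_left b huI))
        · obtain ⟨w, hw, c, rfl⟩ := mem_sup_span.1 (heu.le hx)
          have hq : a * (b * u) - q a • (b * u) ∈ N := by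
            have := h1 (a - algebraMap K A (q a)) (sub_mem_ker q a)
            rwa [sub_mul, ← Algebra.smul_def] at this
          refine mem_sup_span.2 ⟨a * w + c • (a * (b * u) - q a • (b * u)) - c • (a * (b * u - u)),
            sub_mem (add_mem (hN.mul a ha w hw) ((N.restrictScalars K).smul_mem c hq))
              ((N.restrictScalars K).smul_mem c (hN.mul a ha _ h2)), c * q a, ?_⟩
          rw [mul_add, mul_smul_comm, mul_sub a (b * u) u, smul_sub, smul_sub, mul_smul]
          abel
        · obtain ⟨w, hw, c, hwc⟩ := mem_sup_span.1 ht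
          by_cases hc : c = 0
          · exact htN (by rw [← hwc, hc, zero_smul, add_zero]; exact hw)
          · refine hun ?_
            have h3 : c • (b * u) ∈ I₀.restrictScalars K := by
              have := sub_mem (show w + c • (b * u) ∈ I₀.restrictScalars K from hwc ▸ htI₀) (hN.le hw)
              simpa using this
            have h4 : b * u ∈ I₀ := by simpa [hc] using (I₀.restrictScalars K).smul_mem c⁻¹ h3
            simpa using sub_mem h4 h2
        · rw [idealOf_restrictScalars, heu, het]
          have h2' : b * u - u ∈ N.restrictScalars K ⊔ Submodule.span K {t} := het.le h2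
          refine le_antisymm (sup_le (sup_le (le_sup_of_le_left le_sup_left) le_sup_right) ?_)
            (sup_le (sup_le (le_sup_of_le_left le_sup_left) ?_) (le_sup_of_le_left le_sup_right))
          · rw [Submodule.span_singleton_le_iff_mem]
            have h3 : b * u ∈ N.restrictScalars K ⊔ Submodule.span K {b * u} ⊔ Submodule.span K {t} :=
              Submodule.mem_sup_left (Submodule.mem_sup_right (Submodule.mem_span_singleton_self _))
            have h4 : N.restrictScalars K ⊔ Submodule.span K {t} ≤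
                N.restrictScalars K ⊔ Submodule.span K {b * u} ⊔ Submodule.span K {t} :=
              sup_le (le_sup_of_le_left le_sup_left) le_sup_right
            simpa using sub_mem h3 (h4 h2')
          · rw [Submodule.span_singleton_le_iff_mem]
            have h3 : u ∈ N.restrictScalars K ⊔ Submodule.span K {t} ⊔ Submodule.span K {u} :=
              Submodule.mem_sup_right (Submodule.mem_span_singleton_self _)
            simpa using add_mem (Submodule.mem_sup_left h2') h3
      obtain ⟨H₁, hH₁, heH₁⟩ := mk hI₀₁ hsI hsn hs he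
      obtain ⟨H₂, hH₂, heH₂⟩ := mk hI₀₂ hs'I hs'n hs' he'
      refine (two_steps hH hH₁).trans (Relation.ReflTransGen.head ⟨q, N, b * s, b * s', (hb s hs).1,
        (hb s' hs').1, fun c d hcd => hind c d ?_, heH₁, heH₂⟩ (ih hfin₂ H₂ hH₂))
      have := sub_mem (hN.le hcd) (add_mem ((I₀.restrictScalars K).smul_mem c (hb s hs).2)
        ((I₀.restrictScalars K).smul_mem d (hb s' hs').2))
      convert this using 1
      rw [smul_sub, smul_sub]
      abel

end Groth.Agent.Grass5.Flag
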