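import Groth.Agent.Grass5.GrChart
import Groth.Agent.Mag88.OverRep
import Mathlib.RingTheory.LocalRing.Module

/-!
Existence of the Grassmannian of a quasi-coherent module over an arbitrary scheme.
-/

set_option autoImplicit false
set_option backward.isDefEq.respectTransparency false
set_option backward.isDefEq.respectTransparency.types false
set_option maxHeartbeats 400000

noncomputable section

universe u

open CategoryTheory CategoryTheory.Limits AlgebraicGeometry TopologicalSpace Opposite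
open Groth.Agent.QC70 Groth.Agent.SubMod72 Groth.Agent.Props58.LocFree Groth.Agent.DCK91

namespace Groth.Agent.Grass5.GrExist

open Grass5.QuotBC KerSub BasisLocus GrChart

variable {X : Scheme.{u}} {E : X.Modules} [E.IsQuasicoherent] {e : ℕ}

theorem span_germ_img {T : Scheme.{u}} {g : T ⟶ X} {L : T.Modules}
    (q : (Scheme.Modules.pullback g).obj E ⟶ L) [Epi q] {U : X.Opens} (hU : IsAffineOpen U) (p : T)
    (hp : g p ∈ U) :
    Submodule.span (T.presheaf.stalk p) (Set.range fun m : Γ(E, U) =>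
      germM L (g ⁻¹ᵁ U) p hp (q.app (g ⁻¹ᵁ U) (Amp73.pullS g E U m))) = ⊤ := by
  let N := Submodule.span (T.presheaf.stalk p) (Set.range fun m : Γ(E, U) =>
      germM L (g ⁻¹ᵁ U) p hp (q.app (g ⁻¹ᵁ U) (Amp73.pullS g E U m)))
  rw [eq_top_iff]
  rintro y -
  obtain ⟨z, rfl⟩ := QC70.surjective_stalkMapM_of_epi q p y
  letI := (g.stalkMap p).hom.toAlgebra
  letI := Module.compHom (((Scheme.Modules.pullback g).obj E).presheaf.stalk p) (g.stalkMap p).hom
  haveI : IsScalarTower (X.presheaf.stalk (g p)) (T.presheaf.stalk p)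
      (((Scheme.Modules.pullback g).obj E).presheaf.stalk p) :=
    IsScalarTower.of_algebraMap_smul fun r e => rfl
  show stalkLinear q p z ∈ N
  refine (isBaseChange_pullη g E p).inductionOn z (fun z => stalkLinear q p z ∈ N) ?_ ?_ ?_ ?_
  · show stalkLinear q p 0 ∈ N
    rw [map_zero]; exact zero_mem _
  · intro m
    obtain ⟨W, hW, s, rfl⟩ := germM_exist m
    obtain ⟨f, hfW, hpf⟩ := hU.exists_basicOpen_le ⟨g p, hW⟩ hp
    obtain ⟨k, t, ht⟩ := (isLocAt_of_isQuasicoherent E hU).exists_of f (res E hfW s)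
    have hu : IsUnit (X.presheaf.germ (X.basicOpen f) (g p) hpf (resO X (X.basicOpen_le f) f ^ k)) :=
      ((RingedSpace.isUnit_res_basicOpen _ f).pow k).map _
    have h1 := congrArg (germM E (X.basicOpen f) (g p) hpf) ht
    rw [germM_res, germM_smul, germM_res] at h1
    have h2 : germM E W (g p) hW s = (↑hu.unit⁻¹ : X.presheaf.stalk (g p)) • germM E U (g p) hp t := by
      rw [h1, smul_smul, IsUnit.val_inv_mul, one_smul]
    rw [h2]
    show stalkLinear q p (pullη g E p ((↑hu.unit⁻¹ : X.presheaf.stalk (g p)) • germM E U (g p) hp t)) ∈ N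
    rw [(pullη g E p).map_smul]
    show stalkLinear q p ((g.stalkMap p).hom (↑hu.unit⁻¹ : X.presheaf.stalk (g p)) • pullη g E p _) ∈ N
    rw [map_smul, pullη_germ g E p hp t]
    refine Submodule.smul_mem _ _ (Submodule.subset_span ⟨t, ?_⟩)
    exact (stalkMapM_germ q (U := g ⁻¹ᵁ U) hp (Amp73.pullS g E U t)).symm
  · intro r z hz
    rw [map_smul]
    exact Submodule.smul_mem _ _ hz
  · intro a b ha hb
    rw [map_add]
    exact add_mem ha hb

theorem exists_frame_at {T : Over X} (P : GrFun.Obj E e T) {U : X.Opens} (hU : IsAffineOpen U) (p : T.left)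
    (hp : T.hom p ∈ U) : ∃ σ : Fin e → Γ(E, U), p ∈ locus P σ := by
  classical
  let v : Γ(E, U) → (quot P.1).presheaf.stalk p := fun m =>
    germM (quot P.1) (T.hom ⁻¹ᵁ U) p hp ((qπ P.1).app (T.hom ⁻¹ᵁ U) (Amp73.pullS T.hom E U m))
  obtain ⟨V, hpV, ⟨j⟩⟩ := P.2 p
  obtain ⟨s, hs⟩ := exists_stalkBasis_of_iso j
  haveI := hs.free_stalk p hpV
  haveI := hs.finite_stalk p hpV
  haveI : Module.FinitePresentation (T.left.presheaf.stalk p) ((quot P.1).presheaf.stalk p) :=
    Module.finitePresentation_of_projective _ _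
  obtain ⟨κ, a, b, hb⟩ := Module.exists_basis_of_span_of_flat v (span_germ_img (qπ P.1) hU p hp)
  let b' := (Pi.basisFun (T.left.presheaf.stalk p) (Fin e)).map (hs.stalkEquiv p hpV)
  let ι : κ ≃ Fin e := b.indexEquiv b'
  refine ⟨fun k => a (ι.symm k), hp, ?_⟩
  have : germComb (img (qπ P.1) fun k => a (ι.symm k)) p hp = (b.reindex ι).equivFun.symm := by
    funext c
    rw [Module.Basis.equivFun_symm_apply]
    refine Finset.sum_congr rfl fun k _ => ?_
    rw [Module.Basis.reindex_apply, hb]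
    rfl
  rw [this]
  exact LinearEquiv.bijective _

/-- The charts. -/
abbrev Idx (E : X.Modules) (e : ℕ) : Type u := Σ U : X.affineOpens, (Fin e → Γ(E, U.1))

theorem exists_representable : ∃ Z : Over X, Nonempty ((GrFun.grFun E e).RepresentableBy Z) :=
  Mag88.OverRep.exists_representableBy (GrFun.grFun E e) GrFun.isSheaf_grFun
    (fun j : Idx E e => GrChart.W j.1.2 j.2) (fun j => yonedaEquiv.symm (P₀ j.1.2 j.2))
    (fun j _ a b h => map_injective j.1.2 j.2 a b h)
    (fun _ P j => locus P j.2)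
    (fun T T' P t j => by
      have hiff := exists_map_eq_iff j.1.2 j.2 ((GrFun.grFun E e).map t.op P)
      refine hiff.trans ⟨fun h => ?_, fun h p => ?_⟩
      · rintro _ ⟨p, rfl⟩
        exact (Set.ext_iff.mp (locus_map t P j.2) p).mp (h p)
      · exact (Set.ext_iff.mp (locus_map t P j.2) p).mpr (h ⟨p, rfl⟩))
    (fun T P p => by
      obtain ⟨U, hU, hpU, -⟩ := exists_isAffineOpen_mem_and_subset (x := T.hom p) (U := ⊤) trivial
      obtain ⟨σ, hσ⟩ := exists_frame_at P hU p hpU
      exact ⟨⟨⟨U, hU⟩, σ⟩, hσ⟩)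

theorem exists_isGrass (E : X.Modules) [E.IsQuasicoherent] (e : ℕ) :
    ∃ (G : Scheme.{u}) (π : G ⟶ X) (Q : G.Modules) (q : (Scheme.Modules.pullback π).obj E ⟶ Q),
      Grass.IsGrass π E e Q q := by
  obtain ⟨Z, ⟨r⟩⟩ := exists_representable (E := E) (e := e)
  let x : GrFun.Obj E e Z := r.homEquiv (𝟙 Z)
  refine ⟨Z.left, Z.hom, quot x.1, qπ x.1, x.2, inferInstance, fun T g L hL s hs => ?_⟩
  haveI := hs
  let To : Over X := Over.mk g
  let P : GrFun.Obj E e To := ⟨kerSub s, isFinLocFreeOfRank_quot s hL⟩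
  have key : ∀ a : To ⟶ Z, r.homEquiv a = (GrFun.grFun E e).map a.op x := fun a => by
    have := r.homEquiv_comp a (𝟙 Z)
    rwa [Category.comp_id] at this
  have iff : ∀ a : To ⟶ Z, r.homEquiv a = P ↔
      ∃ i : (Scheme.Modules.pullback a.left).obj (quot x.1) ≅ L, Grass.quotBC (Over.w a) (qπ x.1) ≫ i.hom = s := by
    intro a
    haveI := epi_quotBC (Over.w a) (qπ x.1)
    rw [key, Subtype.ext_iff, GrFun.map_val]
    exact ⟨fun h => exists_iso_of_kerSub_eq h, fun ⟨i, hi⟩ => by
      show kerSub _ = kerSub s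
      rw [← hi]
      exact (kerSub_comp_of_isIso _ i.hom).symm⟩
  refine ⟨(r.homEquiv.symm P).left,
    ⟨Over.w (r.homEquiv.symm P), (iff _).mp (r.homEquiv.apply_symm_apply P)⟩, ?_⟩
  rintro h ⟨hg, i, hi⟩
  let a : To ⟶ Z := Over.homMk h hg
  have ha : a = r.homEquiv.symm P := r.homEquiv.eq_symm_apply.mpr ((iff a).mpr ⟨i, hi⟩)
  exact congrArg Over.Hom.left ha

end Groth.Agent.Grass5.GrExist
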