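import Groth.Agent.Grass5.GrLocal
import Groth.Agent.Grass5.ZeroLocus
import Groth.Agent.QC70.Closure
import Mathlib.RingTheory.OrzechProperty

/-!
Grassmannians are separated.
-/

set_option autoImplicit false
set_option backward.isDefEq.respectTransparency false
set_option backward.isDefEq.respectTransparency.types false
set_option maxHeartbeats 400000

noncomputable section

universe u

open CategoryTheory CategoryTheory.Limits AlgebraicGeometry TopologicalSpace Opposite
open Groth.Agent.QC70 Groth.Agent.SubMod72 Groth.Agent.Props58.LocFree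

namespace Groth.Agent.Grass5.GrSep

open Grass5.QuotBC KerSub BasisLocus GrChart GrLocal

theorem isFinLocFree_of_rank {T : Scheme.{u}} {n : ℕ} {L : T.Modules} (h : FlatMod.IsFinLocFreeOfRank n L) :
    FlatMod.IsFinLocFree L := fun x =>
  let ⟨U, hx, i⟩ := h x
  ⟨U, n, hx, i⟩

theorem exists_basis {X : Scheme.{u}} {E : X.Modules} {N : ℕ} (hE : FlatMod.IsFinLocFreeOfRank N E) (x : X) :
    ∃ U : X.Opens, IsAffineOpen U ∧ x ∈ U ∧ Nonempty (Module.Basis (Fin N) Γ(X, U) Γ(E, U)) := by
  obtain ⟨V, hxV, ⟨i⟩⟩ := hE x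
  obtain ⟨s, hs⟩ := exists_stalkBasis_of_iso i
  obtain ⟨U, hU, hxU, hUV⟩ := exists_isAffineOpen_mem_and_subset hxV
  have hb := (hs.restrict (fun p hp => hUV hp : U ≤ V)).bijective (le_refl U)
  simp only [res_self] at hb
  have : Function.Bijective (Fintype.linearCombination Γ(X, U) fun k => res E (fun p hp => hUV hp : U ≤ V) (s k)) := by
    have e : ⇑(Fintype.linearCombination Γ(X, U) fun k => res E (fun p hp => hUV hp : U ≤ V) (s k)) =
        fun a : Fin N → Γ(X, U) => ∑ k, a k • res E (fun p hp => hUV hp : U ≤ V) (s k) :=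
      funext fun a => Fintype.linearCombination_apply _ _ _
    rw [e]
    exact hb
  exact ⟨U, hU, hxU, ⟨(Pi.basisFun Γ(X, U) (Fin N)).map (LinearEquiv.ofBijective _ this)⟩⟩

theorem isIso_of_epi_rank {T : Scheme.{u}} {n : ℕ} {L L' : T.Modules} (φ : L ⟶ L') [Epi φ]
    (h : FlatMod.IsFinLocFreeOfRank n L) (h' : FlatMod.IsFinLocFreeOfRank n L') : IsIso φ := by
  refine isIso_of_bijective_stalkMapM φ fun p => ?_
  obtain ⟨U, hp, ⟨i⟩⟩ := h p
  obtain ⟨s, hs⟩ := exists_stalkBasis_of_iso i
  obtain ⟨U', hp', ⟨i'⟩⟩ := h' p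
  obtain ⟨s', hs'⟩ := exists_stalkBasis_of_iso i'
  haveI := hs.finite_stalk p hp
  have hs1 : Function.Surjective (stalkLinear φ p) := QC70.surjective_stalkMapM_of_epi φ p
  let c := (hs.stalkEquiv p hp)
  let c' := (hs'.stalkEquiv p hp')
  let f : (Fin n → T.presheaf.stalk p) →ₗ[T.presheaf.stalk p] (Fin n → T.presheaf.stalk p) :=
    c'.symm.toLinearMap.comp ((stalkLinear φ p).comp c.toLinearMap)
  have hf : Function.Surjective f := c'.symm.surjective.comp (hs1.comp c.surjective)
  have hfb : Function.Bijective f := OrzechProperty.bijective_of_surjective_endomorphism f hf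
  have hfun : (stalkMapM φ p : L.presheaf.stalk p → _) = c' ∘ f ∘ c.symm := funext fun z => by
    show stalkLinear φ p z = c' (c'.symm (stalkLinear φ p (c (c.symm z))))
    rw [LinearEquiv.apply_symm_apply, LinearEquiv.apply_symm_apply]
  rw [hfun]
  exact c'.bijective.comp (hfb.comp c.symm.bijective)

variable {X : Scheme.{u}} {E : X.Modules} [E.IsQuasicoherent] {r : ℕ}

theorem kerSub_eq_iff {T T' : Scheme.{u}} {g : T ⟶ X} {g' : T' ⟶ X} {h : T' ⟶ T} (w : h ≫ g = g')
    {L L' : T.Modules} (s : (Scheme.Modules.pullback g).obj E ⟶ L) [Epi s]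
    (s' : (Scheme.Modules.pullback g).obj E ⟶ L') [Epi s'] (hL : FlatMod.IsFinLocFreeOfRank r L)
    (hL' : FlatMod.IsFinLocFreeOfRank r L') :
    kerSub (Grass.quotBC w s) = kerSub (Grass.quotBC w s') ↔
      (Scheme.Modules.pullback h).map (kernel.ι s ≫ s') = 0 := by
  haveI := epi_quotBC w s
  haveI := epi_quotBC w s'
  haveI := Functor.preservesZeroMorphisms_of_isLeftAdjoint (Scheme.Modules.pullback h)
  constructor
  · intro he
    obtain ⟨i, hi⟩ := exists_iso_of_kerSub_eq he
    rw [quotBC_eq, quotBC_eq, Category.assoc, cancel_epi] at hi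
    rw [Functor.map_comp, ← hi, ← Category.assoc, ← Functor.map_comp, kernel.condition, Functor.map_zero,
      zero_comp]
  · intro h0
    haveI := (Scheme.Modules.pullbackPushforwardAdjunction h).leftAdjoint_preservesColimits.{0, 0}
    have hc := CokernelCofork.isColimitMapCoconeEquiv _ (Scheme.Modules.pullback h) (isColimitOfPreserves
      (Scheme.Modules.pullback h) (Abelian.epiIsCokernelOfKernel _ (kernelIsKernel s)))
    obtain ⟨t₀, ht⟩ := CokernelCofork.IsColimit.desc' hc ((Scheme.Modules.pullback h).map s') (by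
      show (Scheme.Modules.pullback h).map (kernel.ι s) ≫ _ = 0
      rw [← Functor.map_comp, h0])
    obtain ⟨t, ht'⟩ : ∃ t : (Scheme.Modules.pullback h).obj L ⟶ (Scheme.Modules.pullback h).obj L',
        (Scheme.Modules.pullback h).map s ≫ t = (Scheme.Modules.pullback h).map s' := ⟨t₀, ht⟩
    haveI := Grass.epi_pullback_map h s'
    haveI : Epi t := epi_of_epi_fac ht'
    haveI := isIso_of_epi_rank t (isFinLocFreeOfRank_pullback h hL) (isFinLocFreeOfRank_pullback h hL')
    rw [quotBC_eq, quotBC_eq, ← ht', ← Category.assoc]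
    exact (kerSub_comp_of_isIso _ t).symm

variable {G : Scheme.{u}} {π : G ⟶ X} {Q : G.Modules} {q : (Scheme.Modules.pullback π).obj E ⟶ Q}

theorem pullK_kerSub_comp [Epi q] {Y T : Scheme.{u}} {k : Y ⟶ G} {gY : Y ⟶ X} (wk : k ≫ π = gY) {f : T ⟶ Y}
    {g : T ⟶ X} (wf : f ≫ gY = g) (w : (f ≫ k) ≫ π = g) :
    pullK w (kerSub q) = kerSub (Grass.quotBC wf (Grass.quotBC wk q)) := by
  rw [pullK_kerSub, quotBC_comp wk wf w]
  exact (kerSub_comp_of_isIso _ ((Scheme.Modules.pullbackComp f k).inv.app Q)).symm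

theorem isSeparated (hG : Grass.IsGrass π E r Q q) : IsSeparated π := by
  haveI := hG.epi
  let Y : Over X := Over.mk (pullback.fst π π ≫ π)
  let s₁ := Grass.quotBC (rfl : pullback.fst π π ≫ π = Y.hom) q
  let s₂ := Grass.quotBC (pullback.condition.symm : pullback.snd π π ≫ π = Y.hom) q
  haveI : Epi s₁ := epi_quotBC _ _
  haveI : Epi s₂ := epi_quotBC _ _
  have h₁ := isFinLocFreeOfRank_pullback (pullback.fst π π) hG.rank
  have h₂ := isFinLocFreeOfRank_pullback (pullback.snd π π) hG.rank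
  haveI : ((Scheme.Modules.pullback (pullback.fst π π ≫ π)).obj E).IsQuasicoherent :=
    QCPull72.isQuasicoherent_pullback _ E
  haveI := Props58.LocFree.isQuasicoherent_of_isFinLocFree (isFinLocFree_of_rank h₁)
  haveI : (kernel s₁).IsQuasicoherent := QC70.isQuasicoherent_kernel s₁
  obtain ⟨I, hI⟩ := ZeroLocus.exists_zeroLocus (kernel.ι s₁ ≫ s₂) (isFinLocFree_of_rank h₂)
  have key : ∀ {T : Scheme.{u}} (f : T ⟶ pullback π π),
      (Scheme.Modules.pullback f).map (kernel.ι s₁ ≫ s₂) = 0 ↔ f ≫ pullback.fst π π = f ≫ pullback.snd π π := by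
    intro T f
    rw [← kerSub_eq_iff (rfl : f ≫ Y.hom = f ≫ Y.hom) s₁ s₂ h₁ h₂]
    let To : Over X := Over.mk (f ≫ Y.hom)
    let a₁ : To ⟶ Over.mk π := Over.homMk (f ≫ pullback.fst π π) (Category.assoc _ _ _)
    let a₂ : To ⟶ Over.mk π := Over.homMk (f ≫ pullback.snd π π) (by
      show (f ≫ pullback.snd π π) ≫ π = f ≫ pullback.fst π π ≫ π
      rw [Category.assoc, pullback.condition])
    have e₁ : ((GrFun.grFun E r).map a₁.op (univ hG)).1 = kerSub (Grass.quotBC (rfl : f ≫ Y.hom = f ≫ Y.hom) s₁) := by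
      exact pullK_kerSub_comp rfl _ _
    have e₂ : ((GrFun.grFun E r).map a₂.op (univ hG)).1 = kerSub (Grass.quotBC (rfl : f ≫ Y.hom = f ≫ Y.hom) s₂) := by
      exact pullK_kerSub_comp (pullback.condition.symm : pullback.snd π π ≫ π = Y.hom) _ _
    rw [← e₁, ← e₂]
    constructor
    · intro he
      exact congrArg Over.Hom.left ((existsUnique_map hG To _).unique rfl (Subtype.ext he.symm) : a₁ = a₂)
    · intro he
      rw [show a₁ = a₂ from Over.OverMorphism.ext he]
  refine ⟨?_⟩
  obtain ⟨d, hd⟩ := (hI G (pullback.diagonal π)).mpr ((key _).mpr (by simp))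
  have hι : I.subschemeι ≫ pullback.fst π π = I.subschemeι ≫ pullback.snd π π :=
    (key _).mp ((hI _ I.subschemeι).mp ⟨𝟙 _, Category.id_comp _⟩)
  have hιΔ : (I.subschemeι ≫ pullback.fst π π) ≫ pullback.diagonal π = I.subschemeι := by
    apply pullback.hom_ext
    · simp
    · simp [hι]
  haveI : IsIso d := ⟨I.subschemeι ≫ pullback.fst π π, by rw [reassoc_of% hd]; simp, by
    rw [← cancel_mono I.subschemeι, Category.assoc, hd, hιΔ, Category.id_comp]⟩
  rw [← hd]
  infer_instance

end Groth.Agent.Grass5.GrSep
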