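import Groth.Agent.Grass5.GrPts
import Groth.Agent.Grass5.GrSep
import Mathlib.AlgebraicGeometry.ValuativeCriterion

/-!
Grassmannians of locally free modules are smooth, proper, surjective, and irreducible over an irreducible base.
-/

set_option autoImplicit false
set_option backward.isDefEq.respectTransparency false
set_option backward.isDefEq.respectTransparency.types false
set_option maxHeartbeats 400000

noncomputable section

universe u

open CategoryTheory CategoryTheory.Limits AlgebraicGeometry TopologicalSpace Opposite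
open Groth.Agent.QC70 Groth.Agent.SubMod72 Groth.Agent.Props58.LocFree

namespace Groth.Agent.Grass5.GrProps

open Grass5.QuotBC KerSub BasisLocus GrChart GrLocal GrPts GrSep

theorem qcoh_of_rank {X : Scheme.{u}} {E : X.Modules} {N : ℕ} (hE : FlatMod.IsFinLocFreeOfRank N E) :
    E.IsQuasicoherent :=
  Props58.LocFree.isQuasicoherent_of_isFinLocFree (isFinLocFree_of_rank hE)

variable {X G : Scheme.{u}} {π : G ⟶ X} {E : X.Modules} {r N : ℕ} {Q : G.Modules}
  {q : (Scheme.Modules.pullback π).obj E ⟶ Q} (hG : Grass.IsGrass π E r Q q) [E.IsQuasicoherent]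
  (hE : FlatMod.IsFinLocFreeOfRank N E)

include hG hE

theorem smooth : SmoothOfRelativeDimension (r * (N - r)) π := by
  have hloc : ∀ p : G, ∃ O : G.Opens, p ∈ O ∧ SmoothOfRelativeDimension (r * (N - r)) (O.ι ≫ π) := by
    intro p
    obtain ⟨U, hU, hpU, ⟨b⟩⟩ := exists_basis hE (π p)
    obtain ⟨j, hj, hp⟩ := exists_mem_opn hG b hU p hpU
    refine ⟨_, hp, ?_⟩
    obtain ⟨φ, hφ⟩ := exists_iso_opn hG hU fun k => b (j k)
    have h := smooth_chart hU b hj
    rw [← chartMor_comp hG hU fun k => b (j k), ← hφ, Category.assoc,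
      MorphismProperty.cancel_left_of_respectsIso (@SmoothOfRelativeDimension (r * (N - r)))] at h
    exact h
  choose O hO hs using hloc
  exact (IsZariskiLocalAtSource.iff_of_openCover (P := @SmoothOfRelativeDimension (r * (N - r)))
    (G.openCoverOfIsOpenCover O (IsOpenCover.mk (top_le_iff.mp fun p _ => Opens.mem_iSup.mpr ⟨p, hO p⟩)))).2 hs

theorem quasiCompact : QuasiCompact π := by
  classical
  choose U hU hpU b using exists_basis hE
  refine IsZariskiLocalAtTarget.of_iSup_eq_top (P := @QuasiCompact) U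
    (top_le_iff.mp fun p _ => Opens.mem_iSup.mpr ⟨p, hpU p⟩) fun x => ?_
  haveI : IsAffine (U x : Scheme.{u}) := hU x
  rw [HasAffineProperty.iff_of_isAffine (P := @QuasiCompact)]
  refine isCompact_iff_compactSpace.mp ?_
  show IsCompact (π ⁻¹ᵁ U x : Set G)
  obtain ⟨bx⟩ := b x
  let O : (Fin r → Fin N) → G.Opens := fun j => opn hG fun k => bx (j k)
  have e : (π ⁻¹ᵁ U x : Set G) = ⋃ j, (O j : Set G) := by
    ext p
    refine ⟨fun hp => ?_, fun hp => ?_⟩
    · obtain ⟨j, -, hj⟩ := exists_mem_opn hG bx (hU x) p hp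
      exact Set.mem_iUnion.mpr ⟨j, hj⟩
    · obtain ⟨j, hj⟩ := Set.mem_iUnion.mp hp
      exact hj.1
  rw [e]
  refine isCompact_iUnion fun j => ?_
  rw [← range_chartMor hG (hU x)]
  exact isCompact_range (chartMor hG (hU x) _).continuous

theorem existence : ValuativeCriterion.Existence π := by
  classical
  intro S
  obtain ⟨U, hU, hxU, ⟨b⟩⟩ := exists_basis hE (S.i₂ (IsLocalRing.closedPoint S.R))
  have hU2 : ⊤ ≤ S.i₂ ⁻¹ᵁ U := (Scheme.preimage_eq_top_of_closedPoint_mem S.i₂ hxU).ge
  let gK := Spec.map (CommRingCat.ofHom (algebraMap S.R S.K)) ≫ S.i₂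
  have hw : S.i₁ ≫ π = gK := S.commSq.w
  let pt : Spec (CommRingCat.of S.K) := IsLocalRing.closedPoint S.K
  have hp : π (S.i₁ pt) ∈ U := by
    show (S.i₁ ≫ π) pt ∈ U
    rw [hw]
    exact hU2 (Set.mem_univ _)
  obtain ⟨j, hj, hjp⟩ := exists_mem_opn hG b hU (S.i₁ pt) hp
  haveI := isOpenImmersion_chartMor hG hU fun k => b (j k)
  have hr : Set.range S.i₁ ⊆ Set.range (chartMor hG hU fun k => b (j k)) := by
    rintro _ ⟨s, rfl⟩
    rw [range_chartMor hG hU, show s = pt from Subsingleton.elim _ _]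
    exact hjp
  let α := IsOpenImmersion.lift (chartMor hG hU fun k => b (j k)) S.i₁ hr
  have hα : α ≫ chartMor hG hU (fun k => b (j k)) = S.i₁ := IsOpenImmersion.lift_fac _ _ hr
  have hαg : α ≫ g₀ hU (fun k => b (j k)) = gK := by
    rw [← chartMor_comp hG hU, ← Category.assoc, hα, hw]
  let ιK : Γ(Spec (CommRingCat.of S.K), ⊤) ≅ CommRingCat.of S.K := Scheme.ΓSpecIso (CommRingCat.of S.K)
  let M : Fin N → Fin r → S.K := fun l i => ιK.hom (mat b (fun k => b (j k)) α l i)
  let Ak : (Fin r → Fin N) → Matrix (Fin r) (Fin r) S.K := fun k x i => M (k x) i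
  let v := ValuationRing.valuation S.R S.K
  have hMj : ∀ x i, M (j x) i = if i = x then 1 else 0 := fun x i => by
    show ιK.hom (α.appTop (ιC _ (coord (fun k => b (j k)) ((fun k => b (j k)) x) i))) = _
    rw [coord_sec]
    split_ifs <;> simp
  have hdj : (Ak j).det = 1 := by
    rw [show Ak j = 1 from Matrix.ext fun x i => (hMj x i).trans (by rw [Matrix.one_apply]; simp only [eq_comm])]
    exact Matrix.det_one
  obtain ⟨k, -, hk⟩ := (Finset.univ : Finset (Fin r → Fin N)).exists_max_image (fun k => v (Ak k).det)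
    ⟨j, Finset.mem_univ _⟩
  have hd : (Ak k).det ≠ 0 := fun h0 => by
    have := hk j (Finset.mem_univ _)
    rw [hdj, h0, map_zero, map_one] at this
    exact zero_ne_one (le_antisymm zero_le this)
  haveI : Invertible (Ak k).det := invertibleOfNonzero hd
  haveI := Matrix.invertibleOfDetInvertible (Ak k)
  let C : Fin N → Fin r → S.K := fun l x => (Ak (Function.update k x l)).det / (Ak k).det
  have hC : ∀ l i, M l i = ∑ x, C l x * Ak k x i := by
    intro l i
    have h1 := congrFun (Matrix.mulVec_cramer (Ak k).transpose (M l)) i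
    simp only [Pi.smul_apply, smul_eq_mul, Matrix.det_transpose, Matrix.mulVec, dotProduct,
      Matrix.transpose_apply] at h1
    have h2 : ∀ x, (Ak k).transpose.cramer (M l) x = (Ak (Function.update k x l)).det := fun x => by
      rw [Matrix.cramer_transpose_apply]
      congr 1
      ext y i
      rcases eq_or_ne y x with rfl | hy
      · simp [Ak]
      · simp [Ak, Matrix.updateRow_ne hy, Function.update_of_ne hy]
    simp only [h2] at h1
    simp only [C, div_mul_eq_mul_div, ← Finset.sum_div]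
    rw [eq_div_iff hd, mul_comm, ← h1]
    exact Finset.sum_congr rfl fun x _ => mul_comm _ _
  have hCk : ∀ x i, C (k x) i = if i = x then 1 else 0 := by
    intro x i
    rcases eq_or_ne i x with rfl | hi
    · simp [C, hd]
    · rw [if_neg hi]
      have : (Ak (Function.update k i (k x))).det = 0 := by
        refine Matrix.det_zero_of_row_eq hi (funext fun y => ?_)
        show M (Function.update k i (k x) i) y = M (Function.update k i (k x) x) y
        rw [Function.update_self, Function.update_of_ne hi.symm]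
      simp [C, this]
  have hint : ∀ l x, ∃ a : S.R, algebraMap S.R S.K a = C l x := fun l x => by
    refine (ValuationRing.mem_integer_iff S.R S.K _).mp ?_
    show v (C l x) ≤ 1
    rw [map_div₀, div_le_one₀ (zero_lt_iff.mpr ((map_ne_zero v).mpr hd))]
    exact hk _ (Finset.mem_univ _)
  choose B hB using hint
  have hBk : ∀ x i, B (k x) i = if i = x then 1 else 0 := fun x i => by
    refine IsFractionRing.injective S.R S.K ?_
    rw [hB, hCk]
    split_ifs <;> simp
  obtain ⟨β, hβρ, hβ⟩ := exists_pointHom b (A := CommRingCat.of S.R)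
    (S.i₂.appLE U ⊤ hU2 ≫ (Scheme.ΓSpecIso (CommRingCat.of S.R)).hom) B hBk
  let σk : Fin r → Γ(E, U) := fun x => b (k x)
  have hl2 : Spec.map β ≫ g₀ hU σk = S.i₂ := by
    show Spec.map β ≫ Spec.map (ρ σk) ≫ hU.fromSpec = S.i₂
    rw [← Spec.map_comp_assoc, hβρ, Spec.map_comp, Category.assoc,
      IsAffineOpen.SpecMap_appLE_fromSpec S.i₂ hU (isAffineOpen_top _) hU2, IsAffineOpen.fromSpec_top,
      Scheme.isoSpec_Spec_inv, ← Category.assoc, ← Spec.map_comp, Iso.inv_hom_id, Spec.map_id, Category.id_comp]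
  let h' := Spec.map (CommRingCat.ofHom (algebraMap S.R S.K)) ≫ Spec.map β
  have hg' : h' ≫ g₀ hU σk = gK := by rw [Category.assoc, hl2]
  let A : Matrix (Fin r) (Fin r) Γ(Spec (CommRingCat.of S.K), ⊤) := fun x i => ιK.inv (Ak k x i)
  have hA : IsUnit A.det := by
    rw [show A = ιK.inv.hom.mapMatrix (Ak k) from rfl, ← RingHom.map_det]
    exact (isUnit_iff_ne_zero.mpr hd).map _
  have hmat : ∀ l x, mat b σk h' l x = ιK.inv (C l x) := fun l x => by
    show h'.appTop ((Scheme.ΓSpecIso _).inv (coord σk (b l) x)) = _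
    rw [show h' = Spec.map (β ≫ CommRingCat.ofHom (algebraMap S.R S.K)) from (Spec.map_comp _ _).symm]
    refine (congr($((Scheme.ΓSpecIso_inv_naturality (β ≫ CommRingCat.ofHom (algebraMap S.R S.K))).symm)
      (coord σk (b l) x))).trans ?_
    show ιK.inv (algebraMap S.R S.K (β (coord σk (b l) x))) = _
    rw [hβ, hB]
  have hb : ∀ l i, mat b (fun k => b (j k)) α l i = ∑ x, mat b σk h' l x * A x i := fun l i => by
    simp only [hmat, A, ← map_mul, ← map_sum, ← hC]
    exact (Iso.hom_inv_id_apply ιK _).symm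
  have key := chartMor_eq b hU hG α h' hαg hg' A hA hb
  refine ⟨⟨⟨Spec.map β ≫ chartMor hG hU σk, ?_, ?_⟩⟩⟩
  · rw [← Category.assoc]
    exact key.symm.trans hα
  · rw [Category.assoc, chartMor_comp, hl2]

theorem isProper : IsProper π := by
  haveI := GrSep.isSeparated hG
  haveI := quasiCompact hG hE
  haveI : UniversallyClosed π := UniversallyClosed.of_valuativeCriterion π (existence hG hE)
  haveI := smooth hG hE
  haveI : Smooth π := SmoothOfRelativeDimension.smooth (r * (N - r)) π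
  haveI : LocallyOfFiniteType π := inferInstance
  exact {}

theorem exists_section {U : X.Opens} (hU : IsAffineOpen U) (b : Module.Basis (Fin N) Γ(X, U) Γ(E, U))
    {j : Fin r → Fin N} (hj : Function.Injective j) :
    ∃ s : Spec Γ(X, U) ⟶ Spec (CR fun k => b (j k)), s ≫ g₀ hU (fun k => b (j k)) = hU.fromSpec := by
  classical
  obtain ⟨β, hβ, -⟩ := exists_pointHom b (j := j) (𝟙 Γ(X, U)) (fun l i => if j i = l then 1 else 0)
    (fun x i => by simp only [hj.eq_iff])
  refine ⟨Spec.map β, ?_⟩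
  show Spec.map β ≫ Spec.map _ ≫ hU.fromSpec = _
  rw [← Spec.map_comp_assoc, hβ, Spec.map_id, Category.id_comp]

theorem exists_point_over {U : X.Opens} (hU : IsAffineOpen U) (b : Module.Basis (Fin N) Γ(X, U) Γ(E, U))
    {j : Fin r → Fin N} (hj : Function.Injective j) {x : X} (hx : x ∈ U) :
    ∃ p : G, p ∈ opn hG (fun k => b (j k)) ∧ π p = x := by
  obtain ⟨s, hs⟩ := exists_section hG hE hU b hj
  obtain ⟨y, rfl⟩ : x ∈ Set.range hU.fromSpec := by rw [hU.range_fromSpec]; exact hx
  refine ⟨chartMor hG hU _ (s y), (range_chartMor hG hU _).le ⟨_, rfl⟩, ?_⟩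
  show (s ≫ chartMor hG hU _ ≫ π) y = _
  rw [chartMor_comp, hs]

theorem surjective (hr : r ≤ N) : Surjective π := ⟨fun x => by
  obtain ⟨U, hU, hxU, ⟨b⟩⟩ := exists_basis hE x
  obtain ⟨p, -, hp⟩ := exists_point_over hG hE hU b (Fin.castLE_injective hr) hxU
  exact ⟨p, hp⟩⟩

theorem exists_perm {j k : Fin r → Fin N} (hj : Function.Injective j) (hk : Function.Injective k) :
    ∃ τ : Equiv.Perm (Fin r), ∀ x i, k x = j i → τ x = i := by
  classical
  let p : Fin r → Prop := fun x => ∃ i, k x = j i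
  let p' : Fin r → Prop := fun i => ∃ x, k x = j i
  let f : {x // p x} → {i // p' i} := fun x => ⟨x.2.choose, x.1, x.2.choose_spec⟩
  have hf : Function.Bijective f := by
    refine ⟨fun a a' h => Subtype.ext (hk ?_), fun i => ⟨⟨i.2.choose, i.1, i.2.choose_spec⟩, Subtype.ext ?_⟩⟩
    · rw [a.2.choose_spec, a'.2.choose_spec, show a.2.choose = a'.2.choose from congrArg Subtype.val h]
    · have hx : p i.2.choose := ⟨i.1, i.2.choose_spec⟩
      exact hj (hx.choose_spec.symm.trans i.2.choose_spec)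
  let e := Equiv.ofBijective f hf
  refine ⟨e.extendSubtype, fun x i hxi => ?_⟩
  rw [e.extendSubtype_apply_of_mem x ⟨i, hxi⟩]
  have hx : p x := ⟨i, hxi⟩
  exact hj (hx.choose_spec.symm.trans hxi)

theorem exists_common_point {U : X.Opens} (hU : IsAffineOpen U) (b : Module.Basis (Fin N) Γ(X, U) Γ(E, U))
    {j k : Fin r → Fin N} (hj : Function.Injective j) (hk : Function.Injective k) (hne : (U : Set X).Nonempty) :
    ∃ p : G, p ∈ opn hG (fun x => b (j x)) ∧ p ∈ opn hG (fun x => b (k x)) := by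
  classical
  obtain ⟨τ, hτ⟩ := exists_perm hG hE hj hk
  let A : CommRingCat.{u} := Γ(X, U)
  let B : Fin N → Fin r → A := fun l i => if l = j i ∨ l = k (τ.symm i) then 1 else 0
  have hBj : ∀ x i, B (j x) i = if i = x then 1 else 0 := fun x i => by
    refine if_congr ⟨?_, fun h => Or.inl (by rw [h])⟩ rfl rfl
    rintro (h | h)
    · exact (hj h).symm
    · exact (hτ _ _ h.symm) ▸ (τ.apply_symm_apply i).symm
  have hBk : ∀ x i, B (k x) i = if i = τ x then 1 else 0 := fun x i => by
    refine if_congr ⟨?_, fun h => Or.inr (by rw [h, Equiv.symm_apply_apply])⟩ rfl rfl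
    rintro (h | h)
    · exact (hτ _ _ h).symm
    · rw [hk h, Equiv.apply_symm_apply]
  obtain ⟨β, hβρ, hβ⟩ := exists_pointHom b (j := j) (𝟙 Γ(X, U)) B hBj
  obtain ⟨β', hβ'ρ, hβ'⟩ := exists_pointHom b (j := k) (𝟙 Γ(X, U)) (fun l x => B l (τ x))
    (fun x i => (hBk x (τ i)).trans (by simp only [τ.injective.eq_iff]))
  have hw : ∀ (m : Fin r → Fin N) (γ : CR (fun x => b (m x)) ⟶ A), ρ (fun x => b (m x)) ≫ γ = 𝟙 _ →
      Spec.map γ ≫ g₀ hU (fun x => b (m x)) = hU.fromSpec := fun m γ h => by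
    show Spec.map γ ≫ Spec.map _ ≫ hU.fromSpec = _
    rw [← Spec.map_comp_assoc, h, Spec.map_id, Category.id_comp]
  have hmat : ∀ (m : Fin r → Fin N) (γ : CR (fun x => b (m x)) ⟶ A) (l : Fin N) (i : Fin r),
      mat b (fun x => b (m x)) (Spec.map γ) l i = (Scheme.ΓSpecIso A).inv (γ (coord (fun x => b (m x)) (b l) i)) :=
    fun m γ l i => congr($((Scheme.ΓSpecIso_inv_naturality γ).symm) (coord _ (b l) i))
  let M : Matrix (Fin r) (Fin r) Γ(Spec A, ⊤) := fun x i => if i = τ x then 1 else 0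
  have hM : IsUnit M.det := by
    rw [show M = (Matrix.of fun x i => if i = τ x then (1 : Γ(Spec A, ⊤)) else 0) from rfl,
      show (Matrix.of fun x i => if i = τ x then (1 : Γ(Spec A, ⊤)) else 0) = τ.permMatrix Γ(Spec A, ⊤) from by
        ext x i; simp [Equiv.Perm.permMatrix, PEquiv.toMatrix_apply, eq_comm]]
    rw [Matrix.det_permutation]
    exact (Equiv.Perm.sign τ).isUnit.map (Int.castRingHom _)
  have key := chartMor_eq b hU hG (Spec.map β) (Spec.map β') (hw j β hβρ) (hw k β' hβ'ρ) M hM fun l i => by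
    simp only [hmat, hβ, hβ']
    rw [Finset.sum_eq_single (τ.symm i)]
    · simp only [M, Equiv.apply_symm_apply, if_true, mul_one]
      exact congrArg _ ((hβ l i).trans ((hβ' l (τ.symm i)).trans (by rw [Equiv.apply_symm_apply])).symm)
    · intro x _ hx
      have : i ≠ τ x := fun h => hx (by rw [h, Equiv.symm_apply_apply])
      simp [M, this]
    · exact fun h => absurd (Finset.mem_univ _) h
  obtain ⟨x, hx⟩ := hne
  obtain ⟨y, rfl⟩ : x ∈ Set.range hU.fromSpec := by rw [hU.range_fromSpec]; exact hx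
  refine ⟨(Spec.map β ≫ chartMor hG hU _) y, (range_chartMor hG hU _).le ⟨_, rfl⟩, ?_⟩
  rw [key]
  exact (range_chartMor hG hU _).le ⟨_, rfl⟩

omit [E.IsQuasicoherent] hG hE in
theorem irreducible_poly (R : Type u) [CommRing R] (σ : Type) [IrreducibleSpace (PrimeSpectrum R)] :
    IrreducibleSpace (PrimeSpectrum (MvPolynomial σ R)) := by
  rw [PrimeSpectrum.irreducibleSpace_iff_isPrime_nilradical]
  haveI : (nilradical R).IsPrime := PrimeSpectrum.irreducibleSpace_iff_isPrime_nilradical.mp inferInstance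
  let f : MvPolynomial σ R →+* MvPolynomial σ (R ⧸ nilradical R) := MvPolynomial.map (Ideal.Quotient.mk _)
  have hf : nilradical (MvPolynomial σ R) = RingHom.ker f := by
    apply le_antisymm
    · intro p hp
      exact ((mem_nilradical.mp hp).map f).eq_zero
    · intro p hp
      rw [RingHom.mem_ker] at hp
      rw [mem_nilradical, p.as_sum]
      refine isNilpotent_sum fun m _ => ?_
      have h0 : p.coeff m ∈ nilradical R := by
        rw [← Ideal.Quotient.eq_zero_iff_mem]
        have := congrArg (MvPolynomial.coeff m) hp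
        rwa [MvPolynomial.coeff_map, MvPolynomial.coeff_zero] at this
      rw [MvPolynomial.monomial_eq]
      exact (Commute.all _ _).isNilpotent_mul_right ((mem_nilradical.mp h0).map MvPolynomial.C)
  rw [hf]
  exact RingHom.ker_isPrime f

theorem isPreirreducible_opn [IrreducibleSpace X] {U : X.Opens} (hU : IsAffineOpen U) (hne : (U : Set X).Nonempty)
    (b : Module.Basis (Fin N) Γ(X, U) Γ(E, U)) {j : Fin r → Fin N} (hj : Function.Injective j) :
    IsPreirreducible (opn hG (fun k => b (j k)) : Set G) := by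
  haveI : Nonempty U := let ⟨x, hx⟩ := hne; ⟨⟨x, hx⟩⟩
  haveI : PreirreducibleSpace U := U.2.isOpenEmbedding_subtypeVal.preirreducibleSpace
  haveI : IrreducibleSpace U := ⟨inferInstance⟩
  haveI : IrreducibleSpace (PrimeSpectrum Γ(X, U)) :=
    (hU.isoSpec.hom.homeomorph).surjective.irreducibleSpace hU.isoSpec.hom.continuous
  obtain ⟨φ, -⟩ := exists_ringEquiv b hj
  haveI : IrreducibleSpace (PrimeSpectrum (MvPolynomial (Rest j × Fin r) Γ(X, U))) := irreducible_poly _ _
  haveI : IrreducibleSpace (PrimeSpectrum (CR fun k => b (j k))) :=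
    (PrimeSpectrum.homeomorphOfRingEquiv φ).symm.surjective.irreducibleSpace
      (PrimeSpectrum.homeomorphOfRingEquiv φ).symm.continuous
  rw [← range_chartMor hG hU, ← Set.image_univ]
  exact (IrreducibleSpace.isIrreducible_univ (PrimeSpectrum (CR fun k => b (j k)))).isPreirreducible.image _
    (chartMor hG hU _).continuous.continuousOn

theorem irreducibleSpace [IrreducibleSpace X] (hr : r ≤ N) : IrreducibleSpace G := by
  obtain ⟨x₀⟩ := (inferInstance : Nonempty X)
  obtain ⟨p₀, -⟩ := (surjective hG hE hr).surj x₀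
  refine @IrreducibleSpace.mk _ _ ⟨fun S T hS hT ⟨x, _, hx⟩ ⟨y, _, hy⟩ => ?_⟩ ⟨p₀⟩
  obtain ⟨U, hU, hxU, ⟨b⟩⟩ := exists_basis hE (π x)
  obtain ⟨U', hU', hyU, ⟨b'⟩⟩ := exists_basis hE (π y)
  obtain ⟨j, hj, hxj⟩ := exists_mem_opn hG b hU x hxU
  obtain ⟨j', hj', hyj⟩ := exists_mem_opn hG b' hU' y hyU
  obtain ⟨z, hzU, hzU'⟩ := nonempty_preirreducible_inter U.2 U'.2 ⟨_, hxU⟩ ⟨_, hyU⟩
  obtain ⟨p, hpj, hpz⟩ := exists_point_over hG hE hU b hj hzU
  obtain ⟨j'', hj'', hpj''⟩ := exists_mem_opn hG b' hU' p (by rw [hpz]; exact hzU')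
  obtain ⟨p', hp'1, hp'2⟩ := exists_common_point hG hE hU' b' hj'' hj' ⟨_, hyU⟩
  have P1 := isPreirreducible_opn hG hE hU ⟨_, hxU⟩ b hj
  have P2 := isPreirreducible_opn hG hE hU' ⟨_, hyU⟩ b' hj''
  have P3 := isPreirreducible_opn hG hE hU' ⟨_, hyU⟩ b' hj'
  let O2 := opn hG fun k => b' (j'' k)
  let O3 := opn hG fun k => b' (j' k)
  obtain ⟨w, -, hwS, hw2⟩ := P1 S O2 hS O2.2 ⟨x, hxj, hx⟩ ⟨p, hpj, hpj''⟩
  obtain ⟨w', -, hw'S, hw'3⟩ := P2 S O3 hS O3.2 ⟨w, hw2, hwS⟩ ⟨p', hp'1, hp'2⟩
  obtain ⟨v, -, hvS, hvT⟩ := P3 S T hS hT ⟨w', hw'3, hw'S⟩ ⟨y, hyj, hy⟩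
  exact ⟨v, trivial, hvS, hvT⟩

end Groth.Agent.Grass5.GrProps
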