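import Groth.Agent.Grass5.FlagStep
import Groth.Agent.Grass5.GrProps
import Groth.Agent.Grass5.GrExist

/-!
Partial flag schemes of locally free modules as towers of Grassmannians.
-/

set_option autoImplicit false
set_option backward.isDefEq.respectTransparency false
set_option backward.isDefEq.respectTransparency.types false
set_option maxHeartbeats 400000

noncomputable section

universe u

open CategoryTheory CategoryTheory.Limits AlgebraicGeometry

namespace Groth.Agent.Grass5.FlagTower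

open Grass5.QuotBC

/-- A quotient-like datum of `π^*E`. -/
abbrev Qt {X F : Scheme.{u}} (π : F ⟶ X) (E : X.Modules) :=
  Σ L : F.Modules, (Scheme.Modules.pullback π).obj E ⟶ L

/-- the quotient `p` pulls back along `h` to `s`. -/
def Sim {X F T : Scheme.{u}} {π : F ⟶ X} {g : T ⟶ X} {E : X.Modules} {h : T ⟶ F} (hg : h ≫ π = g)
    (p : Qt π E) (s : Qt g E) : Prop :=
  ∃ e : (Scheme.Modules.pullback h).obj p.1 ≅ s.1, Grass.quotBC hg p.2 ≫ e.hom = s.2

variable {X F F' T : Scheme.{u}} {π : F ⟶ X} {π' : F' ⟶ X} {g : T ⟶ X} {E : X.Modules}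

theorem Sim.comp {h₂ : T ⟶ F'} {h₁ : F' ⟶ F} {h₁π : h₁ ≫ π = π'} {h₂π : h₂ ≫ π' = g}
    (hc : (h₂ ≫ h₁) ≫ π = g) {p : Qt π E} {p' : Qt π' E} {s : Qt g E}
    (a : Sim h₁π p p') (b : Sim h₂π p' s) : Sim hc p s := by
  obtain ⟨e₁, he₁⟩ := a
  obtain ⟨e₂, he₂⟩ := b
  refine ⟨((Scheme.Modules.pullbackComp h₂ h₁).symm.app p.1 ≪≫
    (Scheme.Modules.pullback h₂).mapIso e₁) ≪≫ e₂, ?_⟩
  rw [Iso.trans_hom, ← Category.assoc, exists_iso_comp h₁π h₂π hc p.2 p'.2 e₁ he₁]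
  exact he₂

/-- the family of a flag, as quotient data. -/
abbrev fam {m : ℕ} (Q : Fin m → F.Modules) (q : ∀ i, (Scheme.Modules.pullback π).obj E ⟶ Q i) (i : Fin m) :
    Qt π E := ⟨Q i, q i⟩

section flag

variable {m : ℕ} {n : Fin m → ℕ} {Q : Fin m → F.Modules}
  {q : ∀ i, (Scheme.Modules.pullback π).obj E ⟶ Q i} (hF : Grass.IsFlag π E n Q q)

include hF

theorem sim_lift (g : T ⟶ X) (L : Fin m → T.Modules) (hL : ∀ i, FlatMod.IsFinLocFreeOfRank (n i) (L i))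
    (s : ∀ i, (Scheme.Modules.pullback g).obj E ⟶ L i) (hs : ∀ i, Epi (s i))
    (hn : ∀ i j, i ≤ j → ∃ t : L i ⟶ L j, s i ≫ t = s j) (i : Fin m) :
    Sim (hF.lift_comp g L hL s hs hn) (fam Q q i) ⟨L i, s i⟩ :=
  ⟨hF.liftIso g L hL s hs hn i, hF.quotBC_liftIso g L hL s hs hn i⟩

theorem eq_lift (g : T ⟶ X) (L : Fin m → T.Modules) (hL : ∀ i, FlatMod.IsFinLocFreeOfRank (n i) (L i))
    (s : ∀ i, (Scheme.Modules.pullback g).obj E ⟶ L i) (hs : ∀ i, Epi (s i))
    (hn : ∀ i j, i ≤ j → ∃ t : L i ⟶ L j, s i ≫ t = s j) {h : T ⟶ F} (hg : h ≫ π = g)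
    (hh : ∀ i, Sim hg (fam Q q i) ⟨L i, s i⟩) : h = hF.lift g L hL s hs hn := by
  choose e he using hh
  exact hF.lift_unique g L hL s hs hn h hg e he

theorem eq_id {h : F ⟶ F} (hπ : h ≫ π = π) (hh : ∀ i, Sim hπ (fam Q q i) (fam Q q i)) : h = 𝟙 F := by
  have hπ1 : 𝟙 F ≫ π = π := Category.id_comp _
  let L := fun i => (Scheme.Modules.pullback (𝟙 F)).obj (Q i)
  have hL : ∀ i, FlatMod.IsFinLocFreeOfRank (n i) (L i) := fun i => isFinLocFreeOfRank_pullback _ (hF.rank i)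
  let s := fun i => Grass.quotBC hπ1 (q i)
  have hs : ∀ i, Epi (s i) := fun i => by haveI := hF.epi i; exact epi_quotBC hπ1 _
  have hn : ∀ i j, i ≤ j → ∃ t : L i ⟶ L j, s i ≫ t = s j := fun i j hij => by
    obtain ⟨t, ht⟩ := hF.nested i j hij
    exact ⟨_, by rw [← quotBC_postcomp, ht]⟩
  have h1 : 𝟙 F = hF.lift π L hL s hs hn :=
    eq_lift hF π L hL s hs hn hπ1 fun i => ⟨Iso.refl _, Category.comp_id _⟩
  have hc : (𝟙 F ≫ h) ≫ π = π := by rw [Category.id_comp, hπ]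
  have h2 : 𝟙 F ≫ h = hF.lift π L hL s hs hn := eq_lift hF π L hL s hs hn hc fun i =>
    (hh i).comp hc (show Sim hπ1 (fam Q q i) ⟨L i, s i⟩ from ⟨Iso.refl _, Category.comp_id _⟩)
  rw [← h1, Category.id_comp] at h2
  exact h2

theorem exists_iso_of_flag {Q' : Fin m → F'.Modules} {q' : ∀ i, (Scheme.Modules.pullback π').obj E ⟶ Q' i}
    (hF' : Grass.IsFlag π' E n Q' q') :
    ∃ (φ : F ⟶ F') (_ : IsIso φ) (hφ : φ ≫ π' = π), ∀ i, Sim hφ (fam Q' q' i) (fam Q q i) := by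
  let φ := hF'.lift π Q hF.rank q hF.epi hF.nested
  let ψ := hF.lift π' Q' hF'.rank q' hF'.epi hF'.nested
  have hφ : φ ≫ π' = π := hF'.lift_comp _ _ _ _ _ _
  have hψ : ψ ≫ π = π' := hF.lift_comp _ _ _ _ _ _
  have sφ := sim_lift hF' π Q hF.rank q hF.epi hF.nested
  have sψ := sim_lift hF π' Q' hF'.rank q' hF'.epi hF'.nested
  have h1 : φ ≫ ψ = 𝟙 F := eq_id hF (by rw [Category.assoc, hψ, hφ]) fun i => (sψ i).comp _ (sφ i)
  have h2 : ψ ≫ φ = 𝟙 F' := eq_id hF' (by rw [Category.assoc, hφ, hψ]) fun i => (sφ i).comp _ (sψ i)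
  exact ⟨φ, ⟨⟨ψ, h1, h2⟩⟩, hφ, sφ⟩

end flag

/-- the last quotient of a flag, `π^*E` itself for the empty flag. -/
def lastQ : {m : ℕ} → (Q : Fin m → F.Modules) → (∀ i, (Scheme.Modules.pullback π).obj E ⟶ Q i) → Qt π E
  | 0, _, _ => ⟨_, 𝟙 _⟩
  | m + 1, Q, q => fam Q q (Fin.last m)

variable {m : ℕ} {n : Fin m → ℕ} {Q : Fin m → F.Modules}
  {q : ∀ i, (Scheme.Modules.pullback π).obj E ⟶ Q i} (hF : Grass.IsFlag π E n Q q)

include hF

theorem epi_lastQ : Epi (lastQ Q q).2 := by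
  cases m with
  | zero => show Epi (𝟙 _); infer_instance
  | succ m => exact hF.epi _

theorem rank_lastQ {N : ℕ} (hE : FlatMod.IsFinLocFreeOfRank N E) :
    FlatMod.IsFinLocFreeOfRank ((Fin.cons N n : Fin (m + 1) → ℕ) (Fin.last m)) (lastQ Q q).1 := by
  cases m with
  | zero => exact isFinLocFreeOfRank_pullback π hE
  | succ m =>
    show FlatMod.IsFinLocFreeOfRank _ (Q (Fin.last m))
    simpa [← Fin.succ_last] using hF.rank (Fin.last m)

theorem fac_lastQ (i : Fin m) : ∃ t : Q i ⟶ (lastQ Q q).1, q i ≫ t = (lastQ Q q).2 := by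
  cases m with
  | zero => exact i.elim0
  | succ m => exact hF.nested i (Fin.last m) (Fin.le_last i)

theorem fac_out {h : T ⟶ F} (hg : h ≫ π = g) {L : Fin m → T.Modules}
    {s : ∀ i, (Scheme.Modules.pullback g).obj E ⟶ L i} (hh : ∀ i, Sim hg (fam Q q i) ⟨L i, s i⟩) {M : T.Modules}
    (σ : (Scheme.Modules.pullback g).obj E ⟶ M) (hσ : ∀ i, ∃ t : L i ⟶ M, s i ≫ t = σ) :
    ∃ t : (Scheme.Modules.pullback h).obj (lastQ Q q).1 ⟶ M, Grass.quotBC hg (lastQ Q q).2 ≫ t = σ := by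
  cases m with
  | zero =>
    haveI : IsIso (Grass.quotBC hg (lastQ Q q).2) := by
      show IsIso (Grass.quotBC hg (𝟙 _))
      unfold Grass.quotBC
      infer_instance
    exact ⟨inv (Grass.quotBC hg (lastQ Q q).2) ≫ σ, IsIso.hom_inv_id_assoc _ _⟩
  | succ m =>
    obtain ⟨e, he⟩ := hh (Fin.last m)
    obtain ⟨t, ht⟩ := hσ (Fin.last m)
    refine ⟨e.hom ≫ t, ?_⟩
    show Grass.quotBC hg (q (Fin.last m)) ≫ e.hom ≫ t = σ
    exact (Category.assoc _ _ _).symm.trans ((congrArg (· ≫ t) he).trans ht)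

omit hF in
/-- the family on a Grassmannian over a flag. -/
def snocFam {G : Scheme.{u}} (k : G ⟶ F) (Q : Fin m → F.Modules)
    (q : ∀ i, (Scheme.Modules.pullback π).obj E ⟶ Q i) {Qn : G.Modules}
    (s : (Scheme.Modules.pullback k).obj (lastQ Q q).1 ⟶ Qn) : Fin (m + 1) → Qt (k ≫ π) E :=
  Fin.lastCases ⟨Qn, Grass.quotBC rfl (lastQ Q q).2 ≫ s⟩
    fun i => ⟨(Scheme.Modules.pullback k).obj (Q i), Grass.quotBC rfl (q i)⟩

omit hF in
theorem snocFam_last {G : Scheme.{u}} (k : G ⟶ F) {Qn : G.Modules}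
    (s : (Scheme.Modules.pullback k).obj (lastQ Q q).1 ⟶ Qn) :
    snocFam k Q q s (Fin.last m) = ⟨Qn, Grass.quotBC rfl (lastQ Q q).2 ≫ s⟩ := by simp [snocFam]

omit hF in
theorem snocFam_castSucc {G : Scheme.{u}} (k : G ⟶ F) {Qn : G.Modules}
    (s : (Scheme.Modules.pullback k).obj (lastQ Q q).1 ⟶ Qn) (i : Fin m) :
    snocFam k Q q s (Fin.castSucc i) = ⟨(Scheme.Modules.pullback k).obj (Q i), Grass.quotBC rfl (q i)⟩ := by
  simp [snocFam]

omit hF in
theorem sim_castSucc {G : Scheme.{u}} (k : G ⟶ F) {Qn : G.Modules}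
    (s : (Scheme.Modules.pullback k).obj (lastQ Q q).1 ⟶ Qn) (i : Fin m) :
    Sim (rfl : k ≫ π = k ≫ π) (fam Q q i) (snocFam k Q q s (Fin.castSucc i)) := by
  rw [snocFam_castSucc]
  exact ⟨Iso.refl _, Category.comp_id _⟩

omit hF in
theorem isFlag_snoc {n : Fin (m + 1) → ℕ} (hF : Grass.IsFlag π E (fun i => n (Fin.castSucc i)) Q q)
    {G : Scheme.{u}} {k : G ⟶ F} {Qn : G.Modules} {s : (Scheme.Modules.pullback k).obj (lastQ Q q).1 ⟶ Qn}
    (hG : Grass.IsGrass k (lastQ Q q).1 (n (Fin.last m)) Qn s) :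
    Grass.IsFlag (k ≫ π) E n (fun i => (snocFam k Q q s i).1) (fun i => (snocFam k Q q s i).2) where
  rank := by
    refine Fin.lastCases ?_ (fun i => ?_)
    · rw [snocFam_last]; exact hG.rank
    · rw [snocFam_castSucc]; exact isFinLocFreeOfRank_pullback k (hF.rank i)
  epi := by
    refine Fin.lastCases ?_ (fun i => ?_)
    · rw [snocFam_last]
      haveI := epi_lastQ hF
      haveI := epi_quotBC (rfl : k ≫ π = k ≫ π) (lastQ Q q).2
      haveI := hG.epi
      exact epi_comp _ _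
    · rw [snocFam_castSucc]
      haveI := hF.epi i
      exact epi_quotBC _ _
  nested := by
    refine Fin.lastCases ?_ (fun i => ?_)
    · intro j hj
      obtain rfl : j = Fin.last m := le_antisymm (Fin.le_last j) hj
      exact ⟨𝟙 _, Category.comp_id _⟩
    · refine Fin.lastCases ?_ (fun j => ?_)
      · intro _
        rw [snocFam_castSucc, snocFam_last]
        obtain ⟨t, ht⟩ := fac_lastQ hF i
        exact ⟨(Scheme.Modules.pullback k).map t ≫ s, by rw [← Category.assoc, ← quotBC_postcomp, ht]⟩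
      · intro hij
        rw [snocFam_castSucc, snocFam_castSucc]
        obtain ⟨t, ht⟩ := hF.nested i j (Fin.castSucc_le_castSucc_iff.mp hij)
        exact ⟨_, by rw [← quotBC_postcomp, ht]⟩
  univ := by
    intro T g M hM σ hσ hne
    let h₁ := hF.lift g (fun i => M (Fin.castSucc i)) (fun i => hM _) (fun i => σ _) (fun i => hσ _)
      (fun i j hij => hne _ _ (Fin.castSucc_le_castSucc_iff.mpr hij))
    have hg₁ : h₁ ≫ π = g := hF.lift_comp _ _ _ _ _ _
    have s₁ : ∀ i, Sim hg₁ (fam Q q i) ⟨M (Fin.castSucc i), σ (Fin.castSucc i)⟩ := sim_lift hF _ _ _ _ _ _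
    haveI := epi_lastQ hF
    haveI := epi_quotBC hg₁ (lastQ Q q).2
    obtain ⟨t, ht⟩ := fac_out hF hg₁ s₁ (σ (Fin.last m)) fun i => hne _ _ (Fin.le_last _)
    haveI := hσ (Fin.last m)
    haveI : Epi t := epi_of_epi_fac ht
    obtain ⟨h₂, ⟨hk₂, e, he⟩, huniq⟩ := hG.univ T h₁ _ (hM (Fin.last m)) t inferInstance
    have stack : ∀ (h : T ⟶ G) (hk : h ≫ k = h₁) (hp : h ≫ k ≫ π = g),
        Grass.quotBC hg₁ (lastQ Q q).2 ≫ Grass.quotBC hk s =
          Grass.quotBC hp (Grass.quotBC rfl (lastQ Q q).2 ≫ s) :=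
      fun h hk hp => quotBC_stack rfl hk hg₁ hp _ _
    have hp₂ : h₂ ≫ k ≫ π = g := by rw [← Category.assoc, hk₂, hg₁]
    have all₂ : ∀ i, Sim hp₂ (snocFam k Q q s i) ⟨M i, σ i⟩ := by
      refine Fin.lastCases ?_ (fun i => ?_)
      · rw [snocFam_last]
        refine ⟨e, ?_⟩
        rw [← stack h₂ hk₂ hp₂]
        exact (Category.assoc _ _ _).trans ((congrArg (_ ≫ ·) he).trans ht)
      · rw [snocFam_castSucc]
        obtain ⟨e', he'⟩ := s₁ i
        have hc : (h₂ ≫ k) ≫ π = g := by rw [hk₂, hg₁]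
        refine ⟨((Scheme.Modules.pullbackComp h₂ k).app (Q i)) ≪≫
          (Scheme.Modules.pullbackCongr hk₂).app (Q i) ≪≫ e', ?_⟩
        rw [quotBC_comp rfl hp₂ hc, Iso.trans_hom, Iso.trans_hom, Category.assoc, Iso.app_hom,
          Iso.inv_hom_id_app_assoc]
        exact (Category.assoc _ _ _).symm.trans ((congrArg (· ≫ e'.hom) (quotBC_id_iso hk₂ hc hg₁ _)).trans he')
    choose e₂ he₂ using all₂
    refine ⟨h₂, ⟨hp₂, e₂, he₂⟩, ?_⟩
    rintro h ⟨hp, e', he'⟩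
    have hc : (h ≫ k) ≫ π = g := (Category.assoc _ _ _).trans hp
    have hk : h ≫ k = h₁ := eq_lift hF _ _ _ _ _ _ hc fun i =>
      (sim_castSucc k s i).comp hc (show Sim hp (snocFam k Q q s (Fin.castSucc i)) _ from ⟨e' _, he' _⟩)
    have hl : Sim hp (snocFam k Q q s (Fin.last m)) ⟨M (Fin.last m), σ (Fin.last m)⟩ := ⟨e' _, he' _⟩
    rw [snocFam_last] at hl
    obtain ⟨el, hel⟩ := hl
    refine huniq h ⟨hk, el, ?_⟩
    rw [← cancel_epi (Grass.quotBC hg₁ (lastQ Q q).2), ← Category.assoc, stack h hk hp, hel, ht]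

omit hF in
theorem isFlag_zero (n : Fin 0 → ℕ) : Grass.IsFlag (𝟙 X) E n (fun i => i.elim0) (fun i => i.elim0) where
  rank i := i.elim0
  epi i := i.elim0
  nested i := i.elim0
  univ T g L hL s hs hn :=
    ⟨g, ⟨Category.comp_id _, fun i => i.elim0, fun i => i.elim0⟩,
      fun h ⟨hg, _⟩ => (Category.comp_id h).symm.trans hg⟩

omit hF in
theorem exists_flag {N : ℕ} (hE : FlatMod.IsFinLocFreeOfRank N E) :
    ∀ (m : ℕ) (n : Fin m → ℕ), ∃ (F : Scheme.{u}) (π : F ⟶ X) (Q : Fin m → F.Modules)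
      (q : ∀ i, (Scheme.Modules.pullback π).obj E ⟶ Q i), Grass.IsFlag π E n Q q
  | 0, n => ⟨X, 𝟙 X, _, _, isFlag_zero n⟩
  | m + 1, n => by
    obtain ⟨F, π, Q, q, hF⟩ := exists_flag hE m fun i => n (Fin.castSucc i)
    haveI := GrProps.qcoh_of_rank (rank_lastQ hF hE)
    obtain ⟨G, k, Qn, s, hG⟩ := GrExist.exists_isGrass (lastQ Q q).1 (n (Fin.last m))
    exact ⟨G, k ≫ π, _, _, isFlag_snoc hF hG⟩

omit hF in
theorem cons_castSucc (N : ℕ) (n : Fin (m + 1) → ℕ) (j : Fin (m + 1)) :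
    (Fin.cons N n : Fin (m + 2) → ℕ) (Fin.castSucc j) =
      (Fin.cons N fun i => n (Fin.castSucc i) : Fin (m + 1) → ℕ) j := by
  induction j using Fin.cases with
  | zero => simp
  | succ i => simp [← Fin.succ_castSucc]

omit hF in
theorem le_cons {N : ℕ} {n : Fin m → ℕ} (hn : Antitone n) (hN : ∀ i, n i ≤ N) (i : Fin m) :
    n i ≤ (Fin.cons N n : Fin (m + 1) → ℕ) (Fin.castSucc i) := by
  cases m with
  | zero => exact i.elim0
  | succ m =>
    induction i using Fin.cases with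
    | zero => simpa using hN 0
    | succ i => simpa [← Fin.succ_castSucc] using hn (Fin.castSucc_lt_succ (i := i)).le

omit hF in
/-- the morphism forgetting the last steps of a flag is smooth, proper and surjective. -/
theorem trunc_props {N : ℕ} (hE : FlatMod.IsFinLocFreeOfRank N E) :
    ∀ (m : ℕ) (n : Fin m → ℕ) (_ : Antitone n) (_ : ∀ i, n i ≤ N) (k : ℕ) (hk : k ≤ m)
      {F : Scheme.{u}} {π : F ⟶ X} {Q : Fin m → F.Modules} {q : ∀ i, (Scheme.Modules.pullback π).obj E ⟶ Q i}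
      (_ : Grass.IsFlag π E n Q q)
      {F₀ : Scheme.{u}} {π₀ : F₀ ⟶ X} {Q₀ : Fin k → F₀.Modules}
      {q₀ : ∀ i, (Scheme.Modules.pullback π₀).obj E ⟶ Q₀ i}
      (_ : Grass.IsFlag π₀ E (fun i => n (Fin.castLE hk i)) Q₀ q₀) (l : F ⟶ F₀) (hl : l ≫ π₀ = π)
      (_ : ∀ i, Sim hl (fam Q₀ q₀ i) (fam Q q (Fin.castLE hk i))),
      SmoothOfRelativeDimension (∑ i : Fin m, if k ≤ (i : ℕ) then
        n i * ((Fin.cons N n : Fin (m + 1) → ℕ) (Fin.castSucc i) - n i) else 0) l ∧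
      IsProper l ∧ Surjective l := by
  intro m
  induction m with
  | zero =>
    intro n hn hN k hk F π Q q hF F₀ π₀ Q₀ q₀ hF₀ l hl hs
    obtain rfl : k = 0 := Nat.le_zero.mp hk
    obtain ⟨φ, hiso, hφ, sφ⟩ := exists_iso_of_flag hF hF₀
    obtain rfl : l = φ := (eq_lift hF₀ π Q hF.rank q hF.epi hF.nested hl fun i => i.elim0).trans
      (eq_lift hF₀ π Q hF.rank q hF.epi hF.nested hφ fun i => i.elim0).symm
    refine ⟨?_, inferInstance, inferInstance⟩
    rw [Fin.sum_univ_zero]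
    infer_instance
  | succ m ih =>
    intro n hn hN k hk F π Q q hF F₀ π₀ Q₀ q₀ hF₀ l hl hs
    rcases Nat.eq_or_lt_of_le hk with rfl | hlt
    · obtain ⟨φ, hiso, hφ, sφ⟩ := exists_iso_of_flag hF hF₀
      obtain rfl : l = φ := (eq_lift hF₀ π Q hF.rank q hF.epi hF.nested hl hs).trans
        (eq_lift hF₀ π Q hF.rank q hF.epi hF.nested hφ sφ).symm
      refine ⟨?_, inferInstance, inferInstance⟩
      rw [Finset.sum_eq_zero fun i _ => if_neg (by have := i.2; omega)]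
      infer_instance
    · have hk' : k ≤ m := Nat.lt_succ_iff.mp hlt
      obtain ⟨F₁, π₁, Q₁, q₁, hF₁⟩ := exists_flag hE m fun i => n (Fin.castSucc i)
      have hr := rank_lastQ hF₁ hE
      haveI := GrProps.qcoh_of_rank hr
      obtain ⟨G, κ, Qn, s, hG⟩ := GrExist.exists_isGrass (lastQ Q₁ q₁).1 (n (Fin.last m))
      have hGf := isFlag_snoc hF₁ hG
      obtain ⟨φ, hiso, hφ, sφ⟩ := exists_iso_of_flag hF hGf
      let l₁ : F₁ ⟶ F₀ := hF₀.lift π₁ (fun i => Q₁ (Fin.castLE hk' i)) (fun i => hF₁.rank _) (fun i => q₁ _)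
        (fun i => hF₁.epi _) (fun i j hij => hF₁.nested _ _ ((Fin.castLE_le_castLE_iff hk').mpr hij))
      have hl₁ : l₁ ≫ π₀ = π₁ := hF₀.lift_comp _ _ _ _ _ _
      have sl₁ : ∀ i, Sim hl₁ (fam Q₀ q₀ i) (fam Q₁ q₁ (Fin.castLE hk' i)) := sim_lift hF₀ _ _ _ _ _ _
      obtain ⟨ih1, ih2, ih3⟩ := ih (fun i => n (Fin.castSucc i))
        (fun a b hab => hn (Fin.castSucc_le_castSucc_iff.mpr hab)) (fun i => hN _) k hk' hF₁ hF₀ l₁ hl₁ sl₁
      have hκl : (κ ≫ l₁) ≫ π₀ = κ ≫ π₁ := by rw [Category.assoc, hl₁]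
      have hφl : (φ ≫ κ ≫ l₁) ≫ π₀ = π := by rw [Category.assoc, hκl, hφ]
      have hall : ∀ i, Sim hφl (fam Q₀ q₀ i) (fam Q q (Fin.castLE hk i)) := fun i =>
        Sim.comp (h₁π := hκl) (h₂π := hφ) hφl ((sl₁ i).comp hκl (sim_castSucc κ s _))
          (sφ (Fin.castSucc (Fin.castLE hk' i)))
      obtain rfl : l = φ ≫ κ ≫ l₁ := by
        refine (eq_lift hF₀ π (fun i => Q (Fin.castLE hk i)) (fun i => hF.rank _) (fun i => q _)
          (fun i => hF.epi _) (fun i j hij => hF.nested _ _ ((Fin.castLE_le_castLE_iff hk).mpr hij)) hl hs).trans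
          (eq_lift hF₀ _ _ _ _ _ _ hφl hall).symm
      have hκ1 := GrProps.smooth hG hr
      haveI := GrProps.isProper hG hr
      haveI := GrProps.surjective hG hr (by rw [← cons_castSucc]; exact le_cons hn hN _)
      refine ⟨?_, inferInstance, inferInstance⟩
      rw [MorphismProperty.cancel_left_of_respectsIso (@SmoothOfRelativeDimension _), Fin.sum_univ_castSucc,
        if_pos (show k ≤ (Fin.last m : ℕ) from hk'), add_comm]
      simp only [cons_castSucc, Fin.val_castSucc]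
      haveI := hκ1
      haveI := ih1
      exact smoothOfRelativeDimension_comp ..

omit hF in
/-- flag schemes over irreducible bases are irreducible. -/
theorem irreducibleSpace [IrreducibleSpace X] {N : ℕ} (hE : FlatMod.IsFinLocFreeOfRank N E) :
    ∀ (m : ℕ) (n : Fin m → ℕ) (_ : Antitone n) (_ : ∀ i, n i ≤ N)
      {F : Scheme.{u}} {π : F ⟶ X} {Q : Fin m → F.Modules} {q : ∀ i, (Scheme.Modules.pullback π).obj E ⟶ Q i}
      (_ : Grass.IsFlag π E n Q q), IrreducibleSpace F := by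
  intro m
  induction m with
  | zero =>
    intro n hn hN F π Q q hF
    obtain ⟨φ, hiso, hφ, sφ⟩ := exists_iso_of_flag (isFlag_zero (X := X) (E := E) n) hF
    exact φ.surjective.irreducibleSpace φ.continuous
  | succ m ih =>
    intro n hn hN F π Q q hF
    obtain ⟨F₁, π₁, Q₁, q₁, hF₁⟩ := exists_flag hE m fun i => n (Fin.castSucc i)
    have hr := rank_lastQ hF₁ hE
    haveI := GrProps.qcoh_of_rank hr
    obtain ⟨G, κ, Qn, s, hG⟩ := GrExist.exists_isGrass (lastQ Q₁ q₁).1 (n (Fin.last m))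
    obtain ⟨φ, hiso, hφ, sφ⟩ := exists_iso_of_flag (isFlag_snoc hF₁ hG) hF
    haveI := ih _ (fun a b hab => hn (Fin.castSucc_le_castSucc_iff.mpr hab)) (fun i => hN _) hF₁
    haveI := GrProps.irreducibleSpace hG hr (by rw [← cons_castSucc]; exact le_cons hn hN _)
    exact φ.surjective.irreducibleSpace φ.continuous

end Groth.Agent.Grass5.FlagTower
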