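import Groth.Agent.Grass5.HilbConnProj
import Groth.Agent.Grass5.ChartTangent
import Groth.Agent.Grass5.AffChart
import Groth.Agent.VarGal.LocalDim
import Groth.Agent.FBase64.ProductDim
import Groth.Agent.CAlg1.Serre
import Groth.Agent.CAlg1.Regular

/-!
Charts of the Hilbert scheme of points: finite type and the tangent bound at closed points.
-/

set_option autoImplicit false
set_option linter.style.haveILetI false
set_option maxHeartbeats 400000
set_option backward.isDefEq.respectTransparency false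
set_option backward.isDefEq.respectTransparency.types false

universe u

open CategoryTheory CategoryTheory.Limits AlgebraicGeometry

noncomputable section

namespace Groth.Agent.Grass5.Fogarty

open Groth.Agent.Grass5.Hilb Groth.Agent.Grass5.Punct Groth.Agent.HilbCurve12 Groth.Agent.HilbZeta12

section Affine

open Groth.Agent.Grass5.AffHilb

variable {k : Type u} [CommRing k] {A : Type u} [CommRing A] [Algebra k A] {d : ℕ}

theorem exists_chart_affine {H : Over (Spec (CommRingCat.of k))} {Z : HilbD.Obj (str k A) d H}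
    (hH : HilbD.IsUniversal (str k A) d H Z) (h : H.left) :
    ∃ (σ : Fin d → A) (g : W k σ ⟶ H), IsOpenImmersion g.left ∧ h ∈ Set.range g.left := by
  obtain ⟨σ, hV⟩ := exists_mem_V Z h
  obtain ⟨g, hg, -⟩ := hH (W k σ) (Zu k σ)
  let O := V σ H Z
  let T' : Over (Spec (CommRingCat.of k)) := Over.mk (O.ι ≫ H.hom)
  let ι : T' ⟶ H := Over.homMk O.ι rfl
  haveI : IsOpenImmersion ι.left := inferInstanceAs (IsOpenImmersion O.ι)
  haveI : Mono ι.left := inferInstance
  obtain ⟨v, hv⟩ := (mem_range_iff Z ι).2 (Scheme.Opens.range_ι O).le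
  have hvg : v ≫ g = ι := (hH T' (objPull ι Z)).unique (by rw [← pull_comp, hg, hv]; rfl) rfl
  have hr : Set.range g.left ⊆ Set.range O.ι := by
    rw [Scheme.Opens.range_ι]
    exact (mem_range_iff Z g).1 ⟨𝟙 _, by rw [pull_id, hg]⟩
  let w : W k σ ⟶ T' := Over.homMk (IsOpenImmersion.lift O.ι g.left hr) (by
    show _ ≫ O.ι ≫ H.hom = _
    rw [IsOpenImmersion.lift_fac_assoc]
    exact Over.w g)
  have hw : w ≫ ι = g := Over.OverMorphism.ext (IsOpenImmersion.lift_fac _ _ _)
  have h1 : w ≫ v = 𝟙 _ := hom_ext_W _ _ (by rw [← pull_comp, hv, pull_comp, hw, hg, pull_id])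
  have h2 : v ≫ w = 𝟙 _ := by
    refine Over.OverMorphism.ext ((cancel_mono ι.left).1 ?_)
    rw [← Over.comp_left, Category.assoc, hw, hvg, Over.id_left, Category.id_comp]
  haveI : IsIso w.left := ⟨v.left, congrArg CommaMorphism.left h1, congrArg CommaMorphism.left h2⟩
  refine ⟨σ, g, ?_, v.left ⟨h, hV⟩, ?_⟩
  · rw [show g.left = w.left ≫ ι.left from congrArg CommaMorphism.left hw.symm]
    infer_instance
  · rw [← Scheme.Hom.comp_apply, ← Over.comp_left, hvg]
    rfl

end Affine

theorem spanFinrank_localization_le {C : Type u} [CommRing C] [IsNoetherianRing C] (P : Ideal C) [P.IsPrime]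
    {ι : Type u} [Fintype ι] (c : ι → C) (hc : ∀ j, c j ∈ P) (hgen : P ≤ Ideal.span (Set.range c) ⊔ P * P) :
    (IsLocalRing.maximalIdeal (Localization.AtPrime P)).spanFinrank ≤ Fintype.card ι := by
  let L := Localization.AtPrime P
  haveI : IsNoetherianRing L := IsLocalization.isNoetherianRing P.primeCompl _ inferInstance
  let s : Set L := Set.range (algebraMap C L ∘ c)
  have hs : IsLocalRing.maximalIdeal L = Ideal.span s := by
    refine le_antisymm (Submodule.le_of_le_smul_of_le_jacobson_bot (IsNoetherian.noetherian _)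
      (IsLocalRing.jacobson_eq_maximalIdeal (⊥ : Ideal L) bot_ne_top).ge ?_) ?_
    · conv_lhs => rw [← Localization.AtPrime.map_eq_maximalIdeal]
      refine (Ideal.map_mono hgen).trans ?_
      rw [Ideal.map_sup, Ideal.map_span, Ideal.map_mul, ← Set.range_comp,
        Localization.AtPrime.map_eq_maximalIdeal, smul_eq_mul]
    · rw [Ideal.span_le]
      rintro _ ⟨j, rfl⟩
      exact (IsLocalization.AtPrime.to_map_mem_maximal_iff L P (c j)).2 (hc j)
  rw [hs]
  refine (Submodule.spanFinrank_span_le_ncard_of_finite (Set.finite_range _)).trans ?_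
  show (Set.range _).ncard ≤ _
  rw [← Nat.card_coe_set_eq]
  exact (Finite.card_range_le _).trans_eq Nat.card_eq_fintype_card

theorem exists_character {k C : Type u} [Field k] [IsAlgClosed k] [CommRing C] [Algebra k C] [Algebra.FiniteType k C]
    (P : Ideal C) [P.IsMaximal] : ∃ χ : C →ₐ[k] k, RingHom.ker χ = P := by
  letI : Field (C ⧸ P) := Ideal.Quotient.field _
  haveI : Algebra.FiniteType k (C ⧸ P) :=
    Algebra.FiniteType.of_surjective (Ideal.Quotient.mkₐ k P) Ideal.Quotient.mk_surjective
  haveI : Module.Finite k (C ⧸ P) := finite_of_finite_type_of_isJacobsonRing k _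
  refine ⟨((AlgEquiv.ofBijective (Algebra.ofId k (C ⧸ P))
    IsAlgClosed.algebraMap_bijective_of_isIntegral).symm.toAlgHom).comp (Ideal.Quotient.mkₐ k P), ?_⟩
  ext a
  simp [RingHom.mem_ker, Ideal.Quotient.eq_zero_iff_mem]

theorem spanFinrank_stalk_le_of_chart {k C : Type u} [Field k] [IsAlgClosed k] [CommRing C] [Algebra k C]
    [Algebra.FiniteType k C] {m : ℕ}
    (hgens : ∀ χ : C →ₐ[k] k, ∃ c : Fin m → C, (∀ j, c j ∈ RingHom.ker χ) ∧
      RingHom.ker χ ≤ Ideal.span (Set.range c) ⊔ RingHom.ker χ * RingHom.ker χ)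
    {Y : Scheme.{u}} (g : Spec (CommRingCat.of C) ⟶ Y) [IsOpenImmersion g] (w : PrimeSpectrum C)
    (hcl : IsClosed ({g w} : Set Y)) :
    IsNoetherianRing (Y.presheaf.stalk (g w)) ∧
      (IsLocalRing.maximalIdeal (Y.presheaf.stalk (g w))).spanFinrank ≤ m := by
  haveI : IsNoetherianRing C := Algebra.FiniteType.isNoetherianRing k C
  haveI hmax : w.asIdeal.IsMaximal := by
    rw [← PrimeSpectrum.isClosed_singleton_iff_isMaximal]
    have : ({w} : Set (PrimeSpectrum C)) = g ⁻¹' {g w} := by
      ext q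
      exact ⟨fun h => by rw [Set.mem_singleton_iff.1 h]; rfl,
        fun h => g.isOpenEmbedding.injective (Set.mem_singleton_iff.1 h)⟩
    rw [this]
    exact hcl.preimage g.continuous
  obtain ⟨χ, hχ⟩ := exists_character (k := k) w.asIdeal
  obtain ⟨c, hc, hgen⟩ := hgens χ
  rw [hχ] at hgen
  simp only [hχ] at hc
  have hbound : (IsLocalRing.maximalIdeal (Localization.AtPrime w.asIdeal)).spanFinrank ≤ m := by
    refine (spanFinrank_localization_le w.asIdeal (fun j : ULift.{u} (Fin m) => c j.down) (fun j => hc _) ?_).trans_eq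
      (by simp)
    rwa [show Set.range (fun j : ULift.{u} (Fin m) => c j.down) = Set.range c from
      Equiv.ulift.surjective.range_comp c]
  haveI : IsNoetherianRing (Localization.AtPrime w.asIdeal) :=
    IsLocalization.isNoetherianRing w.asIdeal.primeCompl _ inferInstance
  let e : Localization.AtPrime w.asIdeal ≃+* Y.presheaf.stalk (g w) :=
    ((Spec.stalkIso (CommRingCat.of C) w).symm ≪≫ (asIso (g.stalkMap w)).symm).commRingCatIsoToRingEquiv
  haveI hN := isNoetherianRing_of_ringEquiv _ e
  refine ⟨hN, ?_⟩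
  rw [← IsLocalRing.map_ringEquiv_maximalIdeal e, Ideal.spanFinrank_map_eq_of_ringEquiv]
  exact hbound

variable {k : Type u} [Field k] {X : Scheme.{u}} {f : X ⟶ Spec (CommRingCat.of k)} [IsSeparated f]
  (hAF : HilbStep.AFProp X) {n : ℕ} {H : Over (Spec (CommRingCat.of k))} {Z : HilbD.Obj f n H}
  (hH : HilbD.IsUniversal f n H Z)

include hAF hH

/-- every point of the Hilbert scheme lies in a chart. -/
theorem exists_chart_point (h : H.left) :
    ∃ (A : Type u) (_ : CommRing A) (_ : Algebra k A) (i : Spec (CommRingCat.of A) ⟶ X) (_ : IsOpenImmersion i)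
      (_ : i ≫ f = str k A) (σ : Fin n → A) (g : AffHilb.W k σ ⟶ H),
      IsOpenImmersion g.left ∧ h ∈ Set.range g.left := by
  obtain ⟨A, _, _, i, hiop, hi, hF⟩ := HilbStep.exists_chart f hAF (HilbStep.finite_range_toX f Z h)
  have hh : InFibre f (Set.range i) Z.1 h := fun z hz => hF ⟨z, hz, rfl⟩
  obtain ⟨H', j, hjo, hmem, huniv⟩ : ∃ (H' : Over (Spec (CommRingCat.of k))) (j : H' ⟶ H),
      IsOpenImmersion j.left ∧ h ∈ Set.range j.left ∧ ∃ Z', HilbD.IsUniversal (str k A) n H' Z' := by
    obtain ⟨H', j, Z', hjo, hu, hr, -⟩ := exists_open_hilb i f Z hH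
    refine ⟨H', j, hjo, hr.ge hh, ?_⟩
    have key : ∀ g' : Spec (CommRingCat.of A) ⟶ Spec (CommRingCat.of k), i ≫ f = g' →
        ∃ Z', HilbD.IsUniversal g' n H' Z' := fun g' hg' => by subst hg'; exact ⟨Z', hu⟩
    exact key _ hi
  obtain ⟨Z', hu⟩ := huniv
  obtain ⟨h', rfl⟩ := hmem
  obtain ⟨σ, g, hg, hh'⟩ := exists_chart_affine hu h'
  obtain ⟨w, rfl⟩ := hh'
  haveI := hjo; haveI := hg
  refine ⟨A, inferInstance, inferInstance, i, hiop, hi, σ, g ≫ j, ?_, w, rfl⟩
  rw [Over.comp_left]
  infer_instance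

variable [LocallyOfFiniteType f]

/-- the Hilbert scheme of points is locally of finite type. -/
theorem locallyOfFiniteType_hilb : LocallyOfFiniteType H.hom := by
  choose A hA hAlg i hio hi σ g hg hmem using exists_chart_point hAF hH
  let 𝒰 : H.left.OpenCover := Scheme.Cover.mkOfCovers (P := @IsOpenImmersion) H.left
    (fun h => (AffHilb.W k (σ h)).left) (fun h => (g h).left) (fun h => ⟨h, hmem h⟩) hg
  refine IsZariskiLocalAtSource.of_openCover (P := @LocallyOfFiniteType) 𝒰 fun h => ?_
  show LocallyOfFiniteType ((g h).left ≫ H.hom)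
  rw [Over.w (g h)]
  haveI := hio h
  haveI := HilbStep.finiteType_chart f (i h) (hi h)
  haveI := ChartTan.finiteType_CR (k := k) (σ h)
  exact (HasRingHomProperty.Spec_iff (P := @LocallyOfFiniteType)).2
    (RingHom.finiteType_algebraMap.2 inferInstance)

variable [IsAlgClosed k]

/-- **The embedding dimension at closed points is at most twice the number of points.** -/
theorem spanFinrank_stalk_le
    (h2 : ∀ (A : Type u) [CommRing A] [Algebra k A] (i : Spec (CommRingCat.of A) ⟶ X) [IsOpenImmersion i],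
      i ≫ f = str k A → HomBd.TwoGen A)
    (h : H.left) (hcl : IsClosed ({h} : Set H.left)) :
    IsNoetherianRing (H.left.presheaf.stalk h) ∧
      (IsLocalRing.maximalIdeal (H.left.presheaf.stalk h)).spanFinrank ≤ 2 * n := by
  obtain ⟨A, _, _, i, hio, hi, σ, g, hg, w, rfl⟩ := exists_chart_point hAF hH h
  haveI := hio; haveI := hg
  haveI := HilbStep.finiteType_chart f i hi
  haveI := ChartTan.finiteType_CR (k := k) σ
  haveI : IsNoetherianRing A := Algebra.FiniteType.isNoetherianRing k A
  let g' : Spec (CommRingCat.of (AffHilb.CR k σ)) ⟶ H.left := g.left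
  haveI hg' : IsOpenImmersion g' := hg
  have hgens := fun χ => ChartTan.exists_gens_ker (k := k) σ (h2 A i hi) χ
  have key := spanFinrank_stalk_le_of_chart (k := k) (C := AffHilb.CR k σ) (m := 2 * n) hgens g'
  exact key w hcl

end Groth.Agent.Grass5.Fogarty
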