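import Groth.Agent.Grass5.FogartyPoint

/-!
Fogarty's theorem: the Hilbert scheme of `n` points of a regular surface is regular, irreducible of
dimension `2n`.
-/

set_option autoImplicit false
set_option linter.style.haveILetI false
set_option maxHeartbeats 400000
set_option backward.isDefEq.respectTransparency false
set_option backward.isDefEq.respectTransparency.types false

universe u

open CategoryTheory CategoryTheory.Limits AlgebraicGeometry TopologicalSpace

noncomputable section

namespace Groth.Agent.Grass5.Fogarty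

open Groth.Agent.Grass5.HilbStep

/-- two components cannot meet at a point with integral local ring. -/
theorem eq_of_maximal {X : Scheme.{u}} (z : X) [IsDomain (X.presheaf.stalk z)] {a b : X}
    (ha : ∀ c, c ⤳ a → c = a) (hb : ∀ c, c ⤳ b → c = b) (haz : a ⤳ z) (hbz : b ⤳ z) : a = b := by
  let η : PrimeSpectrum (X.presheaf.stalk z) := ⟨⊥, Ideal.isPrime_bot⟩
  have key : ∀ c : X, c ⤳ z → X.fromSpecStalk z η ⤳ c := by
    intro c hc
    obtain ⟨q, rfl⟩ : c ∈ Set.range (X.fromSpecStalk z) := by rw [Scheme.range_fromSpecStalk]; exact hc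
    exact ((PrimeSpectrum.le_iff_specializes η q).1 bot_le).map (X.fromSpecStalk z).continuous
  rw [← ha _ (key a haz), ← hb _ (key b hbz)]

/-- a linked scheme with integral local rings is irreducible. -/
theorem irreducibleSpace_of_lnk {X : Scheme.{u}} (hne : Nonempty X) (hl : ∀ x y : X, Lnk x y)
    (hdom : ∀ z : X, IsDomain (X.presheaf.stalk z)) : IrreducibleSpace X := by
  choose m hm hmx using fun x : X => FBase64.exists_maximal_specializes x
  have hinv : ∀ x y : X, m x = m y := by
    intro x y
    induction hl x y with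
    | rel a b h => haveI := hdom b; exact eq_of_maximal b (hm a) (hm b) ((hmx a).trans h) (hmx b)
    | refl a => rfl
    | symm a b _ ih => exact ih.symm
    | trans a b c _ _ h1 h2 => exact h1.trans h2
  obtain ⟨x₀⟩ := hne
  rw [irreducibleSpace_def]
  have : closure ({m x₀} : Set X) = Set.univ := Set.eq_univ_of_forall fun y =>
    specializes_iff_mem_closure.1 (hinv x₀ y ▸ hmx y)
  simp only [Set.top_eq_univ]
  exact this ▸ isIrreducible_singleton.closure

/-- regular local rings at specializations. -/
theorem isRegular_of_specializes {X : Scheme.{u}} {a h : X} (hs : a ⤳ h)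
    [IsRegularLocalRing (X.presheaf.stalk h)] : IsRegularLocalRing (X.presheaf.stalk a) := by
  obtain ⟨U, hU, hh, -⟩ := exists_isAffineOpen_mem_and_subset (x := h) (U := (⊤ : X.Opens)) trivial
  have ha : a ∈ U := hs.mem_open U.2 hh
  letI := TopCat.Presheaf.algebra_section_stalk X.presheaf (⟨h, hh⟩ : U)
  letI := TopCat.Presheaf.algebra_section_stalk X.presheaf (⟨a, ha⟩ : U)
  haveI h1 := hU.isLocalization_stalk ⟨h, hh⟩
  haveI h2 := hU.isLocalization_stalk ⟨a, ha⟩
  let P := (hU.primeIdealOf ⟨h, hh⟩).asIdeal
  let Q := (hU.primeIdealOf ⟨a, ha⟩).asIdeal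
  have hQP : Q ≤ P := by
    refine (PrimeSpectrum.le_iff_specializes _ _).2 ?_
    rw [← hU.fromSpec.isOpenEmbedding.isInducing.specializes_iff, hU.fromSpec_primeIdealOf,
      hU.fromSpec_primeIdealOf]
    exact hs
  haveI : IsRegularLocalRing (Localization.AtPrime P) :=
    IsRegularLocalRing.of_ringEquiv (IsLocalization.algEquiv P.primeCompl (X.presheaf.stalk h) _).toRingEquiv
  obtain ⟨Q', hQ', hc⟩ : ∃ Q' : Ideal (Localization.AtPrime P), Q'.IsPrime ∧
      Q'.comap (algebraMap Γ(X, U) (Localization.AtPrime P)) = Q := by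
    have hdisj : Disjoint (P.primeCompl : Set Γ(X, U)) Q :=
      Set.disjoint_left.2 fun z hz hzQ => hz (hQP hzQ)
    exact ⟨_, IsLocalization.isPrime_of_isPrime_disjoint P.primeCompl _ Q inferInstance hdisj,
      IsLocalization.comap_map_of_isPrime_disjoint P.primeCompl _ inferInstance hdisj⟩
  haveI := hQ'
  haveI : IsRegularLocalRing (Localization.AtPrime Q') := CAlg1.regular_localization _ Q'
  haveI : IsRegularLocalRing (Localization.AtPrime (Q'.comap (algebraMap Γ(X, U) (Localization.AtPrime P)))) :=
    IsRegularLocalRing.of_ringEquiv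
      (IsLocalization.localizationLocalizationAtPrimeIsoLocalization P.primeCompl Q').symm.toRingEquiv
  haveI : IsRegularLocalRing (Localization.AtPrime Q) := by
    haveI : IsLocalization.AtPrime (Localization.AtPrime Q) (Q'.comap (algebraMap Γ(X, U) (Localization.AtPrime P))) := by
      simp only [hc]; exact inferInstance
    exact IsRegularLocalRing.of_ringEquiv (IsLocalization.algEquiv (Q'.comap (algebraMap Γ(X, U) (Localization.AtPrime P))).primeCompl
      (Localization.AtPrime (Q'.comap (algebraMap Γ(X, U) (Localization.AtPrime P)))) (Localization.AtPrime Q)).toRingEquiv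
  exact IsRegularLocalRing.of_ringEquiv (IsLocalization.algEquiv Q.primeCompl (Localization.AtPrime Q) (X.presheaf.stalk a)).toRingEquiv

variable {k : Type u} [Field k]

/-- the local dimension at a closed point dominates the transcendence degree of a generization. -/
theorem tdegN_le_stalk {Y : Scheme.{u}} (p : Y ⟶ Spec (CommRingCat.of k)) [LocallyOfFiniteType p]
    {y h : Y} (hs : y ⤳ h) (hcl : IsClosed ({h} : Set Y)) :
    ((WC97.tdegN p y : ℕ) : WithBot ℕ∞) ≤ ringKrullDim (Y.presheaf.stalk h) := by
  have e := VarGal.localDim_eq_tdegN_add p h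
  rw [VarGal.tdegN_eq_zero_of_isClosed p hcl, Nat.cast_zero, zero_add] at e
  rw [← e]
  refine le_iInf fun U => ?_
  have hyU : y ∈ U.1 := hs.mem_open U.1.2 U.2
  let V : Y.Opens := U.1
  let y' : (V : Scheme.{u}) := ⟨y, hyU⟩
  haveI : LocallyOfFiniteType (V.ι ≫ p) := inferInstance
  have e1 : WC97.tdegN (V.ι ≫ p) y' = WC97.tdegN p y :=
    FBase64.tdegN_comp_isOpenImmersion _ p V.ι rfl y'
  rw [← e1, ← WC97.topologicalKrullDim_closure]
  exact topologicalKrullDim_subspace_le _ _

variable {X : Scheme.{u}} {f : X ⟶ Spec (CommRingCat.of k)} [IsSeparated f] [LocallyOfFiniteType f]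

omit [IsSeparated f] in
/-- charts of a regular surface have maximal ideals generated by two elements modulo squares. -/
theorem twoGen_chart (hreg : ∀ x : X, IsRegularLocalRing (X.presheaf.stalk x))
    (hdim : topologicalKrullDim X ≤ 2) (A : Type u) [CommRing A] [Algebra k A]
    (i : Spec (CommRingCat.of A) ⟶ X) [IsOpenImmersion i] (hi : i ≫ f = Punct.str k A) : HomBd.TwoGen A := by
  intro 𝔪 h𝔪
  haveI := HilbStep.finiteType_chart f i hi
  haveI : IsNoetherianRing A := Algebra.FiniteType.isNoetherianRing k A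
  let w : ↥(Spec (CommRingCat.of A)) := (⟨𝔪, h𝔪.isPrime⟩ : PrimeSpectrum A)
  let L := Localization.AtPrime 𝔪
  let e : L ≃+* X.presheaf.stalk (i w) :=
    ((Spec.stalkIso (CommRingCat.of A) w).symm ≪≫ (asIso (i.stalkMap w)).symm).commRingCatIsoToRingEquiv
  haveI := hreg (i w)
  haveI : IsRegularLocalRing L := IsRegularLocalRing.of_ringEquiv e.symm
  have h2 : (IsLocalRing.maximalIdeal L).spanFinrank ≤ 2 := by
    have h1 : ringKrullDim L ≤ 2 := by
      refine le_trans ?_ hdim
      refine le_trans ?_ i.isOpenEmbedding.isEmbedding.isInducing.topologicalKrullDim_le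
      show ringKrullDim L ≤ topologicalKrullDim (PrimeSpectrum A)
      rw [PrimeSpectrum.topologicalKrullDim_eq_ringKrullDim]
      exact IsLocalization.AtPrime.ringKrullDim_eq_height 𝔪 L ▸ Ideal.height_le_ringKrullDim_of_ne_top h𝔪.ne_top
    have h3 := IsRegularLocalRing.spanFinrank_maximalIdeal (R := L)
    rw [← h3] at h1
    exact_mod_cast h1
  obtain ⟨s, hs, hspan⟩ := Submodule.FG.exists_span_finset_card_eq_spanFinrank
    (IsNoetherian.noetherian (IsLocalRing.maximalIdeal L))
  obtain ⟨g, hg⟩ : ∃ g : Fin 2 → L, IsLocalRing.maximalIdeal L = Ideal.span (Set.range g) := by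
    let l := s.equivFin.symm
    refine ⟨fun j => if h : (j : ℕ) < s.card then (l ⟨j, h⟩ : L) else 0, ?_⟩
    rw [← hspan]
    refine le_antisymm (Ideal.span_le.2 fun z hz => ?_) (Ideal.span_le.2 ?_)
    · refine Ideal.subset_span ⟨⟨(l.symm ⟨z, hz⟩ : ℕ), lt_of_lt_of_le (l.symm ⟨z, hz⟩).2 (hs ▸ h2)⟩, ?_⟩
      simp [l]
    · rintro _ ⟨j, rfl⟩
      dsimp only
      split
      · exact Ideal.subset_span (Subtype.mem _)
      · exact zero_mem _
  choose at' hat using fun j => IsLocalization.surj 𝔪.primeCompl (g j)
  let a := fun j => (at' j).1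
  let t := fun j => (at' j).2
  have ha : ∀ j, a j ∈ 𝔪 := fun j => by
    refine (IsLocalization.AtPrime.to_map_mem_maximal_iff L 𝔪 (a j)).1 ?_
    rw [← hat j]
    exact Ideal.mul_mem_right _ _ (hg ▸ Ideal.subset_span ⟨j, rfl⟩)
  refine ⟨a 0, a 1, ha 0, ha 1, fun z hz => ?_⟩
  have hzL : algebraMap A L z ∈ (Ideal.span {a 0, a 1}).map (algebraMap A L) := by
    have hle : IsLocalRing.maximalIdeal L ≤ (Ideal.span {a 0, a 1}).map (algebraMap A L) := by
      rw [hg, Ideal.span_le]
      rintro _ ⟨j, rfl⟩
      obtain ⟨v, hv⟩ := isUnit_iff_exists_inv.1 (IsLocalization.map_units L (t j))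
      rw [show g j = g j * algebraMap A L (t j) * v by rw [mul_assoc, hv, mul_one], hat j]
      exact Ideal.mul_mem_right _ _ (Ideal.mem_map_of_mem _ (Ideal.subset_span (by fin_cases j <;> simp [a])))
    exact hle ((IsLocalization.AtPrime.to_map_mem_maximal_iff L 𝔪 z).2 hz)
  obtain ⟨r, hr, hrz⟩ := (IsLocalization.algebraMap_mem_map_algebraMap_iff 𝔪.primeCompl L _ _).1 hzL
  obtain ⟨b, c, hc, hbc⟩ := h𝔪.exists_inv hr
  rw [show z = b * (r * z) + c * z by linear_combination -z * hbc]
  exact add_mem (Ideal.mem_sup_left (Ideal.mul_mem_left _ b hrz)) (Ideal.mem_sup_right (Ideal.mul_mem_mul hc hz))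

/-- the properties of the Hilbert scheme of points of a regular surface. -/
theorem main [IsAlgClosed k] [ConnectedSpace X] (hAF : AFProp X)
    (hreg : ∀ x : X, IsRegularLocalRing (X.presheaf.stalk x)) (hdim : topologicalKrullDim X = 2) {n : ℕ}
    {H : Over (Spec (CommRingCat.of k))} {Z : HilbD.Obj f n H} (hH : HilbD.IsUniversal f n H Z) :
    IrreducibleSpace H.left ∧ (∀ h : H.left, IsRegularLocalRing (H.left.presheaf.stalk h)) ∧
      topologicalKrullDim H.left = (2 * n : ℕ) := by
  haveI : IsLocallyNoetherian X := LocallyOfFiniteType.isLocallyNoetherian f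
  haveI : IrreducibleSpace X := irreducibleSpace_of_lnk inferInstance (fun x y => lnk_of_connected x y)
    fun z => haveI := hreg z; CAlg1.isDomain_regular _
  haveI := locallyOfFiniteType_hilb hAF hH
  haveI : JacobsonSpace H.left := LocallyOfFiniteType.jacobsonSpace H.hom
  have hInf : InfProp X := infProp_of_connected f (by rw [hdim]; norm_num)
  obtain ⟨hne, hl⟩ := lnk_hilb f hAF hInf n H Z hH
  obtain ⟨y, hy⟩ := exists_big_point hH hdim
  obtain ⟨η, hη, hηy⟩ := FBase64.exists_maximal_specializes y
  have hbig : 2 * n ≤ WC97.tdegN H.hom η := hy.trans (FBase64.tdegN_mono H.hom hηy)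
  have hbound : ∀ h : H.left, IsClosed ({h} : Set H.left) →
      IsNoetherianRing (H.left.presheaf.stalk h) ∧
        (IsLocalRing.maximalIdeal (H.left.presheaf.stalk h)).spanFinrank ≤ 2 * n :=
    spanFinrank_stalk_le hAF hH fun A _ _ i _ hi => twoGen_chart hreg hdim.le A i hi
  -- closed points below the big point
  have hgood : ∀ h : H.left, η ⤳ h → IsClosed ({h} : Set H.left) →
      IsRegularLocalRing (H.left.presheaf.stalk h) ∧ WC97.tdegN H.hom η ≤ 2 * n := by
    intro h hs hcl
    obtain ⟨hN, hspan⟩ := hbound h hcl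
    haveI := hN
    have h1 := tdegN_le_stalk H.hom hs hcl
    refine ⟨IsRegularLocalRing.of_spanFinrank_maximalIdeal_le _ (le_trans ?_ h1), ?_⟩
    · exact_mod_cast hspan.trans hbig
    · have h2 := h1.trans ((ringKrullDim_le_spanFinrank_maximalIdeal _).trans (Nat.cast_le.2 hspan))
      exact_mod_cast h2
  -- the component is everything
  have hall : ∀ z : H.left, η ⤳ z := by
    have hstep : ∀ a b : H.left, a ⤳ b → (η ⤳ a ↔ η ⤳ b) := by
      intro a b hab
      refine ⟨fun h => h.trans hab, fun hb => ?_⟩
      obtain ⟨c, hc, hca⟩ := FBase64.exists_maximal_specializes a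
      obtain ⟨h, hh, hcl⟩ := nonempty_inter_closedPoints (Z := closure ({b} : Set H.left)) ⟨b, subset_closure rfl⟩
        isClosed_closure.isLocallyClosed
      have hbh : b ⤳ h := specializes_iff_mem_closure.2 hh
      haveI := (hgood h (hb.trans hbh) hcl).1
      haveI := CAlg1.isDomain_regular (H.left.presheaf.stalk h)
      rw [← eq_of_maximal h hc hη ((hca.trans hab).trans hbh) (hb.trans hbh)]
      exact hca
    have key : ∀ a b : H.left, Lnk a b → (η ⤳ a ↔ η ⤳ b) := by
      intro a b hab
      induction hab with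
      | rel a b h => exact hstep a b h
      | refl a => rfl
      | symm a b _ ih => exact ih.symm
      | trans a b c _ _ h1 h2 => exact h1.trans h2
    exact fun z => (key η z (hl η z)).1 specializes_rfl
  haveI : IrreducibleSpace H.left := by
    rw [irreducibleSpace_def]
    have : closure ({η} : Set H.left) = Set.univ :=
      Set.eq_univ_of_forall fun z => specializes_iff_mem_closure.1 (hall z)
    simp only [Set.top_eq_univ]
    exact this ▸ isIrreducible_singleton.closure
  refine ⟨inferInstance, fun z => ?_, ?_⟩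
  · obtain ⟨h, hh, hcl⟩ := nonempty_inter_closedPoints (Z := closure ({z} : Set H.left)) ⟨z, subset_closure rfl⟩
      isClosed_closure.isLocallyClosed
    haveI := (hgood h (hall h) hcl).1
    exact isRegular_of_specializes (specializes_iff_mem_closure.2 hh)
  · obtain ⟨h, hh, hcl⟩ := nonempty_inter_closedPoints (Z := closure ({η} : Set H.left)) ⟨η, subset_closure rfl⟩
      isClosed_closure.isLocallyClosed
    have hcl' : closure ({η} : Set H.left) = Set.univ :=
      Set.eq_univ_of_forall fun z => specializes_iff_mem_closure.1 (hall z)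
    have e := WC97.topologicalKrullDim_closure H.hom η
    rw [hcl', le_antisymm (hgood h (hall h) hcl).2 hbig] at e
    exact ((Homeomorph.Set.univ H.left).isHomeomorph.topologicalKrullDim_eq _).symm.trans e

end Groth.Agent.Grass5.Fogarty
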