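import Groth.Agent.Grass5.FogartyChart

/-!
A point of the Hilbert scheme of `n` points of a surface whose residue field has transcendence degree
at least `2n`: `n` independent generic points.
-/

set_option autoImplicit false
set_option linter.style.haveILetI false
set_option maxHeartbeats 400000
set_option backward.isDefEq.respectTransparency false
set_option backward.isDefEq.respectTransparency.types false

universe u

open CategoryTheory CategoryTheory.Limits AlgebraicGeometry
open scoped TensorProduct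

noncomputable section

namespace Groth.Agent.Grass5.Fogarty

open Groth.Agent.Grass5.Hilb Groth.Agent.Grass5.Punct Groth.Agent.HilbCurve12 Groth.Agent.HilbZeta12
open Groth.Agent.Grass5.HilbStep

variable {k : Type u} [Field k]

/-- an affine chart dominating the plane. -/
theorem exists_plane_chart {X : Scheme.{u}} (f : X ⟶ Spec (CommRingCat.of k)) [LocallyOfFiniteType f]
    [IrreducibleSpace X] (hdim : topologicalKrullDim X = 2) :
    ∃ (A : Type u) (_ : CommRing A) (_ : Algebra k A) (i : Spec (CommRingCat.of A) ⟶ X),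
      IsOpenImmersion i ∧ i ≫ f = str k A ∧
      ∃ (B : Type u) (_ : CommRing B) (_ : IsDomain B) (_ : Algebra k B) (q : A →ₐ[k] B)
        (g : MvPolynomial (Fin 2) k →ₐ[k] B), Function.Surjective q ∧ Function.Injective g ∧ g.Finite := by
  obtain ⟨U, hU, hx, -⟩ := exists_isAffineOpen_mem_and_subset (x := genericPoint X) (U := (⊤ : X.Opens)) trivial
  have ha : CommRingCat.ofHom (WC97.kSec f hU) = Spec.preimage (hU.fromSpec ≫ f) := rfl
  letI : Algebra k Γ(X, U) := (WC97.kSec f hU).toAlgebra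
  haveI : Algebra.FiniteType k Γ(X, U) := WC97.kSec_finiteType f hU
  let P := (hU.primeIdealOf ⟨genericPoint X, hx⟩).asIdeal
  have hP : ringKrullDim (Γ(X, U) ⧸ P) = (2 : ℕ) := by
    rw [WC97.ringKrullDim_quotient f hU hx]
    have := (WC97.dim_eq f).1
    rw [hdim] at this
    exact this.symm
  haveI : Algebra.FiniteType k (Γ(X, U) ⧸ P) :=
    Algebra.FiniteType.of_surjective (Ideal.Quotient.mkₐ k P) Ideal.Quotient.mk_surjective
  obtain ⟨s, g, hinj, hfin⟩ := exists_finite_inj_algHom_of_fg k (Γ(X, U) ⧸ P)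
  obtain rfl : s = 2 := by
    letI := g.toRingHom.toAlgebra
    haveI : IsScalarTower k (MvPolynomial (Fin s) k) (Γ(X, U) ⧸ P) :=
      IsScalarTower.of_algebraMap_eq fun c => (g.commutes c).symm
    haveI : Module.Finite (MvPolynomial (Fin s) k) (Γ(X, U) ⧸ P) := hfin
    haveI : FaithfulSMul (MvPolynomial (Fin s) k) (Γ(X, U) ⧸ P) :=
      (faithfulSMul_iff_algebraMap_injective _ _).2 hinj
    have h1 := trdeg_add_eq k (MvPolynomial (Fin s) k) (A := Γ(X, U) ⧸ P)
    rw [trdeg_eq_zero (R := MvPolynomial (Fin s) k) (A := Γ(X, U) ⧸ P), add_zero,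
      MvPolynomial.trdeg_of_isDomain] at h1
    rw [E4O.ringKrullDim_eq_trdeg k, ← h1] at hP
    have : ((s : ℕ) : WithBot ℕ∞) = (2 : ℕ) := by simpa using hP
    exact_mod_cast this
  refine ⟨Γ(X, U), inferInstance, inferInstance, hU.fromSpec, inferInstance, ?_, Γ(X, U) ⧸ P, inferInstance,
    inferInstance, inferInstance, Ideal.Quotient.mkₐ k P, g, Ideal.Quotient.mk_surjective, hinj, hfin⟩
  show hU.fromSpec ≫ f = Spec.map (CommRingCat.ofHom (WC97.kSec f hU))
  rw [ha, Spec.map_preimage]

/-- extension of a homomorphism to an algebraically closed field along a finite extension of domains. -/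
theorem exists_lift_hom {P B Ω : Type u} [CommRing P] [IsDomain P] [Algebra k P] [CommRing B] [IsDomain B]
    [Algebra k B] [Field Ω] [IsAlgClosed Ω] [Algebra k Ω] (g : P →ₐ[k] B) (hg : Function.Injective g)
    (hfin : g.Finite) (h : P →ₐ[k] Ω) (hh : Function.Injective h) :
    ∃ ψ : B →ₐ[k] Ω, ∀ z, ψ (g z) = h z := by
  letI := g.toRingHom.toAlgebra
  letI := h.toRingHom.toAlgebra
  haveI : IsScalarTower k P B := IsScalarTower.of_algebraMap_eq fun c => (g.commutes c).symm
  haveI : IsScalarTower k P Ω := IsScalarTower.of_algebraMap_eq fun c => (h.commutes c).symm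
  haveI : Module.Finite P B := hfin
  haveI : FaithfulSMul P B := (faithfulSMul_iff_algebraMap_injective _ _).2 hg
  haveI : FaithfulSMul P Ω := (faithfulSMul_iff_algebraMap_injective _ _).2 hh
  let φ : B →ₐ[P] Ω := IsAlgClosed.lift
  exact ⟨φ.restrictScalars k, fun z => φ.commutes z⟩

/-- the transcendence degree detected by algebraic elements. -/
theorem le_trdeg_of_isIntegral {L Ω : Type u} [Field L] [Field Ω] [Algebra k L] [Algebra k Ω] [Algebra L Ω]
    [IsScalarTower k L Ω] {ι : Type u} {T : ι → Ω} (hT : AlgebraicIndependent k T) (h : ∀ j, IsIntegral L (T j)) :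
    Cardinal.mk ι ≤ Algebra.trdeg k L := by
  let E := algebraicClosure L Ω
  haveI : IsScalarTower k E Ω := IsScalarTower.of_algebraMap_eq fun c => by
    rw [IsScalarTower.algebraMap_apply k L E c]; exact IsScalarTower.algebraMap_apply k L Ω c
  let T' : ι → E := fun j => ⟨T j, mem_algebraicClosure_iff.2 (h j).isAlgebraic⟩
  have hT' : AlgebraicIndependent k T' := hT.of_comp (IsScalarTower.toAlgHom k E Ω)
  calc Cardinal.mk ι ≤ Algebra.trdeg k E := hT'.cardinalMk_le_trdeg
    _ = Algebra.trdeg k L := by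
      rw [← trdeg_add_eq k L (A := E), trdeg_eq_zero (R := L) (A := E), add_zero]

/-- the ideal of finitely many distinct rational points. -/
theorem exists_points_ideal {Ω A : Type u} [Field Ω] [Algebra k Ω] [CommRing A] [Algebra k A] {n : ℕ}
    (ψ : Fin n → A →ₐ[k] Ω) (a : A) (ha : ∀ i j, i ≠ j → ψ i a ≠ ψ j a) :
    ∃ J : Ideal (Ω ⊗[k] A), Flag.Fin' Ω J ∧ Punct.codim Ω J = n ∧ ∀ i, J ≤ RingHom.ker (augB (ψ i)) := by
  classical
  let Φ : Ω ⊗[k] A →ₐ[Ω] (Fin n → Ω) := AlgHom.pi fun i => augB (ψ i)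
  have hsurj : Function.Surjective Φ := by
    let e : Fin n → Ω ⊗[k] A := fun i => ∏ j ∈ Finset.univ.erase i,
      ((ψ i a - ψ j a)⁻¹ • ((1 : Ω) ⊗ₜ[k] a - algebraMap Ω _ (ψ j a)))
    have he : ∀ i, Φ (e i) = Pi.single i 1 := by
      intro i
      funext l
      show augB (ψ l) (e i) = _
      simp only [e, map_prod, map_smul, map_sub, AlgHom.commutes, augB_tmul, one_mul, smul_eq_mul,
        Algebra.algebraMap_self_apply]
      by_cases hl : l = i
      · subst hl
        rw [Pi.single_eq_same]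
        exact Finset.prod_eq_one fun j hj => inv_mul_cancel₀ (sub_ne_zero.2 (ha _ _ (Finset.ne_of_mem_erase hj).symm))
      · rw [Pi.single_eq_of_ne hl]
        exact Finset.prod_eq_zero (Finset.mem_erase.2 ⟨hl, Finset.mem_univ _⟩) (by simp)
    intro v
    refine ⟨∑ i, v i • e i, ?_⟩
    simp only [map_sum, map_smul, he]
    funext l
    simp [Finset.sum_apply, Pi.single_apply]
  let J : Ideal (Ω ⊗[k] A) := RingHom.ker Φ
  let e : ((Ω ⊗[k] A) ⧸ J.restrictScalars Ω) ≃ₗ[Ω] (Fin n → Ω) :=
    (Submodule.quotEquivOfEq _ (LinearMap.ker Φ.toLinearMap) (Submodule.ext fun _ => Iff.rfl)).trans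
      (Φ.toLinearMap.quotKerEquivOfSurjective hsurj)
  refine ⟨J, Module.Finite.equiv e.symm, ?_, fun i z hz => congrFun (RingHom.mem_ker.1 hz) i⟩
  rw [Punct.codim, e.finrank_eq]
  simp

/-- generic independent points. -/
theorem exists_generic_hom (n : ℕ) {A B : Type u} [CommRing A] [Algebra k A] [CommRing B] [IsDomain B]
    [Algebra k B] (q : A →ₐ[k] B) (hq : Function.Surjective q) (g : MvPolynomial (Fin 2) k →ₐ[k] B)
    (hg : Function.Injective g) (hfin : g.Finite) :
    ∃ (Ω : Type u) (_ : Field Ω) (_ : IsAlgClosed Ω) (_ : Algebra k Ω) (ψ : Fin n → A →ₐ[k] Ω) (a : Fin 2 → A),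
      AlgebraicIndependent k fun s : ULift.{u} (Fin n × Fin 2) => ψ s.down.1 (a s.down.2) := by
  let F := FractionRing (MvPolynomial (ULift.{u} (Fin n × Fin 2)) k)
  let Ω := AlgebraicClosure F
  let ρ : MvPolynomial (ULift.{u} (Fin n × Fin 2)) k →ₐ[k] Ω :=
    (IsScalarTower.toAlgHom k F Ω).comp (IsScalarTower.toAlgHom k _ F)
  have hρ : Function.Injective ρ := (algebraMap F Ω).injective.comp (IsFractionRing.injective _ F)
  have hT : AlgebraicIndependent k (ρ ∘ MvPolynomial.X) := (MvPolynomial.algebraicIndependent_X _ k).map' hρ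
  choose ψB hψB using fun l : Fin n => exists_lift_hom g hg hfin
    (MvPolynomial.aeval (R := k) fun j : Fin 2 => (ρ ∘ MvPolynomial.X) (ULift.up (l, j)))
    (hT.comp (fun j : Fin 2 => ULift.up (l, j)) fun a b hab => by simpa using hab)
  choose a ha using fun j : Fin 2 => hq (g (MvPolynomial.X j))
  refine ⟨Ω, inferInstance, inferInstance, inferInstance, fun l => (ψB l).comp q, a, ?_⟩
  have e : (fun s : ULift.{u} (Fin n × Fin 2) => ((ψB s.down.1).comp q) (a s.down.2)) = ρ ∘ MvPolynomial.X := by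
    funext s
    obtain ⟨⟨l, j⟩⟩ := s
    show ψB l (q (a j)) = _
    rw [ha, hψB, MvPolynomial.aeval_X]
  rw [e]
  exact hT

/-- points on a subscheme defined over a subfield are algebraic over it. -/
theorem isIntegral_of_mem {L Ω A : Type u} [Field L] [Algebra k L] [Field Ω] [Algebra k Ω]
    [CommRing A] [Algebra k A] (σ : L →ₐ[k] Ω) (JL : Ideal (L ⊗[k] A)) [Module.Finite L ((L ⊗[k] A) ⧸ JL)]
    (ψ : A →ₐ[k] Ω) (h : JL.map (bcA A σ).toRingHom ≤ RingHom.ker (augB ψ)) (b : A) :
    letI := σ.toRingHom.toAlgebra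
    IsIntegral L (ψ b) := by
  letI : Algebra L Ω := σ.toRingHom.toAlgebra
  haveI : IsScalarTower k L Ω := IsScalarTower.of_algebraMap_eq fun r => (σ.commutes r).symm
  let θ : L ⊗[k] A →ₐ[L] Ω := Algebra.TensorProduct.lift (Algebra.ofId L Ω) ψ (fun _ _ => Commute.all _ _)
  have hθ : ∀ z, θ z = augB ψ (bcA A σ z) := by
    intro z
    induction z with
    | zero => simp
    | add z w hz hw => simp only [map_add, hz, hw]
    | tmul c b => simp [θ, RingHom.algebraMap_toAlgebra]
  let θ' : (L ⊗[k] A) ⧸ JL →ₐ[L] Ω := Ideal.Quotient.liftₐ JL θ fun z hz => by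
    rw [hθ]
    exact h (Ideal.mem_map_of_mem _ hz)
  have h2 := (IsIntegral.of_finite L (Ideal.Quotient.mkₐ L JL ((1 : L) ⊗ₜ[k] b))).map θ'
  rw [show θ' (Ideal.Quotient.mkₐ L JL ((1 : L) ⊗ₜ[k] b)) = ψ b by
    show θ ((1 : L) ⊗ₜ[k] b) = ψ b
    rw [Algebra.TensorProduct.lift_tmul, map_one, one_mul]] at h2
  exact h2

variable {X : Scheme.{u}} {f : X ⟶ Spec (CommRingCat.of k)} [IsSeparated f] [LocallyOfFiniteType f]
  {A : Type u} [CommRing A] [Algebra k A] (i : Spec (CommRingCat.of A) ⟶ X) [IsOpenImmersion i]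
  (hi : i ≫ f = str k A) {n : ℕ} {H : Over (Spec (CommRingCat.of k))}
  {Z : HilbD.Obj f n H} (hH : HilbD.IsUniversal f n H Z)

include hi hH

/-- a chart family over an extension field is defined over the residue field of its point. -/
theorem exists_descent {Ω : Type u} [Field Ω] [Algebra k Ω] (J : Ideal (Ω ⊗[k] A))
    (hJfin : Flag.Fin' Ω J) (hJc : Punct.codim Ω J = n) :
    ∃ y : H.left, letI : Algebra k (H.left.residueField y) := (WC97.kStr H.hom y).toAlgebra
      ∃ (σ : (H.left.residueField y) →ₐ[k] Ω) (JL : Ideal ((H.left.residueField y) ⊗[k] A))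
        (_ : Module.Finite (H.left.residueField y) (((H.left.residueField y) ⊗[k] A) ⧸ JL)),
        JL.map (bcA A σ).toRingHom = J := by
  let W : HilbD.Obj f n (TB k Ω) := upObj i f _ hi ⟨sh J, deg_of_codim hJfin hJc⟩
  obtain ⟨c, hc, -⟩ := hH _ W
  let p : (TB k Ω).left := (⟨⊥, Ideal.isPrime_bot⟩ : PrimeSpectrum Ω)
  refine ⟨c.left p, ?_⟩
  let y := c.left p
  let L := H.left.residueField y
  letI : Algebra k L := (WC97.kStr H.hom y).toAlgebra
  let gL : TB k L ⟶ H := Over.homMk (H.left.fromSpecResidueField y) (WC97.kStr_spec H.hom y).symm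
  obtain ⟨σ, hσ⟩ : ∃ σ : L →ₐ[k] Ω, gT σ ≫ gL = c := by
    obtain ⟨⟨y', σ₀⟩, hσ₀⟩ := (Scheme.SpecToEquivOfField Ω H.left).symm.surjective c.left
    change Spec.map σ₀ ≫ H.left.fromSpecResidueField y' = c.left at hσ₀
    obtain rfl : y' = y := by
      show y' = c.left p
      rw [← hσ₀, Scheme.Hom.comp_apply, Scheme.fromSpecResidueField_apply]
    have e := Over.w c
    rw [← hσ₀, Category.assoc, ← WC97.kStr_spec, ← Spec.map_comp] at e
    change _ = Spec.map _ at e
    exact ⟨{ σ₀.hom with commutes' := fun r => congr($(Spec.map_injective e) r) }, Over.OverMorphism.ext hσ₀⟩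
  have hin : Within f (Set.range i) (HilbD.pull f gL Z.1) := by
    have h1 : Within f (Set.range i) (HilbD.pull f (gT σ) (HilbD.pull f gL Z.1)) := by
      rw [pull_comp, hσ, hc]
      exact within_upObj i f _ hi _
    intro z
    haveI : Subsingleton (TB k L).left := inferInstanceAs (Subsingleton (PrimeSpectrum L))
    exact (within_pull_iff f _ _).1 h1 p z (Subsingleton.elim (α := (TB k L).left) _ _)
  obtain ⟨WL, hWL⟩ := exists_upObj i f _ hi (objPull gL Z) hin
  obtain ⟨JL, hJL⟩ := exists_ideal WL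
  refine ⟨σ, JL, finite_of_deg (hJL ▸ WL.2), sh_injective ?_⟩
  rw [← pull_sh, ← hJL]
  have h1 : pushG i f _ hi (HilbD.pull (str k A) (gT σ) WL.1) = W.1 := by
    rw [← pull_upObj, hWL, ← hc, ← hσ, ← pull_comp]
    rfl
  have h2 := congrArg (restrG i f _ hi) h1
  exact (restrG_push i f _ hi (objPull (gT σ) WL)).symm.trans (h2.trans (restrG_push i f _ hi _))

omit hi hH

variable [IrreducibleSpace X] (hdim : topologicalKrullDim X = 2) [LocallyOfFiniteType H.hom]

include hdim hH

omit [IsOpenImmersion i] in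
/-- **`n` independent generic points.** -/
theorem exists_big_point : ∃ y : H.left, 2 * n ≤ WC97.tdegN H.hom y := by
  obtain ⟨A, _, _, i, hio, hi, B, _, _, _, q, g, hq, hg, hfin⟩ := exists_plane_chart f hdim
  obtain ⟨Ω, _, _, _, ψ, a, hT⟩ := exists_generic_hom n q hq g hg hfin
  obtain ⟨J, hJfin, hJc, hJker⟩ := exists_points_ideal ψ (a 0) fun l l' hne h => by
    have h2 := hT.injective (a₁ := ULift.up (l, 0)) (a₂ := ULift.up (l', 0)) h
    exact hne (by simpa using h2)
  obtain ⟨y, hy⟩ := exists_descent i hi hH J hJfin hJc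
  refine ⟨y, ?_⟩
  letI : Algebra k (H.left.residueField y) := (WC97.kStr H.hom y).toAlgebra
  obtain ⟨σ, JL, hfinL, hmap⟩ := hy
  haveI := hfinL
  letI : Algebra (H.left.residueField y) Ω := σ.toRingHom.toAlgebra
  haveI : IsScalarTower k (H.left.residueField y) Ω := IsScalarTower.of_algebraMap_eq fun r => (σ.commutes r).symm
  have hle := le_trdeg_of_isIntegral hT fun s =>
    isIntegral_of_mem σ JL (ψ s.down.1) (hmap.trans_le (hJker _)) (a s.down.2)
  rw [show Algebra.trdeg k (H.left.residueField y) = WC97.tdeg H.hom y from rfl, WC97.tdeg_eq_natCast] at hle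
  simp only [Cardinal.mk_fintype, Fintype.card_ulift, Fintype.card_prod, Fintype.card_fin, Nat.cast_le] at hle
  omega

end Groth.Agent.Grass5.Fogarty
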