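import Groth.Agent.Grass5.GrassCond

/-!
Frames for points of the Grassmannian of a free module.
-/

set_option autoImplicit false
set_option maxHeartbeats 400000

universe u

open scoped TensorProduct

namespace Groth.Agent.Grass5.Free

variable {R : Type u} [CommRing R] {n k : ℕ} {A : Type u} [CommRing A] [Algebra R A]
  {C : Type u} [CommRing C] [Algebra R C]

variable (R A n k) in
/-- rank `k` quotients of `A^n`. -/
abbrev Gr := Module.Grassmannian A (A ⊗[R] (Fin n → R)) k

/-- coordinates. -/
noncomputable def co : A ⊗[R] (Fin n → R) ≃ₗ[A] (Fin n → A) :=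
  TensorProduct.piScalarRight R A A (Fin n)

lemma co_tmul (a : A) (v : Fin n → R) (j : Fin n) :
    co (a ⊗ₜ[R] v) j = v j • a := rfl

/-- basis vectors. -/
noncomputable def e (j : Fin n) : A ⊗[R] (Fin n → R) := (1 : A) ⊗ₜ[R] Pi.single j 1

lemma co_e (j : Fin n) : co (e (R := R) (A := A) j) = Pi.single j 1 := by
  funext i
  rw [e, co_tmul]
  by_cases h : i = j
  · subst h; simp
  · simp [h]

lemma co_bc (f : A →ₐ[R] C) (x : A ⊗[R] (Fin n → R)) (j : Fin n) :
    co (bc f x) j = f (co x j) := by
  induction x using TensorProduct.induction_on with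
  | zero => simp
  | tmul a v => simp [co_tmul]
  | add x y hx hy => simp only [map_add, Pi.add_apply, hx, hy]

lemma bc_e (f : A →ₐ[R] C) (j : Fin n) : bc f (e (R := R) j) = e j := by simp [e]

/-- the map given by a matrix, column by column. -/
noncomputable def frameMap (W : Fin n → Fin k → A) :
    A ⊗[R] (Fin n → R) →ₗ[A] (Fin k → A) :=
  (Fintype.linearCombination A W).comp co.toLinearMap

lemma frameMap_apply (W : Fin n → Fin k → A) (x : A ⊗[R] (Fin n → R)) :
    frameMap W x = ∑ j, co x j • W j := by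
  simp [frameMap, Fintype.linearCombination_apply]

lemma frameMap_e (W : Fin n → Fin k → A) (j : Fin n) :
    frameMap W (e (R := R) j) = W j := by
  rw [frameMap_apply, co_e]
  rw [Finset.sum_eq_single j (fun i _ hi ↦ by simp [hi]) (by simp)]
  simp

lemma frameMap_bc (f : A →ₐ[R] C) (W : Fin n → Fin k → A) (x : A ⊗[R] (Fin n → R)) :
    frameMap (fun j a ↦ f (W j a)) (bc f x) = fun a ↦ f (frameMap W x a) := by
  funext a
  simp [frameMap_apply, co_bc, Finset.sum_apply, map_sum]

/-- `W` is a frame at `σ`. -/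
def IsFrame (σ : Fin k → Fin n) (W : Fin n → Fin k → A) : Prop :=
  ∀ a, W (σ a) = Pi.single a 1

lemma IsFrame.map {σ : Fin k → Fin n} {W : Fin n → Fin k → A} (h : IsFrame σ W) (f : A →ₐ[R] C) :
    IsFrame σ (fun j a ↦ f (W j a)) := by
  intro a
  funext b
  simp only
  rw [h a]
  by_cases hb : b = a
  · subst hb; simp
  · simp [hb]

lemma frameMap_surjective {σ : Fin k → Fin n} {W : Fin n → Fin k → A} (h : IsFrame σ W) :
    Function.Surjective (frameMap (R := R) W) := fun v ↦
  ⟨∑ a, v a • e (σ a), by simp [map_sum, map_smul, frameMap_e, h _, ← pi_eq_sum_univ' v]⟩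

/-- the point with frame `W`. -/
noncomputable def frameN {σ : Fin k → Fin n} (W : Fin n → Fin k → A) (h : IsFrame σ W) :
    Gr R n k A where
  toSubmodule := LinearMap.ker (frameMap W)
  finite_quotient := Module.Finite.equiv
    ((frameMap (R := R) W).quotKerEquivOfSurjective (frameMap_surjective h)).symm
  projective_quotient := Module.Projective.of_equiv
    ((frameMap (R := R) W).quotKerEquivOfSurjective (frameMap_surjective h)).symm
  rankAtStalk_eq p := by
    haveI : Nontrivial A := ⟨⟨0, 1, fun h01 ↦ p.isPrime.ne_top ((Ideal.eq_top_iff_one _).2 (h01 ▸ zero_mem _))⟩⟩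
    rw [Module.rankAtStalk_eq_of_equiv
      ((frameMap (R := R) W).quotKerEquivOfSurjective (frameMap_surjective h))]
    simp [Module.rankAtStalk_eq_finrank_of_free]

/-- nested points are equal. -/
lemma gr_eq_of_le {M : Type u} [AddCommGroup M] [Module R M] {N N' : Module.Grassmannian A (A ⊗[R] M) k}
    (hle : N.toSubmodule ≤ N'.toSubmodule) : N = N' := by
  refine Module.Grassmannian.ext (le_antisymm hle fun x hx ↦ ?_)
  have hb := Module.bijective_of_surjective_of_rankAtStalk_eq (Submodule.factor_surjective hle)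
    (by intro m _; rw [N.rankAtStalk_eq, N'.rankAtStalk_eq])
  rw [← Submodule.Quotient.mk_eq_zero (p := N.toSubmodule)]
  exact hb.1 (by simpa using hx)

lemma map_frameN (f : A →ₐ[R] C) {σ : Fin k → Fin n} (W : Fin n → Fin k → A) (h : IsFrame σ W) :
    Module.Grassmannian.map f (frameN (R := R) W h) = frameN _ (h.map f) := by
  apply gr_eq_of_le
  rw [map_eq_span, Submodule.span_le]
  rintro _ ⟨x, hx, rfl⟩
  simp only [SetLike.mem_coe, frameN, LinearMap.mem_ker] at hx ⊢
  rw [frameMap_bc, hx]
  funext a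
  simp

lemma sub_mem_ker {σ : Fin k → Fin n} {W : Fin n → Fin k → A} (h : IsFrame σ W) (j : Fin n) :
    e (R := R) j - ∑ a, W j a • e (σ a) ∈ LinearMap.ker (frameMap (R := R) W) := by
  simp [map_sum, map_smul, frameMap_e, h _, ← pi_eq_sum_univ' (W j)]

lemma frame_of_le {σ : Fin k → Fin n} {W : Fin n → Fin k → A} (h : IsFrame σ W)
    {W' : Fin n → Fin k → A}
    (hle : LinearMap.ker (frameMap (R := R) W) ≤ LinearMap.ker (frameMap (R := R) W')) (j : Fin n) :
    W' j = ∑ a, W j a • W' (σ a) := by
  have := hle (sub_mem_ker h j)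
  simpa [map_sum, map_smul, frameMap_e, sub_eq_zero] using this

lemma frame_unique {σ : Fin k → Fin n} {W W' : Fin n → Fin k → A} (h : IsFrame σ W)
    (h' : IsFrame σ W') (he : frameN (R := R) W h = frameN W' h') : W = W' := by
  funext j
  rw [frame_of_le (R := R) h (W' := W') (le_of_eq congr(($he).toSubmodule)) j]
  simp [h' _, ← pi_eq_sum_univ' (W j)]

/-- the minor of `W` at `τ`. -/
def minor (W : Fin n → Fin k → A) (τ : Fin k → Fin n) : A :=
  Matrix.det (Matrix.of fun a b ↦ W (τ a) b)

lemma minor_self {σ : Fin k → Fin n} {W : Fin n → Fin k → A} (h : IsFrame σ W) :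
    minor W σ = 1 := by
  have : (Matrix.of fun a b ↦ W (σ a) b) = (1 : Matrix (Fin k) (Fin k) A) := by
    ext a b
    simp [h a, Matrix.one_apply, Pi.single_apply, eq_comm]
  rw [minor, this, Matrix.det_one]

lemma minor_map (f : A →ₐ[R] C) (W : Fin n → Fin k → A) (τ : Fin k → Fin n) :
    minor (fun j a ↦ f (W j a)) τ = f (minor W τ) := by
  rw [minor, minor, AlgHom.map_det]
  rfl

/-- change of frame. -/
lemma exists_frame_of_isUnit {σ τ : Fin k → Fin n} {W : Fin n → Fin k → A} (h : IsFrame σ W)
    (hu : IsUnit (minor W τ)) :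
    ∃ (W' : Fin n → Fin k → A) (h' : IsFrame τ W'),
      frameN (R := R) W' h' = frameN W h ∧ ∀ ρ, minor W ρ = minor W τ * minor W' ρ := by
  let M : Matrix (Fin k) (Fin k) A := Matrix.of fun a b ↦ W (τ a) b
  have hM : IsUnit M.det := hu
  let W' : Fin n → Fin k → A := fun j ↦ Matrix.vecMul (W j) M⁻¹
  have h' : IsFrame τ W' := by
    intro a
    funext b
    change (M * M⁻¹) a b = _
    rw [Matrix.mul_nonsing_inv M hM, Matrix.one_apply, Pi.single_apply]
    simp [eq_comm]
  refine ⟨W', h', ?_, fun ρ ↦ ?_⟩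
  · symm
    apply gr_eq_of_le
    intro x hx
    simp only [frameN, LinearMap.mem_ker, frameMap_apply] at hx ⊢
    have : ∀ j, co x j • W' j = Matrix.vecMul (co x j • W j) M⁻¹ := fun j ↦
      (Matrix.smul_vecMul _ _ _).symm
    simp only [this, ← Matrix.sum_vecMul, hx, Matrix.zero_vecMul]
  · change Matrix.det (Matrix.of fun a b ↦ W (ρ a) b) = M.det * _
    rw [mul_comm, minor, ← Matrix.det_mul]
    congr 1
    ext a b
    rw [Matrix.mul_apply']
    change _ = Matrix.vecMul (Matrix.vecMul (W (ρ a)) M⁻¹) M b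
    rw [Matrix.vecMul_vecMul, Matrix.nonsing_inv_mul M hM, Matrix.vecMul_one]
    rfl

lemma isUnit_minor_of_eq {σ τ : Fin k → Fin n} {W W' : Fin n → Fin k → A} (h : IsFrame σ W)
    (h' : IsFrame τ W') (he : frameN (R := R) W h = frameN W' h') : IsUnit (minor W τ) := by
  have hW := frame_of_le (R := R) h (W' := W') (le_of_eq congr(($he).toSubmodule))
  have : (Matrix.of fun a b ↦ W (τ a) b) * (Matrix.of fun a b ↦ W' (σ a) b) = 1 := by
    ext a b
    have := congr_fun (hW (τ a)) b
    rw [h' a, Finset.sum_apply] at this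
    rw [Matrix.mul_apply, Matrix.one_apply]
    simpa [Pi.single_apply, eq_comm] using this.symm
  exact IsUnit.of_mul_eq_one _ ((Matrix.det_mul _ _).symm.trans (this ▸ Matrix.det_one))

/-- every point has a frame locally. -/
lemma exists_frame_near (N : Gr R n k A) (p : PrimeSpectrum A) :
    ∃ (f : A) (σ : Fin k → Fin n), f ∉ p.asIdeal ∧ Function.Injective σ ∧
      ∀ (C : Type u) [CommRing C] [Algebra R C] (φ : A →ₐ[R] C), IsUnit (φ f) →
        ∃ (W : Fin n → Fin k → C) (h : IsFrame σ W),
          Module.Grassmannian.map φ N = frameN W h := by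
  classical
  set Q := (A ⊗[R] (Fin n → R)) ⧸ N.toSubmodule
  let q : Fin n → Q := fun j ↦ N.toSubmodule.mkQ (e j)
  let K := p.asIdeal.ResidueField
  have hspanQ : Submodule.span A (Set.range q) = ⊤ := by
    rw [eq_top_iff]
    intro y _
    obtain ⟨x, rfl⟩ := Submodule.mkQ_surjective _ y
    have : x = ∑ j, co x j • e j := by
      apply co.injective
      simp [map_sum, map_smul, co_e, ← pi_eq_sum_univ' (co x)]
    rw [this, map_sum]
    refine sum_mem fun j _ ↦ ?_
    rw [map_smul]
    exact Submodule.smul_mem _ _ (Submodule.subset_span ⟨j, rfl⟩)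
  let v : Fin n → K ⊗[A] Q := fun j ↦ (1 : K) ⊗ₜ[A] q j
  have hv : Submodule.span K (Set.range v) = ⊤ := by
    rw [show Set.range v = (fun y ↦ (1 : K) ⊗ₜ[A] y) '' Set.range q by rw [← Set.range_comp]; rfl]
    have h1 : (Submodule.span A (Set.range q)).baseChange K = ⊤ := by
      rw [hspanQ, Submodule.baseChange_top]
    rw [Submodule.baseChange_span] at h1
    exact h1
  have hrank : Module.finrank K (K ⊗[A] Q) = k := by
    exact (Module.rankAtStalk_eq (M := Q) p).symm.trans (N.rankAtStalk_eq p)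
  obtain ⟨κ, a, ha, hspan, hli⟩ := exists_linearIndependent' K v
  haveI : Fintype κ := Fintype.ofInjective a ha
  have hb : Submodule.span K (Set.range (v ∘ a)) = ⊤ := hspan.trans hv
  have hcard : Fintype.card κ = k := by
    rw [← hrank, Module.finrank_eq_card_basis (Module.Basis.mk hli hb.ge)]
  let ε : Fin k ≃ κ := (Fintype.equivFinOfCardEq hcard).symm
  let σ : Fin k → Fin n := a ∘ ε
  let U : Submodule A Q := Submodule.span A (Set.range (q ∘ σ))
  have hsub : Subsingleton (K ⊗[A] (Q ⧸ U)) := by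
    refine subsingleton_of_forall_eq 0 fun z ↦ ?_
    obtain ⟨z, rfl⟩ := LinearMap.baseChange_surjective K (Submodule.mkQ_surjective U) z
    have hz : z ∈ Submodule.span K (Set.range (v ∘ a)) := hb ▸ Submodule.mem_top
    induction hz using Submodule.span_induction with
    | mem x hx =>
      obtain ⟨i, rfl⟩ := hx
      have : U.mkQ (q (a i)) = 0 := (Submodule.Quotient.mk_eq_zero _).2
        (Submodule.subset_span ⟨ε.symm i, by simp [σ]⟩)
      change LinearMap.baseChange K U.mkQ ((1 : K) ⊗ₜ[A] q (a i)) = 0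
      rw [LinearMap.baseChange_tmul, this, TensorProduct.tmul_zero]
    | zero => simp
    | add x y _ _ hx hy => rw [map_add, hx, hy, add_zero]
    | smul c x _ hx => rw [map_smul, hx, smul_zero]
  have hsupp : p ∉ Module.support A (Q ⧸ U) := by
    rw [Module.mem_support_iff_nontrivial_residueField_tensorProduct]
    exact not_nontrivial _
  rw [Module.notMem_support_iff'] at hsupp
  choose f hf hf0 using hsupp
  refine ⟨∏ j, f (U.mkQ (q j)), σ, fun h ↦ ?_, ha.comp ε.injective, fun C _ _ φ hu ↦ ?_⟩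
  · obtain ⟨j, -, hj⟩ := (p.isPrime.prod_mem_iff).1 h
    exact hf _ hj
  set N' := Module.Grassmannian.map φ N
  set Q' := (C ⊗[R] (Fin n → R)) ⧸ N'.toSubmodule
  let s : (Fin k → C) →ₗ[C] Q' := Fintype.linearCombination C fun b ↦ N'.toSubmodule.mkQ (e (σ b))
  have hs : Function.Surjective s := by
    rw [← LinearMap.range_eq_top, eq_top_iff]
    intro y _
    obtain ⟨x, rfl⟩ := Submodule.mkQ_surjective _ y
    have : x = ∑ j, co x j • e j := by
      apply co.injective
      simp [map_sum, map_smul, co_e, ← pi_eq_sum_univ' (co x)]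
    rw [this, map_sum]
    refine sum_mem fun j _ ↦ ?_
    rw [map_smul]
    refine Submodule.smul_mem _ _ ?_
    have hfj : f (U.mkQ (q j)) • U.mkQ (q j) = 0 := hf0 _
    rw [← map_smul, Submodule.mkQ_apply, Submodule.Quotient.mk_eq_zero,
      Submodule.mem_span_range_iff_exists_fun] at hfj
    obtain ⟨c, hc⟩ := hfj
    have hmem : f (U.mkQ (q j)) • e j - ∑ b, c b • e (σ b) ∈ N.toSubmodule := by
      rw [← Submodule.Quotient.mk_eq_zero, ← Submodule.mkQ_apply, map_sub, map_smul, map_sum,
        sub_eq_zero]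
      simpa [map_smul, q] using hc.symm
    have hmem' : bc φ (f (U.mkQ (q j)) • e j - ∑ b, c b • e (σ b)) ∈ N'.toSubmodule := by
      rw [map_eq_span]; exact Submodule.subset_span ⟨_, hmem, rfl⟩
    have hunit : IsUnit (φ (f (U.mkQ (q j)))) := by
      refine isUnit_of_dvd_unit ?_ hu
      exact map_dvd φ (Finset.dvd_prod_of_mem _ (Finset.mem_univ j))
    rw [map_sub, map_sum, bc_smul, bc_e, ← Submodule.Quotient.mk_eq_zero, ← Submodule.mkQ_apply,
      map_sub, map_smul, map_sum, sub_eq_zero] at hmem'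
    obtain ⟨w, hw⟩ := hunit.exists_left_inv
    refine ⟨fun b ↦ w * φ (c b), ?_⟩
    have := congr(w • $hmem')
    rw [smul_smul, hw, one_smul, Finset.smul_sum] at this
    rw [this]
    simp [s, Fintype.linearCombination_apply, bc_smul, bc_e, smul_smul, map_smul]
  have hbij := Module.bijective_of_surjective_of_rankAtStalk_eq hs (by
    intro m _
    haveI : Nontrivial C := ⟨⟨0, 1, fun h01 ↦
      Ideal.IsMaximal.ne_top ‹m.IsMaximal› ((Ideal.eq_top_iff_one m).2 (h01 ▸ zero_mem _))⟩⟩
    rw [N'.rankAtStalk_eq]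
    simp [Module.rankAtStalk_eq_finrank_of_free])
  let E : (Fin k → C) ≃ₗ[C] Q' := LinearEquiv.ofBijective s hbij
  let W : Fin n → Fin k → C := fun j ↦ E.symm (N'.toSubmodule.mkQ (e j))
  have hW : IsFrame σ W := by
    intro b
    change E.symm _ = _
    rw [LinearEquiv.symm_apply_eq]
    simp [E, s, Fintype.linearCombination_apply]
  refine ⟨W, hW, gr_eq_of_le fun x hx ↦ ?_⟩
  simp only [frameN, LinearMap.mem_ker, frameMap_apply, W, ← map_smul, ← map_sum]
  rw [LinearEquiv.map_eq_zero_iff, Submodule.mkQ_apply, Submodule.Quotient.mk_eq_zero]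
  have : ∑ j, co x j • e j = x := by
    apply co.injective
    simp [map_sum, map_smul, co_e, ← pi_eq_sum_univ' (co x)]
  rwa [this]

end Groth.Agent.Grass5.Free
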