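import Groth.Agent.Grass5.Frame

/-!
Locality and gluing of points of the Grassmannian of a free module.
-/

set_option autoImplicit false
set_option maxHeartbeats 400000

universe u

open scoped TensorProduct

namespace Groth.Agent.Grass5.Free

variable {R : Type u} [CommRing R] {n k : ℕ} {A : Type u} [CommRing A] [Algebra R A]

lemma ext_of_injective {M : Type u} [AddCommGroup M] [Module R M] {ι : Type u} (C : ι → Type u)
    [∀ i, CommRing (C i)] [∀ i, Algebra R (C i)] (φ : ∀ i, A →ₐ[R] C i)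
    (hinj : ∀ a : A, (∀ i, φ i a = 0) → a = 0) {N N' : Module.Grassmannian A (A ⊗[R] M) k}
    (h : ∀ i, Module.Grassmannian.map (φ i) N = Module.Grassmannian.map (φ i) N') : N = N' := by
  apply gr_eq_of_le
  intro x hx
  have key : condIdeal N'.toSubmodule (Submodule.span A {x}) = ⊥ := by
    rw [eq_bot_iff]
    intro a ha
    refine hinj a fun i ↦ ?_
    have hi : condIdeal (Module.Grassmannian.map (φ i) N').toSubmodule
        (Submodule.span (C i) {bc (φ i) x}) = ⊥ := by
      rw [condIdeal_eq_bot_iff, Submodule.span_singleton_le_iff_mem, ← h i, map_eq_span]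
      exact Submodule.subset_span ⟨x, hx, rfl⟩
    rw [condIdeal_map (φ i) N' (Submodule.span A {x}) _
      (by rw [span_bc_span, Set.image_singleton])] at hi
    exact (Ideal.map_eq_bot_iff_le_ker _).1 hi ha
  exact (Submodule.span_singleton_le_iff_mem _ _).1 ((condIdeal_eq_bot_iff _ _).1 key)

section Away

variable (R)

/-- `A → A_g`. -/
noncomputable def loc (g : A) : A →ₐ[R] Localization.Away g := IsScalarTower.toAlgHom R A _

/-- `A_g → A_h`. -/
noncomputable def res {g h : A} (hgh : g ∣ h) : Localization.Away g →ₐ[R] Localization.Away h :=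
  { IsLocalization.Away.lift (S := Localization.Away g) g
      (g := algebraMap A (Localization.Away h))
      (isUnit_of_dvd_unit (map_dvd _ hgh) (IsLocalization.Away.algebraMap_isUnit h)) with
    commutes' := fun r ↦ by
      rw [IsScalarTower.algebraMap_apply R A (Localization.Away g),
        IsScalarTower.algebraMap_apply R A (Localization.Away h)]
      exact IsLocalization.Away.lift_eq _ _ _ }

variable {R}

lemma res_comp_loc {g h : A} (hgh : g ∣ h) : (res R hgh).comp (loc R g) = loc R h :=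
  AlgHom.ext fun _ ↦ IsLocalization.Away.lift_eq g
    (isUnit_of_dvd_unit (map_dvd _ hgh) (IsLocalization.Away.algebraMap_isUnit h)) _

lemma res_algebraMap {g h : A} (hgh : g ∣ h) (a : A) :
    res R hgh (algebraMap A (Localization.Away g) a) = algebraMap A (Localization.Away h) a :=
  IsLocalization.Away.lift_eq g
    (isUnit_of_dvd_unit (map_dvd _ hgh) (IsLocalization.Away.algebraMap_isUnit h)) _

/-- a section of `A_g` vanishing in `A_{gh}` is killed by a power of `h`. -/
lemma exists_pow_smul_eq_zero (g h : A) (z : Localization.Away g)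
    (hz : res R (dvd_mul_right g h) z = 0) :
    ∃ m : ℕ, algebraMap A (Localization.Away g) (h ^ m) * z = 0 := by
  obtain ⟨N, a, ha⟩ := IsLocalization.Away.surj g z
  have : algebraMap A (Localization.Away (g * h)) a = 0 := by
    rw [← res_algebraMap (R := R) (dvd_mul_right g h), ← ha, map_mul, hz, zero_mul]
  obtain ⟨⟨_, m, rfl⟩, hm⟩ :=
    (IsLocalization.map_eq_zero_iff (Submonoid.powers (g * h)) _ a).1 this
  refine ⟨m, ?_⟩
  have h1 : algebraMap A (Localization.Away g) ((g * h) ^ m * a) = 0 := by rw [hm, map_zero]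
  rw [map_mul, ← ha, mul_pow, map_mul] at h1
  have hu : IsUnit (algebraMap A (Localization.Away g) g) := IsLocalization.Away.algebraMap_isUnit g
  refine ((hu.pow m).mul (hu.pow N)).mul_left_cancel ?_
  rw [mul_zero, ← h1]
  simp only [map_pow]
  ring

lemma exists_pow_smul_eq_bc (g : A) (y : Localization.Away g ⊗[R] (Fin n → R)) :
    ∃ (m : ℕ) (x : A ⊗[R] (Fin n → R)),
      bc (loc R g) x = algebraMap A (Localization.Away g) (g ^ m) • y := by
  induction y using TensorProduct.induction_on with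
  | zero => exact ⟨0, 0, by simp⟩
  | tmul a v =>
    obtain ⟨N, b, hb⟩ := IsLocalization.Away.surj g a
    refine ⟨N, b ⊗ₜ v, ?_⟩
    rw [bc_tmul, TensorProduct.smul_tmul', smul_eq_mul, map_pow, mul_comm, hb]
    rfl
  | add y y' hy hy' =>
    obtain ⟨m, x, hx⟩ := hy
    obtain ⟨m', x', hx'⟩ := hy'
    refine ⟨m + m', g ^ m' • x + g ^ m • x', ?_⟩
    rw [map_add, bc_smul, bc_smul, hx, hx', smul_smul, smul_smul, smul_add]
    simp [loc, pow_add, mul_comm]

lemma exists_pow_smul_bc_eq_zero (g : A) (x : A ⊗[R] (Fin n → R)) (hx : bc (loc R g) x = 0) :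
    ∃ m : ℕ, g ^ m • x = 0 := by
  have hc : ∀ j, ∃ m : ℕ, g ^ m * co x j = 0 := fun j ↦ by
    have : loc R g (co x j) = 0 := by rw [← co_bc, hx]; simp
    obtain ⟨⟨_, m, rfl⟩, hm⟩ :=
      (IsLocalization.map_eq_zero_iff (Submonoid.powers g) _ (co x j)).1 this
    exact ⟨m, hm⟩
  choose m hm using hc
  refine ⟨Finset.univ.sup m, co.injective (funext fun j ↦ ?_)⟩
  obtain ⟨d, hd⟩ := pow_dvd_pow g (Finset.le_sup (f := m) (Finset.mem_univ j))
  rw [map_smul, map_zero, Pi.smul_apply, smul_eq_mul, hd, Pi.zero_apply]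
  linear_combination d * hm j

end Away

lemma sum_co_smul_e (x : A ⊗[R] (Fin n → R)) : ∑ j, co x j • e j = x := by
  apply co.injective
  simp [map_sum, map_smul, co_e, ← pi_eq_sum_univ' (co x)]

lemma bc_comp {B C : Type u} [CommRing B] [Algebra R B] [CommRing C] [Algebra R C]
    (f : A →ₐ[R] B) (g : B →ₐ[R] C) (x : A ⊗[R] (Fin n → R)) :
    bc (g.comp f) x = bc g (bc f x) := by
  induction x using TensorProduct.induction_on with
  | zero => simp
  | tmul a v => simp
  | add x y hx hy => simp only [map_add, hx, hy]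

section Glue

variable {ι : Type u} [Fintype ι] {f : ι → A} {σ : ι → Fin k → Fin n}
  {W : ∀ i, Fin n → Fin k → Localization.Away (f i)} (hW : ∀ i, IsFrame (σ i) (W i))

/-- the glued submodule. -/
noncomputable def glueSub (W : ∀ i, Fin n → Fin k → Localization.Away (f i)) :
    Submodule A (A ⊗[R] (Fin n → R)) where
  carrier := {x | ∀ i, frameMap (W i) (bc (loc R (f i)) x) = 0}
  add_mem' := fun {x y} hx hy i ↦ by rw [map_add, map_add, hx i, hy i, add_zero]
  zero_mem' := fun i ↦ by simp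
  smul_mem' := fun c x hx i ↦ by rw [bc_smul, map_smul, hx i, smul_zero]

/-- agreement on overlaps. -/
def Compat (hW : ∀ i, IsFrame (σ i) (W i)) : Prop :=
  ∀ i j, Module.Grassmannian.map (res R (dvd_mul_right (f i) (f j)))
        (frameN (R := R) (W i) (hW i)) =
      Module.Grassmannian.map (res R (dvd_mul_left (f j) (f i))) (frameN (R := R) (W j) (hW j))

variable (hcompat : Compat (R := R) hW)

local notation "N" => glueSub (R := R) W

include hcompat in
lemma exists_pow_smul_mem (i : ι) (x : A ⊗[R] (Fin n → R))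
    (hx : frameMap (W i) (bc (loc R (f i)) x) = 0) : ∃ m, f i ^ m • x ∈ N := by
  have : ∀ j, ∃ m : ℕ, ∀ a, algebraMap A (Localization.Away (f j)) (f i ^ m) *
      frameMap (W j) (bc (loc R (f j)) x) a = 0 := by
    intro j
    have hz : ∀ a, res R (dvd_mul_right (f j) (f i)) (frameMap (W j) (bc (loc R (f j)) x) a) = 0 := by
      intro a
      have h1 : bc (loc R (f j * f i)) x ∈ (Module.Grassmannian.map
          (res R (dvd_mul_left (f i) (f j))) (frameN (R := R) (W i) (hW i))).toSubmodule := by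
        rw [map_eq_span]
        refine Submodule.subset_span ⟨bc (loc R (f i)) x, hx, ?_⟩
        rw [← res_comp_loc (R := R) (dvd_mul_left (f i) (f j))]
        exact (bc_comp _ _ x).symm
      rw [← hcompat j i, map_frameN] at h1
      have h2 := congr_fun h1 a
      rw [← res_comp_loc (R := R) (dvd_mul_right (f j) (f i))] at h2
      rw [bc_comp, frameMap_bc] at h2
      exact h2
    choose m hm using fun a ↦ exists_pow_smul_eq_zero (R := R) _ _ _ (hz a)
    refine ⟨Finset.univ.sup m, fun a ↦ ?_⟩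
    obtain ⟨d, hd⟩ := pow_dvd_pow (f i) (Finset.le_sup (f := m) (Finset.mem_univ a))
    rw [hd, map_mul, mul_comm (algebraMap A _ (f i ^ m a)), mul_assoc, hm a, mul_zero]
  choose m hm using this
  refine ⟨Finset.univ.sup m, fun j ↦ funext fun a ↦ ?_⟩
  obtain ⟨d, hd⟩ := pow_dvd_pow (f i) (Finset.le_sup (f := m) (Finset.mem_univ j))
  rw [bc_smul, map_smul, Pi.smul_apply, smul_eq_mul, hd, map_mul]
  change algebraMap A _ (f i ^ m j) * algebraMap A _ d * _ = 0
  rw [mul_comm (algebraMap A _ (f i ^ m j)), mul_assoc, hm j a, mul_zero]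

include hcompat in
lemma span_glueSub (i : ι) :
    Submodule.span (Localization.Away (f i)) (bc (loc R (f i)) '' (N : Set _)) =
      (frameN (R := R) (W i) (hW i)).toSubmodule := by
  refine le_antisymm (Submodule.span_le.2 ?_) fun y hy ↦ ?_
  · rintro _ ⟨x, hx, rfl⟩
    exact hx i
  obtain ⟨m, x, hx⟩ := exists_pow_smul_eq_bc (f i) y
  have hx0 : frameMap (W i) (bc (loc R (f i)) x) = 0 := by
    rw [hx, map_smul, show frameMap (W i) y = 0 from hy, smul_zero]
  obtain ⟨M, hM⟩ := exists_pow_smul_mem hW hcompat i x hx0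
  have hu : IsUnit (algebraMap A (Localization.Away (f i)) (f i ^ (M + m))) := by
    rw [map_pow]; exact (IsLocalization.Away.algebraMap_isUnit (f i)).pow _
  rw [← Submodule.smul_mem_iff_of_isUnit _ hu]
  refine Submodule.subset_span ⟨f i ^ M • x, hM, ?_⟩
  rw [bc_smul, hx, smul_smul, pow_add, map_mul]
  rfl

include hcompat in
lemma exists_fg (i : ι) : ∃ Y : Finset (A ⊗[R] (Fin n → R)), (Y : Set (A ⊗[R] (Fin n → R))) ⊆ (N : Set _) ∧
      Submodule.span (Localization.Away (f i)) (bc (loc R (f i)) '' (Y : Set _)) =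
        (frameN (R := R) (W i) (hW i)).toSubmodule := by
  classical
  have hgen : ∀ j, ∃ x ∈ N, ∃ u : Localization.Away (f i), IsUnit u ∧
      bc (loc R (f i)) x = u • (e j - ∑ a, W i j a • e (σ i a)) := by
    intro j
    obtain ⟨m, x, hx⟩ := exists_pow_smul_eq_bc (f i) (e (R := R) j - ∑ a, W i j a • e (σ i a))
    have h0 : frameMap (W i) (bc (loc R (f i)) x) = 0 := by
      rw [hx, map_smul, show frameMap (W i) _ = 0 from sub_mem_ker (hW i) j, smul_zero]
    obtain ⟨M, hM⟩ := exists_pow_smul_mem hW hcompat i x h0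
    refine ⟨f i ^ M • x, hM, _, ?_, by rw [bc_smul, hx, smul_smul]⟩
    change IsUnit (algebraMap A (Localization.Away (f i)) (f i ^ M) * algebraMap A _ (f i ^ m))
    rw [map_pow, map_pow]
    exact ((IsLocalization.Away.algebraMap_isUnit (f i)).pow _).mul
      ((IsLocalization.Away.algebraMap_isUnit (f i)).pow _)
  choose x hxN u hu hx using hgen
  refine ⟨Finset.univ.image x, by simpa [Set.range_subset_iff] using hxN,
    le_antisymm ((Submodule.span_mono (Set.image_mono (by simpa [Set.range_subset_iff] using hxN))).trans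
      (span_glueSub hW hcompat i).le) fun y hy ↦ ?_⟩
  have hy' : y = ∑ j, co y j • (e j - ∑ a, W i j a • e (σ i a)) := by
    simp only [smul_sub, Finset.sum_sub_distrib, Finset.smul_sum, smul_smul]
    rw [Finset.sum_comm (f := fun j a ↦ (co y j * W i j a) • e (R := R) (σ i a))]
    simp only [← Finset.sum_smul]
    have h0 : ∀ a, ∑ j, co y j * W i j a = 0 := fun a ↦ by
      have := congr_fun (show frameMap (W i) y = 0 from hy) a
      simpa [frameMap_apply, Finset.sum_apply] using this
    simp only [h0, zero_smul, Finset.sum_const_zero, sub_zero]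
    exact (sum_co_smul_e y).symm
  rw [hy']
  refine sum_mem fun j _ ↦ Submodule.smul_mem _ _ ?_
  rw [← Submodule.smul_mem_iff_of_isUnit _ (hu j), ← hx]
  exact Submodule.subset_span ⟨x j, by simp, rfl⟩

include hW hcompat in
lemma exists_projector (i : ι) (Y : Finset (A ⊗[R] (Fin n → R))) :
    ∃ (T : A ⊗[R] (Fin n → R) →ₗ[A] A ⊗[R] (Fin n → R)) (m : ℕ),
      (∀ y ∈ N, y ∈ Y → T y = 0) ∧ ∀ j, T (e j) - f i ^ m • e j ∈ N := by
  classical
  have : ∀ j, ∃ (m : ℕ) (w : A ⊗[R] (Fin n → R)), bc (loc R (f i)) w =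
      algebraMap A (Localization.Away (f i)) (f i ^ m) • ∑ a, W i j a • e (σ i a) :=
    fun j ↦ exists_pow_smul_eq_bc (f i) _
  choose m w hw using this
  let m₀ := Finset.univ.sup m
  let T₀ : A ⊗[R] (Fin n → R) →ₗ[A] A ⊗[R] (Fin n → R) :=
    (Fintype.linearCombination A fun j ↦ f i ^ (m₀ - m j) • w j).comp co.toLinearMap
  have hT₀ : ∀ x, bc (loc R (f i)) (T₀ x) = algebraMap A (Localization.Away (f i)) (f i ^ m₀) •
      ∑ a, frameMap (W i) (bc (loc R (f i)) x) a • e (σ i a) := by
    intro x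
    simp only [T₀, LinearMap.comp_apply, Fintype.linearCombination_apply, map_sum, bc_smul, hw,
      frameMap_apply, co_bc, Finset.sum_apply, Pi.smul_apply, smul_eq_mul, Finset.smul_sum,
      Finset.sum_smul, smul_smul, LinearEquiv.coe_coe]
    rw [Finset.sum_comm]
    refine Finset.sum_congr rfl fun a _ ↦ Finset.sum_congr rfl fun j _ ↦ ?_
    congr 1
    have hj := Nat.sub_add_cancel (Finset.le_sup (f := m) (Finset.mem_univ j))
    simp only [loc, IsScalarTower.coe_toAlgHom', map_pow]
    rw [← pow_mul_pow_sub (algebraMap A (Localization.Away (f i)) (f i))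
      (Finset.le_sup (f := m) (Finset.mem_univ j) : m j ≤ m₀)]
    simp only [map_mul, map_pow, m₀]
    ring
  have hkill : ∀ y : A ⊗[R] (Fin n → R), ∃ M : ℕ,
      (y ∈ N → f i ^ M • T₀ y = 0) := by
    intro y
    by_cases hy : y ∈ N
    · obtain ⟨M, hM⟩ := exists_pow_smul_bc_eq_zero (f i) (T₀ y) (by
        rw [hT₀, hy i]; simp)
      exact ⟨M, fun _ ↦ hM⟩
    · exact ⟨0, fun h ↦ (hy h).elim⟩
  choose K hK using hkill
  have hid : ∀ j, ∃ M : ℕ, f i ^ M • (T₀ (e j) - f i ^ m₀ • e j) ∈ N := by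
    intro j
    refine exists_pow_smul_mem hW hcompat i _ ?_
    rw [map_sub, bc_smul, bc_e, hT₀, bc_e]
    simp only [map_sub, map_smul, map_sum, frameMap_e, hW i _, ← pi_eq_sum_univ' (W i j)]
    exact sub_eq_zero.2 rfl
  choose L hL using hid
  let M := Y.sup K + Finset.univ.sup L
  refine ⟨f i ^ M • T₀, M + m₀, fun y hyN hyl ↦ ?_, fun j ↦ ?_⟩
  · have hle : K y ≤ M := le_add_right (Finset.le_sup (f := K) hyl)
    rw [LinearMap.smul_apply, ← Nat.sub_add_cancel hle, pow_add, mul_smul, hK y hyN, smul_zero]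
  · have hle : L j ≤ M := le_add_left (Finset.le_sup (f := L) (Finset.mem_univ j))
    have h2 := (N).smul_mem (f i ^ (M - L j)) (hL j)
    rw [smul_smul, ← pow_add, Nat.sub_add_cancel hle, smul_sub, smul_smul, ← pow_add] at h2
    exact h2

lemma exists_pow_smul_mem_span {g : A} {Y : Set (A ⊗[R] (Fin n → R))}
    (x : A ⊗[R] (Fin n → R))
    (hbx : bc (loc R g) x ∈ Submodule.span (Localization.Away g) (bc (loc R g) '' Y)) :
    ∃ M : ℕ, g ^ M • x ∈ Submodule.span A Y := by
  have : ∀ z ∈ Submodule.span (Localization.Away g) (bc (loc R g) '' Y),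
      ∃ (q : ℕ) (x' : _), x' ∈ Submodule.span A Y ∧
        bc (loc R g) x' = algebraMap A (Localization.Away g) (g ^ q) • z := by
    intro z hz
    induction hz using Submodule.span_induction with
    | mem z hz =>
      obtain ⟨z, hz, rfl⟩ := hz
      exact ⟨0, z, Submodule.subset_span hz, by simp⟩
    | zero => exact ⟨0, 0, zero_mem _, by simp⟩
    | add z z' _ _ hz hz' =>
      obtain ⟨q, y, hy, he⟩ := hz
      obtain ⟨q', y', hy', he'⟩ := hz'
      refine ⟨q + q', g ^ q' • y + g ^ q • y',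
        add_mem (Submodule.smul_mem _ _ hy) (Submodule.smul_mem _ _ hy'), ?_⟩
      rw [map_add, bc_smul, bc_smul, he, he', smul_smul, smul_smul, smul_add]
      simp [loc, pow_add, mul_comm]
    | smul b z _ hz =>
      obtain ⟨q, y, hy, he⟩ := hz
      obtain ⟨q', a, ha⟩ := IsLocalization.Away.surj g b
      refine ⟨q + q', a • y, Submodule.smul_mem _ _ hy, ?_⟩
      rw [bc_smul, he, show (loc R g) a = algebraMap A _ a from rfl, ← ha, smul_smul,
        smul_smul, pow_add, map_mul, map_pow, map_pow]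
      congr 1
      ring
  obtain ⟨q, x', hx', he⟩ := this _ hbx
  obtain ⟨q', hq'⟩ := exists_pow_smul_bc_eq_zero g (g ^ q • x - x') (by
    rw [map_sub, bc_smul, he, sub_eq_zero]; rfl)
  refine ⟨q' + q, ?_⟩
  rw [smul_sub, sub_eq_zero, smul_smul, ← pow_add] at hq'
  rw [hq']
  exact Submodule.smul_mem _ _ hx'

end Glue

lemma projective_of_projector {M : Type u} [AddCommGroup M] [Module A M] [Module.Projective A M]
    (N : Submodule A M) (P : M →ₗ[A] M) (hid : ∀ x, P x - x ∈ N) (h0 : N ≤ LinearMap.ker P) :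
    Module.Projective A (M ⧸ N) :=
  Module.Projective.of_split (N.liftQ P h0) N.mkQ (Submodule.linearMap_qext _ (LinearMap.ext fun x ↦
    (Submodule.Quotient.eq _).2 (hid x)))

lemma sub_mem_of_basis (N : Submodule A (A ⊗[R] (Fin n → R)))
    (P : A ⊗[R] (Fin n → R) →ₗ[A] A ⊗[R] (Fin n → R)) (h : ∀ j, P (e j) - e j ∈ N)
    (x : A ⊗[R] (Fin n → R)) : P x - x ∈ N := by
  let D : A ⊗[R] (Fin n → R) →ₗ[A] A ⊗[R] (Fin n → R) := P - LinearMap.id
  suffices hD : D x ∈ N from hD
  rw [← sum_co_smul_e x, map_sum]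
  refine sum_mem fun j _ ↦ ?_
  rw [map_smul]
  exact N.smul_mem _ (h j)

lemma rankAtStalk_comap_eq {g : A} (N : Submodule A (A ⊗[R] (Fin n → R)))
    [Module.Finite A (A ⊗[R] (Fin n → R) ⧸ N)] [Module.Projective A (A ⊗[R] (Fin n → R) ⧸ N)]
    (F : Gr R n k (Localization.Away g))
    (hF : Submodule.span (Localization.Away g) (bc (loc R g) '' (N : Set _)) = F.toSubmodule)
    (q : PrimeSpectrum (Localization.Away g)) :
    Module.rankAtStalk (R := A) (A ⊗[R] (Fin n → R) ⧸ N)
      (PrimeSpectrum.comap (algebraMap A (Localization.Away g)) q) = k := by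
  have hker : LinearMap.ker (Module.Grassmannian.baseChangeMkQ (R := R) (Localization.Away g) N) =
      F.toSubmodule := by
    rw [ker_baseChangeMkQ_eq_span (R := R) (loc R g) rfl N]
    exact hF
  rw [← Module.rankAtStalk_baseChange (S := Localization.Away g),
    ← Module.rankAtStalk_eq_of_equiv ((Submodule.quotEquivOfEq _ _ hker.symm).trans
      (Module.Grassmannian.baseChangeMkQEquiv (R := R) (B := Localization.Away g) N))]
  exact F.rankAtStalk_eq q

lemma ker_le_of_gens {ι : Type u} [Fintype ι] (P : A ⊗[R] (Fin n → R) →ₗ[A] A ⊗[R] (Fin n → R))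
    (Y : ι → Finset (A ⊗[R] (Fin n → R))) (h : ∀ l, ∀ y ∈ Y l, P y = 0)
    {N : Submodule A (A ⊗[R] (Fin n → R))}
    (hN : ∀ x ∈ N, x ∈ Submodule.span A (⋃ l, (Y l : Set (A ⊗[R] (Fin n → R))))) :
    N ≤ LinearMap.ker P := fun x hx ↦ by
  refine Submodule.span_le.2 ?_ (hN x hx)
  intro y hy
  obtain ⟨l, hl⟩ := Set.mem_iUnion.1 hy
  exact h l y hl

lemma sum_smul_apply_eq {ι : Type u} [Fintype ι] {M : Type u} [AddCommGroup M] [Module A M]
    (c : ι → A) (d : ι → A) (hc : ∑ i, c i * d i = 1) (T : ι → M →ₗ[A] M) (x : M) :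
    (∑ i, c i • T i) x - x = ∑ i, c i • (T i x - d i • x) := by
  simp only [LinearMap.sum_apply, LinearMap.smul_apply, smul_sub, smul_smul,
    Finset.sum_sub_distrib, ← Finset.sum_smul, hc, one_smul]

lemma mem_span_of_local {ι : Type u} [Fintype ι] (f : ι → A)
    (hsum : ∀ m : ι → ℕ, ∃ c : ι → A, ∑ i, c i * f i ^ m i = 1)
    (Y : ι → Finset (A ⊗[R] (Fin n → R))) {x : A ⊗[R] (Fin n → R)}
    (hx : ∀ i, bc (loc R (f i)) x ∈
      Submodule.span (Localization.Away (f i)) (bc (loc R (f i)) '' (Y i : Set (A ⊗[R] (Fin n → R))))) :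
    x ∈ Submodule.span A (⋃ l, (Y l : Set (A ⊗[R] (Fin n → R)))) := by
  have hsp : ∀ i, ∃ M : ℕ, f i ^ M • x ∈ Submodule.span A (⋃ l, (Y l : Set (A ⊗[R] (Fin n → R)))) := by
    intro i
    obtain ⟨M, hM⟩ := exists_pow_smul_mem_span (R := R) (g := f i) (Y := (Y i : Set (A ⊗[R] (Fin n → R)))) x (hx i)
    exact ⟨M, Submodule.span_mono (Set.subset_iUnion (fun l ↦ (Y l : Set (A ⊗[R] (Fin n → R)))) i) hM⟩
  choose M hM using hsp
  obtain ⟨d, hd⟩ := hsum M
  rw [← one_smul A x, ← hd, Finset.sum_smul]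
  refine sum_mem fun i _ ↦ ?_
  rw [mul_smul]
  exact Submodule.smul_mem _ _ (hM i)

/-- gluing points with frames. -/
theorem exists_glue {ι : Type u} [Fintype ι] (f : ι → A) (hf : Ideal.span (Set.range f) = ⊤)
    (σ : ι → Fin k → Fin n) (W : ∀ i, Fin n → Fin k → Localization.Away (f i))
    (hW : ∀ i, IsFrame (σ i) (W i)) (hcompat : Compat (R := R) hW) :
    ∃ N : Gr R n k A, ∀ i, Module.Grassmannian.map (loc R (f i)) N = frameN (W i) (hW i) := by
  classical
  let N := glueSub (R := R) W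
  have hsum : ∀ m : ι → ℕ, ∃ c : ι → A, ∑ i, c i * f i ^ m i = 1 := by
    intro m
    have : Ideal.span (Set.range fun i ↦ f i ^ m i) = ⊤ := by
      by_contra hne
      obtain ⟨P, hP, hle⟩ := Ideal.exists_le_maximal _ hne
      refine hP.ne_top (top_le_iff.1 (hf ▸ Ideal.span_le.2 ?_))
      rintro _ ⟨i, rfl⟩
      exact hP.isPrime.mem_of_pow_mem _ (hle (Ideal.subset_span ⟨i, rfl⟩))
    exact Ideal.mem_span_range_iff_exists_fun.1 (this ▸ Submodule.mem_top)
  choose Y hYN hY using exists_fg hW hcompat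
  choose T m hTY hTe using fun i ↦ exists_projector hW hcompat i (Finset.univ.biUnion Y)
  obtain ⟨c, hc⟩ := hsum m
  let P : A ⊗[R] (Fin n → R) →ₗ[A] A ⊗[R] (Fin n → R) := ∑ i, c i • T i
  have hPid : ∀ x, P x - x ∈ N := sub_mem_of_basis N P (fun j ↦ by
    rw [sum_smul_apply_eq c (fun i ↦ f i ^ m i) hc T (e j)]
    exact sum_mem fun i _ ↦ N.smul_mem _ (hTe i j))
  have hP0 : N ≤ LinearMap.ker P := ker_le_of_gens P Y (fun l y hl ↦ by
    rw [LinearMap.sum_apply]
    refine Finset.sum_eq_zero fun i _ ↦ ?_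
    rw [LinearMap.smul_apply,
      hTY i y (hYN l hl) (Finset.mem_biUnion.2 ⟨l, Finset.mem_univ _, hl⟩), smul_zero])
    (fun x hx ↦ mem_span_of_local f hsum Y (fun i ↦ (hY i).ge (hx i)))
  have hproj : Module.Projective A (A ⊗[R] (Fin n → R) ⧸ N) := projective_of_projector N P hPid hP0
  have hfin : Module.Finite A (A ⊗[R] (Fin n → R) ⧸ N) :=
    Module.Finite.of_surjective N.mkQ (Submodule.mkQ_surjective N)
  have hrank : ∀ p, Module.rankAtStalk (R := A) (A ⊗[R] (Fin n → R) ⧸ N) p = k := by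
    intro p
    obtain ⟨i, hi⟩ : ∃ i, f i ∉ p.asIdeal := by
      by_contra hh
      push_neg at hh
      apply p.isPrime.ne_top
      rw [eq_top_iff, ← hf, Ideal.span_le]
      rintro _ ⟨i, rfl⟩
      exact hh i
    obtain ⟨q, rfl⟩ : p ∈ Set.range (PrimeSpectrum.comap (algebraMap A (Localization.Away (f i)))) := by
      rw [PrimeSpectrum.localization_away_comap_range (Localization.Away (f i)) (f i)]
      exact hi
    exact rankAtStalk_comap_eq N _ (span_glueSub hW hcompat i) q
  let G : Gr R n k A :=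
    { toSubmodule := N, finite_quotient := hfin, projective_quotient := hproj,
      rankAtStalk_eq := hrank }
  exact ⟨G, fun i ↦ Module.Grassmannian.ext (by rw [map_eq_span]; exact span_glueSub hW hcompat i)⟩

end Groth.Agent.Grass5.Free
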