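import Groth.Agent.Grass5.BasisLocus
import Groth.Agent.SchBasics.PullSpan
import Groth.Agent.QC70.Hom
import Mathlib.RingTheory.MvPolynomial.Basic

/-!
The standard affine charts of the Grassmannian functor of a quasi-coherent module.
-/

set_option autoImplicit false
set_option backward.isDefEq.respectTransparency false
set_option backward.isDefEq.respectTransparency.types false
set_option maxHeartbeats 400000

noncomputable section

universe u

open CategoryTheory CategoryTheory.Limits AlgebraicGeometry TopologicalSpace Opposite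
open Groth.Agent.QC70 Groth.Agent.SubMod72 Groth.Agent.Props58.LocFree

namespace Groth.Agent.Grass5.GrChart

open Grass5.QuotBC KerSub BasisLocus

variable {X : Scheme.{u}} {E : X.Modules} {U : X.Opens} {e : ℕ}

/-- The images in a quotient of the inverse images of sections. -/
def img {T : Scheme.{u}} {g : T ⟶ X} {L : T.Modules} (q : (Scheme.Modules.pullback g).obj E ⟶ L)
    (σ : Fin e → Γ(E, U)) (k : Fin e) : Γ(L, g ⁻¹ᵁ U) :=
  q.app (g ⁻¹ᵁ U) (Amp73.pullS g E U (σ k))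

/-- The inverse image of a section on everything. -/
abbrev pl {T : Scheme.{u}} (g : T ⟶ X) (E : X.Modules) {U : X.Opens} (hg : ⊤ ≤ g ⁻¹ᵁ U) (m : Γ(E, U)) :
    Γ((Scheme.Modules.pullback g).obj E, ⊤) :=
  res ((Scheme.Modules.pullback g).obj E) hg (Amp73.pullS g E U m)

theorem res_injective {T : Scheme.{u}} (L : T.Modules) {V W : T.Opens} (h : V ≤ W) (h' : W ≤ V) :
    Function.Injective (res L h) := fun a b hab => by
  have := congrArg (res L h') hab
  rwa [res_res, res_res, res_self, res_self] at this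

theorem hom_ext_pl [E.IsQuasicoherent] (hU : IsAffineOpen U) {T : Scheme.{u}} {g : T ⟶ X} {L : T.Modules}
    (hg : ⊤ ≤ g ⁻¹ᵁ U) (s s' : (Scheme.Modules.pullback g).obj E ⟶ L)
    (h : ∀ m, s.app ⊤ (pl g E hg m) = s'.app ⊤ (pl g E hg m)) : s = s' := by
  refine ((Scheme.Modules.pullbackPushforwardAdjunction g).homEquiv _ _).injective ?_
  refine Scheme.Modules.hom_ext _ _ fun W => ?_
  ext z
  have hA : ∀ (s : (Scheme.Modules.pullback g).obj E ⟶ L) (V : X.Opens) (m : Γ(E, V)),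
      ((Scheme.Modules.pullbackPushforwardAdjunction g).homEquiv _ _ s).app V m =
        s.app (g ⁻¹ᵁ V) (Amp73.pullS g E V m) := fun s V m => by
    rw [Adjunction.homEquiv_unit]
    rfl
  have hU' : ∀ m, s.app (g ⁻¹ᵁ U) (Amp73.pullS g E U m) = s'.app (g ⁻¹ᵁ U) (Amp73.pullS g E U m) := fun m => by
    refine res_injective L hg le_top ?_
    rw [← QC70.app_res, ← QC70.app_res]
    exact h m
  have key : (HomOn.ofHom ((Scheme.Modules.pullbackPushforwardAdjunction g).homEquiv _ _ s) U).app U le_rfl =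
      (HomOn.ofHom ((Scheme.Modules.pullbackPushforwardAdjunction g).homEquiv _ _ s') U).app U le_rfl := by
    refine LinearMap.ext fun m => ?_
    rw [HomOn.ofHom_app, HomOn.ofHom_app, hA, hA]
    exact hU' m
  have h2 := HomOn.ext_of_affine hU (isLocAt_of_isQuasicoherent E hU) _ _ key (W := W ⊓ U) inf_le_right
    (res E inf_le_left z)
  rw [HomOn.ofHom_app, HomOn.ofHom_app, hA, hA, ← Amp73.res_pullS, QC70.app_res, QC70.app_res] at h2
  rw [hA, hA]
  exact res_injective L (g.preimage_mono inf_le_left) (fun p hp => ⟨hp, hg (Set.mem_univ p)⟩) h2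

theorem pl_add {T : Scheme.{u}} (g : T ⟶ X) (hg : ⊤ ≤ g ⁻¹ᵁ U) (m m' : Γ(E, U)) :
    pl g E hg (m + m') = pl g E hg m + pl g E hg m' := by
  show res _ hg (Amp73.pullS g E U (m + m')) = _
  rw [Pinch99.pullS_add, res_add]

theorem appLE_top_top {T Y : Scheme.{u}} (h : T ⟶ Y) : h.appLE ⊤ ⊤ le_top = h.appTop := by
  rw [Scheme.Hom.appLE]
  exact (congrArg (h.app ⊤ ≫ ·) (T.presheaf.map_id _)).trans (Category.comp_id _)

theorem lift_eq (hU : IsAffineOpen U) {T : Scheme.{u}} {g : T ⟶ X} (hg : ⊤ ≤ g ⁻¹ᵁ U)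
    (l : T ⟶ Spec Γ(X, U)) (hfac : l ≫ hU.fromSpec = g) : l = T.toSpecΓ ≫ Spec.map (g.appLE U ⊤ hg) := by
  subst hfac
  refine ext_of_isAffine ?_
  rw [← cancel_epi (Scheme.ΓSpecIso Γ(X, U)).inv, Scheme.Hom.comp_appTop, ← Category.assoc _ (Spec.map _).appTop,
    ← Scheme.ΓSpecIso_inv_naturality, Category.assoc, Scheme.toSpecΓ_appTop, Iso.inv_hom_id, Category.comp_id,
    ← Omega57.fromSpec_appLE_top hU,
    ← Scheme.Hom.appLE_comp_appLE l hU.fromSpec U ⊤ ⊤ hU.fromSpec_preimage_self.ge le_top, appLE_top_top]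

theorem basisSet_img_iso {T : Scheme.{u}} {g : T ⟶ X} {L L' : T.Modules}
    (q : (Scheme.Modules.pullback g).obj E ⟶ L) (i : L ≅ L') (σ : Fin e → Γ(E, U)) :
    basisSet (img (q ≫ i.hom) σ) = basisSet (img q σ) :=
  basisSet_iso i (img q σ)

theorem img_quotBC {T T' : Scheme.{u}} {g : T ⟶ X} {h : T' ⟶ T} {L : T.Modules}
    (q : (Scheme.Modules.pullback g).obj E ⟶ L) (σ : Fin e → Γ(E, U)) (k : Fin e) :
    img (Grass.quotBC (rfl : h ≫ g = h ≫ g) q) σ k = Amp73.pullS h L (g ⁻¹ᵁ U) (img q σ k) := by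
  refine Eq.trans ?_ (quotBC_bcS (rfl : h ≫ g = h ≫ g) q (g ⁻¹ᵁ U) (Amp73.pullS g E U (σ k)))
  rw [pullS_eq_bcS, res_self]
  rfl

theorem basisSet_img_quotBC {T T' : Scheme.{u}} {g : T ⟶ X} {g' : T' ⟶ X} {h : T' ⟶ T} (w : h ≫ g = g')
    {L : T.Modules} (hL : FlatMod.IsFinLocFreeOfRank e L)
    (q : (Scheme.Modules.pullback g).obj E ⟶ L) (σ : Fin e → Γ(E, U)) :
    basisSet (img (Grass.quotBC w q) σ) = h ⁻¹' basisSet (img q σ) := by
  subst w
  rw [show img (Grass.quotBC (rfl : h ≫ g = h ≫ g) q) σ =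
    fun k => Amp73.pullS h L (g ⁻¹ᵁ U) (img q σ k) from funext (img_quotBC q σ)]
  exact basisSet_pullS hL _ h

/-- The open subset on which the sections give a basis of the quotient. -/
def locus {T : Over X} (P : GrFun.Obj E e T) (σ : Fin e → Γ(E, U)) : T.left.Opens :=
  ⟨basisSet (img (qπ P.1) σ), isOpen_basisSet P.2 _⟩

theorem coe_locus_of_kerSub {T : Over X} (P : GrFun.Obj E e T) (σ : Fin e → Γ(E, U)) {L : T.left.Modules}
    (q : (Scheme.Modules.pullback T.hom).obj E ⟶ L) [Epi q] (hq : kerSub q = P.1) :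
    (locus P σ : Set T.left) = basisSet (img q σ) := by
  obtain ⟨i, hi⟩ := exists_iso_of_kerSub_eq (q := qπ P.1) (q' := q) ((kerSub_qπ P.1).trans hq.symm)
  rw [← hi, basisSet_img_iso]
  rfl

theorem locus_map {T T' : Over X} (t : T' ⟶ T) (P : GrFun.Obj E e T) (σ : Fin e → Γ(E, U)) :
    (locus ((GrFun.grFun E e).map t.op P) σ : Set T'.left) = t.left ⁻¹' locus P σ := by
  haveI := epi_quotBC (Over.w t) (qπ P.1)
  rw [coe_locus_of_kerSub _ σ (Grass.quotBC (Over.w t) (qπ P.1)) rfl,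
    basisSet_img_quotBC (Over.w t) P.2]
  rfl

section Chart

variable (hU : IsAffineOpen U) (σ : Fin e → Γ(E, U))

/-- The relations of the chart. -/
inductive Rel : MvPolynomial (Γ(E, U) × Fin e) Γ(X, U) → Prop
  | add (m m' : Γ(E, U)) (i : Fin e) :
      Rel (MvPolynomial.X (m + m', i) - MvPolynomial.X (m, i) - MvPolynomial.X (m', i))
  | smul (r : Γ(X, U)) (m : Γ(E, U)) (i : Fin e) :
      Rel (MvPolynomial.X (r • m, i) - MvPolynomial.C r * MvPolynomial.X (m, i))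
  | sec (k i : Fin e) : Rel (MvPolynomial.X (σ k, i) - MvPolynomial.C (if i = k then 1 else 0))

/-- The coordinate ring of the chart. -/
abbrev CR : CommRingCat.{u} := CommRingCat.of (MvPolynomial (Γ(E, U) × Fin e) Γ(X, U) ⧸ Ideal.span {p | Rel σ p})

/-- The structure map of the chart. -/
def ρ : Γ(X, U) ⟶ CR σ := CommRingCat.ofHom ((Ideal.Quotient.mk _).comp MvPolynomial.C)

/-- The coordinates. -/
def coord (m : Γ(E, U)) (i : Fin e) : CR σ := Ideal.Quotient.mk _ (MvPolynomial.X (m, i))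

theorem mk_rel {p : MvPolynomial (Γ(E, U) × Fin e) Γ(X, U)} (h : Rel σ p) :
    Ideal.Quotient.mk (Ideal.span {p | Rel σ p}) p = 0 :=
  Ideal.Quotient.eq_zero_iff_mem.mpr (Ideal.subset_span h)

theorem coord_add (m m' : Γ(E, U)) (i : Fin e) : coord σ (m + m') i = coord σ m i + coord σ m' i := by
  have h := mk_rel σ (Rel.add m m' i)
  rw [map_sub, map_sub, sub_sub, sub_eq_zero] at h
  exact h

theorem coord_smul (r : Γ(X, U)) (m : Γ(E, U)) (i : Fin e) : coord σ (r • m) i = ρ σ r * coord σ m i := by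
  have h := mk_rel σ (Rel.smul r m i)
  rw [map_sub, map_mul, sub_eq_zero] at h
  exact h

theorem coord_sec (k i : Fin e) : coord σ (σ k) i = if i = k then 1 else 0 := by
  have h := mk_rel σ (Rel.sec k i)
  rw [map_sub, sub_eq_zero] at h
  refine h.trans ?_
  split_ifs <;> simp

/-- The structure morphism of the chart. -/
abbrev g₀ : Spec (CR σ) ⟶ X := Spec.map (ρ σ) ≫ hU.fromSpec

theorem top_le_g₀ : (⊤ : (Spec (CR σ)).Opens) ≤ g₀ hU σ ⁻¹ᵁ U :=
  (Spec.map (ρ σ)).preimage_mono hU.fromSpec_preimage_self.ge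

/-- Functions on the chart. -/
abbrev ιC : CR σ ⟶ Γ(Spec (CR σ), ⊤) := (Scheme.ΓSpecIso (CR σ)).inv

theorem g₀_appLE : (g₀ hU σ).appLE U ⊤ (top_le_g₀ hU σ) = ρ σ ≫ ιC σ := by
  rw [← Scheme.Hom.appLE_comp_appLE (Spec.map (ρ σ)) hU.fromSpec U ⊤ ⊤ hU.fromSpec_preimage_self.ge le_top,
    Omega57.fromSpec_appLE_top]
  refine Eq.trans ?_ (Scheme.ΓSpecIso_inv_naturality (ρ σ)).symm
  congr 1

variable [E.IsQuasicoherent]

theorem exists_q₀ : ∃ q : (Scheme.Modules.pullback (g₀ hU σ)).obj E ⟶ FlatMod.freeMod (Spec (CR σ)) e,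
    ∀ m, q.app ⊤ (pl (g₀ hU σ) E (top_le_g₀ hU σ) m) = ∑ i, ιC σ (coord σ m i) • unitVec (Spec (CR σ)) e i := by
  have := QCPull72.isQuasicoherent_pullback (g₀ hU σ) E
  let gg : Γ(E, U) →+ Γ(FlatMod.freeMod (Spec (CR σ)) e, ⊤) :=
    AddMonoidHom.mk' (fun m => ∑ i, ιC σ (coord σ m i) • unitVec (Spec (CR σ)) e i) fun m m' => by
      simp only [coord_add, map_add, add_smul, Finset.sum_add_distrib]
  obtain ⟨l, hl⟩ := SchBasics.exists_linear_pullSect (g₀ hU σ) E (FlatMod.freeMod (Spec (CR σ)) e)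
    (isAffineOpen_top _) hU (top_le_g₀ hU σ) gg fun r m => by
      show (∑ i, ιC σ (coord σ (r • m) i) • unitVec (Spec (CR σ)) e i) =
        (g₀ hU σ).appLE U ⊤ (top_le_g₀ hU σ) r • ∑ i, ιC σ (coord σ m i) • unitVec (Spec (CR σ)) e i
      rw [Finset.smul_sum, g₀_appLE]
      refine Finset.sum_congr rfl fun i _ => ?_
      rw [coord_smul, map_mul, mul_smul]
      rfl
  refine ⟨(HomOn.ofLinear (isAffineOpen_top _) l).toHom, fun m => ?_⟩
  rw [HomOn.toHom_app, HomOn.ofLinear_app_self]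
  exact hl m

/-- The universal quotient on the chart. -/
def q₀ : (Scheme.Modules.pullback (g₀ hU σ)).obj E ⟶ FlatMod.freeMod (Spec (CR σ)) e :=
  (exists_q₀ hU σ).choose

theorem q₀_pl (m : Γ(E, U)) : (q₀ hU σ).app ⊤ (pl (g₀ hU σ) E (top_le_g₀ hU σ) m) =
    ∑ i, ιC σ (coord σ m i) • unitVec (Spec (CR σ)) e i :=
  (exists_q₀ hU σ).choose_spec m

theorem q₀_pl_sec (k : Fin e) :
    (q₀ hU σ).app ⊤ (pl (g₀ hU σ) E (top_le_g₀ hU σ) (σ k)) = unitVec (Spec (CR σ)) e k := by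
  rw [q₀_pl, Finset.sum_eq_single k]
  · rw [coord_sec, if_pos rfl, map_one, one_smul]
  · intro i _ hik
    rw [coord_sec, if_neg hik, map_zero, zero_smul]
  · exact fun h => absurd (Finset.mem_univ _) h

theorem epi_q₀ : Epi (q₀ hU σ) := by
  refine QC70.epi_of_locally_surjective _ fun W z p hp => ?_
  obtain ⟨a, ha⟩ := (stalkBasis_unitVec (T := Spec (CR σ)) e).exists_comb (le_top : W ≤ ⊤) z
  refine ⟨W, le_rfl, ∑ i, a i • res _ (le_top : W ≤ ⊤) (pl (g₀ hU σ) E (top_le_g₀ hU σ) (σ i)), hp, ?_⟩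
  rw [res_self, map_sum, ← ha]
  exact Finset.sum_congr rfl fun i _ => by rw [Scheme.Modules.Hom.app_smul, QC70.app_res, q₀_pl_sec]

theorem isFinLocFreeOfRank_free (T : Scheme.{u}) (n : ℕ) :
    FlatMod.IsFinLocFreeOfRank n (FlatMod.freeMod T n) :=
  fun _ => ⟨⊤, trivial, nonempty_iso_of_stalkBasis (stalkBasis_unitVec n)⟩

/-- The chart over the base. -/
abbrev W : Over X := Over.mk (g₀ hU σ)

/-- The universal element of the chart. -/
def P₀ : GrFun.Obj E e (W hU σ) :=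
  haveI := epi_q₀ hU σ
  ⟨kerSub (q₀ hU σ), isFinLocFreeOfRank_quot _ (isFinLocFreeOfRank_free _ e)⟩

variable {T : Scheme.{u}} {g : T ⟶ X} {h : T ⟶ Spec (CR σ)} (w : h ≫ g₀ hU σ = g) (hg : ⊤ ≤ g ⁻¹ᵁ U)

/-- The basis of the pulled back quotient. -/
abbrev t₀ (h : T ⟶ Spec (CR σ)) (i : Fin e) : Γ((Scheme.Modules.pullback h).obj (FlatMod.freeMod (Spec (CR σ)) e), ⊤) :=
  Amp73.pullS h (FlatMod.freeMod (Spec (CR σ)) e) ⊤ (unitVec (Spec (CR σ)) e i)

theorem stalkBasis_t₀ (h : T ⟶ Spec (CR σ)) : StalkBasis (t₀ σ h) :=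
  Pinch99.stalkBasis_pullS h (stalkBasis_unitVec e)

include w in
theorem quotBC_pl (m : Γ(E, U)) :
    (Grass.quotBC w (q₀ hU σ)).app ⊤ (pl g E hg m) = ∑ i, h.appTop (ιC σ (coord σ m i)) • t₀ σ h i := by
  subst w
  have e1 : pl (h ≫ g₀ hU σ) E hg m =
      bcS (rfl : h ≫ g₀ hU σ = h ≫ g₀ hU σ) ⊤ (pl (g₀ hU σ) E (top_le_g₀ hU σ) m) := by
    rw [pl, pl, bcS_res, pullS_eq_bcS, res_self]
    rfl
  rw [e1]
  refine (quotBC_bcS (rfl : h ≫ g₀ hU σ = h ≫ g₀ hU σ) (q₀ hU σ) ⊤ _).trans ?_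
  rw [q₀_pl, Pinch99.pullS_sum]
  exact Finset.sum_congr rfl fun i _ => Amp73.pullS_smul h _ ⊤ _ _

include w hg in
theorem quotBC_pl_sec (k : Fin e) :
    (Grass.quotBC w (q₀ hU σ)).app ⊤ (pl g E hg (σ k)) = t₀ σ h k := by
  rw [quotBC_pl, Finset.sum_eq_single k]
  · rw [coord_sec, if_pos rfl, map_one, map_one, one_smul]
  · intro i _ hik
    rw [coord_sec, if_neg hik, map_zero, map_zero, zero_smul]
  · exact fun h => absurd (Finset.mem_univ _) h

include w in
theorem appTop_ρ (r : Γ(X, U)) : h.appTop (ιC σ (ρ σ r)) = g.appLE U ⊤ hg r := by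
  subst w
  rw [← Scheme.Hom.appLE_comp_appLE h (g₀ hU σ) U ⊤ ⊤ (top_le_g₀ hU σ) le_top, g₀_appLE]
  show h.appTop _ = h.appLE ⊤ ⊤ le_top _
  rw [appLE_top_top]
  rfl

theorem top_le_of_comp (v : Over.mk g ⟶ W hU σ) : ⊤ ≤ g ⁻¹ᵁ U := by
  have hw : v.left ≫ g₀ hU σ = g := Over.w v
  rw [← hw]
  exact v.left.preimage_mono (top_le_g₀ hU σ)

theorem map_injective {T : Over X} (a b : T ⟶ W hU σ)
    (hab : (GrFun.grFun E e).map a.op (P₀ hU σ) = (GrFun.grFun E e).map b.op (P₀ hU σ)) : a = b := by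
  haveI := epi_q₀ hU σ
  haveI := epi_quotBC (Over.w a) (q₀ hU σ)
  haveI := epi_quotBC (Over.w b) (q₀ hU σ)
  have hg : ⊤ ≤ T.hom ⁻¹ᵁ U := by
    rw [← (Over.w a : a.left ≫ g₀ hU σ = T.hom)]
    exact a.left.preimage_mono (top_le_g₀ hU σ)
  have hk : kerSub (Grass.quotBC (Over.w a) (q₀ hU σ)) = kerSub (Grass.quotBC (Over.w b) (q₀ hU σ)) := by
    have := congrArg Subtype.val hab
    rw [GrFun.map_val, GrFun.map_val] at this
    rw [← pullK_kerSub, ← pullK_kerSub]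
    exact this
  obtain ⟨i, hi⟩ := exists_iso_of_kerSub_eq hk
  have hit : ∀ k, i.hom.app ⊤ (t₀ σ a.left k) = t₀ σ b.left k := fun k => by
    rw [← quotBC_pl_sec hU σ (Over.w a) hg k, ← quotBC_pl_sec hU σ (Over.w b) hg k]
    exact ConcreteCategory.congr_hom (congrArg (fun φ => Scheme.Modules.Hom.app φ ⊤) hi) _
  have hc : ∀ m j, a.left.appTop (ιC σ (coord σ m j)) = b.left.appTop (ιC σ (coord σ m j)) := by
    intro m
    refine congrFun ((stalkBasis_t₀ σ b.left).eq_of_comb (W := ⊤) le_rfl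
      (a := fun j => a.left.appTop (ιC σ (coord σ m j))) (b := fun j => b.left.appTop (ιC σ (coord σ m j))) ?_)
    simp only [res_self]
    refine Eq.trans ?_ (quotBC_pl hU σ (Over.w b) hg m)
    refine Eq.trans ?_ (ConcreteCategory.congr_hom (congrArg (fun φ => Scheme.Modules.Hom.app φ ⊤) hi) _)
    refine Eq.trans ?_ (congrArg (i.hom.app ⊤) (quotBC_pl hU σ (Over.w a) hg m)).symm
    rw [map_sum]
    refine Finset.sum_congr rfl fun j _ => Eq.trans ?_ (Scheme.Modules.Hom.app_smul i.hom _ _).symm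
    rw [hit]
    rfl
  refine Over.OverMorphism.ext (ext_of_isAffine (Y := Spec (CR σ)) ?_)
  rw [← cancel_epi (Scheme.ΓSpecIso (CR σ)).inv]
  refine CommRingCat.hom_ext (Ideal.Quotient.ringHom_ext (MvPolynomial.ringHom_ext (fun r => ?_) fun mi => ?_))
  · exact (appTop_ρ hU σ (Over.w a) hg r).trans (appTop_ρ hU σ (Over.w b) hg r).symm
  · exact hc mi.1 mi.2

theorem exists_map_eq {T : Over X} (P : GrFun.Obj E e T) (hP : ∀ p, p ∈ locus P σ) :
    ∃ a : T ⟶ W hU σ, (GrFun.grFun E e).map a.op (P₀ hU σ) = P := by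
  classical
  have hg : ⊤ ≤ T.hom ⁻¹ᵁ U := fun p _ => (hP p).1
  let t : Fin e → Γ(quot P.1, ⊤) := fun k => res _ hg (img (qπ P.1) σ k)
  have ht : StalkBasis t := (stalkBasis_iff t).mpr (by
    rw [basisSet_res]
    exact fun p _ => ⟨trivial, hP p⟩)
  choose a ha using fun m => ht.exists_comb (le_refl (⊤ : T.left.Opens)) ((qπ P.1).app ⊤ (pl T.hom E hg m))
  simp only [res_self] at ha
  have hpl : ∀ k, (qπ P.1).app ⊤ (pl T.hom E hg (σ k)) = t k := fun k => QC70.app_res _ _ _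
  have huniq : ∀ {b c : Fin e → Γ(T.left, ⊤)}, ∑ i, b i • t i = ∑ i, c i • t i → b = c := fun {b c} h =>
    ht.eq_of_comb (le_refl (⊤ : T.left.Opens)) (by simpa only [res_self] using h)
  have hadd : ∀ m m' i, a (m + m') i = a m i + a m' i := fun m m' => by
    refine congrFun (huniq (b := a (m + m')) (c := fun i => a m i + a m' i) ?_)
    simp only [add_smul, Finset.sum_add_distrib, ha]
    rw [← map_add, ← pl_add]
  have hsmul : ∀ r m i, a (r • m) i = T.hom.appLE U ⊤ hg r * a m i := fun r m => by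
    refine congrFun (huniq (b := a (r • m)) (c := fun i => T.hom.appLE U ⊤ hg r * a m i) ?_)
    simp only [mul_smul, ← Finset.smul_sum, ha]
    rw [← Scheme.Modules.Hom.app_smul]
    congr 1
    show res _ hg (Amp73.pullS T.hom E U (r • m)) = _
    rw [Amp73.pullS_smul, res_smul]
    rfl
  have hsec : ∀ k i, a (σ k) i = if i = k then 1 else 0 := fun k => by
    refine congrFun (huniq (b := a (σ k)) (c := fun i => if i = k then 1 else 0) ?_)
    simp only [ha, hpl, ite_smul, one_smul, zero_smul, Finset.sum_ite_eq', Finset.mem_univ, if_true]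
  let ev : MvPolynomial (Γ(E, U) × Fin e) Γ(X, U) →+* Γ(T.left, ⊤) :=
    MvPolynomial.eval₂Hom (T.hom.appLE U ⊤ hg).hom fun mi => a mi.1 mi.2
  have hX : ∀ mi, ev (MvPolynomial.X mi) = a mi.1 mi.2 := fun mi => MvPolynomial.eval₂Hom_X' _ _ mi
  have hC : ∀ r, ev (MvPolynomial.C r) = T.hom.appLE U ⊤ hg r := fun r => MvPolynomial.eval₂Hom_C _ _ r
  let φ : CR σ ⟶ Γ(T.left, ⊤) := CommRingCat.ofHom (Ideal.Quotient.lift _ ev (by
    intro p hp
    have hle : Ideal.span {p | Rel σ p} ≤ RingHom.ker ev := by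
      rw [Ideal.span_le]
      intro p hp
      rw [SetLike.mem_coe, RingHom.mem_ker]
      cases hp with
      | add m m' i =>
        rw [map_sub, map_sub, hX, hX, hX]
        show a (m + m') i - a m i - a m' i = 0
        rw [hadd, add_sub_cancel_left, sub_self]
      | smul r m i =>
        rw [map_sub, map_mul, hX, hX, hC]
        show a (r • m) i - T.hom.appLE U ⊤ hg r * a m i = 0
        rw [hsmul, sub_self]
      | sec k i =>
        rw [map_sub, hX, hC]
        show a (σ k) i - T.hom.appLE U ⊤ hg _ = 0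
        rw [hsec]
        split_ifs <;> simp
    exact hle hp))
  let h : T.left ⟶ Spec (CR σ) := T.left.toSpecΓ ≫ Spec.map φ
  have hφ : ιC σ ≫ h.appTop = φ := by
    rw [Scheme.Hom.comp_appTop, ← Category.assoc, ← Scheme.ΓSpecIso_inv_naturality, Category.assoc,
      Scheme.toSpecΓ_appTop, Iso.inv_hom_id, Category.comp_id]
  have hw : h ≫ g₀ hU σ = T.hom := by
    have hρ : ρ σ ≫ φ = T.hom.appLE U ⊤ hg := CommRingCat.hom_ext (RingHom.ext fun r =>
      MvPolynomial.eval₂Hom_C _ _ r)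
    have hr : Set.range T.hom ⊆ Set.range hU.fromSpec := by
      rw [hU.range_fromSpec]
      rintro _ ⟨p, rfl⟩
      exact hg (Set.mem_univ p)
    have hl : IsOpenImmersion.lift hU.fromSpec T.hom hr = T.left.toSpecΓ ≫ Spec.map (T.hom.appLE U ⊤ hg) :=
      lift_eq hU hg _ (IsOpenImmersion.lift_fac hU.fromSpec T.hom hr)
    show (T.left.toSpecΓ ≫ Spec.map φ) ≫ Spec.map (ρ σ) ≫ hU.fromSpec = T.hom
    rw [Category.assoc, ← Spec.map_comp_assoc, hρ, ← Category.assoc, ← hl, IsOpenImmersion.lift_fac]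
  refine ⟨Over.homMk h hw, Subtype.ext ?_⟩
  haveI := epi_q₀ hU σ
  rw [GrFun.map_val]
  show pullK hw (kerSub (q₀ hU σ)) = P.1
  rw [pullK_kerSub]
  let i := isoOfBasis (stalkBasis_t₀ σ h) ht
  have hi : Grass.quotBC hw (q₀ hU σ) ≫ i.hom = qπ P.1 := by
    refine hom_ext_pl hU hg _ _ fun m => ?_
    show i.hom.app ⊤ ((Grass.quotBC hw (q₀ hU σ)).app ⊤ (pl T.hom E hg m)) = _
    rw [quotBC_pl hU σ hw hg m, map_sum, ← ha m]
    refine Finset.sum_congr rfl fun j _ => ?_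
    rw [Scheme.Modules.Hom.app_smul, show i.hom.app ⊤ (t₀ σ h j) = t j from ofBasis_app (stalkBasis_t₀ σ h) _ j]
    congr 1
    refine (congr($hφ (coord σ m j))).trans ?_
    exact MvPolynomial.eval₂Hom_X' _ _ _
  rw [← kerSub_comp_of_isIso _ i.hom, hi, kerSub_qπ]

theorem locus_P₀ (p : Spec (CR σ)) : p ∈ locus (P₀ hU σ) σ := by
  haveI := epi_q₀ hU σ
  show p ∈ (locus (P₀ hU σ) σ : Set (W hU σ).left)
  rw [coe_locus_of_kerSub (P₀ hU σ) σ (q₀ hU σ) rfl]
  have hb := (stalkBasis_iff _).mp (stalkBasis_unitVec (T := Spec (CR σ)) e) (Set.mem_univ p)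
  rw [show unitVec (Spec (CR σ)) e = fun k => res _ (top_le_g₀ hU σ) (img (q₀ hU σ) σ k) from
    funext fun k => (q₀_pl_sec hU σ k).symm.trans (QC70.app_res _ _ _), basisSet_res] at hb
  exact hb.2

theorem exists_map_eq_iff {T : Over X} (P : GrFun.Obj E e T) :
    (∃ a : T ⟶ W hU σ, (GrFun.grFun E e).map a.op (P₀ hU σ) = P) ↔ ∀ p, p ∈ locus P σ := by
  refine ⟨?_, exists_map_eq hU σ P⟩
  rintro ⟨a, rfl⟩ p
  rw [← SetLike.mem_coe, locus_map]
  exact locus_P₀ hU σ _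

end Chart

end Groth.Agent.Grass5.GrChart
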