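import Groth.Agent.Grass5.KerSub
import Groth.Agent.Grass5.FlagStep
import Mathlib.AlgebraicGeometry.Sites.BigZariski

/-!
The Grassmannian functor of a module is a Zariski sheaf.
-/

set_option autoImplicit false
set_option backward.isDefEq.respectTransparency false
set_option backward.isDefEq.respectTransparency.types false
set_option maxHeartbeats 400000

noncomputable section

universe u

open CategoryTheory CategoryTheory.Limits AlgebraicGeometry TopologicalSpace Opposite
open Groth.Agent.QC70 Groth.Agent.SubMod72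

namespace Groth.Agent.Grass5.GrFun

open Grass5.QuotBC KerSub

/-- A module which is locally free after pulling back by an open immersion is locally free on the image. -/
theorem exists_free_near {T T' : Scheme.{u}} (f : T' ⟶ T) [IsOpenImmersion f] {n : ℕ} {L : T.Modules}
    (h : FlatMod.IsFinLocFreeOfRank n ((Scheme.Modules.pullback f).obj L)) (y : T') :
    ∃ U : T.Opens, f y ∈ U ∧ Nonempty (L.restrict U.ι ≅ FlatMod.freeMod (↑U) n) := by
  obtain ⟨V, hy, ⟨i⟩⟩ := h y
  let W := f ''ᵁ V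
  have hr : Set.range W.ι ⊆ Set.range (V.ι ≫ f) := by
    rw [Scheme.Opens.range_ι, Scheme.Hom.comp_base, TopCat.coe_comp, Set.range_comp, Scheme.Opens.range_ι]
    exact subset_of_eq rfl
  let φ := IsOpenImmersion.lift (V.ι ≫ f) W.ι hr
  have hφ : φ ≫ V.ι ≫ f = W.ι := IsOpenImmersion.lift_fac _ _ hr
  refine ⟨W, ⟨y, hy, rfl⟩, ⟨(Scheme.Modules.restrictFunctorIsoPullback W.ι).app L ≪≫
    ((Scheme.Modules.pullbackCongr hφ).app L).symm ≪≫ ((Scheme.Modules.pullbackComp φ (V.ι ≫ f)).app L).symm ≪≫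
    (Scheme.Modules.pullback φ).mapIso (((Scheme.Modules.pullbackComp V.ι f).app L).symm ≪≫
      ((Scheme.Modules.restrictFunctorIsoPullback V.ι).app _).symm ≪≫ i) ≪≫
    FrB.pullbackFreeIso φ n⟩⟩

theorem pullK_two {X T T' T'' : Scheme.{u}} {g : T ⟶ X} {g' : T' ⟶ X} {g'' : T'' ⟶ X} {E : X.Modules}
    {h : T' ⟶ T} (w : h ≫ g = g') {h' : T'' ⟶ T'} (w' : h' ≫ g' = g'') {k : T'' ⟶ T} (hk : h' ≫ h = k)
    (wk : k ≫ g = g'') (P : Sub ((Scheme.Modules.pullback g).obj E)) :
    pullK w' (pullK w P) = pullK wk P := by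
  subst hk
  exact pullK_pullK w w' wk P

variable {X : Scheme.{u}} (E : X.Modules) (e : ℕ)

/-- The kernels of rank `e` locally free quotients. -/
abbrev Obj (T : Over X) : Type u :=
  {P : Sub ((Scheme.Modules.pullback T.hom).obj E) // FlatMod.IsFinLocFreeOfRank e (quot P)}

/-- The Grassmannian functor. -/
def grFun : (Over X)ᵒᵖ ⥤ Type u where
  obj T := Obj E e T.unop
  map t := TypeCat.ofHom fun P => ⟨pullK (Over.w t.unop) P.1,
    isFinLocFreeOfRank_pullK _ P.2 (isFinLocFreeOfRank_pullback _ P.2)⟩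
  map_id T := ConcreteCategory.hom_ext _ _ fun P => Subtype.ext (pullK_id _ P.1)
  map_comp t t' := ConcreteCategory.hom_ext _ _ fun P =>
    Subtype.ext (pullK_pullK _ (Over.w t'.unop) _ P.1).symm

variable {E e}

theorem map_val {T T' : Over X} (t : T' ⟶ T) (P : Obj E e T) :
    ((grFun E e).map t.op P).1 = pullK (Over.w t) P.1 := rfl

theorem isSheaf_grFun : Presheaf.IsSheaf (Scheme.zariskiTopology.over X) (grFun E e) := by
  rw [isSheaf_iff_isSheaf_of_type]
  intro T R hR x hx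
  rw [GrothendieckTopology.mem_over_iff, Scheme.mem_grothendieckTopology_iff] at hR
  obtain ⟨𝒰, h𝒰⟩ := hR
  let Ti : 𝒰.I₀ → Over X := fun i => Over.mk (𝒰.f i ≫ T.hom)
  let fi : ∀ i, Ti i ⟶ T := fun i => Over.homMk (𝒰.f i) rfl
  have hoi : ∀ i, IsOpenImmersion (fi i).left := fun i => 𝒰.map_prop i
  have hfi : ∀ i, R.arrows (fi i) := fun i => (Sieve.overEquiv_iff R (𝒰.f i)).mp (h𝒰 _ _ ⟨i⟩)
  let W : 𝒰.I₀ → T.left.Opens := fun i => (fi i).left.opensRange
  have hWcov : ∀ p : T.left, ∃ i, p ∈ W i := fun p => by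
    obtain ⟨i, y, hy⟩ := 𝒰.exists_eq p
    exact ⟨i, y, hy⟩
  let Pi : ∀ i, Sub ((Scheme.Modules.pullback T.hom).obj E) := fun i => comapK (Over.w (fi i)) (x (fi i) (hfi i)).1
  have hagree : ∀ i j, AgreeOn (W i ⊓ W j) (Pi i) (Pi j) := by
    intro i j V hV
    let K : Over X := Over.mk (V.ι ≫ T.hom)
    let k : K ⟶ T := Over.homMk V.ι rfl
    have hfac : ∀ l, V ≤ W l → ∃ a : K ⟶ Ti l, a ≫ fi l = k := by
      intro l hl
      have hr : Set.range V.ι ⊆ Set.range (fi l).left := by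
        rw [Scheme.Opens.range_ι]
        exact hl
      haveI := hoi l
      have h2 : IsOpenImmersion.lift (fi l).left V.ι hr ≫ (fi l).left = V.ι := IsOpenImmersion.lift_fac _ _ hr
      exact ⟨Over.homMk (IsOpenImmersion.lift (fi l).left V.ι hr) (by
        show _ ≫ (fi l).left ≫ T.hom = V.ι ≫ T.hom
        rw [← Category.assoc, h2]), Over.OverMorphism.ext h2⟩
    obtain ⟨a, ha⟩ := hfac i (hV.trans inf_le_left)
    obtain ⟨b, hb⟩ := hfac j (hV.trans inf_le_right)
    have hz : (grFun E e).map a.op (x (fi i) (hfi i)) = (grFun E e).map b.op (x (fi j) (hfi j)) :=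
      hx a b (hfi i) (hfi j) (ha.trans hb.symm)
    haveI := hoi i
    haveI := hoi j
    have key : ∀ l (c : K ⟶ Ti l) (k' : K ⟶ T), k' = k → c ≫ fi l = k' → ∀ (y : Γ((Scheme.Modules.pullback T.hom).obj E, V)),
        (y ∈ (Pi l).carrier V ↔
          bcS (Over.w k') V y ∈ ((grFun E e).map c.op (x (fi l) (hfi l))).1.carrier (k'.left ⁻¹ᵁ V)) := by
      intro l c k' hk' hc y
      haveI := hoi l
      have hcl : c.left ≫ (fi l).left = k.left := congrArg Over.Hom.left (hc.trans hk')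
      haveI : IsOpenImmersion (c.left ≫ (fi l).left) := by rw [hcl]; exact inferInstanceAs (IsOpenImmersion V.ι)
      haveI : IsOpenImmersion c.left := IsOpenImmersion.of_comp _ (fi l).left
      have hVk : (fi l).left ⁻¹ᵁ V ≤ c.left.opensRange := by
        intro p hp
        obtain ⟨q, hq⟩ : ((fi l).left p) ∈ Set.range k.left := (Scheme.Opens.range_ι V).ge hp
        refine ⟨q, (fi l).left.isOpenEmbedding.injective ?_⟩
        rw [← hq, ← hcl]
        rfl
      show bcS (Over.w (fi l)) V y ∈ (x (fi l) (hfi l)).1.carrier _ ↔ _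
      rw [← bcS_mem_pullK (Over.w c) hVk, map_val]
      subst hc
      rw [bcS_bcS (Over.w (fi l)) (Over.w c) (Over.w (c ≫ fi l))]
      rfl
    refine SetLike.ext fun y => ?_
    rw [key i a k rfl ha y, key j b k rfl hb y, hz]
  obtain ⟨Q, hQ⟩ := exists_glueSub W Pi hagree
  have hres : ∀ i, pullK (Over.w (fi i)) Q = (x (fi i) (hfi i)).1 := by
    intro i
    haveI := hoi i
    refine ext_of_bcS (Over.w (fi i)) fun V y hV => ?_
    rw [bcS_mem_pullK (Over.w (fi i)) hV, hQ i V hV]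
    exact Iff.rfl
  have hrank : FlatMod.IsFinLocFreeOfRank e (quot Q) := by
    intro p
    obtain ⟨i, y, rfl⟩ := hWcov p
    haveI := hoi i
    haveI := epi_quotBC (Over.w (fi i)) (qπ Q)
    obtain ⟨j, -⟩ := exists_iso_of_kerSub_eq (q := qπ (x (fi i) (hfi i)).1)
      (q' := Grass.quotBC (Over.w (fi i)) (qπ Q)) ((kerSub_qπ _).trans (hres i).symm)
    exact exists_free_near (fi i).left (isFinLocFreeOfRank_of_iso j (x (fi i) (hfi i)).2) y
  have sep : ∀ (S : Over X) (A B : Sub ((Scheme.Modules.pullback S.hom).obj E))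
      (ι : Type u) (Si : ι → Over X) (s : ∀ i, Si i ⟶ S), (∀ i, IsOpenImmersion (s i).left) →
      (∀ p, ∃ i, p ∈ Set.range (s i).left) →
      (∀ i, pullK (Over.w (s i)) A = pullK (Over.w (s i)) B) → A = B := by
    intro S A B ι Si s hs hcov h
    refine eq_of_agreeOn_cover (fun i => (haveI := hs i; (s i).left.opensRange))
      (fun p => hcov p) fun i V hV => ?_
    haveI := hs i
    refine SetLike.ext fun y => ?_
    rw [← bcS_mem_pullK (Over.w (s i)) hV, ← bcS_mem_pullK (Over.w (s i)) hV, h i]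
  refine ⟨⟨Q, hrank⟩, fun S g hg => Subtype.ext ?_, fun t ht => Subtype.ext ?_⟩
  · let J := Σ i : 𝒰.I₀, PUnit.{u + 1}
    let Si : J → Over X := fun i => Over.mk ((g.left ⁻¹ᵁ W i.1).ι ≫ S.hom)
    let si : ∀ i, Si i ⟶ S := fun i => Over.homMk (g.left ⁻¹ᵁ W i.1).ι rfl
    refine sep S _ _ J Si si (fun i => inferInstanceAs (IsOpenImmersion (g.left ⁻¹ᵁ W i.1).ι))
      (fun p => ?_) fun i => ?_
    · obtain ⟨i, hi⟩ := hWcov (g.left p)
      exact ⟨⟨i, PUnit.unit⟩, (Scheme.Opens.range_ι (g.left ⁻¹ᵁ W i)).ge hi⟩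
    · haveI := hoi i.1
      have hr : Set.range ((si i).left ≫ g.left) ⊆ Set.range (fi i.1).left := by
        rintro _ ⟨q, rfl⟩
        exact q.2
      let l : Si i ⟶ Ti i.1 := Over.homMk (IsOpenImmersion.lift (fi i.1).left _ hr) (by
        show _ ≫ (fi i.1).left ≫ T.hom = _
        rw [← Category.assoc, IsOpenImmersion.lift_fac, Category.assoc, Over.w g]
        rfl)
      have hl : l ≫ fi i.1 = si i ≫ g := Over.OverMorphism.ext (IsOpenImmersion.lift_fac _ _ hr)
      have h1 := congrArg Subtype.val (hx l (si i) (hfi i.1) hg hl)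
      rw [map_val, map_val, ← hres i.1] at h1
      show pullK (Over.w (si i)) (pullK (Over.w g) Q) = pullK (Over.w (si i)) (x g hg).1
      rw [← h1, pullK_two (Over.w g) (Over.w (si i)) rfl (Over.w (si i ≫ g)) Q,
        pullK_two (Over.w (fi i.1)) (Over.w l) (congrArg Over.Hom.left hl) (Over.w (si i ≫ g)) Q]
  · refine sep T _ _ 𝒰.I₀ Ti fi hoi (fun p => hWcov p) fun i => ?_
    exact (congrArg Subtype.val (ht (fi i) (hfi i))).trans (hres i).symm

end Groth.Agent.Grass5.GrFun
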