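import Groth.Agent.Grass5.GrExist
import Groth.Agent.Grass5.Apps
import Mathlib.AlgebraicGeometry.Morphisms.Smooth

/-!
The local structure of a Grassmannian over a base where the module is free.
-/

set_option autoImplicit false
set_option backward.isDefEq.respectTransparency false
set_option backward.isDefEq.respectTransparency.types false
set_option maxHeartbeats 400000

noncomputable section

universe u

open CategoryTheory CategoryTheory.Limits AlgebraicGeometry TopologicalSpace Opposite
open Groth.Agent.QC70 Groth.Agent.SubMod72 Groth.Agent.Props58.LocFree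

namespace Groth.Agent.Grass5.GrLocal

open Grass5.QuotBC KerSub BasisLocus GrChart

variable {X G : Scheme.{u}} {π : G ⟶ X} {E : X.Modules} {r : ℕ} {Q : G.Modules}
  {q : (Scheme.Modules.pullback π).obj E ⟶ Q} (hG : Grass.IsGrass π E r Q q)

/-- The universal element. -/
def univ : GrFun.Obj E r (Over.mk π) :=
  haveI := hG.epi
  ⟨kerSub q, isFinLocFreeOfRank_quot q hG.rank⟩

/-- The classifying property, for kernels. -/
theorem existsUnique_map (T : Over X) (P : GrFun.Obj E r T) :
    ∃! a : T ⟶ Over.mk π, (GrFun.grFun E r).map a.op (univ hG) = P := by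
  haveI := hG.epi
  obtain ⟨h, ⟨hh, i, hi⟩, huniq⟩ := hG.univ T.left T.hom (quot P.1) P.2 (qπ P.1) inferInstance
  have iff : ∀ a : T ⟶ Over.mk π, (GrFun.grFun E r).map a.op (univ hG) = P ↔
      ∃ i : (Scheme.Modules.pullback a.left).obj Q ≅ quot P.1, Grass.quotBC (Over.w a) q ≫ i.hom = qπ P.1 := by
    intro a
    haveI : Epi (Grass.quotBC (Over.w a : a.left ≫ π = T.hom) q) := epi_quotBC _ _
    rw [Subtype.ext_iff, GrFun.map_val, show pullK (Over.w a) (univ hG).1 = pullK (Over.w a : a.left ≫ π = T.hom) (kerSub q) from rfl,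
      pullK_kerSub]
    refine ⟨fun h => exists_iso_of_kerSub_eq (h.trans (kerSub_qπ P.1).symm), fun ⟨i, hi⟩ => ?_⟩
    conv_rhs => rw [← kerSub_qπ P.1, ← hi]
    exact (kerSub_comp_of_isIso _ i.hom).symm
  refine ⟨Over.homMk h hh, (iff _).mpr ⟨i, hi⟩, fun a ha => Over.OverMorphism.ext ?_⟩
  exact huniq a.left ⟨Over.w a, (iff a).mp ha⟩

variable {U : X.Opens} (hU : IsAffineOpen U) (σ : Fin r → Γ(E, U)) [E.IsQuasicoherent]

/-- The morphism from a chart. -/
def chartMor : Spec (CR σ) ⟶ G := (existsUnique_map hG (GrChart.W hU σ) (P₀ hU σ)).exists.choose.left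

theorem chartMor_comp : chartMor hG hU σ ≫ π = g₀ hU σ :=
  Over.w (existsUnique_map hG (GrChart.W hU σ) (P₀ hU σ)).exists.choose

theorem chartMor_map :
    (GrFun.grFun E r).map (Over.homMk (chartMor hG hU σ) (chartMor_comp hG hU σ) : GrChart.W hU σ ⟶ Over.mk π).op
      (univ hG) = P₀ hU σ :=
  (existsUnique_map hG (GrChart.W hU σ) (P₀ hU σ)).exists.choose_spec

/-- The open subscheme where the sections give a basis. -/
abbrev opn : G.Opens := locus (univ hG) σ

theorem range_chartMor_subset : Set.range (chartMor hG hU σ) ⊆ (opn hG σ : Set G) := by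
  rintro _ ⟨p, rfl⟩
  let c : GrChart.W hU σ ⟶ Over.mk π := Over.homMk (chartMor hG hU σ) (chartMor_comp hG hU σ)
  have hc : (GrFun.grFun E r).map c.op (univ hG) = P₀ hU σ := chartMor_map hG hU σ
  have h := locus_map c (univ hG) σ
  rw [hc] at h
  exact (Set.ext_iff.mp h p).mp (locus_P₀ hU σ p)

theorem exists_iso_opn : ∃ φ : Spec (CR σ) ≅ (opn hG σ : Scheme.{u}), φ.hom ≫ (opn hG σ).ι = chartMor hG hU σ := by
  have hr : Set.range (chartMor hG hU σ) ⊆ Set.range (opn hG σ).ι := by
    rw [Scheme.Opens.range_ι]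
    exact range_chartMor_subset hG hU σ
  let f := IsOpenImmersion.lift (opn hG σ).ι (chartMor hG hU σ) hr
  have hf : f ≫ (opn hG σ).ι = chartMor hG hU σ := IsOpenImmersion.lift_fac _ _ hr
  let T : Over X := Over.mk ((opn hG σ).ι ≫ π)
  let j : T ⟶ Over.mk π := Over.homMk (opn hG σ).ι rfl
  obtain ⟨a, ha⟩ := exists_map_eq hU σ ((GrFun.grFun E r).map j.op (univ hG)) (fun p => by
    have h : j.left p ∈ (opn hG σ : Set G) := p.2
    exact (Set.ext_iff.mp (locus_map j (univ hG) σ) p).mpr h)
  let c : GrChart.W hU σ ⟶ Over.mk π := Over.homMk (chartMor hG hU σ) (chartMor_comp hG hU σ)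
  have hc : (GrFun.grFun E r).map c.op (univ hG) = P₀ hU σ := chartMor_map hG hU σ
  let fo : GrChart.W hU σ ⟶ T := Over.homMk f (by
    show f ≫ (opn hG σ).ι ≫ π = g₀ hU σ
    rw [← Category.assoc, hf, chartMor_comp])
  have hfj : fo ≫ j = c := Over.OverMorphism.ext hf
  have hac : a ≫ c = j := by
    refine (existsUnique_map hG T ((GrFun.grFun E r).map j.op (univ hG))).unique ?_ rfl
    rw [op_comp, Functor.map_comp_apply, hc, ha]
  have haf : a ≫ fo = 𝟙 T := by
    haveI : Mono j.left := inferInstanceAs (Mono (opn hG σ).ι)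
    haveI : Mono j := Over.mono_of_mono_left j
    rw [← cancel_mono j, Category.assoc, hfj, hac, Category.id_comp]
  have hfa : fo ≫ a = 𝟙 (GrChart.W hU σ) := by
    refine map_injective hU σ _ _ ?_
    rw [op_comp, Functor.map_comp_apply, ha, ← Functor.map_comp_apply, ← op_comp, hfj, hc, op_id,
      Functor.map_id_apply]
  exact ⟨⟨f, a.left, congrArg Over.Hom.left hfa, congrArg Over.Hom.left haf⟩, hf⟩

theorem isOpenImmersion_chartMor : IsOpenImmersion (chartMor hG hU σ) := by
  obtain ⟨φ, hφ⟩ := exists_iso_opn hG hU σ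
  rw [← hφ]
  infer_instance

theorem range_chartMor : Set.range (chartMor hG hU σ) = (opn hG σ : Set G) := by
  obtain ⟨φ, hφ⟩ := exists_iso_opn hG hU σ
  refine (range_chartMor_subset hG hU σ).antisymm fun p hp => ?_
  obtain ⟨y, hy⟩ := φ.hom.surjective ⟨p, hp⟩
  refine ⟨y, ?_⟩
  rw [← hφ, Scheme.Hom.comp_apply, hy]
  rfl

section Coordinates

variable {N : ℕ} (b : Module.Basis (Fin N) Γ(X, U) Γ(E, U)) (j : Fin r → Fin N)

/-- The indices outside the chosen ones. -/
abbrev Rest : Type := {l : Fin N // l ∉ Set.range j}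

open Classical in
/-- The coordinates of the basis vectors. -/
def row (l : Fin N) (i : Fin r) : MvPolynomial (Rest j × Fin r) Γ(X, U) :=
  if h : l ∈ Set.range j then (if j i = l then 1 else 0) else MvPolynomial.X (⟨l, h⟩, i)

variable {j} (hj : Function.Injective j)
include hj

omit [E.IsQuasicoherent] in
theorem row_sel (k i : Fin r) : row j (U := U) (j k) i = if i = k then 1 else 0 := by
  rw [row, dif_pos ⟨k, rfl⟩]
  simp only [hj.eq_iff]

omit [E.IsQuasicoherent] in
theorem exists_ringEquiv : ∃ φ : (CR fun k => b (j k)) ≃+* MvPolynomial (Rest j × Fin r) Γ(X, U),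
    ∀ a : Γ(X, U), φ (ρ (fun k => b (j k)) a) = MvPolynomial.C a := by
  classical
  let σ : Fin r → Γ(E, U) := fun k => b (j k)
  let co : Γ(E, U) → Fin r → MvPolynomial (Rest j × Fin r) Γ(X, U) := fun m i =>
    ∑ l, MvPolynomial.C (b.repr m l) * row j l i
  have hco : ∀ l i, co (b l) i = row j l i := fun l i => by
    show (∑ l', MvPolynomial.C (b.repr (b l) l') * row j l' i) = row j l i
    rw [Finset.sum_eq_single l]
    · simp
    · intro l' _ h
      simp [Finsupp.single_apply, h.symm]
    · exact fun h => absurd (Finset.mem_univ _) h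
  let ev : MvPolynomial (Γ(E, U) × Fin r) Γ(X, U) →+* MvPolynomial (Rest j × Fin r) Γ(X, U) :=
    MvPolynomial.eval₂Hom MvPolynomial.C fun mi => co mi.1 mi.2
  have hX : ∀ m i, ev (MvPolynomial.X (m, i)) = co m i := fun m i => MvPolynomial.eval₂Hom_X' _ _ (m, i)
  have hC : ∀ a, ev (MvPolynomial.C a) = MvPolynomial.C a := fun a => MvPolynomial.eval₂Hom_C _ _ a
  have hle : Ideal.span {p | Rel σ p} ≤ RingHom.ker ev := by
    rw [Ideal.span_le]
    intro p hp
    rw [SetLike.mem_coe, RingHom.mem_ker]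
    cases hp with
    | add m m' i =>
      rw [map_sub, map_sub, hX, hX, hX]
      simp [co, add_mul, Finset.sum_add_distrib]
    | smul c m i =>
      rw [map_sub, map_mul, hX, hX, hC]
      simp [co, Finset.mul_sum, mul_assoc]
    | sec k i =>
      rw [map_sub, hX, hC, sub_eq_zero]
      show co (b (j k)) i = _
      rw [hco, row_sel hj]
      split_ifs <;> simp
  let φ : (CR σ) →+* MvPolynomial (Rest j × Fin r) Γ(X, U) := Ideal.Quotient.lift _ ev hle
  let ψ : MvPolynomial (Rest j × Fin r) Γ(X, U) →+* (CR σ) :=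
    MvPolynomial.eval₂Hom (ρ σ).hom fun li => coord σ (b li.1.1) li.2
  have hφc : ∀ m i, φ (coord σ m i) = co m i := fun m i => hX m i
  have hφρ : ∀ a, φ (ρ σ a) = MvPolynomial.C a := fun a => hC a
  have hψrow : ∀ l i, ψ (row j l i) = coord σ (b l) i := by
    intro l i
    rw [row]
    split_ifs with h h'
    · subst h'
      rw [map_one]
      exact ((coord_sec σ i i).trans (if_pos rfl)).symm
    · obtain ⟨k, rfl⟩ := h
      rw [map_zero]
      exact ((coord_sec σ k i).trans (if_neg fun hik => h' (by rw [hik]))).symm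
    · exact MvPolynomial.eval₂Hom_X' _ _ _
  have hψφ : ψ.comp φ = RingHom.id (CR σ) := by
    refine Ideal.Quotient.ringHom_ext (MvPolynomial.ringHom_ext (fun a => ?_) fun mi => ?_)
    · show ψ (φ (ρ σ a)) = ρ σ a
      rw [hφρ]
      exact MvPolynomial.eval₂Hom_C _ _ a
    · obtain ⟨m, i⟩ := mi
      show ψ (φ (coord σ m i)) = coord σ m i
      let F : Γ(E, U) →+ (CR σ) := AddMonoidHom.mk' (fun m => coord σ m i) fun x y => coord_add σ x y i
      rw [hφc]
      conv_rhs => rw [← b.sum_repr m]
      refine Eq.trans ?_ (map_sum F _ _).symm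
      rw [map_sum]
      refine Finset.sum_congr rfl fun l _ => ?_
      rw [map_mul, hψrow]
      exact Eq.trans (congrArg (· * _) (MvPolynomial.eval₂Hom_C _ _ _)) (coord_smul σ _ _ _).symm
  have hφψ : φ.comp ψ = RingHom.id _ := by
    refine MvPolynomial.ringHom_ext (fun a => ?_) fun li => ?_
    · show φ (ψ (MvPolynomial.C a)) = MvPolynomial.C a
      rw [show ψ (MvPolynomial.C a) = ρ σ a from MvPolynomial.eval₂Hom_C _ _ a, hφρ]
    · show φ (ψ (MvPolynomial.X li)) = MvPolynomial.X li
      rw [show ψ (MvPolynomial.X li) = coord σ (b li.1.1) li.2 from MvPolynomial.eval₂Hom_X' _ _ li, hφc, hco, row,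
        dif_neg li.1.2]
  exact ⟨RingEquiv.ofRingHom φ ψ hφψ hψφ, hφρ⟩

omit [E.IsQuasicoherent] in
theorem card_rest : Nat.card (Rest j × Fin r) = r * (N - r) := by
  classical
  rw [Nat.card_prod, Nat.card_eq_fintype_card, Nat.card_fin, Fintype.card_subtype_compl, Fintype.card_fin,
    Nat.mul_comm]
  congr 2
  exact (Set.card_range_of_injective hj).trans (Fintype.card_fin r)

theorem smooth_chart : SmoothOfRelativeDimension (r * (N - r)) (g₀ hU fun k => b (j k)) := by
  obtain ⟨φ, hφ⟩ := exists_ringEquiv b hj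
  have hρ : ρ (fun k => b (j k)) ≫ φ.toCommRingCatIso.hom =
      CommRingCat.ofHom (algebraMap Γ(X, U) (MvPolynomial (Rest j × Fin r) Γ(X, U))) :=
    CommRingCat.hom_ext (RingHom.ext hφ)
  have h1 : SmoothOfRelativeDimension (r * (N - r))
      (Spec.map (CommRingCat.ofHom (algebraMap Γ(X, U) (MvPolynomial (Rest j × Fin r) Γ(X, U))))) := by
    rw [HasRingHomProperty.Spec_iff (P := @SmoothOfRelativeDimension (r * (N - r)))]
    refine RingHom.locally_of RingHom.isStandardSmoothOfRelativeDimension_respectsIso _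
      ((RingHom.isStandardSmoothOfRelativeDimension_algebraMap _).2 ?_)
    exact card_rest hj ▸ isStandardSmooth_mvPolynomial Γ(X, U) _
  rw [← hρ, Spec.map_comp, MorphismProperty.cancel_left_of_respectsIso
    (@SmoothOfRelativeDimension (r * (N - r)))] at h1
  show SmoothOfRelativeDimension _ (_ ≫ hU.fromSpec)
  haveI := h1
  haveI : SmoothOfRelativeDimension 0 hU.fromSpec := inferInstance
  simpa using (inferInstance : SmoothOfRelativeDimension (r * (N - r) + 0) (Spec.map (ρ fun k => b (j k)) ≫ hU.fromSpec))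

end Coordinates

theorem exists_mem_opn {N : ℕ} (b : Module.Basis (Fin N) Γ(X, U) Γ(E, U)) (hU : IsAffineOpen U) (p : G) (hp : π p ∈ U) :
    ∃ j : Fin r → Fin N, Function.Injective j ∧ p ∈ opn hG fun k => b (j k) := by
  classical
  haveI := hG.epi
  let P : GrFun.Obj E r (Over.mk π) := univ hG
  let v : Γ(E, U) → (quot P.1).presheaf.stalk p := fun m =>
    germM (quot P.1) (π ⁻¹ᵁ U) p hp ((qπ P.1).app (π ⁻¹ᵁ U) (Amp73.pullS π E U m))
  have hsp : Submodule.span (G.presheaf.stalk p) (Set.range fun l : ULift.{u} (Fin N) => v (b l.down)) = ⊤ := by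
    rw [← top_le_iff, ← GrExist.span_germ_img (qπ P.1) hU p hp, Submodule.span_le]
    rintro _ ⟨m, rfl⟩
    show v m ∈ _
    rw [← b.sum_repr m]
    let F : Γ(E, U) →+ (quot P.1).presheaf.stalk p := AddMonoidHom.mk' v fun x y => by
      simp only [v, Pinch99.pullS_add, map_add]
    rw [show v (∑ l, b.repr m l • b l) = ∑ l, v (b.repr m l • b l) from map_sum F _ _]
    refine Submodule.sum_mem _ fun l _ => ?_
    simp only [v, Amp73.pullS_smul, Scheme.Modules.Hom.app_smul, germM_smul]
    exact Submodule.smul_mem _ _ (Submodule.subset_span ⟨ULift.up l, rfl⟩)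
  obtain ⟨V, hpV, ⟨i⟩⟩ := P.2 p
  obtain ⟨s, hs⟩ := exists_stalkBasis_of_iso i
  haveI : Module.Free (G.presheaf.stalk p) ((quot P.1).presheaf.stalk p) := hs.free_stalk p hpV
  haveI : Module.Finite (G.presheaf.stalk p) ((quot P.1).presheaf.stalk p) := hs.finite_stalk p hpV
  haveI : Module.Projective (G.presheaf.stalk p) ((quot P.1).presheaf.stalk p) := Module.Projective.of_free
  haveI : Module.Flat (G.presheaf.stalk p) ((quot P.1).presheaf.stalk p) := Module.Flat.of_projective
  haveI : Module.FinitePresentation (G.presheaf.stalk p) ((quot P.1).presheaf.stalk p) :=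
    Module.finitePresentation_of_projective _ _
  obtain ⟨κ, a, bb, hb⟩ := Module.exists_basis_of_span_of_flat _ hsp
  let b' := (Pi.basisFun (G.presheaf.stalk p) (Fin r)).map (hs.stalkEquiv p hpV)
  let ι : κ ≃ Fin r := bb.indexEquiv b'
  have : Nontrivial (G.presheaf.stalk p) := inferInstance
  have hinj : Function.Injective a := fun x y h => bb.injective (by rw [hb, hb, h])
  refine ⟨fun k => (a (ι.symm k)).down, fun x y h => ι.symm.injective (hinj (ULift.ext _ _ h)), hp, ?_⟩
  have : germComb (img (qπ P.1) fun k => b (a (ι.symm k)).down) p hp = (bb.reindex ι).equivFun.symm := by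
    funext c
    rw [Module.Basis.equivFun_symm_apply]
    refine Finset.sum_congr rfl fun k _ => ?_
    rw [Module.Basis.reindex_apply, hb]
    rfl
  show Function.Bijective (germComb (img (qπ P.1) fun k => b (a (ι.symm k)).down) p hp)
  rw [this]
  exact LinearEquiv.bijective _

end Groth.Agent.Grass5.GrLocal
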