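import Groth.Agent.Grass5.GrLocal

/-!
Points of the charts of a Grassmannian given by matrices.
-/

set_option autoImplicit false
set_option backward.isDefEq.respectTransparency false
set_option backward.isDefEq.respectTransparency.types false
set_option maxHeartbeats 400000

noncomputable section

universe u

open CategoryTheory CategoryTheory.Limits AlgebraicGeometry TopologicalSpace Opposite
open Groth.Agent.QC70 Groth.Agent.SubMod72 Groth.Agent.Props58.LocFree

namespace Groth.Agent.Grass5.GrPts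

open Grass5.QuotBC KerSub BasisLocus GrChart GrLocal

variable {X : Scheme.{u}} {E : X.Modules} {U : X.Opens} {r N : ℕ}
  (b : Module.Basis (Fin N) Γ(X, U) Γ(E, U)) {j : Fin r → Fin N}

theorem coord_eq_sum (σ : Fin r → Γ(E, U)) (m : Γ(E, U)) (i : Fin r) :
    coord σ m i = ∑ l, ρ σ (b.repr m l) * coord σ (b l) i := by
  let F : Γ(E, U) →+ (CR σ) := AddMonoidHom.mk' (fun m => coord σ m i) fun x y => coord_add σ x y i
  conv_lhs => rw [← b.sum_repr m]
  refine (map_sum F _ _).trans (Finset.sum_congr rfl fun l _ => ?_)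
  exact coord_smul σ _ _ _

/-- A matrix with the identity in the chosen rows gives a point of the chart. -/
theorem exists_pointHom {A : CommRingCat.{u}} (ω : Γ(X, U) ⟶ A) (B : Fin N → Fin r → A)
    (hB : ∀ k i, B (j k) i = if i = k then 1 else 0) :
    ∃ β : CR (fun k => b (j k)) ⟶ A, ρ (fun k => b (j k)) ≫ β = ω ∧
      ∀ l i, β (coord (fun k => b (j k)) (b l) i) = B l i := by
  classical
  let σ : Fin r → Γ(E, U) := fun k => b (j k)
  let co : Γ(E, U) → Fin r → A := fun m i => ∑ l, ω (b.repr m l) * B l i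
  have hco : ∀ l i, co (b l) i = B l i := fun l i => by
    show (∑ l', ω (b.repr (b l) l') * B l' i) = B l i
    rw [Finset.sum_eq_single l]
    · simp
    · intro l' _ h
      simp [h.symm]
    · exact fun h => absurd (Finset.mem_univ _) h
  let ev : MvPolynomial (Γ(E, U) × Fin r) Γ(X, U) →+* A :=
    MvPolynomial.eval₂Hom ω.hom fun mi => co mi.1 mi.2
  have hX : ∀ m i, ev (MvPolynomial.X (m, i)) = co m i := fun m i => MvPolynomial.eval₂Hom_X' _ _ (m, i)
  have hC : ∀ a, ev (MvPolynomial.C a) = ω a := fun a => MvPolynomial.eval₂Hom_C _ _ a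
  have hle : Ideal.span {p | Rel σ p} ≤ RingHom.ker ev := by
    rw [Ideal.span_le]
    intro p hp
    rw [SetLike.mem_coe, RingHom.mem_ker]
    cases hp with
    | add m m' i =>
      rw [map_sub, map_sub, hX, hX, hX]
      simp [co, add_mul, Finset.sum_add_distrib]
    | smul c m i =>
      rw [map_sub, map_mul, hX, hX, hC]
      simp [co, Finset.mul_sum, mul_assoc]
    | sec k i =>
      rw [map_sub, hX, hC, sub_eq_zero]
      show co (b (j k)) i = _
      rw [hco, hB]
      split_ifs <;> simp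
  exact ⟨CommRingCat.ofHom (Ideal.Quotient.lift _ ev hle), CommRingCat.hom_ext (RingHom.ext hC),
    fun l i => (hX (b l) i).trans (hco l i)⟩

variable (hU : IsAffineOpen U) [E.IsQuasicoherent] {k : Fin r → Fin N}
  {G : Scheme.{u}} {π : G ⟶ X} {Q : G.Modules} {q : (Scheme.Modules.pullback π).obj E ⟶ Q}
  (hG : Grass.IsGrass π E r Q q)

/-- The matrix of a point of a chart. -/
abbrev mat {T : Scheme.{u}} (σ : Fin r → Γ(E, U)) (h : T ⟶ Spec (CR σ)) (l : Fin N) (i : Fin r) : Γ(T, ⊤) :=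
  h.appTop (ιC σ (coord σ (b l) i))

section Compare

variable {T : Scheme.{u}} {g : T ⟶ X} {σ τ : Fin r → Γ(E, U)} {h : T ⟶ Spec (CR σ)} {h' : T ⟶ Spec (CR τ)}
  (w : h ≫ g₀ hU σ = g) (w' : h' ≫ g₀ hU τ = g)

include w w' in
theorem chartMor_eq_of_iso
    (i₀ : (Scheme.Modules.pullback h').obj (FlatMod.freeMod (Spec (CR τ)) r) ≅
      (Scheme.Modules.pullback h).obj (FlatMod.freeMod (Spec (CR σ)) r))
    (hi₀ : Grass.quotBC w' (q₀ hU τ) ≫ i₀.hom = Grass.quotBC w (q₀ hU σ)) :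
    h ≫ chartMor hG hU σ = h' ≫ chartMor hG hU τ := by
  haveI := epi_q₀ hU σ
  haveI := epi_q₀ hU τ
  let To : Over X := Over.mk g
  let a : To ⟶ GrChart.W hU σ := Over.homMk h w
  let a' : To ⟶ GrChart.W hU τ := Over.homMk h' w'
  let c : GrChart.W hU σ ⟶ Over.mk π := Over.homMk (chartMor hG hU σ) (chartMor_comp hG hU σ)
  let c' : GrChart.W hU τ ⟶ Over.mk π := Over.homMk (chartMor hG hU τ) (chartMor_comp hG hU τ)
  have hmap : (GrFun.grFun E r).map a.op (P₀ hU σ) = (GrFun.grFun E r).map a'.op (P₀ hU τ) := by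
    refine Subtype.ext ?_
    show pullK w (kerSub (q₀ hU σ)) = pullK w' (kerSub (q₀ hU τ))
    rw [pullK_kerSub, pullK_kerSub, ← hi₀]
    exact kerSub_comp_of_isIso _ i₀.hom
  have key : a ≫ c = a' ≫ c' := by
    refine (existsUnique_map hG To ((GrFun.grFun E r).map a.op (P₀ hU σ))).unique ?_ ?_
    · rw [op_comp, Functor.map_comp_apply, show (GrFun.grFun E r).map c.op (univ hG) = P₀ hU σ from
        chartMor_map hG hU σ]
    · rw [op_comp, Functor.map_comp_apply, show (GrFun.grFun E r).map c'.op (univ hG) = P₀ hU τ from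
        chartMor_map hG hU τ, hmap]
  exact congrArg Over.Hom.left key

theorem stalkBasis_comb {L : T.Modules} {t : Fin r → Γ(L, ⊤)} (ht : StalkBasis t)
    (A : Matrix (Fin r) (Fin r) Γ(T, ⊤)) (hA : IsUnit A.det) : StalkBasis fun x => ∑ i, A x i • t i :=
  (stalkBasis_iff _).mpr fun p _ =>
    (mem_basisSet_iff (le_refl (⊤ : T.Opens)) ht (A := A.transpose)
      (fun x => (res_self _).symm) (Set.mem_univ p)).mpr (by
        rw [Matrix.det_transpose, Scheme.mem_basicOpen _ _ _ (show p ∈ (⊤ : T.Opens) from trivial)]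
        exact hA.map _)

include w w' in
theorem exists_iso_of_matrix (A : Matrix (Fin r) (Fin r) Γ(T, ⊤)) (hA : IsUnit A.det)
    (hg : ⊤ ≤ g ⁻¹ᵁ U)
    (hrel : ∀ m i, h.appTop (ιC σ (coord σ m i)) = ∑ x, h'.appTop (ιC τ (coord τ m x)) * A x i) :
    ∃ i₀ : (Scheme.Modules.pullback h').obj (FlatMod.freeMod (Spec (CR τ)) r) ≅
      (Scheme.Modules.pullback h).obj (FlatMod.freeMod (Spec (CR σ)) r),
      Grass.quotBC w' (q₀ hU τ) ≫ i₀.hom = Grass.quotBC w (q₀ hU σ) := by
  have e : ∀ x, (isoOfBasis (stalkBasis_t₀ τ h') (stalkBasis_comb (stalkBasis_t₀ σ h) A hA)).hom.app ⊤ (t₀ τ h' x) =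
      ∑ i, A x i • t₀ σ h i := fun x => ofBasis_app (stalkBasis_t₀ τ h') _ x
  generalize isoOfBasis (stalkBasis_t₀ τ h') (stalkBasis_comb (stalkBasis_t₀ σ h) A hA) = i₀ at e
  refine ⟨i₀, hom_ext_pl hU hg _ _ fun m => ?_⟩
  show i₀.hom.app ⊤ ((Grass.quotBC w' (q₀ hU τ)).app ⊤ (pl g E hg m)) = _
  rw [quotBC_pl hU τ w' hg m, quotBC_pl hU σ w hg m, map_sum]
  simp only [Scheme.Modules.Hom.app_smul, e, Finset.smul_sum, smul_smul]
  rw [Finset.sum_comm]
  refine Finset.sum_congr rfl fun i _ => ?_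
  rw [← Finset.sum_smul, hrel]

include w w' in
theorem rel_of_basis (hg : ⊤ ≤ g ⁻¹ᵁ U) (A : Matrix (Fin r) (Fin r) Γ(T, ⊤))
    (hb : ∀ l i, mat b σ h l i = ∑ x, mat b τ h' l x * A x i) (m : Γ(E, U)) (i : Fin r) :
    h.appTop (ιC σ (coord σ m i)) = ∑ x, h'.appTop (ιC τ (coord τ m x)) * A x i := by
  simp only [coord_eq_sum b τ m, coord_eq_sum b σ m, map_sum, map_mul, appTop_ρ hU σ w hg, appTop_ρ hU τ w' hg,
    Finset.sum_mul, mul_assoc]
  rw [Finset.sum_comm]
  refine Finset.sum_congr rfl fun l _ => ?_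
  rw [← Finset.mul_sum]
  exact congrArg _ (hb l i)

end Compare

/-- Two points of charts with compatible matrices give the same point of the Grassmannian. -/
theorem chartMor_eq {T : Scheme.{u}} {g : T ⟶ X} {σ τ : Fin r → Γ(E, U)} (h : T ⟶ Spec (CR σ))
    (h' : T ⟶ Spec (CR τ)) (w : h ≫ g₀ hU σ = g) (w' : h' ≫ g₀ hU τ = g)
    (A : Matrix (Fin r) (Fin r) Γ(T, ⊤)) (hA : IsUnit A.det)
    (hb : ∀ l i, mat b σ h l i = ∑ x, mat b τ h' l x * A x i) :
    h ≫ chartMor hG hU σ = h' ≫ chartMor hG hU τ := by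
  have hg : ⊤ ≤ g ⁻¹ᵁ U := by
    rw [← w]
    exact h.preimage_mono (top_le_g₀ hU σ)
  obtain ⟨i₀, hi₀⟩ := exists_iso_of_matrix hU w w' A hA hg (rel_of_basis b hU w w' hg A hb)
  exact chartMor_eq_of_iso hU hG w w' i₀ hi₀

end Groth.Agent.Grass5.GrPts
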