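import Groth.Prelude.Def_FGA
import Groth.Agent.Grass5.GrExist
import Groth.Agent.Grass5.FlagStep

/-!
The Grassmannian as a representing object of the functor of subobjects with locally free quotient.
-/

set_option autoImplicit false
set_option backward.isDefEq.respectTransparency false
set_option backward.isDefEq.respectTransparency.types false
set_option maxHeartbeats 400000

noncomputable section

universe u

open CategoryTheory CategoryTheory.Limits AlgebraicGeometry

namespace Groth.Agent.Grass5.GrSubobject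

open Grass5.QuotBC

section abelian

variable {C : Type*} [Category C] [Abelian C] {A B B' : C}

theorem kernelSubobject_cokernel (K : Subobject A) : kernelSubobject (cokernel.π K.arrow) = K :=
  le_antisymm
    (Subobject.le_of_comm (Abelian.monoLift K.arrow _ (kernelSubobject_arrow_comp _))
      (Abelian.monoLift_comp _ _ _))
    (le_kernelSubobject _ K (cokernel.condition _))

theorem kernel_ι_comp_of_eq (f : A ⟶ B) (f' : A ⟶ B') (h : kernelSubobject f = kernelSubobject f') :
    kernel.ι f ≫ f' = 0 := by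
  have : (kernelSubobject f).arrow ≫ f' = 0 := by
    rw [← Subobject.ofLE_arrow h.le, Category.assoc, kernelSubobject_arrow_comp, comp_zero]
  rw [← kernelSubobject_arrow' f, Category.assoc, this, comp_zero]

theorem exists_iso_of_kernel_eq (f : A ⟶ B) [Epi f] (f' : A ⟶ B') [Epi f']
    (h : kernelSubobject f = kernelSubobject f') : ∃ e : B ≅ B', f ≫ e.hom = f' := by
  refine ⟨⟨Abelian.epiDesc f f' (kernel_ι_comp_of_eq f f' h), Abelian.epiDesc f' f (kernel_ι_comp_of_eq f' f h.symm),
    ?_, ?_⟩, Abelian.comp_epiDesc _ _ _⟩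
  · rw [← cancel_epi f, ← Category.assoc, Abelian.comp_epiDesc, Abelian.comp_epiDesc, Category.comp_id]
  · rw [← cancel_epi f', ← Category.assoc, Abelian.comp_epiDesc, Abelian.comp_epiDesc, Category.comp_id]

theorem kernelSubobject_comp_isIso (f : A ⟶ B) (i : B ⟶ B') [IsIso i] :
    kernelSubobject (f ≫ i) = kernelSubobject f := by
  refine le_antisymm (le_kernelSubobject _ _ ?_) (le_kernelSubobject _ _ ?_)
  · rw [← cancel_mono i, Category.assoc, kernelSubobject_arrow_comp, zero_comp]
  · rw [← Category.assoc, kernelSubobject_arrow_comp, zero_comp]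

end abelian

theorem imageSubobject_pullback {Y Y' : Scheme.{u}} (m : Y' ⟶ Y) {A B : Y.Modules} (s : A ⟶ B) [Epi s]
    {A' : Y'.Modules} (θ : (Scheme.Modules.pullback m).obj A ≅ A') :
    imageSubobject ((Scheme.Modules.pullback m).map (kernelSubobject s).arrow ≫ θ.hom) =
      kernelSubobject (θ.inv ≫ (Scheme.Modules.pullback m).map s) := by
  let F := Scheme.Modules.pullback m
  haveI := (Scheme.Modules.pullbackPushforwardAdjunction m).leftAdjoint_preservesColimits.{0, 0}
  haveI := Functor.preservesZeroMorphisms_of_isLeftAdjoint F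
  let K := (kernelSubobject s).arrow
  have hK : IsLimit (KernelFork.ofι K (kernelSubobject_arrow_comp s)) :=
    IsLimit.ofIsoLimit (kernelIsKernel s)
      (Fork.ext (kernelSubobjectIso s).symm (kernelSubobject_arrow' s))
  have hc := CokernelCofork.isColimitMapCoconeEquiv _ F (isColimitOfPreserves F
    (Abelian.epiIsCokernelOfKernel _ hK))
  let S : ShortComplex Y'.Modules := ShortComplex.mk (F.map K ≫ θ.hom) (θ.inv ≫ F.map s) (by
    rw [Category.assoc, θ.hom_inv_id_assoc, ← F.map_comp, kernelSubobject_arrow_comp, F.map_zero])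
  have hex : S.Exact := by
    let S₀ : ShortComplex Y'.Modules := ShortComplex.mk (F.map K) (F.map s) (by
      rw [← F.map_comp, kernelSubobject_arrow_comp, F.map_zero])
    refine ShortComplex.exact_of_iso (S₁ := S₀)
      (ShortComplex.isoMk (Iso.refl _) θ (Iso.refl _) ?_ ?_) (ShortComplex.exact_of_g_is_cokernel S₀ hc)
    · simp [S, S₀]
    · simp [S, S₀]
  exact (ShortComplex.exact_iff_image_eq_kernel S).mp hex

variable {S : Scheme.{u}} (V : S.Modules) (r : ℕ)

theorem exists_rep {G₀ : Scheme.{u}} {π : G₀ ⟶ S} {Q : G₀.Modules}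
    {q : (Scheme.Modules.pullback π).obj V ⟶ Q} (hG : Grass.IsGrass π V r Q q) :
    ∃ K : Subobject (FGA.ET (𝟙 S) V (Over.mk π)),
      FlatMod.IsFinLocFreeOfRank r (cokernel K.arrow) ∧
      ∀ (T : Over S) (K' : Subobject (FGA.ET (𝟙 S) V T)),
        FlatMod.IsFinLocFreeOfRank r (cokernel K'.arrow) →
          ∃! g : T ⟶ Over.mk π, FGA.quotPull (𝟙 S) V g K = K' := by
  haveI := hG.epi
  have hfst : ∀ T : Over S, pullback.snd (𝟙 S) T.hom ≫ T.hom = pullback.fst (𝟙 S) T.hom := fun T => by
    rw [← pullback.condition, Category.comp_id]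
  have hπ : pullback.snd (𝟙 S) (Over.mk π).hom ≫ π = pullback.fst (𝟙 S) (Over.mk π).hom := hfst (Over.mk π)
  let u := Grass.quotBC hπ q
  haveI : Epi u := epi_quotBC hπ q
  refine ⟨kernelSubobject u, ?_, fun T K' hK' => ?_⟩
  · obtain ⟨e, -⟩ := exists_iso_of_kernel_eq u (cokernel.π (kernelSubobject u).arrow)
      (kernelSubobject_cokernel _).symm
    exact KerSub.isFinLocFreeOfRank_of_iso e (isFinLocFreeOfRank_pullback _ hG.rank)
  let Y := PicF.XT (𝟙 S) T
  let fT := pullback.fst (𝟙 S) T.hom
  let sT := pullback.snd (𝟙 S) T.hom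
  have key : ∀ g : T ⟶ Over.mk π, ∃ hh : (sT ≫ g.left) ≫ π = fT,
      FGA.quotPull (𝟙 S) V g (kernelSubobject u) = kernelSubobject (Grass.quotBC hh q) := by
    intro g
    have hh : (sT ≫ g.left) ≫ π = fT := by
      rw [Category.assoc, show g.left ≫ π = T.hom from Over.w g]
      exact hfst T
    have hm : PicF.XTmap (𝟙 S) g ≫ pullback.fst (𝟙 S) (Over.mk π).hom = fT := FGA.XTmap_fst (𝟙 S) g
    have hsnd : PicF.XTmap (𝟙 S) g ≫ pullback.snd (𝟙 S) (Over.mk π).hom = sT ≫ g.left := by
      simp [PicF.XTmap, pullback.map, sT]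
    have hh' : (PicF.XTmap (𝟙 S) g ≫ pullback.snd (𝟙 S) (Over.mk π).hom) ≫ π = fT := by rw [hsnd, hh]
    refine ⟨hh, (imageSubobject_pullback (PicF.XTmap (𝟙 S) g) u (FGA.ETiso (𝟙 S) V g)).trans ?_⟩
    refine Eq.trans ?_ (Eq.trans (congrArg (fun φ => kernelSubobject φ) (quotBC_comp hπ hm hh' q)) ?_)
    · congr 1
    rw [kernelSubobject_comp_isIso]
    exact (kernelSubobject_comp_isIso _ ((Scheme.Modules.pullbackCongr hsnd).app Q).hom).symm.trans
      (congrArg (fun φ => kernelSubobject φ) (quotBC_id_iso hsnd hh' hh q))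
  obtain ⟨h, ⟨hh, e, he⟩, huniq⟩ := hG.univ Y fT _ hK' (cokernel.π K'.arrow) inferInstance
  haveI : IsIso sT := inferInstanceAs (IsIso (pullback.snd (𝟙 S) T.hom))
  refine ⟨Over.homMk (inv sT ≫ h) ?_, ?_, fun g hg => Over.OverMorphism.ext ?_⟩
  · show (inv sT ≫ h) ≫ π = T.hom
    rw [Category.assoc, hh, IsIso.inv_comp_eq]
    exact (hfst T).symm
  · obtain ⟨hh₀, h0⟩ := key (Over.homMk (inv sT ≫ h) (by
      show (inv sT ≫ h) ≫ π = T.hom
      rw [Category.assoc, hh, IsIso.inv_comp_eq]
      exact (hfst T).symm))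
    refine h0.trans ?_
    have e1 : sT ≫ inv sT ≫ h = h := IsIso.hom_inv_id_assoc _ _
    conv_rhs => rw [← kernelSubobject_cokernel K', ← he, kernelSubobject_comp_isIso]
    rw [← quotBC_id_iso e1 hh₀ hh q]
    exact (kernelSubobject_comp_isIso _ _).symm
  · show g.left = inv sT ≫ h
    rw [IsIso.eq_inv_comp]
    obtain ⟨hgh, hg'⟩ := key g
    haveI : Epi (Grass.quotBC hgh q) := epi_quotBC _ _
    obtain ⟨e', he'⟩ := exists_iso_of_kernel_eq (Grass.quotBC hgh q) (cokernel.π K'.arrow)
      ((hg'.symm.trans hg).trans (kernelSubobject_cokernel K').symm)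
    exact huniq _ ⟨hgh, e', he'⟩

end Groth.Agent.Grass5.GrSubobject
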