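import Groth.Agent.Grass5.Cond

/-!
Closed conditions `W ≤ U` on points `U` of a representing scheme of a Grassmannian functor.
-/

set_option autoImplicit false
set_option maxHeartbeats 400000

universe u

open AlgebraicGeometry CategoryTheory
open scoped TensorProduct

namespace Groth.Agent.Grass5

section Algebra

variable {R : Type u} [CommRing R] {M : Type u} [AddCommGroup M] [Module R M] {k : ℕ}
  {A : Type u} [CommRing A] [Algebra R A] {C : Type u} [CommRing C] [Algebra R C]

/-- base change of elements of `A ⊗ M`. -/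
noncomputable def bc (f : A →ₐ[R] C) : A ⊗[R] M →ₗ[R] C ⊗[R] M := f.toLinearMap.rTensor M

@[simp] lemma bc_tmul (f : A →ₐ[R] C) (a : A) (m : M) : bc f (a ⊗ₜ[R] m) = f a ⊗ₜ[R] m := rfl

lemma bc_smul (f : A →ₐ[R] C) (a : A) (z : A ⊗[R] M) : bc f (a • z) = f a • bc f z := by
  induction z using TensorProduct.induction_on with
  | zero => simp
  | tmul b m => simp [TensorProduct.smul_tmul']
  | add x y hx hy => simp [smul_add, hx, hy]

lemma bc_mem_span (f : A →ₐ[R] C) (S : Set (A ⊗[R] M)) {z : A ⊗[R] M}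
    (hz : z ∈ Submodule.span A S) : bc f z ∈ Submodule.span C (bc f '' S) := by
  induction hz using Submodule.span_induction with
  | mem x hx => exact Submodule.subset_span ⟨x, hx, rfl⟩
  | zero => simp
  | add x y _ _ hx hy => rw [map_add]; exact add_mem hx hy
  | smul a x _ hx => rw [bc_smul]; exact Submodule.smul_mem _ _ hx

lemma span_bc_span (f : A →ₐ[R] C) (S : Set (A ⊗[R] M)) :
    Submodule.span C (bc f '' (Submodule.span A S : Set (A ⊗[R] M))) =
      Submodule.span C (bc f '' S) := by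
  refine le_antisymm (Submodule.span_le.2 ?_) (Submodule.span_mono (Set.image_mono Submodule.subset_span))
  rintro _ ⟨z, hz, rfl⟩
  exact bc_mem_span f S hz

open TensorProduct.AlgebraTensorModule in
theorem ker_baseChangeMkQ_eq_span [Algebra A C] [IsScalarTower R A C] (f : A →ₐ[R] C)
    (hf : f.toRingHom = algebraMap A C) (N : Submodule A (A ⊗[R] M)) :
    LinearMap.ker (Module.Grassmannian.baseChangeMkQ (R := R) C N) =
      Submodule.span C (bc f '' (N : Set (A ⊗[R] M))) := by
  have hf' : ∀ a, f a = algebraMap A C a := fun a ↦ congr($hf a)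
  let e := cancelBaseChange R A C C M
  have he : ∀ (c : C) (z : A ⊗[R] M), e (c ⊗ₜ[A] z) = c • bc f z := by
    intro c z
    induction z using TensorProduct.induction_on with
    | zero => simp
    | tmul a m =>
      simp only [e, cancelBaseChange_tmul, bc_tmul, TensorProduct.smul_tmul']
      congr 1
      rw [Algebra.smul_def, smul_eq_mul, mul_comm, hf']
    | add x y hx hy => simp [TensorProduct.tmul_add, hx, hy, smul_add]
  have hex : Function.Exact (LinearMap.lTensor C N.subtype)
      (LinearMap.lTensor C N.mkQ) := by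
    exact lTensor_exact (R := A) (M := N) (N := A ⊗[R] M)
      (P := _ ⧸ N) C (LinearMap.exact_subtype_mkQ _) (Submodule.mkQ_surjective _)
  apply le_antisymm
  · intro x hx
    have h0 : LinearMap.lTensor C N.mkQ (e.symm x) = 0 := hx
    obtain ⟨y, hy⟩ := (hex _).mp h0
    have : x = e (LinearMap.lTensor C N.subtype y) := by rw [hy, e.apply_symm_apply]
    rw [this]
    clear this hy h0 hx x
    induction y using TensorProduct.induction_on with
    | zero => simp
    | tmul c u =>
      rw [LinearMap.lTensor_tmul, he]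
      exact Submodule.smul_mem _ _ (Submodule.subset_span ⟨_, u.2, rfl⟩)
    | add y y' hy hy' => rw [map_add, map_add]; exact add_mem hy hy'
  · refine Submodule.span_le.2 ?_
    rintro _ ⟨z, hz, rfl⟩
    change LinearMap.lTensor C N.mkQ (e.symm (bc f z)) = 0
    have : e.symm (bc f z) = (1 : C) ⊗ₜ[A] z := by
      rw [LinearEquiv.symm_apply_eq, he, one_smul]
    rw [this, LinearMap.lTensor_tmul, Submodule.mkQ_apply, (Submodule.Quotient.mk_eq_zero _).2 hz,
      TensorProduct.tmul_zero]

/-- the base change of a point of the Grassmannian is spanned by the images of the submodule. -/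
theorem map_eq_span (f : A →ₐ[R] C) (N : Module.Grassmannian A (A ⊗[R] M) k) :
    (Module.Grassmannian.map f N).toSubmodule =
      Submodule.span C (bc f '' (N.toSubmodule : Set (A ⊗[R] M))) := by
  algebraize [f.toRingHom]
  haveI : IsScalarTower R A C := IsScalarTower.of_algebraMap_eq' f.comp_algebraMap.symm
  rw [Module.Grassmannian.map_toSubmodule]
  exact ker_baseChangeMkQ_eq_span f rfl N.toSubmodule

/-- the ideal measuring the failure of `W ≤ U`. -/
noncomputable def condIdeal (U W : Submodule A (A ⊗[R] M)) : Ideal A :=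
  Ideal.span {a | ∃ z ∈ W, ∃ l : A ⊗[R] M →ₗ[A] A, U ≤ LinearMap.ker l ∧ l z = a}

lemma condIdeal_eq_bot_iff (N : Module.Grassmannian A (A ⊗[R] M) k)
    (W : Submodule A (A ⊗[R] M)) :
    condIdeal N.toSubmodule W = ⊥ ↔ W ≤ N.toSubmodule := by
  rw [condIdeal, Ideal.span_eq_bot]
  constructor
  · intro h z hz
    rw [← Submodule.Quotient.mk_eq_zero]
    refine (Module.forall_dual_apply_eq_zero_iff A _).mp fun φ ↦ ?_
    exact h _ ⟨z, hz, φ.comp N.toSubmodule.mkQ,
      fun x hx ↦ by simp [(Submodule.Quotient.mk_eq_zero _).2 hx], rfl⟩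
  · rintro h a ⟨z, hz, l, hl, rfl⟩
    exact hl (h hz)

lemma exists_dual_family (N : Module.Grassmannian A (A ⊗[R] M) k) :
    ∃ (n : ℕ) (l : Fin n → (A ⊗[R] M →ₗ[A] A)) (m : Fin n → A ⊗[R] M),
      (∀ i, N.toSubmodule ≤ LinearMap.ker (l i)) ∧
      ∀ z, z - ∑ i, l i z • m i ∈ N.toSubmodule := by
  obtain ⟨n, p, hp⟩ := Module.Finite.exists_fin' A (A ⊗[R] M ⧸ N.toSubmodule)
  obtain ⟨s, hs⟩ := Module.projective_lifting_property p LinearMap.id hp
  choose m hm using fun i ↦ Submodule.mkQ_surjective N.toSubmodule (p (Pi.single i 1))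
  refine ⟨n, fun i ↦ (LinearMap.proj i).comp (s.comp N.toSubmodule.mkQ), m,
    fun i x hx ↦ ?_, fun z ↦ ?_⟩
  · simp [(Submodule.Quotient.mk_eq_zero _).2 hx]
  · rw [← Submodule.Quotient.mk_eq_zero, ← Submodule.mkQ_apply, map_sub, map_sum, sub_eq_zero]
    have hz : p (s (N.toSubmodule.mkQ z)) = N.toSubmodule.mkQ z := congr($hs (N.toSubmodule.mkQ z))
    conv_lhs => rw [← hz, pi_eq_sum_univ' (s (N.toSubmodule.mkQ z)), map_sum]
    refine Finset.sum_congr rfl fun i _ ↦ ?_
    rw [map_smul, map_smul, hm]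
    rfl

lemma exists_dual_baseChange (f : A →ₐ[R] C) (l : A ⊗[R] M →ₗ[A] A) :
    ∃ l' : C ⊗[R] M →ₗ[C] C, ∀ z, l' (bc f z) = f (l z) := by
  let l₀ : M →ₗ[R] C := f.toLinearMap.comp ((l.restrictScalars R).comp (TensorProduct.mk R A M 1))
  refine ⟨LinearMap.liftBaseChange C l₀, fun z ↦ ?_⟩
  induction z using TensorProduct.induction_on with
  | zero => simp
  | tmul a m =>
    have : a ⊗ₜ[R] m = a • ((1 : A) ⊗ₜ[R] m) := by simp [TensorProduct.smul_tmul']
    rw [bc_tmul, LinearMap.liftBaseChange_tmul, this, map_smul, smul_eq_mul, smul_eq_mul, map_mul]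
    rfl
  | add x y hx hy => simp only [map_add, hx, hy]

theorem condIdeal_map (f : A →ₐ[R] C) (N : Module.Grassmannian A (A ⊗[R] M) k)
    (W : Submodule A (A ⊗[R] M)) (W' : Submodule C (C ⊗[R] M))
    (hW : W' = Submodule.span C (bc f '' (W : Set (A ⊗[R] M)))) :
    condIdeal (Module.Grassmannian.map f N).toSubmodule W' =
      (condIdeal N.toSubmodule W).map f.toRingHom := by
  apply le_antisymm
  · obtain ⟨n, l, m, hl, hm⟩ := exists_dual_family N
    refine Ideal.span_le.2 ?_
    rintro _ ⟨z, hz, l', hl', rfl⟩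
    rw [hW] at hz
    induction hz using Submodule.span_induction with
    | mem x hx =>
      obtain ⟨x, hx, rfl⟩ := hx
      have h1 : bc f (x - ∑ i, l i x • m i) ∈ (Module.Grassmannian.map f N).toSubmodule := by
        rw [map_eq_span]; exact Submodule.subset_span ⟨_, hm x, rfl⟩
      have h2 := hl' h1
      rw [LinearMap.mem_ker, map_sub, map_sub, map_sum, map_sum, sub_eq_zero] at h2
      rw [h2]
      refine sum_mem fun i _ ↦ ?_
      rw [bc_smul, map_smul, smul_eq_mul]
      exact Ideal.mul_mem_right _ _ (Ideal.mem_map_of_mem f.toRingHom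
        (Ideal.subset_span ⟨x, hx, l i, hl i, rfl⟩))
    | zero => simp
    | add x y _ _ hx hy => rw [map_add]; exact add_mem hx hy
    | smul a x _ hx => rw [map_smul, smul_eq_mul]; exact Ideal.mul_mem_left _ _ hx
  · rw [Ideal.map_le_iff_le_comap]
    refine Ideal.span_le.2 ?_
    rintro _ ⟨z, hz, l, hl, rfl⟩
    obtain ⟨l', hl'⟩ := exists_dual_baseChange f l
    refine Ideal.subset_span ⟨bc f z, ?_, l', ?_, hl' z⟩
    · rw [hW]; exact Submodule.subset_span ⟨z, hz, rfl⟩
    · rw [map_eq_span, Submodule.span_le]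
      rintro _ ⟨x, hx, rfl⟩
      change l' (bc f x) = 0
      rw [hl', show l x = 0 from hl hx, map_zero]

lemma bc_baseChange (f : A →ₐ[R] C) (T : M →ₗ[R] M) (z : A ⊗[R] M) :
    bc f (T.baseChange A z) = T.baseChange C (bc f z) := by
  induction z using TensorProduct.induction_on with
  | zero => simp
  | tmul a m => simp
  | add x y hx hy => simp only [map_add, hx, hy]

/-- the span of the images of a submodule under a family of endomorphisms of `M`. -/
noncomputable def spanImages {ι : Type u} (T : ι → M →ₗ[R] M) (U : Submodule A (A ⊗[R] M)) :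
    Submodule A (A ⊗[R] M) :=
  Submodule.span A {y | ∃ i, ∃ z ∈ U, (T i).baseChange A z = y}

lemma spanImages_le_iff {ι : Type u} (T : ι → M →ₗ[R] M) (U V : Submodule A (A ⊗[R] M)) :
    spanImages T U ≤ V ↔ ∀ i, ∀ z ∈ U, (T i).baseChange A z ∈ V := by
  rw [spanImages, Submodule.span_le]
  exact ⟨fun h i z hz ↦ h ⟨i, z, hz, rfl⟩, by rintro h _ ⟨i, z, hz, rfl⟩; exact h i z hz⟩

theorem spanImages_map {ι : Type u} (T : ι → M →ₗ[R] M) (f : A →ₐ[R] C)
    (N : Module.Grassmannian A (A ⊗[R] M) k) :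
    spanImages T (Module.Grassmannian.map f N).toSubmodule =
      Submodule.span C (bc f '' (spanImages T N.toSubmodule : Set (A ⊗[R] M))) := by
  rw [spanImages, spanImages, span_bc_span]
  apply le_antisymm
  · refine Submodule.span_le.2 ?_
    rintro _ ⟨i, z, hz, rfl⟩
    rw [map_eq_span] at hz
    induction hz using Submodule.span_induction with
    | mem x hx =>
      obtain ⟨x, hx, rfl⟩ := hx
      rw [← bc_baseChange]
      exact Submodule.subset_span ⟨_, ⟨i, x, hx, rfl⟩, rfl⟩
    | zero => simp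
    | add x y _ _ hx hy => rw [map_add]; exact add_mem hx hy
    | smul a x _ hx => rw [map_smul]; exact Submodule.smul_mem _ _ hx
  · refine Submodule.span_mono ?_
    rintro _ ⟨_, ⟨i, z, hz, rfl⟩, rfl⟩
    refine ⟨i, bc f z, ?_, (bc_baseChange f (T i) z).symm⟩
    rw [map_eq_span]
    exact Submodule.subset_span ⟨z, hz, rfl⟩

end Algebra

variable {R : Type u} [CommRing R] {M : Type u} [AddCommGroup M] [Module R M] {k : ℕ}

/-- The condition `W ≤ U` cuts out a closed subscheme. -/
theorem exists_closedImmersion_of_le {X : Over (Spec (CommRingCat.of R))}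
    (eX : ∀ A : CommAlgCat.{u} R, (pt A ⟶ X) ≃ Module.Grassmannian A ((A : Type u) ⊗[R] M) k)
    (heX : ∀ (A C : CommAlgCat.{u} R) (φ : A ⟶ C) (g : pt A ⟶ X) (g' : pt C ⟶ X),
      g'.left = Spec.map (CommRingCat.ofHom φ.hom.toRingHom) ≫ g.left →
        eX C g' = Module.Grassmannian.map φ.hom (eX A g))
    (W : ∀ A : CommAlgCat.{u} R, Module.Grassmannian A ((A : Type u) ⊗[R] M) k →
      Submodule A ((A : Type u) ⊗[R] M))
    (hW : ∀ (A C : CommAlgCat.{u} R) (φ : A ⟶ C) (N), W C (Module.Grassmannian.map φ.hom N) =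
      Submodule.span C (bc φ.hom '' (W A N : Set ((A : Type u) ⊗[R] M)))) :
    ∃ (Z : Scheme.{u}) (ι : Z ⟶ X.left), IsClosedImmersion ι ∧
      ∀ (A : CommAlgCat.{u} R) (g : pt A ⟶ X),
        (∃ h : (pt A).left ⟶ Z, h ≫ ι = g.left) ↔ W A (eX A g) ≤ (eX A g).toSubmodule := by
  have hI : IsNat (X := X) fun A g ↦ condIdeal (eX A g).toSubmodule (W A (eX A g)) := by
    intro A C φ g g' h
    dsimp only
    rw [heX A C φ g g' h]
    exact condIdeal_map φ.hom _ _ _ (hW A C φ _)
  obtain ⟨Z, ι, hι, hZ⟩ := exists_closedImmersion_of_ideals hI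
  exact ⟨Z, ι, hι, fun A g ↦ (hZ A g).trans (condIdeal_eq_bot_iff _ _)⟩

/-- Stability of `U` under a family of endomorphisms of `M` cuts out a closed subscheme. -/
theorem exists_closedImmersion_of_stable {X : Over (Spec (CommRingCat.of R))}
    (eX : ∀ A : CommAlgCat.{u} R, (pt A ⟶ X) ≃ Module.Grassmannian A ((A : Type u) ⊗[R] M) k)
    (heX : ∀ (A C : CommAlgCat.{u} R) (φ : A ⟶ C) (g : pt A ⟶ X) (g' : pt C ⟶ X),
      g'.left = Spec.map (CommRingCat.ofHom φ.hom.toRingHom) ≫ g.left →
        eX C g' = Module.Grassmannian.map φ.hom (eX A g))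
    {σ : Type u} (T : σ → M →ₗ[R] M) :
    ∃ (Z : Scheme.{u}) (ι : Z ⟶ X.left), IsClosedImmersion ι ∧
      ∀ (A : CommAlgCat.{u} R) (g : pt A ⟶ X),
        (∃ h : (pt A).left ⟶ Z, h ≫ ι = g.left) ↔
          ∀ i, ∀ z ∈ (eX A g).toSubmodule, (T i).baseChange A z ∈ (eX A g).toSubmodule := by
  obtain ⟨Z, ι, hι, hZ⟩ := exists_closedImmersion_of_le eX heX
    (fun A N ↦ spanImages T N.toSubmodule) (fun A C φ N ↦ spanImages_map T φ.hom N)
  exact ⟨Z, ι, hι, fun A g ↦ (hZ A g).trans (spanImages_le_iff _ _ _)⟩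

lemma one_tmul_mul {A : Type u} [CommRing A] [Algebra R A] {B : Type u} [Ring B] [Algebra R B]
    (b : B) (x : A ⊗[R] B) :
    ((1 : A) ⊗ₜ[R] b) * x = (LinearMap.mulLeft R b).baseChange A x := by
  induction x using TensorProduct.induction_on with
  | zero => simp
  | tmul a m => simp
  | add x y hx hy => simp only [mul_add, map_add, hx, hy]

end Groth.Agent.Grass5
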