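import Groth.Agent.Grass5.HilbIso
import Groth.Agent.Grass5.FibrePts
import Groth.Agent.VarGal.AffineUnion

/-!
Representability of the Hilbert functor of points when finitely many points of a fibre lie in an affine
open.
-/

set_option autoImplicit false
set_option linter.style.haveILetI false
set_option maxHeartbeats 400000
set_option backward.isDefEq.respectTransparency false
set_option backward.isDefEq.respectTransparency.types false

universe u

open CategoryTheory CategoryTheory.Limits AlgebraicGeometry Opposite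

noncomputable section

namespace Groth.Agent.Grass5.Hilb

section general

/-- the restriction of the image of a closed immersion along a monomorphism it factors through. -/
theorem comap_ker_of_factor {A B C : Scheme.{u}} (ι : A ⟶ B) (c : B ⟶ C) [Mono c]
    [IsClosedImmersion (ι ≫ c)] : (ι ≫ c).ker.comap c = ι.ker := by
  have h : IsPullback ι (𝟙 A) c (ι ≫ c) :=
    IsPullback.of_isLimit' ⟨(Category.id_comp _).symm⟩
      (PullbackCone.IsLimit.mk _ (fun s => s.snd)
        (fun s => by rw [← cancel_mono c, Category.assoc]; exact s.condition.symm)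
        (fun s => Category.comp_id _)
        (fun s m _ h2 => by simpa using h2))
  rw [← Scheme.IdealSheafData.ker_fst_of_isClosedImmersion]
  conv_rhs => rw [← h.isoPullback_hom_fst]
  rw [Scheme.Hom.ker_comp_of_isIso]

end general

variable {X S : Scheme.{u}} {f : X ⟶ S} {d : ℕ}
  {U : X.Opens} {V : S.Opens} (hUV : U ≤ f ⁻¹ᵁ V)

/-- the restricted morphism. -/
abbrev gUV : (U : Scheme.{u}) ⟶ (V : Scheme.{u}) := f.resLE V U hUV

/-- the part of the base change over the open. -/
def emb (T : Over (V : Scheme.{u})) : PicF.XT (gUV hUV) T ⟶ PicF.XT f (res V.ι T) :=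
  pullback.lift (pullback.fst (gUV hUV) T.hom ≫ U.ι) (pullback.snd (gUV hUV) T.hom) (by
    show (pullback.fst (gUV hUV) T.hom ≫ U.ι) ≫ f = pullback.snd (gUV hUV) T.hom ≫ T.hom ≫ V.ι
    rw [Category.assoc, ← Scheme.Hom.resLE_comp_ι f hUV, pullback.condition_assoc])

lemma emb_proj (T : Over (V : Scheme.{u})) :
    emb hUV T ≫ PicF.XTproj f (res V.ι T) = PicF.XTproj (gUV hUV) T := pullback.lift_snd _ _ _

theorem isPullback_emb (T : Over (V : Scheme.{u})) :
    IsPullback (pullback.fst (gUV hUV) T.hom) (emb hUV T) U.ι (pullback.fst f (res V.ι T).hom) := by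
  have w : pullback.fst (gUV hUV) T.hom ≫ U.ι = emb hUV T ≫ pullback.fst f (res V.ι T).hom :=
    (pullback.lift_fst _ _ _).symm
  refine IsPullback.of_isLimit' ⟨w⟩ (PullbackCone.IsLimit.mk _
    (fun s => pullback.lift s.fst (s.snd ≫ PicF.XTproj f (res V.ι T)) ?_) (fun s => ?_) (fun s => ?_)
    (fun s m h1 h2 => ?_))
  · rw [← cancel_mono V.ι, Category.assoc, Category.assoc]
    show s.fst ≫ f.resLE V U hUV ≫ V.ι = _
    rw [Scheme.Hom.resLE_comp_ι, ← Category.assoc, s.condition, Category.assoc, Category.assoc,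
      pullback.condition]
    rfl
  · exact pullback.lift_fst _ _ _
  · refine pullback.hom_ext ?_ ?_
    · simp [emb]; exact s.condition
    · simp [emb, PicF.XTproj]
  · refine pullback.hom_ext ?_ ?_
    · simpa using h1
    · rw [pullback.lift_snd, ← h2, Category.assoc, emb_proj]

instance (T : Over (V : Scheme.{u})) : IsOpenImmersion (emb hUV T) :=
  MorphismProperty.of_isPullback (P := @IsOpenImmersion) (isPullback_emb hUV T) inferInstance

theorem range_emb (T : Over (V : Scheme.{u})) :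
    Set.range (emb hUV T) = pullback.fst f (res V.ι T).hom ⁻¹' (U : Set X) := by
  ext z
  constructor
  · rintro ⟨w, rfl⟩
    show pullback.fst f (res V.ι T).hom (emb hUV T w) ∈ U
    rw [← Scheme.Hom.comp_apply, ← (isPullback_emb hUV T).w, Scheme.Hom.comp_apply]
    exact (pullback.fst (gUV hUV) T.hom w).2
  · intro hz
    obtain ⟨w, -, hw⟩ := exists_preimage (isPullback_emb hUV T)
      (⟨pullback.fst f (res V.ι T).hom z, hz⟩ : (U : Scheme.{u})) z rfl
    exact ⟨w, hw⟩

lemma emb_natural {T T' : Over (V : Scheme.{u})} (h : T' ⟶ T) :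
    PicF.XTmap (gUV hUV) h ≫ emb hUV T = emb hUV T' ≫ PicF.XTmap f (resMap V.ι h) := by
  refine pullback.hom_ext ?_ ?_ <;> simp [emb, PicF.XTmap, resMap]

variable (U) in
/-- a family lying over the open. -/
def Inside {T : Over S} (I : (PicF.XT f T).IdealSheafData) : Prop :=
  ∀ z ∈ I.support, pullback.fst f T.hom z ∈ U

theorem Inside.pull {T T' : Over S} {I : (PicF.XT f T).IdealSheafData} (h : Inside U I) (t : T' ⟶ T) :
    Inside U (HilbD.pull f t I) := by
  intro z hz
  rw [pull_eq_comap, Scheme.IdealSheafData.support_comap] at hz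
  have := h _ hz
  rw [← Scheme.Hom.comp_apply] at this
  rwa [show PicF.XTmap f t ≫ pullback.fst f T.hom = pullback.fst f T'.hom by simp [PicF.XTmap]] at this

variable [IsSeparated f]

/-- the image of a family over the open. -/
def imgU {T : Over (V : Scheme.{u})} (W : (PicF.XT (gUV hUV) T).IdealSheafData) :
    (PicF.XT f (res V.ι T)).IdealSheafData := (W.subschemeι ≫ emb hUV T).ker

theorem isClosedImmersion_emb {T : Over (V : Scheme.{u})} (W : HilbD.Obj (gUV hUV) d T) :
    IsClosedImmersion (W.1.subschemeι ≫ emb hUV T) := by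
  obtain ⟨⟨h1, -, -⟩, -⟩ := W.2
  haveI := h1
  haveI : IsSeparated (PicF.XTproj f (res V.ι T)) := MorphismProperty.pullback_snd _ _ inferInstance
  haveI : IsProper ((W.1.subschemeι ≫ emb hUV T) ≫ PicF.XTproj f (res V.ι T)) := by
    rw [Category.assoc, emb_proj]; infer_instance
  haveI : IsProper (W.1.subschemeι ≫ emb hUV T) := IsProper.of_comp _ (PicF.XTproj f (res V.ι T))
  exact IsClosedImmersion.iff_isPreimmersion.2 ⟨inferInstance,
    (W.1.subschemeι ≫ emb hUV T).isClosedMap.isClosed_range⟩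

theorem comap_imgU {T : Over (V : Scheme.{u})} (W : HilbD.Obj (gUV hUV) d T) :
    (imgU hUV W.1).comap (emb hUV T) = W.1 := by
  haveI := isClosedImmersion_emb hUV W
  rw [imgU, comap_ker_of_factor, Scheme.IdealSheafData.ker_subschemeι]

theorem finLocFreeOfDeg_imgU {T : Over (V : Scheme.{u})} (W : HilbD.Obj (gUV hUV) d T) :
    Mor2.IsFinLocFreeOfDeg d ((imgU hUV W.1).subschemeι ≫ PicF.XTproj f (res V.ι T)) := by
  haveI := isClosedImmersion_emb hUV W
  let k := W.1.subschemeι ≫ emb hUV T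
  have e : k.toImage ≫ (imgU hUV W.1).subschemeι = k := k.toImage_imageι
  refine finLocFreeOfDeg_isPullback (IsPullback.of_horiz_isIso (fst := inv k.toImage) (g := 𝟙 _) ⟨?_⟩) W.2
  rw [IsIso.inv_comp_eq, ← Category.assoc, ← Category.assoc, e, Category.comp_id, Category.assoc, emb_proj]

/-- the image as a family. -/
def objU {T : Over (V : Scheme.{u})} (W : HilbD.Obj (gUV hUV) d T) : HilbD.Obj f d (res V.ι T) :=
  ⟨imgU hUV W.1, finLocFreeOfDeg_imgU hUV W⟩

theorem inside_imgU {T : Over (V : Scheme.{u})} (W : HilbD.Obj (gUV hUV) d T) :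
    Inside U (objU hUV W).1 := by
  haveI := isClosedImmersion_emb hUV W
  intro z hz
  change z ∈ (W.1.subschemeι ≫ emb hUV T).ker.support at hz
  rw [← SetLike.mem_coe, Scheme.Hom.support_ker] at hz
  obtain ⟨w, rfl⟩ : z ∈ Set.range (W.1.subschemeι ≫ emb hUV T) :=
    (W.1.subschemeι ≫ emb hUV T).isClosedEmbedding.isClosed_range.closure_subset hz
  have : emb hUV T (W.1.subschemeι w) ∈ Set.range (emb hUV T) := ⟨_, rfl⟩
  rw [range_emb] at this
  exact this

/-- a family over the open comes from the open. -/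
theorem exists_of_inside {T : Over (V : Scheme.{u})} (Z : HilbD.Obj f d (res V.ι T)) (h : Inside U Z.1) :
    ∃ W : HilbD.Obj (gUV hUV) d T, imgU hUV W.1 = Z.1 ∧ W.1 = Z.1.comap (emb hUV T) := by
  have hr : Set.range Z.1.subschemeι ⊆ Set.range (emb hUV T) := by
    rw [range_emb, Scheme.IdealSheafData.range_subschemeι]
    exact h
  let l := IsOpenImmersion.lift (emb hUV T) Z.1.subschemeι hr
  have hl : l ≫ emb hUV T = Z.1.subschemeι := IsOpenImmersion.lift_fac _ _ _
  haveI : IsClosedImmersion (l ≫ emb hUV T) := by rw [hl]; infer_instance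
  haveI : IsClosedImmersion l := IsClosedImmersion.of_comp l (emb hUV T)
  have hc : Z.1.comap (emb hUV T) = l.ker := by
    conv_lhs => rw [← Z.1.ker_subschemeι, ← hl]
    exact comap_ker_of_factor l (emb hUV T)
  have e : l.toImage ≫ l.ker.subschemeι = l := l.toImage_imageι
  have hd : Mor2.IsFinLocFreeOfDeg d (l.ker.subschemeι ≫ PicF.XTproj (gUV hUV) T) := by
    refine finLocFreeOfDeg_isPullback (IsPullback.of_horiz_isIso (fst := inv l.toImage) (g := 𝟙 _) ⟨?_⟩) Z.2
    rw [IsIso.inv_comp_eq, ← Category.assoc, ← Category.assoc, e, Category.comp_id, ← hl, Category.assoc,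
      emb_proj]
  refine ⟨⟨l.ker, hd⟩, ?_, hc.symm⟩
  show (l.ker.subschemeι ≫ emb hUV T).ker = Z.1
  rw [← Scheme.Hom.ker_comp_of_isIso l.toImage, ← Category.assoc, e, hl,
    Scheme.IdealSheafData.ker_subschemeι]

theorem imgU_pull {T T' : Over (V : Scheme.{u})} (h : T' ⟶ T) (W : HilbD.Obj (gUV hUV) d T) :
    HilbD.pull f (resMap V.ι h) (imgU hUV W.1) = imgU hUV (HilbD.pull (gUV hUV) h W.1) := by
  obtain ⟨W', h1, h2⟩ := exists_of_inside hUV (objPull (resMap V.ι h) (objU hUV W))
    ((inside_imgU hUV W).pull _)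
  refine h1.symm.trans ?_
  rw [h2]
  show imgU hUV ((HilbD.pull f (resMap V.ι h) (imgU hUV W.1)).comap (emb hUV T')) = _
  rw [pull_eq_comap, ← Scheme.IdealSheafData.comap_comp, ← emb_natural, Scheme.IdealSheafData.comap_comp,
    comap_imgU, ← pull_eq_comap]

variable {H : Over (V : Scheme.{u})} {Zh : HilbD.Obj (gUV hUV) d H}
  (hH : HilbD.IsUniversal (gUV hUV) d H Zh)

include hH

theorem chart_hom_ext {T : Over S} (u v : T ⟶ res V.ι H)
    (h : HilbD.pull f u (objU hUV Zh).1 = HilbD.pull f v (objU hUV Zh).1) : u = v := by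
  let T₁ : Over (V : Scheme.{u}) := Over.mk (u.left ≫ H.hom)
  have huT : T.hom = T₁.hom ≫ V.ι := by
    simp only [T₁, Over.mk_hom, Category.assoc]
    exact (Over.w u).symm
  let k : res V.ι T₁ ⟶ T := Over.homMk (𝟙 _) (by rw [Category.id_comp]; exact huT)
  let u₁ : T₁ ⟶ H := Over.homMk u.left rfl
  let v₁ : T₁ ⟶ H := Over.homMk v.left (by
    show v.left ≫ H.hom = u.left ≫ H.hom
    rw [← cancel_mono V.ι, Category.assoc, Category.assoc]
    exact (Over.w v).trans (Over.w u).symm)
  have eu : resMap V.ι u₁ = k ≫ u := Over.OverMorphism.ext (Category.id_comp _).symm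
  have ev : resMap V.ι v₁ = k ≫ v := Over.OverMorphism.ext (Category.id_comp _).symm
  have e : imgU hUV (HilbD.pull (gUV hUV) u₁ Zh.1) = imgU hUV (HilbD.pull (gUV hUV) v₁ Zh.1) := by
    rw [← imgU_pull, ← imgU_pull, eu, ev, ← pull_comp, ← pull_comp]
    exact congrArg (HilbD.pull f k) h
  have e' := congr(Scheme.IdealSheafData.comap $e (emb hUV T₁))
  have := (hH T₁ (objPull u₁ Zh)).unique rfl
    ((comap_imgU hUV (objPull v₁ Zh)).symm.trans (e'.symm.trans (comap_imgU hUV (objPull u₁ Zh))))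
  exact Over.OverMorphism.ext congr($(this).left)

theorem exists_chart_iff {T T' : Over S} (Z : HilbD.Obj f d T) (t : T' ⟶ T) :
    (∃ u : T' ⟶ res V.ι H, HilbD.pull f u (objU hUV Zh).1 = HilbD.pull f t Z.1) ↔
      (∀ p : T'.left, T'.hom p ∈ V) ∧ Inside U (HilbD.pull f t Z.1) := by
  constructor
  · rintro ⟨u, hu⟩
    refine ⟨fun p => ?_, hu ▸ (inside_imgU hUV Zh).pull u⟩
    rw [← Over.w u, Scheme.Hom.comp_apply]
    exact (H.hom (u.left p)).2
  · rintro ⟨hV, hin⟩
    have hr : Set.range T'.hom ⊆ Set.range V.ι := by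
      rintro _ ⟨p, rfl⟩
      rw [Scheme.Opens.range_ι]
      exact hV p
    let T₁ : Over (V : Scheme.{u}) := Over.mk (IsOpenImmersion.lift V.ι T'.hom hr)
    have hT₁ : T₁.hom ≫ V.ι = T'.hom := IsOpenImmersion.lift_fac _ _ _
    let k : res V.ι T₁ ⟶ T' := Over.homMk (𝟙 _) (by rw [Category.id_comp]; exact hT₁.symm)
    let k' : T' ⟶ res V.ι T₁ := Over.homMk (𝟙 _) (by rw [Category.id_comp]; exact hT₁)
    have hkk : k' ≫ k = 𝟙 _ := Over.OverMorphism.ext (Category.id_comp _)
    obtain ⟨W, hW, -⟩ := exists_of_inside hUV (objPull k (objPull t Z)) (hin.pull k)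
    obtain ⟨g, hg, -⟩ := hH T₁ W
    refine ⟨k' ≫ resMap V.ι g, ?_⟩
    rw [← pull_comp]
    show HilbD.pull f k' (HilbD.pull f (resMap V.ι g) (imgU hUV Zh.1)) = _
    rw [imgU_pull, hg, hW]
    show HilbD.pull f k' (HilbD.pull f k (HilbD.pull f t Z.1)) = _
    rw [pull_comp, hkk, pull_id]

end Groth.Agent.Grass5.Hilb

namespace Groth.Agent.Grass5.Hilb

variable {X S : Scheme.{u}} (f : X ⟶ S) (d : ℕ)

/-- the bad set of a family with respect to an open. -/
def badSet {T : Over S} (Z : HilbD.Obj f d T) (U : X.Opens) : Set T.left :=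
  (Z.1.subschemeι ≫ PicF.XTproj f T) ''
    ((Z.1.subschemeι ≫ pullback.fst f T.hom) ⁻¹' (U : Set X))ᶜ

theorem isClosed_badSet {T : Over S} (Z : HilbD.Obj f d T) (U : X.Opens) : IsClosed (badSet f d Z U) := by
  haveI := Z.2.1.1
  exact (Z.1.subschemeι ≫ PicF.XTproj f T).isClosedMap _
    (U.2.preimage (Z.1.subschemeι ≫ pullback.fst f T.hom).continuous).isClosed_compl

theorem inside_iff {T T' : Over S} (Z : HilbD.Obj f d T) (U : X.Opens) (t : T' ⟶ T) :
    Inside U (HilbD.pull f t Z.1) ↔ ∀ p, t.left p ∉ badSet f d Z U := by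
  constructor
  · rintro h p ⟨z, hz, hp⟩
    rw [Scheme.Hom.comp_apply] at hp
    obtain ⟨z', hz', -⟩ := exists_preimage (isPullback_XTmap f t) (Z.1.subschemeι z) p hp
    have hmem : z' ∈ (HilbD.pull f t Z.1).support := by
      rw [pull_eq_comap, Scheme.IdealSheafData.support_comap]
      show PicF.XTmap f t z' ∈ Z.1.support
      rw [hz', ← SetLike.mem_coe, ← Scheme.IdealSheafData.range_subschemeι]
      exact ⟨z, rfl⟩
    have h2 := h z' hmem
    rw [← show PicF.XTmap f t ≫ pullback.fst f T.hom = pullback.fst f T'.hom by simp [PicF.XTmap],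
      Scheme.Hom.comp_apply, hz'] at h2
    exact hz h2
  · intro h z hz
    rw [pull_eq_comap, Scheme.IdealSheafData.support_comap] at hz
    obtain ⟨w, hw⟩ : PicF.XTmap f t z ∈ Set.range Z.1.subschemeι := by
      rw [Scheme.IdealSheafData.range_subschemeι]; exact hz
    by_contra hU
    refine h (PicF.XTproj f T' z) ⟨w, ?_, ?_⟩
    · show ¬ (Z.1.subschemeι ≫ pullback.fst f T.hom) w ∈ U
      rwa [Scheme.Hom.comp_apply, hw, ← Scheme.Hom.comp_apply,
        show PicF.XTmap f t ≫ pullback.fst f T.hom = pullback.fst f T'.hom by simp [PicF.XTmap]]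
    · rw [Scheme.Hom.comp_apply, hw, ← Scheme.Hom.comp_apply, (isPullback_XTmap f t).w]
      rfl

variable [IsSeparated f]

/-- **Representability when `d` points of a fibre lie in an affine open.** -/
theorem representable_of_fibre_points
    (h : ∀ (s : S) (x : Fin d → X), (∀ i, f.base (x i) = s) → ∃ U : X.Opens, IsAffineOpen U ∧ ∀ i, x i ∈ U) :
    HilbD.Representable f d := by
  let J : Type u := {q : X.Opens × S.Opens // IsAffineOpen q.1 ∧ IsAffineOpen q.2 ∧ q.1 ≤ f ⁻¹ᵁ q.2}
  have hrep : ∀ q : J, HilbD.Representable (gUV q.2.2.2 : (q.1.1 : Scheme.{u}) ⟶ _) d := fun q => by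
    haveI : IsAffine (q.1.1 : Scheme.{u}) := q.2.1
    haveI : IsAffine (q.1.2 : Scheme.{u}) := q.2.2.1
    exact representable_of_isAffine _ d
  choose H Zh hH using hrep
  let u : ∀ q : J, yoneda.obj (res q.1.2.ι (H q)) ⟶ presheaf f d := fun q =>
    yonedaEquiv.symm (objU q.2.2.2 (Zh q))
  let Vop : ∀ T : Over S, HilbD.Obj f d T → J → T.left.Opens := fun T Z q =>
    T.hom ⁻¹ᵁ q.1.2 ⊓ ⟨(badSet f d Z q.1.1)ᶜ, (isClosed_badSet f d Z q.1.1).isOpen_compl⟩
  obtain ⟨Hh, ⟨r⟩⟩ := Mag88.OverRep.exists_representableBy (presheaf f d) (isSheaf_presheaf f d)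
    (fun q : J => res q.1.2.ι (H q)) u
    (fun q T a b e => chart_hom_ext q.2.2.2 (hH q) a b (congrArg Subtype.val e)) Vop
    (fun T T' Z t q => by
      have key : (∀ p : T'.left, T'.hom p ∈ q.1.2) ∧ Inside q.1.1 (HilbD.pull f t Z.1) ↔
          Set.range t.left ⊆ (Vop T Z q : Set T.left) := by
        rw [inside_iff, Set.range_subset_iff, ← forall_and]
        refine forall_congr' fun p => and_congr ?_ Iff.rfl
        rw [← Over.w t]
        rfl
      rw [← key, ← exists_chart_iff q.2.2.2 (hH q) Z t]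
      constructor
      · rintro ⟨h, hh⟩
        exact ⟨h, congrArg Subtype.val hh⟩
      · rintro ⟨h, hh⟩
        exact ⟨h, Subtype.ext hh⟩)
    (fun T Z p => by
      obtain ⟨hF, hcard⟩ := card_fibre_le _ Z.2 p
      let F := (Z.1.subschemeι ≫ pullback.fst f T.hom).base '' ((Z.1.subschemeι ≫ PicF.XTproj f T).base ⁻¹' {p})
      have hFfin : F.Finite := hF.image _
      have hFs : ∀ x ∈ F, f x = T.hom p := by
        rintro _ ⟨z, hz, rfl⟩
        change f (pullback.fst f T.hom (Z.1.subschemeι z)) = T.hom p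
        rw [← Scheme.Hom.comp_apply (pullback.fst f T.hom) f, pullback.condition, Scheme.Hom.comp_apply]
        exact congrArg (fun y => T.hom y) hz
      obtain ⟨S₀, hS₀, hpS₀, -⟩ := exists_isAffineOpen_mem_and_subset (x := T.hom p) (U := (⊤ : S.Opens)) trivial
      obtain ⟨U₀, hU₀, hFU₀⟩ : ∃ U : X.Opens, IsAffineOpen U ∧ F ⊆ U := by
        rcases F.eq_empty_or_nonempty with he | ⟨x₀, hx₀⟩
        · exact ⟨⊥, isAffineOpen_bot X, by rw [he]; exact Set.empty_subset _⟩
        · have hn : F.ncard ≤ d := (Set.ncard_image_le hF).trans hcard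
          haveI := hFfin.to_subtype
          let e : F ≃ Fin F.ncard := Finite.equivFin F |>.trans (finCongr (Nat.card_coe_set_eq F))
          let x : Fin d → X := fun i => if hi : (i : ℕ) < F.ncard then (e.symm ⟨i, hi⟩ : X) else x₀
          obtain ⟨U, hU, hxU⟩ := h (T.hom p) x (fun i => by
            simp only [x]
            split
            · exact hFs _ (e.symm _).2
            · exact hFs _ hx₀)
          refine ⟨U, hU, fun y hy => ?_⟩
          have := hxU ⟨(e ⟨y, hy⟩ : ℕ), lt_of_lt_of_le (e ⟨y, hy⟩).2 hn⟩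
          simpa [x] using this
      have hFO : F ⊆ ((f ⁻¹ᵁ S₀ : X.Opens) : Set X) := fun x hx => by
        show f x ∈ S₀
        rw [hFs x hx]; exact hpS₀
      obtain ⟨c, hFc, hcO⟩ := VarGal.exists_basicOpen_subset_of_finite hU₀ (f ⁻¹ᵁ S₀) hFfin hFU₀ hFO
      refine ⟨⟨(X.basicOpen c, S₀), hU₀.basicOpen c, hS₀, hcO⟩, hpS₀, ?_⟩
      rintro ⟨z, hz, hzp⟩
      exact hz (hFc ⟨z, hzp, rfl⟩))
  refine ⟨Hh, r.homEquiv (𝟙 Hh), fun T Z => ⟨r.homEquiv.symm Z, ?_, fun g hg => ?_⟩⟩
  · exact congrArg Subtype.val ((r.homEquiv_eq _).symm.trans (r.homEquiv.apply_symm_apply Z))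
  · refine r.homEquiv.injective ?_
    rw [r.homEquiv.apply_symm_apply, r.homEquiv_eq]
    exact Subtype.ext hg

end Groth.Agent.Grass5.Hilb
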