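import Groth.Agent.Grass5.HilbLocus

/-!
Closed subschemes of a closed subscheme, for the Hilbert functor of points.
-/

set_option autoImplicit false
set_option backward.isDefEq.respectTransparency false
set_option backward.isDefEq.respectTransparency.types false

universe u

open CategoryTheory CategoryTheory.Limits AlgebraicGeometry

namespace Groth.Agent.Grass5.Hilb

theorem comap_map_closedImmersion {A B : Scheme.{u}} (j : A ⟶ B) [IsClosedImmersion j]
    (I : A.IdealSheafData) : (I.map j).comap j = I := by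
  have h1 : I.map j = (I.subschemeι ≫ j).ker := by
    rw [← Scheme.IdealSheafData.map_ker, Scheme.IdealSheafData.ker_subschemeι]
  rw [h1, ← Scheme.IdealSheafData.ker_fst_of_isClosedImmersion]
  have h : IsPullback I.subschemeι (𝟙 _) j (I.subschemeι ≫ j) := by
    have h2 : IsPullback (𝟙 A) (𝟙 A) j j := IsKernelPair.id_of_mono j
    simpa using (IsPullback.of_vert_isIso (fst := I.subschemeι) (snd := 𝟙 _) (f := 𝟙 A)
      (g := I.subschemeι) ⟨by simp⟩).paste_horiz h2
  rw [← h.isoPullback_inv_fst, Scheme.Hom.ker_comp_of_isIso,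
    Scheme.IdealSheafData.ker_subschemeι]

theorem map_comap_closedImmersion {A B : Scheme.{u}} (j : A ⟶ B) [IsClosedImmersion j]
    {K : B.IdealSheafData} (hK : j.ker ≤ K) : (K.comap j).map j = K := by
  obtain ⟨a, ha⟩ : ∃ a, a ≫ j = K.subschemeι :=
    ⟨IsClosedImmersion.lift _ _ (hK.trans (Scheme.IdealSheafData.ker_subschemeι _).ge),
      IsClosedImmersion.lift_fac _ _ _⟩
  have hK' : K = (a.ker).map j := by
    rw [Scheme.IdealSheafData.map_ker, ha, Scheme.IdealSheafData.ker_subschemeι]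
  rw [hK', comap_map_closedImmersion]

variable {X Y S : Scheme.{u}} (i : X ⟶ Y) (g : Y ⟶ S) {T T' : Over S}

/-- the closed immersion of the base changes. -/
noncomputable def incl (T : Over S) : PicF.XT (i ≫ g) T ⟶ PicF.XT g T :=
  pullback.map (i ≫ g) T.hom g T.hom i (𝟙 _) (𝟙 S) (Category.comp_id _) (by simp)

lemma incl_proj : incl i g T ≫ PicF.XTproj g T = PicF.XTproj (i ≫ g) T := by
  simp [incl, PicF.XTproj]

lemma isPullback_incl : IsPullback (incl i g T) (pullback.fst (i ≫ g) T.hom)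
    (pullback.fst g T.hom) i := by
  refine (IsPullback.of_bot ?_ (by simp [incl]) (IsPullback.of_hasPullback g T.hom)).flip
  simpa [incl] using IsPullback.of_hasPullback (i ≫ g) T.hom

instance [IsClosedImmersion i] : IsClosedImmersion (incl i g T) :=
  MorphismProperty.of_isPullback (isPullback_incl i g).flip (inferInstanceAs (IsClosedImmersion i))

lemma incl_XTmap (h : T' ⟶ T) :
    incl i g T' ≫ PicF.XTmap g h = PicF.XTmap (i ≫ g) h ≫ incl i g T := by
  refine pullback.hom_ext ?_ ?_ <;> simp [incl, PicF.XTmap]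

lemma push_eq_map (I : (PicF.XT (i ≫ g) T).IdealSheafData) :
    HilbD.push i g T I = I.map (incl i g T) := by
  conv_rhs => rw [← I.ker_subschemeι, Scheme.IdealSheafData.map_ker]
  rfl

variable [IsClosedImmersion i]

lemma ker_incl (h : T' ⟶ T) : HilbD.pull g h (incl i g T).ker = (incl i g T').ker := by
  have hp : IsPullback (incl i g T') (PicF.XTmap (i ≫ g) h) (PicF.XTmap g h) (incl i g T) := by
    refine IsPullback.of_bot ?_ (incl_XTmap i g h) (isPullback_incl i g)
    simpa [PicF.XTmap] using isPullback_incl i g (T := T')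
  rw [pull_eq_comap, ← Scheme.IdealSheafData.ker_fst_of_isClosedImmersion, ← hp.isoPullback_inv_fst,
    Scheme.Hom.ker_comp_of_isIso]

theorem push_pull (h : T' ⟶ T) (I : (PicF.XT (i ≫ g) T).IdealSheafData) :
    HilbD.pull g h (HilbD.push i g T I) = HilbD.push i g T' (HilbD.pull (i ≫ g) h I) := by
  rw [push_eq_map, push_eq_map]
  have hle : (incl i g T').ker ≤ HilbD.pull g h (I.map (incl i g T)) := by
    rw [← ker_incl i g h, pull_eq_comap, pull_eq_comap, ← Scheme.IdealSheafData.map_bot]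
    exact Scheme.IdealSheafData.comap_mono _ (Scheme.IdealSheafData.map_mono _ bot_le)
  conv_lhs => rw [← map_comap_closedImmersion (incl i g T') hle]
  rw [pull_eq_comap, pull_eq_comap, ← Scheme.IdealSheafData.comap_comp, incl_XTmap,
    Scheme.IdealSheafData.comap_comp, comap_map_closedImmersion]

theorem finLocFreeOfDeg_push {d : ℕ} (I : (PicF.XT (i ≫ g) T).IdealSheafData) :
    Mor2.IsFinLocFreeOfDeg d ((HilbD.push i g T I).subschemeι ≫ PicF.XTproj g T) ↔
      Mor2.IsFinLocFreeOfDeg d (I.subschemeι ≫ PicF.XTproj (i ≫ g) T) := by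
  let k := I.subschemeι ≫ incl i g T
  have hker : HilbD.push i g T I = k.ker := rfl
  rw [hker]
  have e : k.toImage ≫ k.ker.subschemeι ≫ PicF.XTproj g T = I.subschemeι ≫ PicF.XTproj (i ≫ g) T := by
    rw [← Category.assoc, ← incl_proj i g, ← Category.assoc]
    exact congrArg (· ≫ _) k.toImage_imageι
  constructor
  · intro h
    exact finLocFreeOfDeg_isPullback
      (fst := k.toImage) (g := 𝟙 T.left) (IsPullback.of_horiz_isIso ⟨by rw [Category.comp_id, e]⟩) h
  · intro h
    exact finLocFreeOfDeg_isPullback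
      (fst := inv k.toImage) (g := 𝟙 T.left)
      (IsPullback.of_horiz_isIso ⟨by rw [Category.comp_id, ← e]; simp⟩) h

/-- families lying in a closed subscheme. -/
noncomputable def objPush {d : ℕ} (Z : HilbD.Obj (i ≫ g) d T) : HilbD.Obj g d T :=
  ⟨HilbD.push i g T Z.1, (finLocFreeOfDeg_push i g Z.1).2 Z.2⟩

theorem representable_closed {d : ℕ} {H : Over S} {Z : HilbD.Obj g d H}
    (hZ : HilbD.IsUniversal g d H Z) :
    ∃ (H₀ : Over S) (Z₀ : HilbD.Obj (i ≫ g) d H₀) (m₀ : H₀ ⟶ H),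
      HilbD.IsUniversal (i ≫ g) d H₀ Z₀ ∧ IsClosedImmersion m₀.left ∧
      HilbD.pull g m₀ Z.1 = HilbD.push i g H₀ Z₀.1 := by
  obtain ⟨T₀, ι, hι, huniv⟩ := exists_locus_le Z (incl i g H).ker
  haveI := hι
  let H₀ : Over S := Over.mk (ι ≫ H.hom)
  let m₀ : H₀ ⟶ H := Over.homMk ι rfl
  have key : ∀ {T : Over S} (h : T ⟶ H),
      (∃ a, a ≫ ι = h.left) ↔ (incl i g T).ker ≤ HilbD.pull g h Z.1 := fun h ↦ by
    rw [huniv h, ker_incl]
  have h0 : (incl i g H₀).ker ≤ HilbD.pull g m₀ Z.1 := (key m₀).1 ⟨𝟙 _, Category.id_comp _⟩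
  let I₀ := (HilbD.pull g m₀ Z.1).comap (incl i g H₀)
  have hpush : HilbD.push i g H₀ I₀ = HilbD.pull g m₀ Z.1 := by
    rw [push_eq_map]; exact map_comap_closedImmersion _ h0
  let Z₀ : HilbD.Obj (i ≫ g) d H₀ :=
    ⟨I₀, (finLocFreeOfDeg_push i g I₀).1 (hpush ▸ (objPull m₀ Z).2)⟩
  refine ⟨H₀, Z₀, m₀, fun T W ↦ ?_, hι, hpush.symm⟩
  obtain ⟨h, hh, hu⟩ := hZ T (objPush i g W)
  obtain ⟨a, ha⟩ := (key h).2 (by
    rw [hh, ← Scheme.IdealSheafData.map_bot]
    exact (Scheme.IdealSheafData.map_mono _ bot_le).trans (push_eq_map i g W.1).ge)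
  have ea : a ≫ ι ≫ H.hom = T.hom := by rw [← Category.assoc, ha, Over.w h]
  refine ⟨Over.homMk a ea, ?_, fun b hb ↦ ?_⟩
  · have e : HilbD.push i g T (HilbD.pull (i ≫ g) (Over.homMk a ea : T ⟶ H₀) Z₀.1) =
        HilbD.push i g T W.1 := by
      rw [← push_pull, show HilbD.push i g H₀ Z₀.1 = _ from hpush, pull_comp,
        show (Over.homMk a ea : T ⟶ H₀) ≫ m₀ = h from Over.OverMorphism.ext ha]
      exact hh
    rw [push_eq_map, push_eq_map] at e
    have := congr(Scheme.IdealSheafData.comap $e (incl i g T))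
    rwa [comap_map_closedImmersion, comap_map_closedImmersion] at this
  · have e2 : b ≫ m₀ = h := hu _ (by
      show HilbD.pull g (b ≫ m₀) Z.1 = HilbD.push i g T W.1
      rw [← pull_comp, ← hpush, push_pull]
      exact congrArg _ hb)
    refine Over.OverMorphism.ext ?_
    rw [← cancel_mono ι]
    exact (congr($(e2).left)).trans ha.symm

theorem isClosedImmersion_of_pull_eq_push {d : ℕ} {H H' : Over S} {Z : HilbD.Obj g d H}
    (hZ : HilbD.IsUniversal g d H Z) {Z' : HilbD.Obj (i ≫ g) d H'}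
    (hZ' : HilbD.IsUniversal (i ≫ g) d H' Z') (m : H' ⟶ H)
    (hm : HilbD.pull g m Z.1 = HilbD.push i g H' Z'.1) : IsClosedImmersion m.left := by
  obtain ⟨H₀, Z₀, m₀, h₀, hcl, hm₀⟩ := representable_closed i g hZ
  haveI := hcl
  obtain ⟨e, he, -⟩ := h₀ H' Z'
  obtain ⟨e', he', -⟩ := hZ' H₀ Z₀
  have h1 : e ≫ e' = 𝟙 H' := (hZ' H' Z').unique (by rw [← pull_comp, he', he]) (by
    rw [pull_eq_comap]; simp [PicF.XTmap])
  have h2 : e' ≫ e = 𝟙 H₀ := (h₀ H₀ Z₀).unique (by rw [← pull_comp, he, he']) (by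
    rw [pull_eq_comap]; simp [PicF.XTmap])
  have hm' : m = e ≫ m₀ := (hZ H' (objPush i g Z')).unique hm (by
    show HilbD.pull g (e ≫ m₀) Z.1 = HilbD.push i g H' Z'.1
    rw [← pull_comp, hm₀, push_pull, he])
  haveI : IsIso e.left := ⟨e'.left, by rw [← Over.comp_left, h1, Over.id_left],
    by rw [← Over.comp_left, h2, Over.id_left]⟩
  rw [hm', Over.comp_left]
  infer_instance

end Groth.Agent.Grass5.Hilb
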