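import Groth.Agent.Grass5.PunctPt
import Groth.Agent.Grass5.HilbOpen
import Groth.Agent.HilbCurve12.HilbOpen
import Groth.Agent.Div89.Comap

/-!
Families of points in an affine chart, with orders and products of their ideals.
-/

set_option autoImplicit false
set_option linter.style.haveILetI false
set_option maxHeartbeats 400000
set_option backward.isDefEq.respectTransparency false
set_option backward.isDefEq.respectTransparency.types false

universe u

open CategoryTheory CategoryTheory.Limits AlgebraicGeometry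
open scoped TensorProduct

noncomputable section

namespace Groth.Agent.Grass5.HilbStep

open Groth.Agent.Grass5.Hilb Groth.Agent.Grass5.Punct Groth.Agent.HilbCurve12 Groth.Agent.HilbZeta12

section Affine

variable {C D : Type u} [CommRing C] [CommRing D]

/-- the ideal sheaf of an ideal. -/
def spI (J : Ideal C) : (Spec (CommRingCat.of C)).IdealSheafData :=
  (Spec.map (CommRingCat.ofHom (Ideal.Quotient.mk J))).ker

lemma ideal_ker_specMap (φ : C →+* D) :
    (Spec.map (CommRingCat.ofHom φ)).ker.ideal ⟨⊤, isAffineOpen_top _⟩ =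
      (RingHom.ker φ).map (Scheme.ΓSpecIso (CommRingCat.of C)).inv.hom := by
  rw [Scheme.Hom.ker_apply]
  let e := (Scheme.ΓSpecIso (CommRingCat.of C)).commRingCatIsoToRingEquiv
  show RingHom.ker (Spec.map (CommRingCat.ofHom φ)).appTop.hom = (RingHom.ker φ).map e.symm.toRingHom
  rw [show (RingHom.ker φ).map e.symm.toRingHom = (RingHom.ker φ).comap e.toRingHom from
    Ideal.map_symm e]
  let e' := (Scheme.ΓSpecIso (CommRingCat.of D)).commRingCatIsoToRingEquiv
  rw [← RingHom.ker_equiv_comp (Spec.map (CommRingCat.ofHom φ)).appTop.hom e', RingHom.comap_ker]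
  congr 1
  exact congrArg CommRingCat.Hom.hom (Scheme.ΓSpecIso_naturality (CommRingCat.ofHom φ))

lemma ideal_spI (J : Ideal C) : (spI J).ideal ⟨⊤, isAffineOpen_top _⟩ =
    J.map (Scheme.ΓSpecIso (CommRingCat.of C)).inv.hom := by
  rw [spI, ideal_ker_specMap, Ideal.mk_ker]

lemma ker_specMap (φ : C →+* D) : (Spec.map (CommRingCat.ofHom φ)).ker = spI (RingHom.ker φ) :=
  Scheme.IdealSheafData.ext_of_isAffine ((ideal_ker_specMap φ).trans (ideal_spI _).symm)

lemma spI_le {J J' : Ideal C} : spI J ≤ spI J' ↔ J ≤ J' := by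
  constructor
  · intro h
    have := h ⟨⊤, isAffineOpen_top _⟩
    rw [ideal_spI, ideal_spI] at this
    have h2 := Ideal.map_mono (f := (Scheme.ΓSpecIso (CommRingCat.of C)).hom.hom) this
    rwa [Ideal.map_map, Ideal.map_map, ← CommRingCat.hom_comp, Iso.inv_hom_id, CommRingCat.hom_id,
      Ideal.map_id, Ideal.map_id] at h2
  · intro h
    refine Scheme.IdealSheafData.le_of_isAffine ?_
    rw [ideal_spI, ideal_spI]
    exact Ideal.map_mono h

lemma spI_mul (J J' : Ideal C) : spI (J * J') = spI J * spI J' := by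
  refine Scheme.IdealSheafData.ext_of_isAffine ?_
  rw [ideal_spI, Scheme.IdealSheafData.ideal_mul, Pi.mul_apply, ideal_spI, ideal_spI, Ideal.map_mul]

lemma map_inv_eq_comap_hom {P Q : Scheme.{u}} (e : P ≅ Q) (I : Q.IdealSheafData) :
    I.map e.inv = I.comap e.hom := by
  refine le_antisymm ?_ ?_
  · have h1 := Scheme.IdealSheafData.comap_mono e.hom (Scheme.IdealSheafData.comap_map_le I e.inv)
    simpa [← Scheme.IdealSheafData.comap_comp] using h1
  · rw [Scheme.IdealSheafData.le_map_iff_comap_le, ← Scheme.IdealSheafData.comap_comp, e.inv_hom_id,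
      Scheme.IdealSheafData.comap_id]

variable {k : Type u} [CommRing k] {R : Type u} [CommRing R] [Algebra k R] {B : Type u} [CommRing B]
  [Algebra k B]

lemma sh_eq (J : Ideal (B ⊗[k] R)) : sh J = (spI J).comap (eXT k R B).hom := by
  rw [← map_inv_eq_comap_hom, sh, inclJ, spI, Scheme.IdealSheafData.map_ker]

lemma sh_le {J J' : Ideal (B ⊗[k] R)} : sh J ≤ sh J' ↔ J ≤ J' := by
  rw [sh_eq, sh_eq]
  refine ⟨fun h => spI_le.1 ?_, fun h => Scheme.IdealSheafData.comap_mono _ (spI_le.2 h)⟩
  have h1 := Scheme.IdealSheafData.comap_mono (eXT k R B).inv h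
  simpa [← Scheme.IdealSheafData.comap_comp] using h1

lemma sh_injective {J J' : Ideal (B ⊗[k] R)} (h : sh J = sh J') : J = J' :=
  le_antisymm (sh_le.1 h.le) (sh_le.1 h.ge)

lemma sh_mul (J J' : Ideal (B ⊗[k] R)) : sh (J * J') = sh J * sh J' := by
  rw [sh_eq, sh_eq, sh_eq, spI_mul, Div89.comap_mul]

/-- the augmentation of a point of the affine scheme. -/
def augB (φ : R →ₐ[k] B) : B ⊗[k] R →ₐ[B] B :=
  Algebra.TensorProduct.lift (AlgHom.id B B) φ (fun _ _ => Commute.all _ _)

@[simp] lemma augB_tmul (φ : R →ₐ[k] B) (b : B) (r : R) : augB φ (b ⊗ₜ[k] r) = b * φ r := by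
  simp [augB]

/-- the morphism of a point of the affine scheme. -/
abbrev ptMap (φ : R →ₐ[k] B) : (TB k B).left ⟶ Spec (CommRingCat.of R) :=
  Spec.map (CommRingCat.ofHom φ.toRingHom)

lemma ptMap_str (φ : R →ₐ[k] B) : ptMap φ ≫ str k R = (TB k B).hom := by
  show Spec.map _ ≫ Spec.map _ = Spec.map _
  rw [← Spec.map_comp]
  congr 1
  ext x
  exact φ.commutes x

lemma exists_ptMap (x : (TB k B).left ⟶ Spec (CommRingCat.of R)) (hx : x ≫ str k R = (TB k B).hom) :
    ∃ φ : R →ₐ[k] B, x = ptMap φ := by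
  obtain ⟨ψ, rfl⟩ := Spec.map_surjective x
  refine ⟨{ ψ.hom with commutes' := fun c => ?_ }, rfl⟩
  change Spec.map ψ ≫ Spec.map _ = Spec.map _ at hx
  rw [← Spec.map_comp] at hx
  exact congr($(Spec.map_injective hx) c)

lemma secGraph_sh [IsSeparated (str k R)] (φ : R →ₐ[k] B) :
    HilbD.secGraph (str k R) (TB k B) (ptMap φ) (ptMap_str φ) = sh (RingHom.ker (augB φ)) := by
  have e : sec (str k R) (TB k B) (ptMap φ) (ptMap_str φ) =
      Spec.map (CommRingCat.ofHom (augB φ).toRingHom) ≫ (eXT k R B).inv := by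
    refine pullback.hom_ext ?_ ?_
    · rw [sec_fst, Category.assoc, eXT_inv_fst, ← Spec.map_comp]
      refine congrArg Spec.map (CommRingCat.hom_ext (RingHom.ext fun r => ?_))
      simp
    · show sec _ _ _ _ ≫ PicF.XTproj _ _ = _ ≫ PicF.XTproj _ _
      rw [sec_proj, Category.assoc, eXT_inv_proj, ← Spec.map_comp]
      refine (Spec.map_id _).symm.trans (congrArg Spec.map (CommRingCat.hom_ext (RingHom.ext fun r => ?_)))
      simp
  rw [secGraph_eq, e, sh_eq, ← map_inv_eq_comap_hom, ← Scheme.IdealSheafData.map_ker, ker_specMap]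
  rfl

end Affine

section Chart

variable {U X S : Scheme.{u}} (i : U ⟶ X) (f : X ⟶ S) (g : U ⟶ S) (hg : i ≫ f = g) {T T' : Over S} {n : ℕ}

/-- the chart inside the base change. -/
def inclG (T : Over S) : PicF.XT g T ⟶ PicF.XT f T :=
  pullback.map g T.hom f T.hom i (𝟙 _) (𝟙 S) (by rw [Category.comp_id, hg]) (by simp)

/-- the restriction to the chart. -/
def restrG (J : (PicF.XT f T).IdealSheafData) : (PicF.XT g T).IdealSheafData :=
  J.comap (inclG i f g hg T)

/-- the extension from the chart. -/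
def pushG (I : (PicF.XT g T).IdealSheafData) : (PicF.XT f T).IdealSheafData :=
  I.map (inclG i f g hg T)

lemma pushG_eq (I : (PicF.XT (i ≫ f) T).IdealSheafData) :
    pushG i f _ rfl I = pushOpen i f I := by
  rw [pushOpen]
  conv_lhs => rw [← I.ker_subschemeι, pushG, Scheme.IdealSheafData.map_ker]
  rfl

lemma le_pushG_iff {J : (PicF.XT f T).IdealSheafData} {I : (PicF.XT g T).IdealSheafData} :
    J ≤ pushG i f g hg I ↔ restrG i f g hg J ≤ I :=
  Scheme.IdealSheafData.le_map_iff_comap_le

lemma restrG_mul (J J' : (PicF.XT f T).IdealSheafData) :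
    restrG i f g hg (J * J') = restrG i f g hg J * restrG i f g hg J' :=
  Div89.comap_mul _ _ _

variable [IsOpenImmersion i] [IsSeparated f]

theorem restrG_push (W : HilbD.Obj g n T) : restrG i f g hg (pushG i f g hg W.1) = W.1 := by
  subst hg
  rw [pushG_eq]
  exact restr_push i f W

/-- the extension of a family from the chart. -/
def upObj (W : HilbD.Obj g n T) : HilbD.Obj f n T :=
  ⟨pushG i f g hg W.1, by subst hg; rw [pushG_eq]; exact (objPushOpen i f W).2⟩

theorem within_upObj (W : HilbD.Obj g n T) : Within f (Set.range i) (upObj i f g hg W).1 := by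
  subst hg
  show Within f _ (pushG i f _ rfl W.1)
  rw [pushG_eq]
  exact within_pushOpen i f W

theorem exists_upObj (Z : HilbD.Obj f n T) (h : Within f (Set.range i) Z.1) :
    ∃ W : HilbD.Obj g n T, upObj i f g hg W = Z := by
  subst hg
  obtain ⟨e, he⟩ := exists_restr_iso i f h
  refine ⟨⟨restrOpen i f Z.1,
    (deg_congr e (by rw [← he, Category.assoc, Category.assoc, incl_proj])).1 Z.2⟩, Subtype.ext ?_⟩
  show pushG i f _ rfl (restrOpen i f Z.1) = Z.1
  rw [pushG_eq, push_restr i f h]

theorem pull_upObj (h : T' ⟶ T) (W : HilbD.Obj g n T) :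
    HilbD.pull f h (upObj i f g hg W).1 = pushG i f g hg (HilbD.pull g h W.1) := by
  subst hg
  have hw : Within f (Set.range i) (HilbD.pull f h (pushOpen i f W.1)) :=
    (within_pull_iff f _ _).2 fun t z _ => within_pushOpen i f W z
  show HilbD.pull f h (pushG i f _ rfl W.1) = _
  rw [pushG_eq, pushG_eq, ← push_restr i f hw, restr_pull, restr_push]

omit [IsSeparated f] in
theorem restrG_secGraph [IsSeparated g] [IsSeparated f] (x : T.left ⟶ U) (hx : x ≫ g = T.hom) :
    restrG i f g hg (HilbD.secGraph f T (x ≫ i) (by rw [Category.assoc, hg, hx])) =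
      HilbD.secGraph g T x hx := by
  have e : sec f T (x ≫ i) (by rw [Category.assoc, hg, hx]) = sec g T x hx ≫ inclG i f g hg T := by
    refine pullback.hom_ext ?_ ?_ <;> simp [sec, inclG]
  subst hg
  haveI : Mono (inclG i f (i ≫ f) rfl T) := inferInstanceAs (Mono (incl i f T))
  rw [secGraph_eq, secGraph_eq, restrG, e]
  haveI : IsClosedImmersion (sec (i ≫ f) T x hx ≫ inclG i f (i ≫ f) rfl T) := e ▸ inferInstance
  exact comap_ker_of_factor _ _

theorem upObj_le_iff {m : ℕ} (W : HilbD.Obj g n T) (W' : HilbD.Obj g m T) :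
    (upObj i f g hg W).1 ≤ (upObj i f g hg W').1 ↔ W.1 ≤ W'.1 := by
  refine le_pushG_iff i f g hg |>.trans ?_
  show restrG i f g hg (pushG i f g hg W.1) ≤ W'.1 ↔ _
  rw [restrG_push]

end Chart

end Groth.Agent.Grass5.HilbStep
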