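import Groth.Agent.RelCurve5.SplitDiv
import Groth.Agent.Unr55.FppfScheme

/-!
The Hilbert scheme of points of a smooth curve is smooth.
-/

set_option autoImplicit false
set_option linter.style.haveILetI false
set_option maxHeartbeats 400000
set_option backward.isDefEq.respectTransparency false
set_option backward.isDefEq.respectTransparency.types false

universe u

open CategoryTheory Limits AlgebraicGeometry

namespace Groth.Agent.Grass5.HilbSmooth

open Groth.Agent.Grass5.Hilb Groth.Agent.RelCurve5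

variable {X S : Scheme.{u}} (f : X ⟶ S)

theorem top_finLocFree_zero {Y B : Scheme.{u}} (g : Y ⟶ B) :
    Mor2.IsFinLocFreeOfDeg 0 ((⊤ : Y.IdealSheafData).subschemeι ≫ g) := by
  let p := (⊤ : Y.IdealSheafData).subschemeι ≫ g
  haveI : IsClosedImmersion p :=
    IsClosedImmersion.of_isPreimmersion p (by rw [Set.range_eq_empty]; exact isClosed_empty)
  haveI : IsOpenImmersion p := inferInstance
  refine ⟨⟨inferInstance, inferInstance, inferInstance⟩, fun y => ?_⟩
  obtain ⟨R, i, _, y', rfl⟩ := B.exists_Spec_apply_eq y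
  show p.finrank _ = 0
  rw [← Scheme.Hom.finrank_pullback_snd]
  let q := pullback.snd p i
  haveI : IsEmpty (pullback p i : Scheme.{u}) := Function.isEmpty (pullback.fst p i)
  haveI : IsAffine (pullback p i) := isAffine_of_isAffineHom q
  obtain ⟨φ, hφ⟩ := Spec.map_surjective ((pullback p i).isoSpec.inv ≫ q)
  haveI : IsEmpty (Spec Γ(pullback p i, ⊤) : Scheme.{u}) := Function.isEmpty (pullback p i).isoSpec.inv
  haveI : Subsingleton Γ(pullback p i, ⊤) := PrimeSpectrum.isEmpty_iff_subsingleton.mp ‹IsEmpty (Spec Γ(pullback p i, ⊤) : Scheme.{u})›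
  haveI : IsFinite ((pullback p i).isoSpec.inv ≫ q) := inferInstance
  have h2 : Flat ((pullback p i).isoSpec.inv ≫ q) := inferInstance
  have h1 : IsFinite (Spec.map φ) := hφ ▸ inferInstance
  rw [← hφ] at h2
  rw [← Scheme.Hom.finrank_comp_left_of_isIso (pullback p i).isoSpec.inv q, ← hφ,
    Scheme.Hom.finrank_SpecMap_eq_finrank ((IsFinite.SpecMap_iff φ).mp h1) (Flat.SpecMap_iff.mp h2)]
  algebraize [φ.hom]
  rw [← RingHom.algebraMap_toAlgebra φ.hom, RingHom.finrank_algebraMap,
    Module.rankAtStalk_eq_zero_of_subsingleton]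
  rfl

theorem smooth_zero {H : Over S} {Z : HilbD.Obj f 0 H} (hZ : HilbD.IsUniversal f 0 H Z) : Smooth H.hom := by
  let S₀ : Over S := Over.mk (𝟙 S)
  obtain ⟨s, -, -⟩ := hZ S₀ ⟨⊤, top_finLocFree_zero _⟩
  have hs : s.left ≫ H.hom = 𝟙 S := Over.w s
  let r : H ⟶ S₀ := Over.homMk H.hom (Category.comp_id _)
  have hrs : r ≫ s = 𝟙 H := (hZ H Z).unique
    ((eq_top_of_deg_zero _ _ (objPull (r ≫ s) Z).2).trans (eq_top_of_deg_zero _ _ Z.2).symm)
    ((eq_top_of_deg_zero _ _ (objPull (𝟙 H) Z).2).trans (eq_top_of_deg_zero _ _ Z.2).symm)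
  haveI : IsIso H.hom := ⟨s.left, congrArg Over.Hom.left hrs, hs⟩
  infer_instance

theorem smooth_of_isUniversal [SmoothOfRelativeDimension 1 f] [IsSeparated f]
    (hrep : ∀ e : ℕ, HilbD.Representable f e) :
    ∀ (d : ℕ) (H : Over S) (Z : HilbD.Obj f d H), HilbD.IsUniversal f d H Z → Smooth H.hom := by
  intro d
  induction d with
  | zero => exact fun H Z hZ => smooth_zero f hZ
  | succ d ih =>
    intro H' Z' hZ'
    obtain ⟨H, Z, hZ⟩ := hrep d
    haveI := ih H Z hZ
    haveI : Smooth f := SmoothOfRelativeDimension.smooth 1 f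
    let T : Over S := Over.mk (pullback.fst H.hom f ≫ H.hom)
    let t : T ⟶ H := Over.homMk (pullback.fst H.hom f) rfl
    let x : T.left ⟶ X := pullback.snd H.hom f
    have hx : x ≫ f = T.hom := pullback.condition.symm
    let W : HilbD.Obj f (d + 1) T := ⟨HilbD.pull f t Z.1 * HilbD.secGraph f T x hx,
      sum_divisors (PicF.XTproj f T) (objPull t Z).2 (finLocFree_one_secGraph f T x hx)⟩
    obtain ⟨m, hm, -⟩ := hZ' T W
    obtain ⟨⟨m1, m2, m3⟩, hdeg⟩ := addPoint_isFinLocFreeOfDeg f d H Z hZ H' Z' hZ' m hm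
    haveI := m1; haveI := m2; haveI := m3
    haveI : Surjective m.left := (Scheme.Hom.one_le_finrank_iff_surjective m.left).1 fun y => by
      rw [hdeg y]
      exact Nat.le_add_left 1 d
    haveI : Smooth (pullback.fst H.hom f) := MorphismProperty.pullback_fst _ _ ‹Smooth f›
    haveI : Smooth (m.left ≫ H'.hom) := by
      rw [Over.w m]
      exact inferInstanceAs (Smooth (pullback.fst H.hom f ≫ H.hom))
    exact Unr55.smooth_of_fppf_comp m.left H'.hom

end Groth.Agent.Grass5.HilbSmooth
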