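import Groth.Agent.Grass5.HilbStep
import Groth.Agent.Grass5.HilbSmooth

/-!
Connectedness of the Hilbert scheme of points.
-/

set_option autoImplicit false
set_option linter.style.haveILetI false
set_option maxHeartbeats 400000
set_option backward.isDefEq.respectTransparency false
set_option backward.isDefEq.respectTransparency.types false

universe u

open CategoryTheory CategoryTheory.Limits AlgebraicGeometry TopologicalSpace
open scoped TensorProduct

noncomputable section

namespace Groth.Agent.Grass5.HilbStep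

open Groth.Agent.Grass5.Hilb Groth.Agent.Grass5.Punct Groth.Agent.HilbCurve12 Groth.Agent.HilbZeta12

/-- joined by a chain of specializations. -/
abbrev Lnk {α : Type u} [TopologicalSpace α] : α → α → Prop := Relation.EqvGen (fun x y : α => x ⤳ y)

lemma Lnk.map {α β : Type u} [TopologicalSpace α] [TopologicalSpace β] {g : α → β} (hg : Continuous g)
    {x y : α} (h : Lnk x y) : Lnk (g x) (g y) := by
  induction h with
  | rel x y h => exact .rel _ _ (h.map hg)
  | refl x => exact .refl _
  | symm x y _ h => exact .symm _ _ h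
  | trans x y z _ _ h₁ h₂ => exact .trans _ _ _ h₁ h₂

/-- on a connected locally Noetherian scheme any two points are joined by specializations. -/
theorem lnk_of_connected {P : Scheme.{u}} [IsLocallyNoetherian P] [PreconnectedSpace P] (x y : P) : Lnk x y := by
  classical
  have hopen : ∀ a : P, IsOpen {z | Lnk a z} := by
    intro a
    rw [isOpen_iff_forall_mem_open]
    intro z hz
    obtain ⟨W, hW, hzW, -⟩ := exists_isAffineOpen_mem_and_subset (x := z) (U := (⊤ : P.Opens)) trivial
    haveI : IsNoetherianRing Γ(P, W) := IsLocallyNoetherian.component_noetherian ⟨W, hW⟩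
    haveI : NoetherianSpace (W : Scheme.{u}) := noetherianSpace_of_isAffineOpen W hW
    let B : Set (irreducibleComponents (W : Scheme.{u})) := {C | (⟨z, hzW⟩ : (W : Scheme.{u})) ∉ (C : Set (W : Scheme.{u}))}
    haveI : Finite (irreducibleComponents (W : Scheme.{u})) := NoetherianSpace.finite_irreducibleComponents.to_subtype
    have hBc : IsClosed (⋃ C ∈ B, (C : Set (W : Scheme.{u}))) :=
      (Set.toFinite B).isClosed_biUnion fun C _ => isClosed_of_mem_irreducibleComponents _ (Subtype.mem C)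
    refine ⟨W.ι '' (⋃ C ∈ B, (C : Set (W : Scheme.{u})))ᶜ, ?_, W.ι.isOpenEmbedding.isOpenMap _ hBc.isOpen_compl,
      ⟨⟨z, hzW⟩, by simp [B], rfl⟩⟩
    rintro _ ⟨w, hw, rfl⟩
    have hC : irreducibleComponent w ∈ irreducibleComponents (W : Scheme.{u}) :=
      irreducibleComponent_mem_irreducibleComponents w
    have hzC : (⟨z, hzW⟩ : (W : Scheme.{u})) ∈ irreducibleComponent w := by
      by_contra hcon
      exact hw (Set.mem_biUnion (show (⟨_, hC⟩ : irreducibleComponents (W : Scheme.{u})) ∈ B from hcon)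
        mem_irreducibleComponent)
    obtain ⟨η, hη⟩ := QuasiSober.sober isIrreducible_irreducibleComponent
      (isClosed_of_mem_irreducibleComponents _ hC)
    refine Relation.EqvGen.trans _ _ _ hz (.trans _ (W.ι η) _ (.symm _ _ ?_) ?_)
    · exact .rel _ _ ((hη.specializes hzC).map W.ι.continuous)
    · exact .rel _ _ ((hη.specializes mem_irreducibleComponent).map W.ι.continuous)
  have hclosed : IsClosed {z | Lnk x z} := by
    rw [← isOpen_compl_iff]
    have : {z | Lnk x z}ᶜ = ⋃ a ∈ {z | Lnk x z}ᶜ, {z | Lnk a z} := by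
      ext z
      simp only [Set.mem_compl_iff, Set.mem_setOf_eq, Set.mem_iUnion, exists_prop]
      exact ⟨fun h => ⟨z, h, .refl z⟩, fun ⟨a, ha, haz⟩ h => ha (.trans _ _ _ h (.symm _ _ haz))⟩
    rw [this]
    exact isOpen_biUnion fun a _ => hopen a
  have := IsClopen.eq_univ (s := {z | Lnk x z}) ⟨hclosed, hopen x⟩ ⟨x, .refl x⟩
  exact Set.eq_univ_iff_forall.1 this y

variable {k : Type u} [Field k] {X : Scheme.{u}} {f : X ⟶ Spec (CommRingCat.of k)} {n : ℕ}

section Points

variable {H : Over (Spec (CommRingCat.of k))} {Z : HilbD.Obj f n H} (hH : HilbD.IsUniversal f n H Z)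
include hH

/-- the classifying morphism. -/
def mapT {T : Over (Spec (CommRingCat.of k))} (W : HilbD.Obj f n T) : T ⟶ H := (hH T W).choose

lemma mapT_spec {T : Over (Spec (CommRingCat.of k))} (W : HilbD.Obj f n T) :
    HilbD.pull f (mapT hH W) Z.1 = W.1 := (hH T W).choose_spec.1

lemma mapT_objPull {T T' : Over (Spec (CommRingCat.of k))} (g : T' ⟶ T) (W : HilbD.Obj f n T) :
    mapT hH (objPull g W) = g ≫ mapT hH W := by
  refine (hH T' (objPull g W)).unique (mapT_spec hH _) ?_
  show _ = HilbD.pull f g W.1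
  rw [← pull_comp, mapT_spec]

/-- the point of a field valued family. -/
def cl {K : Type u} [Field K] [Algebra k K] (W : HilbD.Obj f n (TB k K)) : H.left :=
  (mapT hH W).left (⟨⊥, Ideal.isPrime_bot⟩ : PrimeSpectrum K)

lemma cl_ext {K : Type u} [Field K] [Algebra k K] {W W' : HilbD.Obj f n (TB k K)} (h : W.1 = W'.1) :
    cl hH W = cl hH W' := by rw [Subtype.ext h]

lemma cl_pull {K K' : Type u} [Field K] [Algebra k K] [Field K'] [Algebra k K'] (φ : K →ₐ[k] K')
    (W : HilbD.Obj f n (TB k K)) : cl hH (objPull (gT φ) W) = cl hH W := by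
  haveI : Subsingleton (TB k K).left := inferInstanceAs (Subsingleton (PrimeSpectrum K))
  show (mapT hH (objPull (gT φ) W)).left _ = _
  rw [mapT_objPull]
  show (mapT hH W).left ((gT φ).left _) = _
  exact congrArg _ (Subsingleton.elim (α := (TB k K).left) _ _)

lemma exists_geometric_point (h : H.left) :
    ∃ (L : Type u) (_ : Field L) (_ : IsAlgClosed L) (_ : Algebra k L) (W : HilbD.Obj f n (TB k L)),
      cl hH W = h := by
  let L := AlgebraicClosure (H.left.residueField h)
  let m : Spec (CommRingCat.of L) ⟶ H.left :=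
    Spec.map (CommRingCat.ofHom (algebraMap (H.left.residueField h) L)) ≫ H.left.fromSpecResidueField h
  let a := Spec.preimage (m ≫ H.hom)
  letI : Algebra k L := a.hom.toAlgebra
  let g : TB k L ⟶ H := Over.homMk m (show m ≫ H.hom = Spec.map a by rw [Spec.map_preimage])
  refine ⟨L, inferInstance, inferInstance, inferInstance, objPull g Z, ?_⟩
  have e : mapT hH (objPull g Z) = g := (hH _ (objPull g Z)).unique (mapT_spec hH _) rfl
  rw [cl, e]
  exact Scheme.fromSpecResidueField_apply h _

end Points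

variable [IsSeparated f] [LocallyOfFiniteType f] (hAF : AFProp X) (hInf : InfProp X)
  {H : Over (Spec (CommRingCat.of k))} {Z : HilbD.Obj f (n + 1) H} (hH : HilbD.IsUniversal f (n + 1) H Z)

include hH hAF

omit [LocallyOfFiniteType f] in
/-- two steps from the same data are joined. -/
theorem lnk_gStep {K : Type u} [Field K] [Algebra k K] {W' W'₂ : HilbD.Obj f n (TB k K)}
    {p p₂ : (TB k K).left ⟶ X} {hp : p ≫ f = (TB k K).hom} {hp₂ : p₂ ≫ f = (TB k K).hom}
    {W₁ W₂ : HilbD.Obj f (n + 1) (TB k K)} (h₁ : GStep f (TB k K) p hp W' W₁)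
    (h₂ : GStep f (TB k K) p₂ hp₂ W'₂ W₂) (eW : W'₂.1 = W'.1) (ep : p₂ = p) :
    Lnk (cl hH W₁) (cl hH W₂) := by
  obtain rfl : W'₂ = W' := Subtype.ext eW
  subst ep
  obtain ⟨A, _, _, i, hiop, hi, hF⟩ := exists_chart f hAF (finite_supp W'₂ p₂)
  have hw' : Within f (Set.range i) W'₂.1 := fun z => hF (Or.inl ⟨z, rfl⟩)
  have hwp : Set.range p₂ ⊆ Set.range i := fun x hx => hF (Or.inr hx)
  obtain ⟨W₁c, rfl⟩ := exists_upObj i f _ hi W₁ (h₁.within f hw' hwp)
  obtain ⟨W₂c, rfl⟩ := exists_upObj i f _ hi W₂ (h₂.within f hw' hwp)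
  obtain ⟨W'c, rfl⟩ := exists_upObj i f _ hi W'₂ hw'
  obtain ⟨φ, hφ⟩ := exists_lift_pt f i hi p₂ hp₂ hwp
  obtain ⟨J', hJ'⟩ := exists_ideal W'c
  obtain ⟨J₁, hJ₁⟩ := exists_ideal W₁c
  obtain ⟨J₂, hJ₂⟩ := exists_ideal W₂c
  obtain ⟨hfin', hc'⟩ := fin_codim (hJ' ▸ W'c.2)
  have step : ∀ {J : Ideal (K ⊗[k] A)} {Wc : HilbD.Obj (str k A) (n + 1) (TB k K)} {q}, Wc.1 = sh J →
      GStep f (TB k K) p₂ q (upObj i f _ hi W'c) (upObj i f _ hi Wc) → Flag.Step (augB φ) J' J := by
    intro J Wc q hJ hs
    obtain ⟨hle, hmul⟩ := (gStep_chart f i hi φ W'c Wc hJ' hJ p₂ q hφ).1 hs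
    obtain ⟨hfin, hc⟩ := fin_codim (hJ ▸ Wc.2)
    exact Flag.Step.of_codim hle (fun a ha x hx => hmul (Ideal.mul_mem_mul ha hx)) hfin (by rw [hc, hc'])
  have hchain := Flag.two_steps (step hJ₁ h₁) (step hJ₂ h₂)
  have claim : ∀ I, Relation.ReflTransGen (Flag.AnyAdj (K := K)) I J₂ →
      ∃ Wc : HilbD.Obj (str k A) (n + 1) (TB k K),
        Wc.1 = sh I ∧ Lnk (cl hH (upObj i f _ hi Wc)) (cl hH (upObj i f _ hi W₂c)) := by
    intro I hI
    induction hI using Relation.ReflTransGen.head_induction_on with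
    | refl => exact ⟨W₂c, hJ₂, .refl _⟩
    | @head I I' hadj _ ih =>
      obtain ⟨W'I, hW'I, hlnk⟩ := ih
      obtain ⟨ε, hadj⟩ := hadj
      obtain ⟨hfinI', hcI'⟩ := fin_codim (hW'I ▸ W'I.2)
      obtain ⟨F, m, hdeg, h0, h1⟩ := exists_pencil' hadj (fun I₀ h => by
        obtain ⟨t, ht⟩ := h
        exact Flag.fin_of_sup ht hfinI')
      have hm : ∀ a : K, Mor2.IsFinLocFreeOfDeg m
          ((sh (F.map (bcA A (evalAt a)).toRingHom)).subschemeι ≫ PicF.XTproj (str k A) (TB k K)) := by
        intro a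
        rw [← pull_sh]; exact (objPull (gT (evalAt a)) (⟨sh F, hdeg⟩ : HilbD.Obj (str k A) m _)).2
      obtain rfl : m = n + 1 := by
        have := (fin_codim (hm 1)).2
        rw [h1] at this
        omega
      let G := mapT hH (upObj i f _ hi (⟨sh F, hdeg⟩ : HilbD.Obj (str k A) (n + 1) _))
      have hG : ∀ (a : K) (Wa : HilbD.Obj (str k A) (n + 1) (TB k K)),
          Wa.1 = sh (F.map (bcA A (evalAt a)).toRingHom) →
          cl hH (upObj i f _ hi Wa) = G.left ((gT (evalAt a)).left (⟨⊥, Ideal.isPrime_bot⟩ : PrimeSpectrum K)) := by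
        intro a Wa hWa
        have e : upObj i f _ hi Wa = objPull (gT (evalAt a)) (upObj i f _ hi ⟨sh F, hdeg⟩) := by
          refine Subtype.ext ?_
          show pushG i f _ hi Wa.1 = HilbD.pull f _ (upObj i f _ hi _).1
          rw [pull_upObj, hWa, pull_sh]
        rw [cl, e, mapT_objPull]
        rfl
      let η : (TB k (Polynomial K)).left := (⟨⊥, Ideal.isPrime_bot⟩ : PrimeSpectrum (Polynomial K))
      have hη : ∀ q : (TB k (Polynomial K)).left, Lnk (G.left η) (G.left q) := fun q =>
        .rel _ _ (((PrimeSpectrum.le_iff_specializes η q).1 bot_le).map G.left.continuous)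
      refine ⟨⟨sh I, by rw [← h0]; exact hm 0⟩, rfl, .trans _ _ _ ?_ hlnk⟩
      rw [hG 0 _ (congrArg sh h0.symm), hG 1 W'I (hW'I.trans (congrArg sh h1.symm))]
      exact .trans _ _ _ (.symm _ _ (hη _)) (hη _)
  obtain ⟨Wc, hWc, hl⟩ := claim J₁ hchain
  obtain rfl : Wc = W₁c := Subtype.ext (hWc.trans hJ₁.symm)
  exact hl

variable {T : Over (Spec (CommRingCat.of k))} (W' : HilbD.Obj f n T) (p : T.left ⟶ X) (hp : p ≫ f = T.hom)

/-- a point of the Hilbert scheme given by a step above a point of the parameter scheme. -/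
def StepPt (t : T.left) (h : H.left) : Prop :=
  ∃ (K : Type u) (_ : Field K) (_ : Algebra k K) (a : TB k K ⟶ T) (W : HilbD.Obj f (n + 1) (TB k K)),
    a.left (⟨⊥, Ideal.isPrime_bot⟩ : PrimeSpectrum K) = t ∧
      GStep f (TB k K) (a.left ≫ p) (by rw [Category.assoc, hp, Over.w a]) (objPull a W') W ∧ cl hH W = h

omit [LocallyOfFiniteType f] in
theorem StepPt.lnk {t : T.left} {h₁ h₂ : H.left} (s₁ : StepPt hH W' p hp t h₁) (s₂ : StepPt hH W' p hp t h₂) :
    Lnk h₁ h₂ := by
  obtain ⟨K₁, _, _, a₁, W₁, ht₁, hs₁, rfl⟩ := s₁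
  obtain ⟨K₂, _, _, a₂, W₂, ht₂, hs₂, rfl⟩ := s₂
  obtain ⟨Ω, _, -, i, j, hij⟩ := FBase64.exists_common_field a₁.left a₂.left ⟨_, _, ht₁.trans ht₂.symm⟩
  letI : Algebra k Ω := (i.comp (algebraMap k K₁)).toAlgebra
  have hj : i.comp (algebraMap k K₁) = j.comp (algebraMap k K₂) := by
    have e := congr($hij ≫ T.hom)
    rw [Category.assoc, Category.assoc, Over.w a₁, Over.w a₂] at e
    change _ ≫ Spec.map _ = _ ≫ Spec.map _ at e
    rw [← Spec.map_comp, ← Spec.map_comp] at e
    exact congrArg CommRingCat.Hom.hom (Spec.map_injective e)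
  let i' : K₁ →ₐ[k] Ω := { i with commutes' := fun c => rfl }
  let j' : K₂ →ₐ[k] Ω := { j with commutes' := fun c => (congr($hj c)).symm }
  have e : gT i' ≫ a₁ = gT j' ≫ a₂ := Over.OverMorphism.ext hij
  rw [← cl_pull hH i', ← cl_pull hH j']
  refine lnk_gStep hAF hH (hs₁.pull f (gT i')) (hs₂.pull f (gT j')) ?_ ?_
  · show HilbD.pull f _ (HilbD.pull f a₂ W'.1) = HilbD.pull f _ (HilbD.pull f a₁ W'.1)
    rw [pull_comp, pull_comp, e]
  · rw [← Category.assoc, ← Category.assoc, ← Over.comp_left, ← Over.comp_left, e]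

include hInf

theorem exists_stepPt (t : T.left) : ∃ h, StepPt hH W' p hp t h := by
  let K := T.left.residueField t
  let a := Spec.preimage (T.left.fromSpecResidueField t ≫ T.hom)
  letI : Algebra k K := a.hom.toAlgebra
  let g : TB k K ⟶ T := Over.homMk (T.left.fromSpecResidueField t)
    (show _ = Spec.map a by rw [Spec.map_preimage])
  obtain ⟨W, hW⟩ := exists_gStep hAF hInf (objPull g W') (g.left ≫ p) (by rw [Category.assoc, hp, Over.w g])
  exact ⟨cl hH W, K, inferInstance, inferInstance, g, W, Scheme.fromSpecResidueField_apply t _, hW, rfl⟩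

theorem lnk_of_specializes {t t₀ : T.left} (hs : t ⤳ t₀) {h h₀ : H.left} (s : StepPt hH W' p hp t h)
    (s₀ : StepPt hH W' p hp t₀ h₀) : Lnk h h₀ := by
  let φ : T.left.presheaf.stalk t₀ ⟶ T.left.residueField t :=
    T.left.presheaf.stalkSpecializes hs ≫ T.left.residue t
  obtain ⟨R, hR, hR_local⟩ := IsLocalRing.exists_factor_valuationRing φ.hom
  let ψ : T.left.presheaf.stalk t₀ ⟶ CommRingCat.of R := CommRingCat.ofHom (φ.hom.codRestrict _ hR)
  have w : T.left.fromSpecResidueField t =
      Spec.map (CommRingCat.ofHom (algebraMap R (T.left.residueField t))) ≫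
        Spec.map ψ ≫ T.left.fromSpecStalk t₀ := by
    rw [Scheme.fromSpecResidueField, ← Scheme.SpecMap_stalkSpecializes_fromSpecStalk hs]
    simp_rw [← Spec.map_comp_assoc]
    rfl
  let m : Spec (CommRingCat.of R) ⟶ T.left := Spec.map ψ ≫ T.left.fromSpecStalk t₀
  let α := Spec.preimage (m ≫ T.hom)
  letI : Algebra k R := α.hom.toAlgebra
  let g : TB k R ⟶ T := Over.homMk m (show _ = Spec.map α by rw [Spec.map_preimage])
  obtain ⟨WR, hWR⟩ := exists_gStep_val hAF hInf (objPull g W') (g.left ≫ p)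
    (by rw [Category.assoc, hp, Over.w g])
  have key : ∀ (K : Type u) [Field K] [Algebra k K] (ι : R →ₐ[k] K),
      StepPt hH W' p hp (m ((gT ι).left (⟨⊥, Ideal.isPrime_bot⟩ : PrimeSpectrum K)))
        ((mapT hH WR).left ((gT ι).left (⟨⊥, Ideal.isPrime_bot⟩ : PrimeSpectrum K))) := by
    intro K _ _ ι
    refine ⟨K, inferInstance, inferInstance, gT ι ≫ g, objPull (gT ι) WR, rfl, ?_, by
      rw [cl, mapT_objPull]; rfl⟩
    have hP := hWR.pull f (gT ι)
    have e : objPull (gT ι ≫ g) W' = objPull (gT ι) (objPull g W') := Subtype.ext (pull_comp f g (gT ι) W'.1).symm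
    simp only [e, Over.comp_left, Category.assoc]
    exact hP
  letI : Algebra k (T.left.residueField t) := ((algebraMap R (T.left.residueField t)).comp (algebraMap k R)).toAlgebra
  haveI : IsScalarTower k R (T.left.residueField t) := IsScalarTower.of_algebraMap_eq' rfl
  have h1 := key (T.left.residueField t) (IsScalarTower.toAlgHom k R _)
  have h2 := key (IsLocalRing.ResidueField R) (IsScalarTower.toAlgHom k R _)
  have e1 : m ((gT (IsScalarTower.toAlgHom k R (T.left.residueField t))).left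
      (⟨⊥, Ideal.isPrime_bot⟩ : PrimeSpectrum _)) = t := by
    refine Eq.trans ?_ (Scheme.fromSpecResidueField_apply (X := T.left) t (⟨⊥, Ideal.isPrime_bot⟩ : PrimeSpectrum _))
    rw [w]
    rfl
  have ec : (gT (IsScalarTower.toAlgHom k R (IsLocalRing.ResidueField R))).left
      (⟨⊥, Ideal.isPrime_bot⟩ : PrimeSpectrum _) = IsLocalRing.closedPoint R := by
    refine PrimeSpectrum.ext ?_
    show (⊥ : Ideal (IsLocalRing.ResidueField R)).comap (IsLocalRing.residue R) = _
    rw [← RingHom.ker_eq_comap_bot, IsLocalRing.ker_residue]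
    rfl
  have e2 : m (IsLocalRing.closedPoint R) = t₀ := by
    show (Spec.map ψ ≫ T.left.fromSpecStalk t₀) _ = t₀
    rw [Scheme.Hom.comp_apply]
    have : Spec.map ψ (IsLocalRing.closedPoint R) = IsLocalRing.closedPoint (T.left.presheaf.stalk t₀) :=
      IsLocalRing.comap_closedPoint (S := R) (φ.hom.codRestrict R.toSubring hR)
    rw [this, T.left.fromSpecStalk_closedPoint]
  rw [e1] at h1
  rw [ec, e2] at h2
  refine .trans _ _ _ (s.lnk hAF hH W' p hp h1) (.trans _ _ _ (.rel _ _ ?_) (h2.lnk hAF hH W' p hp s₀))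
  exact (IsLocalRing.specializes_closedPoint _).map (mapT hH WR).left.continuous

theorem lnk_of_lnk {t t₀ : T.left} (hs : Lnk t t₀) :
    ∀ {h h₀ : H.left}, StepPt hH W' p hp t h → StepPt hH W' p hp t₀ h₀ → Lnk h h₀ := by
  induction hs with
  | rel x y hxy => exact fun s s₀ => lnk_of_specializes hAF hInf hH W' p hp hxy s s₀
  | refl x => exact fun s s₀ => s.lnk hAF hH W' p hp s₀
  | symm x y _ ih => exact fun s s₀ => .symm _ _ (ih s₀ s)
  | trans x y z _ _ h₁ h₂ =>
    intro h h₀ s s₀
    obtain ⟨h', s'⟩ := exists_stepPt hAF hInf hH W' p hp y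
    exact .trans _ _ _ (h₁ s s') (h₂ s' s₀)

end Groth.Agent.Grass5.HilbStep

namespace Groth.Agent.Grass5.HilbStep

open Groth.Agent.Grass5.Hilb Groth.Agent.Grass5.Punct Groth.Agent.HilbCurve12 Groth.Agent.HilbZeta12

variable {k : Type u} [Field k] [IsAlgClosed k] {X : Scheme.{u}} (f : X ⟶ Spec (CommRingCat.of k))
  [LocallyOfFiniteType f]

omit [IsAlgClosed k] in
theorem exists_point_of_closed [IsAlgClosed k] [Nonempty X] :
    ∃ x : (TB k k).left ⟶ X, x ≫ f = (TB k k).hom := by
  haveI : JacobsonSpace X := LocallyOfFiniteType.jacobsonSpace f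
  obtain ⟨x, hx⟩ : (closedPoints X).Nonempty := by
    obtain ⟨x, -, hx⟩ := nonempty_inter_closedPoints (Z := (Set.univ : Set X)) Set.univ_nonempty
      isOpen_univ.isLocallyClosed
    exact ⟨x, hx⟩
  exact ⟨pointOfClosedPoint f x hx, by
    rw [pointOfClosedPoint_comp f x hx]
    exact (Spec.map_id _).symm⟩

variable [IsSeparated f] [ConnectedSpace X]

/-- **Connectedness of the Hilbert scheme of points.** -/
theorem lnk_hilb (hAF : AFProp X) (hInf : InfProp X) :
    ∀ (n : ℕ) (H : Over (Spec (CommRingCat.of k))) (Z : HilbD.Obj f n H), HilbD.IsUniversal f n H Z →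
      Nonempty H.left ∧ ∀ x y : H.left, Lnk x y := by
  intro n
  induction n with
  | zero =>
    intro H Z hH
    let S₀ : Over (Spec (CommRingCat.of k)) := Over.mk (𝟙 _)
    obtain ⟨s, -, -⟩ := hH S₀ ⟨⊤, HilbSmooth.top_finLocFree_zero _⟩
    have hs : s.left ≫ H.hom = 𝟙 _ := Over.w s
    let r : H ⟶ S₀ := Over.homMk H.hom (Category.comp_id _)
    have hrs : r ≫ s = 𝟙 H := (hH H Z).unique
      ((RelCurve5.eq_top_of_deg_zero _ _ (objPull (r ≫ s) Z).2).trans (RelCurve5.eq_top_of_deg_zero _ _ Z.2).symm)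
      ((RelCurve5.eq_top_of_deg_zero _ _ (objPull (𝟙 H) Z).2).trans (RelCurve5.eq_top_of_deg_zero _ _ Z.2).symm)
    haveI : IsIso H.hom := ⟨s.left, congrArg Over.Hom.left hrs, hs⟩
    haveI : Subsingleton H.left := H.hom.homeomorph.injective.subsingleton
    exact ⟨H.hom.homeomorph.surjective.nonempty, fun x y => Subsingleton.elim x y ▸ .refl x⟩
  | succ n ih =>
    intro H Z hH
    haveI : Nonempty X := inferInstance
    obtain ⟨H', Z', hH'⟩ := representable_of_fibre_points f n fun _ x _ => by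
      obtain ⟨U, hU, hxU⟩ := hAF (Set.range x) (Set.finite_range x)
      exact ⟨U, hU, fun i => hxU ⟨i, rfl⟩⟩
    obtain ⟨⟨h₀'⟩, hlnk'⟩ := ih H' Z' hH'
    let T : Over (Spec (CommRingCat.of k)) := Over.mk (pullback.snd f H'.hom ≫ H'.hom)
    let π : T ⟶ H' := Over.homMk (pullback.snd f H'.hom) rfl
    let p : T.left ⟶ X := pullback.fst f H'.hom
    have hp : p ≫ f = T.hom := pullback.condition
    obtain ⟨x₀, hx₀⟩ := exists_point_of_closed f
    let e0 : H'.hom ≫ Spec.map (CommRingCat.ofHom (algebraMap k k)) = H'.hom := by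
      erw [Spec.map_id, Category.comp_id]
    let σ : H'.left ⟶ T.left := pullback.lift (H'.hom ≫ x₀) (𝟙 _) (by
      rw [Category.assoc, hx₀, Category.id_comp]; exact e0)
    -- every point of the parameter scheme is joined to the section
    have hfib : ∀ t : T.left, Lnk t (σ (π.left t)) := by
      intro t
      let h' := π.left t
      let L := H'.left.residueField h'
      let a := Spec.preimage (H'.left.fromSpecResidueField h' ≫ H'.hom)
      have ha : Spec.map a = H'.left.fromSpecResidueField h' ≫ H'.hom := Spec.map_preimage _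
      let P := pullback f (Spec.map (CommRingCat.ofHom a.hom))
      let ρ : P ⟶ T.left := pullback.map f (Spec.map (CommRingCat.ofHom a.hom)) f H'.hom (𝟙 X)
        (H'.left.fromSpecResidueField h') (𝟙 _) (by simp) (by simpa using ha)
      haveI : ConnectedSpace P := by
        rw [connectedSpace_iff_univ]
        simpa using FBase64.isConnected_preimage_fst f a.hom (s := Set.univ) isConnected_univ
      haveI : IsLocallyNoetherian P :=
        LocallyOfFiniteType.isLocallyNoetherian (pullback.snd f (Spec.map (CommRingCat.ofHom a.hom)))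
      have hr : Set.range ρ = pullback.snd f H'.hom ⁻¹' {h'} := by
        refine (Scheme.Pullback.range_map _ _ _ _ _ _ _ _ _).trans ?_
        rw [show Set.range (𝟙 X : X ⟶ X) = Set.univ from Set.eq_univ_of_forall fun x => ⟨x, rfl⟩,
          Set.preimage_univ, Set.univ_inter]
        exact congrArg _ (Scheme.range_fromSpecResidueField h')
      obtain ⟨q, hq⟩ : t ∈ Set.range ρ := hr.ge rfl
      obtain ⟨q', hq'⟩ : σ h' ∈ Set.range ρ := hr.ge (by
        show pullback.snd f H'.hom (σ h') = h'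
        have e : σ ≫ pullback.snd f H'.hom = 𝟙 _ := pullback.lift_snd _ _ _
        refine (Scheme.Hom.comp_apply σ (pullback.snd f H'.hom) h').symm.trans ?_
        rw [e]
        rfl)
      have := (lnk_of_connected q q').map ρ.continuous
      rwa [hq, hq'] at this
    have hT : ∀ t t' : T.left, Lnk t t' := fun t t' =>
      .trans _ _ _ (hfib t) (.trans _ _ _ ((hlnk' _ _).map σ.continuous) (.symm _ _ (hfib t')))
    let W' := objPull π Z'
    have hsurj : ∀ h : H.left, ∃ t, StepPt hH W' p hp t h := by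
      intro h
      obtain ⟨L, _, _, _, W, rfl⟩ := exists_geometric_point hH h
      obtain ⟨WL, q, hq, hs⟩ := exists_decomp hAF W
      obtain ⟨m, hm, -⟩ := hH' _ WL
      let a : TB k L ⟶ T := Over.homMk (pullback.lift q m.left (by rw [hq, Over.w m])) (by
        show _ ≫ pullback.snd f H'.hom ≫ H'.hom = _
        rw [pullback.lift_snd_assoc]
        exact Over.w m)
      refine ⟨_, L, inferInstance, inferInstance, a, W, rfl, ?_, rfl⟩
      have ea : a ≫ π = m := Over.OverMorphism.ext (pullback.lift_snd _ _ _)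
      have eW : objPull a W' = WL := Subtype.ext ((pull_comp f π a Z'.1).trans (by rw [ea, hm]))
      have ep : a.left ≫ p = q := pullback.lift_fst _ _ _
      simp only [eW, ep]
      exact hs
    obtain ⟨h₀, hh₀⟩ := exists_stepPt hAF hInf hH W' p hp (σ h₀')
    refine ⟨⟨h₀⟩, fun x y => ?_⟩
    obtain ⟨tx, hx⟩ := hsurj x
    obtain ⟨ty, hy⟩ := hsurj y
    exact lnk_of_lnk hAF hInf hH W' p hp (hT tx ty) hx hy

theorem connectedSpace_hilb (hAF : AFProp X) (hInf : InfProp X) {n : ℕ} {H : Over (Spec (CommRingCat.of k))}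
    {Z : HilbD.Obj f n H} (hH : HilbD.IsUniversal f n H Z) : ConnectedSpace H.left := by
  obtain ⟨hne, hl⟩ := lnk_hilb f hAF hInf n H Z hH
  haveI := hne
  have : ∀ x y : H.left, connectedComponent x = connectedComponent y := by
    intro x y
    induction hl x y with
    | rel a b h => exact connectedComponent_eq ((isPreconnected_singleton.closure).subset_connectedComponent
        (subset_closure rfl) (specializes_iff_mem_closure.1 h))
    | refl a => rfl
    | symm a b _ h => exact h.symm
    | trans a b c _ _ h₁ h₂ => exact h₁.trans h₂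
  rw [connectedSpace_iff_connectedComponent]
  exact ⟨hne.some, Set.eq_univ_of_forall fun y => this hne.some y ▸ mem_connectedComponent⟩

end Groth.Agent.Grass5.HilbStep
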