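import Groth.Agent.Grass5.HilbConn
import Groth.Agent.EGA73.AmpleBaseImmersion
import Groth.Agent.GalTw97.Form

/-!
Connectedness of the Hilbert scheme of points of a quasi-projective scheme.
-/

set_option autoImplicit false
set_option linter.style.haveILetI false
set_option maxHeartbeats 400000
set_option backward.isDefEq.respectTransparency false
set_option backward.isDefEq.respectTransparency.types false

universe u

open CategoryTheory CategoryTheory.Limits AlgebraicGeometry TopologicalSpace

noncomputable section

namespace Groth.Agent.Grass5.HilbStep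

variable {k : Type u} [Field k]

/-- connected, of positive dimension: nonempty opens are infinite. -/
theorem infProp_of_connected {X : Scheme.{u}} (f : X ⟶ Spec (CommRingCat.of k)) [LocallyOfFiniteType f]
    [PreconnectedSpace X] (hX : 0 < topologicalKrullDim X) : InfProp X := by
  intro U hne hfin
  haveI : JacobsonSpace X := LocallyOfFiniteType.jacobsonSpace f
  obtain ⟨x, hxU, hx⟩ := nonempty_inter_closedPoints hne U.2.isLocallyClosed
  have hclosed : IsClosed ({x} : Set X) := hx
  -- the open set consists of closed points
  let E := (U : Set X) ∩ closedPoints X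
  have hE : IsClosed E := by
    rw [← Set.biUnion_of_singleton E]
    exact (hfin.subset Set.inter_subset_left).isClosed_biUnion fun y hy => hy.2
  have hUE : (U : Set X) ⊆ closedPoints X := by
    by_contra hcon
    obtain ⟨y, hyU, hy⟩ := Set.not_subset.1 hcon
    obtain ⟨z, hz, hz'⟩ := nonempty_inter_closedPoints (Z := (U : Set X) ∩ Eᶜ) ⟨y, hyU, fun h => hy h.2⟩
      (U.2.inter hE.isOpen_compl).isLocallyClosed
    exact hz.2 ⟨hz.1, hz'⟩
  have hopen : IsOpen ({x} : Set X) := by
    have hF : IsClosed ((U : Set X) \ {x}) := by
      rw [← Set.biUnion_of_singleton ((U : Set X) \ {x})]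
      exact (hfin.subset Set.sdiff_subset).isClosed_biUnion fun y hy => hUE hy.1
    have : ({x} : Set X) = (U : Set X) ∩ ((U : Set X) \ {x})ᶜ := by
      ext y
      simp only [Set.mem_singleton_iff, Set.mem_inter_iff, Set.mem_compl_iff, Set.mem_sdiff, not_and, not_not]
      exact ⟨fun h => ⟨h ▸ hxU, fun _ => h⟩, fun h => h.2 h.1⟩
    rw [this]
    exact U.2.inter hF.isOpen_compl
  have huniv := IsClopen.eq_univ (s := ({x} : Set X)) ⟨hclosed, hopen⟩ (Set.singleton_nonempty x)
  haveI : Subsingleton X := ⟨fun a b => by
    rw [show a = x from huniv.ge (Set.mem_univ a), show b = x from huniv.ge (Set.mem_univ b)]⟩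
  exact absurd hX (not_lt.2 (topologicalKrullDim_zero_of_discreteTopology X))

/-- finite subsets of quasi-projective schemes lie in affine opens. -/
theorem afProp_of_immersion {X : Over (Spec (CommRingCat.of k))} {r : ℕ}
    (i : X.left ⟶ CohB1.ProjSpaceOver r (Spec (CommRingCat.of k))) [IsImmersion i]
    (hi : i ≫ CohB1.ProjSpaceOver.toBase r (Spec (CommRingCat.of k)) = X.hom)
    [LocallyOfFiniteType X.hom] [QuasiCompact X.hom] : AFProp X.left := fun F hF =>
  GalTw97.exists_affine_finite (X := X) (EGA73.AmpleBaseImmersion.isQuasiProjective_of_immersion i hi) F hF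

end Groth.Agent.Grass5.HilbStep
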