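import Groth.Agent.Grass5.HilbSmooth
import Groth.Agent.Grass5.HilbOpen
import Groth.Agent.Curves2.ProjectiveCurve
import Groth.Agent.RedPts82.SmoothDim
import Groth.Prelude.Def_Curve

/-!
The Hilbert scheme of points of a proper smooth curve over a field.
-/

set_option autoImplicit false
set_option linter.style.haveILetI false
set_option maxHeartbeats 400000
set_option backward.isDefEq.respectTransparency false
set_option backward.isDefEq.respectTransparency.types false

universe u

open CategoryTheory Limits AlgebraicGeometry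

namespace Groth.Agent.Grass5.HilbCurve

open Groth.Agent.Grass5.Hilb Groth.Agent.RelCurve5

/-- finitely many points of a proper curve lie in an affine open. -/
theorem exists_affine_finite (k : Type u) [Field k] (X : Scheme.{u}) [X.Over (Spec (CommRingCat.of k))]
    [IsIntegral X] [IsSeparated (X ↘ Spec (CommRingCat.of k))]
    [LocallyOfFiniteType (X ↘ Spec (CommRingCat.of k))] [QuasiCompact (X ↘ Spec (CommRingCat.of k))]
    [IsProper (X ↘ Spec (CommRingCat.of k))]
    (hdim : topologicalKrullDim X = 1) (T : Set X) (hT : T.Finite) :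
    ∃ U : X.Opens, IsAffineOpen U ∧ T ⊆ U := by
  classical
  have : JacobsonSpace X := LocallyOfFiniteType.jacobsonSpace (X ↘ Spec (CommRingCat.of k))
  let C : Set X := ⋃ x ∈ T \ {genericPoint X}, closure {x}
  have hC : IsClosed C := (hT.subset Set.sdiff_subset).isClosed_biUnion fun _ _ => isClosed_closure
  have hgen : genericPoint X ∈ Cᶜ := by
    simp only [C, Set.mem_compl_iff, Set.mem_iUnion, exists_prop, not_exists, not_and]
    intro x hx hg
    exact hx.2 ((genericPoint_specializes x).antisymm (specializes_iff_mem_closure.mpr hg)).symm.eq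
  obtain ⟨c, hcC, hc⟩ := nonempty_inter_closedPoints ⟨_, hgen⟩ hC.isOpen_compl.isLocallyClosed
  refine ⟨⟨({c} : Set X)ᶜ, hc.isOpen_compl⟩, Curves2.affine_compl_point (k := k) hdim c hc, fun x hx hxc => ?_⟩
  obtain rfl : x = c := hxc
  by_cases hg : x = genericPoint X
  · exact Cyc90.not_isClosed_generic hdim (hg ▸ hc)
  · exact hcC (Set.mem_biUnion ⟨hx, hg⟩ (subset_closure rfl))

variable {X S : Scheme.{u}} (f : X ⟶ S)

theorem isProper_of_isUniversal [SmoothOfRelativeDimension 1 f] [IsProper f]
    (hrep : ∀ e : ℕ, HilbD.Representable f e) :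
    ∀ (d : ℕ) (H : Over S) (Z : HilbD.Obj f d H), HilbD.IsUniversal f d H Z → IsProper H.hom := by
  intro d
  induction d with
  | zero =>
    intro H Z hZ
    let S₀ : Over S := Over.mk (𝟙 S)
    obtain ⟨s, -, -⟩ := hZ S₀ ⟨⊤, HilbSmooth.top_finLocFree_zero _⟩
    have hs : s.left ≫ H.hom = 𝟙 S := Over.w s
    let r : H ⟶ S₀ := Over.homMk H.hom (Category.comp_id _)
    have hrs : r ≫ s = 𝟙 H := (hZ H Z).unique
      ((eq_top_of_deg_zero _ _ (objPull (r ≫ s) Z).2).trans (eq_top_of_deg_zero _ _ Z.2).symm)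
      ((eq_top_of_deg_zero _ _ (objPull (𝟙 H) Z).2).trans (eq_top_of_deg_zero _ _ Z.2).symm)
    haveI : IsIso H.hom := ⟨s.left, congrArg Over.Hom.left hrs, hs⟩
    infer_instance
  | succ d ih =>
    intro H' Z' hZ'
    obtain ⟨H, Z, hZ⟩ := hrep d
    haveI := ih H Z hZ
    let T : Over S := Over.mk (pullback.fst H.hom f ≫ H.hom)
    let t : T ⟶ H := Over.homMk (pullback.fst H.hom f) rfl
    let x : T.left ⟶ X := pullback.snd H.hom f
    have hx : x ≫ f = T.hom := pullback.condition.symm
    let W : HilbD.Obj f (d + 1) T := ⟨HilbD.pull f t Z.1 * HilbD.secGraph f T x hx,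
      sum_divisors (PicF.XTproj f T) (objPull t Z).2 (finLocFree_one_secGraph f T x hx)⟩
    obtain ⟨m, hm, -⟩ := hZ' T W
    obtain ⟨⟨m1, m2, m3⟩, hdeg⟩ := addPoint_isFinLocFreeOfDeg f d H Z hZ H' Z' hZ' m hm
    haveI := m1; haveI := m2; haveI := m3
    haveI : Surjective m.left := (Scheme.Hom.one_le_finrank_iff_surjective m.left).1 fun y => by
      rw [hdeg y]
      exact Nat.le_add_left 1 d
    haveI : IsProper (pullback.fst H.hom f) := MorphismProperty.pullback_fst _ _ ‹IsProper f›
    haveI : UniversallyClosed (m.left ≫ H'.hom) := by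
      rw [Over.w m]
      exact inferInstanceAs (UniversallyClosed (pullback.fst H.hom f ≫ H.hom))
    haveI := UniversallyClosed.of_comp_surjective m.left H'.hom
    haveI := isSeparated_of_isUniversal hZ'
    haveI := HilbSmooth.smooth_of_isUniversal f hrep (d + 1) H' Z' hZ'
    exact ⟨⟩

theorem exists_proper_smooth (k : Type u) [Field k] {X : Scheme.{u}} (f : X ⟶ Spec (CommRingCat.of k))
    (hX : Curve.IsSmoothProperCurve k X f) (d : ℕ) :
    ∃ (H : Over (Spec (CommRingCat.of k))) (Z : HilbD.Obj f d H),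
      HilbD.IsUniversal f d H Z ∧ IsProper H.hom ∧ Smooth H.hom := by
  obtain ⟨hp, hs, hint, hdim⟩ := hX
  haveI := hp; haveI := hint; haveI := hs
  haveI : SmoothOfRelativeDimension 1 f := RedPts82.smoothOfRelativeDimension_of_irreducible f 1 (by exact_mod_cast hdim)
  letI : X.Over (Spec (CommRingCat.of k)) := ⟨f⟩
  haveI : IsProper (X ↘ Spec (CommRingCat.of k)) := hp
  have hrep : ∀ e : ℕ, HilbD.Representable f e := fun e => representable_of_fibre_points f e fun s x _ => by
    obtain ⟨U, hU, hxU⟩ := exists_affine_finite k X hdim (Set.range x) (Set.finite_range x)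
    exact ⟨U, hU, fun i => hxU ⟨i, rfl⟩⟩
  obtain ⟨H, Z, hZ⟩ := hrep d
  exact ⟨H, Z, hZ, isProper_of_isUniversal f hrep d H Z hZ, HilbSmooth.smooth_of_isUniversal f hrep d H Z hZ⟩

end Groth.Agent.Grass5.HilbCurve
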