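import Groth.Agent.Grass5.HilbQuot
import Groth.Agent.Grass5.AffAlg

/-!
The morphism from the Hilbert scheme of points of a scheme affine over the base to the Grassmannian of the
direct image of the structure sheaf is a closed immersion.
-/

set_option autoImplicit false
set_option backward.isDefEq.respectTransparency false
set_option backward.isDefEq.respectTransparency.types false
set_option maxHeartbeats 400000

noncomputable section

universe u

open CategoryTheory CategoryTheory.Limits AlgebraicGeometry TopologicalSpace Opposite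
open Groth.Agent Groth.Agent.QC70 Groth.Agent.SubMod72 Groth.Agent.Props58.LocFree
open scoped TensorProduct

namespace Groth.Agent.Grass5.HilbGrass

open Grass5.QuotBC Grass5.Hilb KerSub BasisLocus GrChart GrLocal

attribute [local irreducible] HilbD.pull

variable {X S : Scheme.{u}} (f : X ⟶ S) {d : ℕ} [IsAffineHom f] {T T' : Over S}

/-- the point of the Grassmannian given by a family. -/
def PZ (Z : HilbD.Obj f d T) : GrFun.Obj (EM f) d T :=
  haveI := epi_qZ f Z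
  ⟨kerSub (qZ f Z), isFinLocFreeOfRank_quot _ (rank_QM f Z)⟩

theorem PZ_map (t : T' ⟶ T) (Z : HilbD.Obj f d T) :
    (GrFun.grFun (EM f) d).map t.op (PZ f Z) = PZ f (objPull t Z) := by
  obtain ⟨θ, hθ⟩ := exists_compare f Z t
  haveI := epi_qZ f Z
  haveI := epi_quotBC (Over.w t) (qZ f Z)
  haveI := epi_qZ f (objPull t Z)
  haveI : Epi θ := epi_of_epi_fac hθ
  haveI := GrSep.isIso_of_epi_rank θ (isFinLocFreeOfRank_pullback _ (rank_QM f Z)) (rank_QM f _)
  refine Subtype.ext ?_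
  rw [GrFun.map_val]
  show pullK _ (kerSub (qZ f Z)) = kerSub (qZ f (objPull t Z))
  rw [pullK_kerSub, ← kerSub_comp_of_isIso _ θ, hθ]

theorem PZ_injective {Z Z₂ : HilbD.Obj f d T} (h : PZ f Z = PZ f Z₂) : Z = Z₂ := by
  haveI := epi_qZ f Z
  haveI := epi_qZ f Z₂
  obtain ⟨j, hj⟩ := exists_iso_of_kerSub_eq (congrArg Subtype.val h : kerSub (qZ f Z) = kerSub (qZ f Z₂))
  exact eq_of_quot_iso f Z Z₂ j hj

section Classify

variable {G : Scheme.{u}} {π : G ⟶ S} {Q : G.Modules} {q : (Scheme.Modules.pullback π).obj (EM f) ⟶ Q}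
  (hG : Grass.IsGrass π (EM f) d Q q) {H : Over S} (Zu : HilbD.Obj f d H)

/-- the classifying morphism. -/
def toGrass : H ⟶ Over.mk π := (existsUnique_map hG H (PZ f Zu)).exists.choose

theorem toGrass_map : (GrFun.grFun (EM f) d).map (toGrass f hG Zu).op (univ hG) = PZ f Zu :=
  (existsUnique_map hG H (PZ f Zu)).exists.choose_spec

theorem comp_toGrass_map (a : T ⟶ H) :
    (GrFun.grFun (EM f) d).map (a ≫ toGrass f hG Zu).op (univ hG) = PZ f (objPull a Zu) := by
  rw [op_comp, Functor.map_comp_apply, toGrass_map, PZ_map]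

theorem mono_toGrass (hH : HilbD.IsUniversal f d H Zu) : Mono (toGrass f hG Zu).left := by
  refine ⟨fun {W} a b h => ?_⟩
  have hw : b ≫ H.hom = a ≫ H.hom := by
    rw [← Over.w (toGrass f hG Zu), reassoc_of% h]
  let a' : Over.mk (a ≫ H.hom) ⟶ H := Over.homMk a rfl
  let b' : Over.mk (a ≫ H.hom) ⟶ H := Over.homMk b hw
  have h' : a' ≫ toGrass f hG Zu = b' ≫ toGrass f hG Zu := Over.OverMorphism.ext h
  have e : objPull a' Zu = objPull b' Zu := PZ_injective f (by rw [← comp_toGrass_map f hG, h', comp_toGrass_map])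
  exact congrArg Over.Hom.left ((hH _ (objPull a' Zu)).unique (rfl : HilbD.pull f a' Zu.1 = _)
    (congrArg Subtype.val e).symm)

end Classify

section Sections

variable {U : S.Opens} (Z : HilbD.Obj f d T) (hg : ⊤ ≤ T.hom ⁻¹ᵁ U)

/-- a function of the ambient scheme on the whole family. -/
def amTop (x : Γ(EM f, U)) : Γ(QM f Z, ⊤) :=
  (am f Z).appLE (f ⁻¹ᵁ U) (pr f Z ⁻¹ᵁ ⊤) (am_le f Z hg) (show Γ(X, f ⁻¹ᵁ U) from x)

theorem qZ_pl (x : Γ(EM f, U)) : (qZ f Z).app ⊤ (GrChart.pl T.hom (EM f) hg x) = amTop f Z hg x :=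
  qZ_res f Z hg x

omit [IsAffineHom f] in
/-- the product of two functions. -/
def mulE (y x : Γ(EM f, U)) : Γ(EM f, U) :=
  show Γ(X, f ⁻¹ᵁ U) from (show Γ(X, f ⁻¹ᵁ U) from y) * (show Γ(X, f ⁻¹ᵁ U) from x)

/-- multiplication by a function. -/
def amMul (y : Γ(EM f, U)) : Γ(QM f Z, ⊤) →ₗ[Γ(T.left, ⊤)] Γ(QM f Z, ⊤) where
  toFun w := show Γ(Z.1.subscheme, pr f Z ⁻¹ᵁ ⊤) from
    (show Γ(Z.1.subscheme, pr f Z ⁻¹ᵁ ⊤) from amTop f Z hg y) * (show Γ(Z.1.subscheme, pr f Z ⁻¹ᵁ ⊤) from w)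
  map_add' p q := mul_add (show Γ(Z.1.subscheme, pr f Z ⁻¹ᵁ ⊤) from amTop f Z hg y) _ _
  map_smul' c q := mul_left_comm (show Γ(Z.1.subscheme, pr f Z ⁻¹ᵁ ⊤) from amTop f Z hg y) ((pr f Z).app ⊤ c) _

theorem amTop_mulE (y x : Γ(EM f, U)) : amTop f Z hg (mulE f y x) = amMul f Z hg y (amTop f Z hg x) :=
  map_mul ((am f Z).appLE (f ⁻¹ᵁ U) (pr f Z ⁻¹ᵁ ⊤) (am_le f Z hg)).hom _ _

variable {hU : IsAffineOpen U} {σ : Fin d → Γ(EM f, U)}

theorem coord_of_map [(EM f).IsQuasicoherent] (h : T ⟶ GrChart.W hU σ)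
    (hh : (GrFun.grFun (EM f) d).map h.op (P₀ hU σ) = PZ f Z) :
    StalkBasis (fun i => amTop f Z hg (σ i)) ∧
      ∀ x, amTop f Z hg x = ∑ i, h.left.appTop (ιC σ (coord σ x i)) • amTop f Z hg (σ i) := by
  haveI := epi_q₀ hU σ
  haveI := epi_quotBC (Over.w h) (q₀ hU σ)
  haveI := epi_qZ f Z
  have hk : kerSub (Grass.quotBC (Over.w h) (q₀ hU σ)) = kerSub (qZ f Z) := by
    rw [← pullK_kerSub]
    exact congrArg Subtype.val hh
  obtain ⟨e, he⟩ := exists_iso_of_kerSub_eq hk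
  have hpl : ∀ x, e.hom.app ⊤ ((Grass.quotBC (Over.w h) (q₀ hU σ)).app ⊤ (GrChart.pl T.hom (EM f) hg x)) =
      amTop f Z hg x := fun x => by
    rw [← qZ_pl, ← he]
    rfl
  have hs : ∀ i, e.hom.app ⊤ (t₀ σ h.left i) = amTop f Z hg (σ i) := fun i => by
    rw [← hpl]
    exact congrArg (e.hom.app ⊤) (quotBC_pl_sec hU σ (Over.w h) hg i).symm
  refine ⟨(stalkBasis_iff _).mpr ?_, fun x => ?_⟩
  · rw [show (fun i => amTop f Z hg (σ i)) = fun i => e.hom.app ⊤ (t₀ σ h.left i) from funext fun i => (hs i).symm,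
      basisSet_iso]
    exact (stalkBasis_iff _).mp (stalkBasis_t₀ σ h.left)
  · refine ((hpl x).symm.trans (congrArg (e.hom.app ⊤) (quotBC_pl hU σ (Over.w h) hg x))).trans ?_
    rw [map_sum]
    refine Finset.sum_congr rfl fun i _ => ?_
    exact (Scheme.Modules.Hom.app_smul e.hom _ _).trans (congrArg _ (hs i))

/-- the coordinates of a family satisfy the multiplicative relations. -/
theorem coord_mulE [(EM f).IsQuasicoherent] (h : T ⟶ GrChart.W hU σ)
    (hh : (GrFun.grFun (EM f) d).map h.op (P₀ hU σ) = PZ f Z) (y x : Γ(EM f, U)) (j : Fin d) :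
    h.left.appTop (ιC σ (coord σ (mulE f y x) j)) =
      ∑ i, h.left.appTop (ιC σ (coord σ x i)) * h.left.appTop (ιC σ (coord σ (mulE f y (σ i)) j)) := by
  have hg : ⊤ ≤ T.hom ⁻¹ᵁ U := top_le_of_comp hU σ (g := T.hom) h
  obtain ⟨hs, hc⟩ := coord_of_map f Z hg h hh
  refine congrFun (hs.eq_of_comb (W := ⊤) le_rfl
    (a := fun j => h.left.appTop (ιC σ (coord σ (mulE f y x) j)))
    (b := fun j => ∑ i, h.left.appTop (ιC σ (coord σ x i)) * h.left.appTop (ιC σ (coord σ (mulE f y (σ i)) j))) ?_) j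
  simp only [res_self, Finset.sum_smul]
  rw [← hc, amTop_mulE, hc x, map_sum, Finset.sum_comm]
  refine Finset.sum_congr rfl fun i _ => ?_
  rw [map_smul, ← amTop_mulE, hc (mulE f y (σ i)), Finset.smul_sum]
  exact Finset.sum_congr rfl fun j _ => smul_smul _ _ _

theorem mem_locus_of_span [(EM f).IsQuasicoherent] (hU : IsAffineOpen U) (a : Γ(EM f, U) → Fin d → Γ(T.left, ⊤))
    (ha : ∀ x, amTop f Z hg x = ∑ i, a x i • amTop f Z hg (σ i)) (p : T.left) : p ∈ locus (PZ f Z) σ := by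
  haveI := epi_qZ f Z
  show p ∈ (locus (PZ f Z) σ : Set T.left)
  rw [coe_locus_of_kerSub (PZ f Z) σ (qZ f Z) rfl]
  refine ⟨hg (Set.mem_univ p), ?_⟩
  obtain ⟨V, hpV, ⟨i⟩⟩ := rank_QM f Z p
  obtain ⟨s, hs⟩ := exists_stalkBasis_of_iso i
  let e := hs.stalkEquiv p hpV
  let g : Fin d → (QM f Z).presheaf.stalk p := fun k => germM (QM f Z) ⊤ p trivial (amTop f Z hg (σ k))
  let L := Fintype.linearCombination (T.left.presheaf.stalk p) g
  have hg' : ∀ x : Γ(EM f, U), germM (QM f Z) (T.hom ⁻¹ᵁ U) p (hg trivial)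
      ((qZ f Z).app (T.hom ⁻¹ᵁ U) (Amp73.pullS T.hom (EM f) U x)) = germM (QM f Z) ⊤ p trivial (amTop f Z hg x) :=
    fun x => by
      rw [← qZ_pl, QC70.app_res, germM_res]
  have hL : ∀ c, germComb (img (qZ f Z) σ) p (hg trivial) c = L c := fun c => by
    rw [Fintype.linearCombination_apply]
    exact Finset.sum_congr rfl fun k _ => congrArg (c k • ·) (hg' (σ k))
  have hsurj : Function.Surjective L := by
    rw [← LinearMap.range_eq_top, eq_top_iff, ← GrExist.span_germ_img (qZ f Z) hU p (hg trivial), Submodule.span_le]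
    rintro _ ⟨x, rfl⟩
    refine ⟨fun k => T.left.presheaf.germ ⊤ p trivial (a x k), ?_⟩
    refine Eq.trans ?_ (hg' x).symm
    rw [ha, germM_sum, Fintype.linearCombination_apply]
    exact Finset.sum_congr rfl fun k _ => (germM_smul (show p ∈ (⊤ : T.left.Opens) from trivial) _ _).symm
  have hbij : Function.Bijective L := by
    refine ⟨fun c c' hc => ?_, hsurj⟩
    exact OrzechProperty.injective_of_surjective_endomorphism (e.symm.toLinearMap ∘ₗ L)
      (e.symm.surjective.comp hsurj) (congrArg e.symm hc)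
  rw [funext hL]
  exact hbij

theorem hom_ext_coord [(EM f).IsQuasicoherent] (a b : T ⟶ GrChart.W hU σ)
    (h : ∀ x i, a.left.appTop (ιC σ (coord σ x i)) = b.left.appTop (ιC σ (coord σ x i))) : a = b := by
  have hg : ⊤ ≤ T.hom ⁻¹ᵁ U := top_le_of_comp hU σ (g := T.hom) a
  refine Over.OverMorphism.ext (ext_of_isAffine (Y := Spec (CR σ)) ?_)
  rw [← cancel_epi (Scheme.ΓSpecIso (CR σ)).inv]
  refine CommRingCat.hom_ext (Ideal.Quotient.ringHom_ext (MvPolynomial.ringHom_ext (fun r => ?_) fun mi => ?_))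
  · exact (appTop_ρ hU σ (Over.w a) hg r).trans (appTop_ρ hU σ (Over.w b) hg r).symm
  · exact h mi.1 mi.2

end Sections

section Chart

variable {U : S.Opens} (hU : IsAffineOpen U) (σ : Fin d → Γ(EM f, U))

/-- the multiplicative relations. -/
def mulRel : Set (CR σ) :=
  Set.range fun q : Γ(EM f, U) × Γ(EM f, U) × Fin d =>
    coord σ (mulE f q.1 q.2.1) q.2.2 - ∑ i, coord σ q.2.1 i * coord σ (mulE f q.1 (σ i)) q.2.2

/-- the coordinate ring of a chart of the Hilbert scheme. -/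
abbrev CH : CommRingCat.{u} := CommRingCat.of (CR σ ⧸ Ideal.span (mulRel f σ))

/-- the quotient map. -/
def mkH : CR σ ⟶ CH f σ := CommRingCat.ofHom (Ideal.Quotient.mk _)

theorem mkH_mulE (y x : Γ(EM f, U)) (j : Fin d) :
    mkH f σ (coord σ (mulE f y x) j) = ∑ i, mkH f σ (coord σ x i) * mkH f σ (coord σ (mulE f y (σ i)) j) := by
  have h : mkH f σ (coord σ (mulE f y x) j - ∑ i, coord σ x i * coord σ (mulE f y (σ i)) j) = 0 :=
    Ideal.Quotient.eq_zero_iff_mem.mpr (Ideal.subset_span ⟨(y, x, j), rfl⟩)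
  rw [map_sub, map_sum, sub_eq_zero] at h
  rw [h]
  exact Finset.sum_congr rfl fun i _ => map_mul _ _ _

/-- the chart over the base. -/
abbrev TH : Over S := Over.mk (Spec.map (mkH f σ) ≫ g₀ hU σ)

omit [IsAffineHom f] in
theorem appLE_SpecMap_fromSpec {Y : Scheme.{u}} {V : Y.Opens} (hV : IsAffineOpen V) {A : CommRingCat.{u}}
    (φ : Γ(Y, V) ⟶ A) (h : ⊤ ≤ (Spec.map φ ≫ hV.fromSpec) ⁻¹ᵁ V) :
    (Spec.map φ ≫ hV.fromSpec).appLE V ⊤ h = φ ≫ (Scheme.ΓSpecIso A).inv := by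
  rw [← Scheme.Hom.appLE_comp_appLE (Spec.map φ) hV.fromSpec V ⊤ ⊤ hV.fromSpec_preimage_self.ge le_top,
    Omega57.fromSpec_appLE_top]
  refine Eq.trans ?_ (Scheme.ΓSpecIso_inv_naturality φ).symm
  congr 1

theorem top_le_TH : ⊤ ≤ (TH f hU σ).hom ⁻¹ᵁ U := (Spec.map (mkH f σ)).preimage_mono (top_le_g₀ hU σ)

theorem exists_ring {C : CommRingCat.{u}} (m : CR σ ⟶ C)
    (hm : ∀ y x j, m (coord σ (mulE f y x) j) = ∑ i, m (coord σ x i) * m (coord σ (mulE f y (σ i)) j)) :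
    ∃ (A : CommRingCat.{u}) (γ : C ⟶ A) (α : Γ(X, f ⁻¹ᵁ U) ⟶ A),
    Mor2.IsFinLocFreeOfDeg d (Spec.map γ) ∧ f.app U ≫ α = ρ σ ≫ m ≫ γ ∧
      (∀ a : A, a ∈ Subring.closure (Set.range γ ∪ Set.range α)) ∧
      ∀ x : Γ(X, f ⁻¹ᵁ U), α x = ∑ i, γ (m (coord σ x i)) * α (σ i) := by
  classical
  letI : Algebra Γ(S, U) Γ(X, f ⁻¹ᵁ U) := (f.app U).hom.toAlgebra
  letI : Algebra Γ(S, U) (C) := (ρ σ ≫ m).hom.toAlgebra
  let σ' : Fin d → Γ(X, f ⁻¹ᵁ U) := σ
  let L : Γ(X, f ⁻¹ᵁ U) →ₗ[Γ(S, U)] (Fin d → C) :=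
    { toFun := fun x i => m (coord σ (show Γ(EM f, U) from x) i)
      map_add' := fun x y => funext fun i =>
        (congrArg (m) (coord_add σ (show Γ(EM f, U) from x) (show Γ(EM f, U) from y) i)).trans (map_add _ _ _)
      map_smul' := fun c x => funext fun i => by
        refine (congrArg (m) (coord_smul σ c (show Γ(EM f, U) from x) i)).trans ?_
        rw [RingHom.id_apply, Pi.smul_apply, Algebra.smul_def, map_mul]
        rfl }
  have hL : AffHilb.IsCoord σ' L := by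
    refine ⟨fun k => funext fun i => ?_, fun x y => funext fun j => ?_⟩
    · show m (coord σ (σ k) i) = _
      rw [coord_sec, Pi.single_apply]
      split_ifs <;> simp
    · rw [Finset.sum_apply]
      exact hm y x j
  let A := (C ⊗[Γ(S, U)] Γ(X, f ⁻¹ᵁ U)) ⧸ AffHilb.idl σ' hL
  let γ : C ⟶ CommRingCat.of A := CommRingCat.ofHom (algebraMap (C) A)
  let α : Γ(X, f ⁻¹ᵁ U) ⟶ CommRingCat.of A := CommRingCat.ofHom ((Ideal.Quotient.mk (AffHilb.idl σ' hL)).comp
    (Algebra.TensorProduct.includeRight :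
      Γ(X, f ⁻¹ᵁ U) →ₐ[Γ(S, U)] C ⊗[Γ(S, U)] Γ(X, f ⁻¹ᵁ U)).toRingHom)
  have hγα : ∀ (c : C) (x : Γ(X, f ⁻¹ᵁ U)),
      γ c * α x = Ideal.Quotient.mk (AffHilb.idl σ' hL) (c ⊗ₜ x) := fun c x => by
    show Ideal.Quotient.mk _ (algebraMap (C) (C ⊗[Γ(S, U)] Γ(X, f ⁻¹ᵁ U)) c) *
      Ideal.Quotient.mk _ ((1 : C) ⊗ₜ[Γ(S, U)] x) = _
    rw [← map_mul, Algebra.TensorProduct.algebraMap_apply, Algebra.TensorProduct.tmul_mul_tmul,
      Algebra.algebraMap_self, RingHom.id_apply, mul_one, one_mul]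
  refine ⟨CommRingCat.of A, γ, α, ?_, CommRingCat.hom_ext (RingHom.ext fun c => ?_), fun a => ?_, fun x => ?_⟩
  · let e := AffHilb.quotEquiv σ' hL
    haveI := Module.Free.of_equiv e.symm
    haveI := Module.Finite.equiv e.symm
    haveI := Module.finitePresentation_of_projective (C) A
    refine ⟨⟨(IsFinite.SpecMap_iff _).2 (RingHom.finite_algebraMap.2 inferInstance),
      Flat.SpecMap_iff.2 (RingHom.flat_algebraMap_iff.2 inferInstance),
      (HasRingHomProperty.Spec_iff (P := @LocallyOfFinitePresentation)).2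
        (RingHom.finitePresentation_algebraMap.2 inferInstance)⟩, fun y => ?_⟩
    let y' : PrimeSpectrum (C) := y
    haveI : Nontrivial (C) :=
      ⟨⟨0, 1, fun h => y'.2.ne_top ((Ideal.eq_top_iff_one _).2 (h ▸ y'.asIdeal.zero_mem))⟩⟩
    rw [Scheme.Hom.finrank_SpecMap_algebraMap, Module.rankAtStalk_eq_finrank_of_free]
    show Module.finrank (C) _ = d
    rw [e.finrank_eq]
    simp
  · show Ideal.Quotient.mk _ ((1 : C) ⊗ₜ[Γ(S, U)] algebraMap Γ(S, U) Γ(X, f ⁻¹ᵁ U) c) =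
      Ideal.Quotient.mk _ (algebraMap (C) (C ⊗[Γ(S, U)] Γ(X, f ⁻¹ᵁ U)) (algebraMap Γ(S, U) (C) c))
    rw [Algebra.TensorProduct.algebraMap_apply, Algebra.algebraMap_self, RingHom.id_apply,
      Algebra.algebraMap_eq_smul_one c, Algebra.algebraMap_eq_smul_one c, TensorProduct.smul_tmul]
  · obtain ⟨w, rfl⟩ := Ideal.Quotient.mk_surjective a
    induction w with
    | zero => rw [map_zero]; exact zero_mem _
    | add u v hu hv => rw [map_add]; exact add_mem hu hv
    | tmul c x =>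
      rw [← hγα]
      exact mul_mem (Subring.subset_closure (Or.inl ⟨c, rfl⟩)) (Subring.subset_closure (Or.inr ⟨x, rfl⟩))
  · have h := Ideal.Quotient.eq_zero_iff_mem.mpr (AffHilb.sub_theta_mem σ' hL ((1 : C) ⊗ₜ[Γ(S, U)] x))
    rw [map_sub, sub_eq_zero, LinearMap.liftBaseChange_one_tmul, AffHilb.theta,
      Fintype.linearCombination_apply, map_sum] at h
    refine Eq.trans h (Finset.sum_congr rfl fun i _ => ?_)
    refine Eq.trans ?_ (hγα _ _).symm
    rw [AffHilb.basisVec, TensorProduct.smul_tmul', smul_eq_mul, mul_one]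
    rfl

theorem exists_family : ∃ Z : HilbD.Obj f d (TH f hU σ), ∀ x, amTop f Z (top_le_TH f hU σ) x =
    ∑ i, (Spec.map (mkH f σ)).appTop (ιC σ (coord σ x i)) • amTop f Z (top_le_TH f hU σ) (σ i) := by
  obtain ⟨A, γ, α, hdeg, hcomm, hgen, hrel⟩ := exists_ring f σ (mkH f σ) (mkH_mulE f σ)
  let hX := hU.preimage f
  let x' : Spec A ⟶ X := Spec.map α ≫ hX.fromSpec
  have hw : x' ≫ f = Spec.map γ ≫ (TH f hU σ).hom := by
    show (Spec.map α ≫ hX.fromSpec) ≫ f = _
    rw [Category.assoc, ← hU.SpecMap_appLE_fromSpec f hX le_rfl, ← Spec.map_comp_assoc]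
    show _ = Spec.map γ ≫ Spec.map (mkH f σ) ≫ Spec.map (ρ σ) ≫ hU.fromSpec
    rw [← Spec.map_comp_assoc, ← Spec.map_comp_assoc, ← Category.assoc (ρ σ), Category.assoc (ρ σ), ← hcomm,
      Scheme.Hom.app_eq_appLE]
  let i : Spec A ⟶ PicF.XT f (TH f hU σ) := pullback.lift x' (Spec.map γ) hw
  have hi₂ : i ≫ PicF.XTproj f (TH f hU σ) = Spec.map γ := pullback.lift_snd _ _ _
  have hi₁ : i ≫ pullback.fst f (TH f hU σ).hom = x' := pullback.lift_fst _ _ _
  have hx' : ⊤ ≤ x' ⁻¹ᵁ (f ⁻¹ᵁ U) := (Spec.map α).preimage_mono hX.fromSpec_preimage_self.ge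
  haveI : IsAffineHom (PicF.XTproj f (TH f hU σ)) := MorphismProperty.pullback_snd _ _ inferInstance
  haveI : IsAffine (TH f hU σ).left := inferInstanceAs (IsAffine (Spec (CH f σ)))
  haveI : IsAffine (PicF.XT f (TH f hU σ)) := isAffine_of_isAffineHom (PicF.XTproj f (TH f hU σ))
  haveI : IsClosedImmersion i := by
    refine IsClosedImmersion.of_surjective_of_isAffine i fun z => ?_
    obtain ⟨a, rfl⟩ := (ConcreteCategory.bijective_of_isIso (Scheme.ΓSpecIso A).inv).2 z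
    induction hgen a using Subring.closure_induction with
    | mem a ha =>
      obtain ⟨c, rfl⟩ | ⟨r, rfl⟩ := ha
      · refine ⟨(PicF.XTproj f (TH f hU σ)).appTop ((Scheme.ΓSpecIso (CH f σ)).inv c), ?_⟩
        rw [← CommRingCat.comp_apply, ← Scheme.Hom.comp_appTop, hi₂]
        exact (congr($(Scheme.ΓSpecIso_inv_naturality γ) c)).symm
      · refine ⟨(pullback.fst f (TH f hU σ).hom).appLE (f ⁻¹ᵁ U) ⊤ (proj_le f (top_le_TH f hU σ)) r, ?_⟩
        rw [← appLE_top_top i, ← CommRingCat.comp_apply, Scheme.Hom.appLE_comp_appLE]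
        simp only [hi₁]
        rw [appLE_SpecMap_fromSpec hX α hx']
        rfl
    | zero => exact ⟨0, by rw [map_zero, map_zero]⟩
    | one => exact ⟨1, by rw [map_one, map_one]⟩
    | add a b _ _ ha hb =>
      obtain ⟨a', ha'⟩ := ha; obtain ⟨b', hb'⟩ := hb
      exact ⟨a' + b', by rw [map_add, map_add, ha', hb']⟩
    | neg a _ ha => obtain ⟨a', ha'⟩ := ha; exact ⟨-a', by rw [map_neg, map_neg, ha']⟩
    | mul a b _ _ ha hb =>
      obtain ⟨a', ha'⟩ := ha; obtain ⟨b', hb'⟩ := hb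
      exact ⟨a' * b', by rw [map_mul, map_mul, ha', hb']⟩
  have he : i.toImage ≫ i.ker.subschemeι = i := i.toImage_imageι
  have hpr : inv i.toImage ≫ Spec.map γ = i.ker.subschemeι ≫ PicF.XTproj f (TH f hU σ) := by
    rw [IsIso.inv_comp_eq, ← hi₂, reassoc_of% he]
  let Z : HilbD.Obj f d (TH f hU σ) := ⟨i.ker, finLocFreeOfDeg_isPullback
    (IsPullback.of_horiz_isIso ⟨by rw [hpr, Category.comp_id]⟩ :
      IsPullback (inv i.toImage) (i.ker.subschemeι ≫ PicF.XTproj f (TH f hU σ)) (Spec.map γ) (𝟙 _)) hdeg⟩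
  refine ⟨Z, fun x => ?_⟩
  let e : Spec A ⟶ Z.1.subscheme := i.toImage
  haveI : IsIso e := inferInstanceAs (IsIso i.toImage)
  have heam : e ≫ am f Z = x' := by
    show i.toImage ≫ i.ker.subschemeι ≫ _ = _
    rw [reassoc_of% he, hi₁]
  have hepr : e ≫ pr f Z = Spec.map γ := by
    show i.toImage ≫ i.ker.subschemeι ≫ _ = _
    rw [reassoc_of% he, hi₂]
  let F : Γ(QM f Z, ⊤) →+ Γ(Spec A, ⊤) := e.appTop.hom.toAddMonoidHom
  have hF : Function.Injective F := (ConcreteCategory.bijective_of_isIso e.appTop).1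
  have hFam : ∀ y : Γ(EM f, U), F (amTop f Z (top_le_TH f hU σ) y) =
      (Scheme.ΓSpecIso A).inv (α (show Γ(X, f ⁻¹ᵁ U) from y)) := fun y => by
    show e.appTop ((am f Z).appLE (f ⁻¹ᵁ U) ⊤ (am_le f Z (top_le_TH f hU σ)) _) = _
    rw [← appLE_top_top e, ← CommRingCat.comp_apply, Scheme.Hom.appLE_comp_appLE]
    simp only [heam]
    rw [appLE_SpecMap_fromSpec hX α hx']
    rfl
  refine hF ?_
  rw [map_sum, hFam, hrel, map_sum]
  refine Finset.sum_congr rfl fun k _ => ?_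
  show _ = e.appTop ((pr f Z).app ⊤ ((Spec.map (mkH f σ)).appTop (ιC σ (coord σ x k))) *
    (show Γ(Z.1.subscheme, pr f Z ⁻¹ᵁ ⊤) from amTop f Z (top_le_TH f hU σ) (σ k)))
  rw [map_mul, map_mul, ← hFam]
  congr 1
  show _ = ((pr f Z).appTop ≫ e.appTop) _
  rw [← Scheme.Hom.comp_appTop, hepr, show (Spec.map (mkH f σ)).appTop (ιC σ (coord σ x k)) =
    (Scheme.ΓSpecIso (CH f σ)).inv (mkH f σ (coord σ x k)) from
      (congr($(Scheme.ΓSpecIso_inv_naturality (mkH f σ)) (coord σ x k))).symm]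
  exact congr($(Scheme.ΓSpecIso_inv_naturality γ) (mkH f σ (coord σ x k)))

end Chart

section Closed

variable {G : Scheme.{u}} {π : G ⟶ S} {Q : G.Modules} {q : (Scheme.Modules.pullback π).obj (EM f) ⟶ Q}
  (hG : Grass.IsGrass π (EM f) d Q q) {H : Over S} (Zu : HilbD.Obj f d H) (hH : HilbD.IsUniversal f d H Zu)
  {U : S.Opens} (hU : IsAffineOpen U) (σ : Fin d → Γ(EM f, U))

include hH hU in
theorem isClosedImmersion_restrict [(EM f).IsQuasicoherent] :
    IsClosedImmersion ((toGrass f hG Zu).left ∣_ opn hG σ) := by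
  let c := toGrass f hG Zu
  let O : G.Opens := opn hG σ
  let V : H.left.Opens := c.left ⁻¹ᵁ O
  let TV : Over S := Over.mk (V.ι ≫ H.hom)
  let j : TV ⟶ H := Over.homMk V.ι rfl
  have hmap : (GrFun.grFun (EM f) d).map (j ≫ c).op (univ hG) = PZ f (objPull j Zu) := comp_toGrass_map f hG Zu j
  obtain ⟨h, hh⟩ := exists_map_eq hU σ (PZ f (objPull j Zu)) (fun p => by
    rw [← hmap]
    exact (Set.ext_iff.mp (locus_map (j ≫ c) (univ hG) σ) p).mpr p.2)
  let c₀ : GrChart.W hU σ ⟶ Over.mk π := Over.homMk (chartMor hG hU σ) (chartMor_comp hG hU σ)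
  have hc₀ : (GrFun.grFun (EM f) d).map c₀.op (univ hG) = P₀ hU σ := chartMor_map hG hU σ
  have hjc : h ≫ c₀ = j ≫ c := by
    refine (existsUnique_map hG TV (PZ f (objPull j Zu))).unique ?_ hmap
    rw [op_comp, Functor.map_comp_apply, hc₀, hh]
  -- the chart of the Hilbert scheme maps to it
  obtain ⟨Z, hZ⟩ := exists_family f hU σ
  let L : TH f hU σ ⟶ GrChart.W hU σ := Over.homMk (Spec.map (mkH f σ)) rfl
  obtain ⟨h', hh'⟩ := exists_map_eq hU σ (PZ f Z) (mem_locus_of_span f Z (top_le_TH f hU σ) hU _ hZ)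
  obtain ⟨hs, hc'⟩ := coord_of_map f Z (top_le_TH f hU σ) h' hh'
  have hL : h' = L := hom_ext_coord f h' L fun x i => by
    refine congrFun (hs.eq_of_comb (W := ⊤) le_rfl
      (a := fun i => h'.left.appTop (ιC σ (coord σ x i))) (b := fun i => L.left.appTop (ιC σ (coord σ x i))) ?_) i
    simp only [res_self]
    exact (hc' x).symm.trans (hZ x)
  rw [hL] at hh'
  obtain ⟨g, hg, -⟩ := hH (TH f hU σ) Z
  have hgc : g ≫ c = L ≫ c₀ := by
    refine (existsUnique_map hG (TH f hU σ) (PZ f Z)).unique ?_ ?_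
    · rw [comp_toGrass_map, show objPull g Zu = Z from Subtype.ext hg]
    · rw [op_comp, Functor.map_comp_apply, hc₀, hh']
  have hr : Set.range g.left ⊆ Set.range V.ι := by
    rw [Scheme.Opens.range_ι]
    rintro _ ⟨y, rfl⟩
    show (g ≫ c).left y ∈ O
    rw [hgc]
    exact range_chartMor_subset hG hU σ ⟨L.left y, rfl⟩
  let g' : TH f hU σ ⟶ TV := Over.homMk (IsOpenImmersion.lift V.ι g.left hr) (by
    show _ ≫ V.ι ≫ H.hom = _
    rw [← Category.assoc, IsOpenImmersion.lift_fac, Over.w g])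
  have hg' : g' ≫ j = g := Over.OverMorphism.ext (IsOpenImmersion.lift_fac _ _ _)
  haveI := isOpenImmersion_chartMor hG hU σ
  haveI : Mono c₀.left := inferInstanceAs (Mono (chartMor hG hU σ))
  haveI : Mono c₀ := Over.mono_of_mono_left c₀
  have hgh : g' ≫ h = L := by
    rw [← cancel_mono c₀, Category.assoc, hjc, ← Category.assoc, hg', hgc]
  -- the coordinates of the restriction satisfy the relations
  let ψ : CR σ ⟶ Γ(TV.left, ⊤) := ιC σ ≫ h.left.appTop
  let φ : CH f σ ⟶ Γ(TV.left, ⊤) := CommRingCat.ofHom (Ideal.Quotient.lift _ ψ.hom (by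
    intro z hz
    refine (Ideal.span_le.mpr ?_ : Ideal.span (mulRel f σ) ≤ RingHom.ker ψ.hom) hz
    rintro _ ⟨⟨y, x, k⟩, rfl⟩
    rw [SetLike.mem_coe, RingHom.mem_ker, map_sub, map_sum, sub_eq_zero]
    simp only [map_mul]
    exact coord_mulE f (objPull j Zu) h hh y x k))
  let b : TV.left ⟶ Spec (CH f σ) := TV.left.toSpecΓ ≫ Spec.map φ
  have hb : b ≫ Spec.map (mkH f σ) = h.left := by
    have hφ : mkH f σ ≫ φ = ψ := rfl
    show (TV.left.toSpecΓ ≫ Spec.map φ) ≫ _ = _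
    rw [Category.assoc, ← Spec.map_comp, hφ]
    refine ext_of_isAffine (Y := Spec (CR σ)) ?_
    rw [← cancel_epi (Scheme.ΓSpecIso (CR σ)).inv, Scheme.Hom.comp_appTop, ← Category.assoc,
      ← Scheme.ΓSpecIso_inv_naturality, Category.assoc, Scheme.toSpecΓ_appTop, Iso.inv_hom_id, Category.comp_id]
  haveI : IsClosedImmersion (Spec.map (mkH f σ)) := IsClosedImmersion.spec_of_surjective _ Ideal.Quotient.mk_surjective
  haveI := mono_toGrass f hG Zu hH
  haveI : Mono h.left := by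
    haveI : Mono (h.left ≫ c₀.left) := by
      rw [← Over.comp_left, hjc, Over.comp_left]
      exact inferInstanceAs (Mono (V.ι ≫ c.left))
    exact mono_of_mono h.left c₀.left
  have hgb : g'.left ≫ b = 𝟙 _ := by
    rw [← cancel_mono (Spec.map (mkH f σ)), Category.assoc, hb, Category.id_comp]
    exact congrArg Over.Hom.left hgh
  have hbg : b ≫ g'.left = 𝟙 _ := by
    rw [← cancel_mono h.left, Category.assoc, ← Over.comp_left, hgh, Category.id_comp]
    exact hb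
  haveI : IsIso b := ⟨g'.left, hbg, hgb⟩
  haveI : IsClosedImmersion h.left := by
    rw [← hb]
    infer_instance
  obtain ⟨φG, hφG⟩ := exists_iso_opn hG hU σ
  have hres : (c.left ∣_ O) = h.left ≫ φG.hom := by
    rw [← cancel_mono O.ι, morphismRestrict_ι, Category.assoc, hφG]
    exact (congrArg Over.Hom.left hjc).symm
  show IsClosedImmersion (c.left ∣_ O)
  rw [hres]
  infer_instance

include hH in
/-- The Hilbert scheme of points is closed in the Grassmannian. -/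
theorem isClosedImmersion_toGrass : IsClosedImmersion (toGrass f hG Zu).left := by
  haveI := isQuasicoherent_EM f
  let ι := Σ U : S.affineOpens, (Fin d → Γ(EM f, U.1))
  refine IsZariskiLocalAtTarget.of_iSup_eq_top (P := @IsClosedImmersion) (fun i : ι => opn hG i.2)
    (top_le_iff.mp fun p _ => ?_) fun i => isClosedImmersion_restrict f hG Zu hH i.1.2 i.2
  obtain ⟨U, hU, hpU, -⟩ := exists_isAffineOpen_mem_and_subset (x := π p) (U := ⊤) trivial
  obtain ⟨σ, hσ⟩ := GrExist.exists_frame_at (univ hG) hU p hpU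
  exact Opens.mem_iSup.mpr ⟨⟨⟨U, hU⟩, σ⟩, hσ⟩

end Closed

end Groth.Agent.Grass5.HilbGrass
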