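import Groth.Agent.Grass5.HilbRel

/-!
The Hilbert scheme of points of `C/B` maps by a closed immersion to that of an ambient `X/S`.
-/

set_option autoImplicit false
set_option backward.isDefEq.respectTransparency false
set_option backward.isDefEq.respectTransparency.types false
set_option maxHeartbeats 400000

universe u

open CategoryTheory CategoryTheory.Limits AlgebraicGeometry

namespace Groth.Agent.Grass5.Hilb

variable {C B S X : Scheme.{u}} (π : C ⟶ B) (b : B ⟶ S) [IsSeparated b] {T T' : Over B} {d : ℕ}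

omit [IsSeparated b] in
/-- the family descends to the structure map to `B`. -/
abbrev Fac (T : Over B) (I : (PicF.XT (π ≫ b) (res b T)).IdealSheafData) : Prop :=
  (I.subschemeι ≫ PicF.XTproj (π ≫ b) (res b T)) ≫ T.hom = toB π b I

/-- the family descends to a given map to `B`. -/
abbrev FacU (U : Over S) (I : (PicF.XT (π ≫ b) U).IdealSheafData) (β : U.left ⟶ B) : Prop :=
  (I.subschemeι ≫ PicF.XTproj (π ≫ b) U) ≫ β = toB π b I

omit [IsSeparated b] in
theorem fac_pull {U U' : Over S} (h : U' ⟶ U) {I : (PicF.XT (π ≫ b) U).IdealSheafData}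
    {β : U.left ⟶ B} (hf : FacU π b U I β) :
    FacU π b U' (HilbD.pull (π ≫ b) h I) (h.left ≫ β) := by
  let J := HilbD.pull (π ≫ b) h I
  have hle : I.subschemeι.ker ≤ (J.subschemeι ≫ PicF.XTmap (π ≫ b) h).ker := by
    rw [Scheme.IdealSheafData.ker_subschemeι, ← Scheme.IdealSheafData.map_ker,
      Scheme.IdealSheafData.ker_subschemeι, Scheme.IdealSheafData.le_map_iff_comap_le]
    exact (pull_eq_comap (π ≫ b) h I).ge
  let q := IsClosedImmersion.lift _ _ hle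
  have hq : q ≫ I.subschemeι = J.subschemeι ≫ PicF.XTmap (π ≫ b) h :=
    IsClosedImmersion.lift_fac _ _ _
  have := congr(q ≫ $hf)
  simp only [toB, Category.assoc, reassoc_of% hq] at this
  simpa [FacU, toB, J, PicF.XTmap, PicF.XTproj] using this

theorem cmp_ker_le_of_fac {I : (PicF.XT (π ≫ b) (res b T)).IdealSheafData} (h : Fac π b T I) :
    (cmp π b T).ker ≤ I := by
  let l : I.subscheme ⟶ PicF.XT π T := pullback.lift (I.subschemeι ≫ pullback.fst (π ≫ b) (T.hom ≫ b))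
    (I.subschemeι ≫ PicF.XTproj (π ≫ b) (res b T)) (by rw [Category.assoc]; exact h.symm)
  have : l ≫ cmp π b T = I.subschemeι := by
    refine pullback.hom_ext ?_ ?_ <;> simp [l, cmp, PicF.XTproj]
  exact (Scheme.Hom.le_ker_comp l _).trans (by rw [this, Scheme.IdealSheafData.ker_subschemeι])

theorem fac_imgC (I : (PicF.XT π T).IdealSheafData) : Fac π b T (imgC π b T I) := by
  have hle : (cmp π b T).ker ≤ imgC π b T I := by
    rw [← Scheme.IdealSheafData.map_bot]; exact Scheme.IdealSheafData.map_mono _ bot_le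
  obtain ⟨l, hl⟩ : ∃ l, l ≫ cmp π b T = (imgC π b T I).subschemeι :=
    ⟨IsClosedImmersion.lift _ _ (hle.trans (Scheme.IdealSheafData.ker_subschemeι _).ge),
      IsClosedImmersion.lift_fac _ _ _⟩
  show ((imgC π b T I).subschemeι ≫ _) ≫ _ =
    (imgC π b T I).subschemeι ≫ pullback.fst (π ≫ b) (T.hom ≫ b) ≫ π
  rw [← hl, Category.assoc, Category.assoc, Category.assoc, ← Category.assoc (cmp π b T), cmp_proj,
    ← Category.assoc (cmp π b T), cmp_fst]
  exact congrArg (l ≫ ·) pullback.condition.symm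

theorem fac_unique (hd : 0 < d) {U : Over S} (W : HilbD.Obj (π ≫ b) d U) {β₁ β₂ : U.left ⟶ B}
    (h₁ : (W.1.subschemeι ≫ PicF.XTproj (π ≫ b) U) ≫ β₁ = toB π b W.1)
    (h₂ : (W.1.subschemeι ≫ PicF.XTproj (π ≫ b) U) ≫ β₂ = toB π b W.1) : β₁ = β₂ := by
  obtain ⟨⟨a1, a2, a3⟩, -⟩ := W.2
  haveI := a1; haveI := a2
  haveI := surjective_of_pos π b hd W
  rw [← cancel_epi (W.1.subschemeι ≫ PicF.XTproj (π ≫ b) U), h₁, h₂]

theorem representable_closed' {f' : C ⟶ S} (j : C ⟶ X) [IsClosedImmersion j] (g : X ⟶ S)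
    (hf' : j ≫ g = f') {H : Over S} {Z : HilbD.Obj g d H} (hZ : HilbD.IsUniversal g d H Z) :
    ∃ (H₁ : Over S) (Z₁ : HilbD.Obj f' d H₁) (m₁ : H₁ ⟶ H),
      HilbD.IsUniversal f' d H₁ Z₁ ∧ IsClosedImmersion m₁.left ∧
      ∀ (U : Over S) (h : U ⟶ H₁), HilbD.pull g (h ≫ m₁) Z.1 = (HilbD.pull f' h Z₁.1).map
        (pullback.map f' U.hom g U.hom j (𝟙 _) (𝟙 S) (by simp [hf']) (by simp)) := by
  subst hf'
  obtain ⟨H₁, Z₁, m₁, h₁, hcl, hm⟩ := representable_closed j g hZ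
  refine ⟨H₁, Z₁, m₁, h₁, hcl, fun U h ↦ ?_⟩
  rw [← pull_comp, hm, push_pull, push_eq_map]
  rfl

theorem isClosedImmersion_rel (hd : 0 < d) (j : C ⟶ X) [IsClosedImmersion j] (g : X ⟶ S)
    (h : j ≫ g = π ≫ b) {H : Over S} {Z : HilbD.Obj g d H} (hZ : HilbD.IsUniversal g d H Z)
    {H' : Over B} {Z' : HilbD.Obj π d H'} (hZ' : HilbD.IsUniversal π d H' Z')
    (m : res b H' ⟶ H)
    (hm : HilbD.pull g m Z.1 =
      (Z'.1.subschemeι ≫ pullback.map π H'.hom g (H'.hom ≫ b) j (𝟙 H'.left) b h.symm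
        (Category.id_comp _).symm).ker) : IsClosedImmersion m.left := by
  obtain ⟨H₁, Z₁, m₁, h₁, hcl, hpush⟩ := representable_closed' (f' := π ≫ b) j g h hZ
  haveI := hcl
  obtain ⟨U₀, ι, hι, huniv⟩ := exists_locus_factor π b Z₁ hd
  haveI := hι
  let i₀ : Over.mk (ι ≫ H₁.hom) ⟶ H₁ := Over.homMk ι rfl
  obtain ⟨β₀, hβ₀, hβ₀b⟩ := (huniv i₀).1 ⟨𝟙 _, Category.id_comp _⟩
  let T₀ : Over B := Over.mk β₀
  let i : res b T₀ ⟶ H₁ := Over.homMk ι (by simp [T₀, hβ₀b])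
  let j₀ : res b T₀ ⟶ Over.mk (ι ≫ H₁.hom) := Over.homMk (𝟙 U₀) (by simp [T₀, hβ₀b])
  have hW : Fac π b T₀ (HilbD.pull (π ≫ b) i Z₁.1) := by
    have := fac_pull π b j₀ hβ₀
    rw [show j₀.left ≫ β₀ = β₀ from Category.id_comp _] at this
    have hij : j₀ ≫ i₀ = i := Over.OverMorphism.ext (Category.id_comp _)
    have hJ : HilbD.pull (π ≫ b) j₀ (HilbD.pull (π ≫ b) i₀ Z₁.1) = HilbD.pull (π ≫ b) i Z₁.1 := by
      rw [pull_comp, hij]
    exact hJ ▸ this
  let W₀ : HilbD.Obj π d T₀ := ⟨(HilbD.pull (π ≫ b) i Z₁.1).comap (cmp π b T₀),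
    (finLocFreeOfDeg_map (cmp π b T₀) _ _ (cmp_proj π b) _).1
      ((map_comap_closedImmersion _ (cmp_ker_le_of_fac π b hW)).symm ▸ (objPull i Z₁).2)⟩
  have hW₀ : imgC π b T₀ W₀.1 = HilbD.pull (π ≫ b) i Z₁.1 :=
    map_comap_closedImmersion _ (cmp_ker_le_of_fac π b hW)
  obtain ⟨e, he, -⟩ := hZ' T₀ W₀
  obtain ⟨a, ha, -⟩ := h₁ (res b H') (objImgC π b Z')
  obtain ⟨a₀, ha₀⟩ := (huniv a).2 ⟨H'.hom, ha ▸ fac_imgC π b Z'.1, rfl⟩
  have hβ : a₀ ≫ β₀ = H'.hom := by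
    let k : res b H' ⟶ Over.mk (ι ≫ H₁.hom) :=
      Over.homMk a₀ (by
        show a₀ ≫ ι ≫ H₁.hom = H'.hom ≫ b
        rw [← Category.assoc, ha₀]
        exact Over.w a)
    have hka : k ≫ i₀ = a := Over.OverMorphism.ext ha₀
    have hJ : HilbD.pull (π ≫ b) k (HilbD.pull (π ≫ b) i₀ Z₁.1) = (objImgC π b Z').1 := by
      rw [pull_comp, hka, ha]
    have := fac_pull π b k hβ₀
    exact fac_unique π b hd (objImgC π b Z') (hJ ▸ this : FacU π b _ (objImgC π b Z').1 (a₀ ≫ β₀))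
      (fac_imgC π b Z'.1)
  let e' : H' ⟶ T₀ := Over.homMk a₀ hβ
  have hai : resMap b e' ≫ i = a := Over.OverMorphism.ext ha₀
  have hei : resMap b e ≫ a = i := (h₁ _ (objPull i Z₁)).unique (by
    rw [← pull_comp, ha]
    show HilbD.pull (π ≫ b) _ (imgC π b H' Z'.1) = _
    rw [imgC_pull, he, hW₀]; rfl) rfl
  have h2 : e' ≫ e = 𝟙 H' := (hZ' H' Z').unique (by
    have h3 : imgC π b H' (HilbD.pull π e' W₀.1) = imgC π b H' Z'.1 := by
      rw [← imgC_pull, hW₀, pull_comp, hai, ha]; rfl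
    have h4 := congr(Scheme.IdealSheafData.comap $h3 (cmp π b H'))
    rw [imgC, imgC, comap_map_closedImmersion, comap_map_closedImmersion] at h4
    rw [← pull_comp, he, h4]) (by rw [pull_eq_comap]; simp [PicF.XTmap])
  haveI : IsIso a₀ := ⟨e.left, congr($(h2).left), by
    rw [← cancel_mono ι, Category.assoc, Category.id_comp, ha₀]
    exact congr($(hei).left)⟩
  have hm' : m = a ≫ m₁ := by
    refine (hZ (res b H') (objPull m Z)).unique rfl ?_
    show HilbD.pull g (a ≫ m₁) Z.1 = HilbD.pull g m Z.1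
    rw [hpush, ha, hm]
    show (Z'.1.map (cmp π b H')).map _ = _
    conv_lhs => rw [← Z'.1.ker_subschemeι]
    rw [Scheme.IdealSheafData.map_ker, Scheme.IdealSheafData.map_ker, Category.assoc]
    congr 2
    refine pullback.hom_ext ?_ ?_ <;> simp [cmp]
  rw [hm', Over.comp_left, ← ha₀]
  infer_instance

end Groth.Agent.Grass5.Hilb
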