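import Groth.Agent.Grass5.AffChart
import Groth.Agent.Grass5.HilbRelClosed

/-!
The Hilbert functor of points of a morphism of affine schemes is representable.
-/

set_option autoImplicit false
set_option linter.style.haveILetI false
set_option maxHeartbeats 400000
set_option backward.isDefEq.respectTransparency false
set_option backward.isDefEq.respectTransparency.types false

universe u

open CategoryTheory CategoryTheory.Limits AlgebraicGeometry

namespace Groth.Agent.Grass5.Hilb

variable {C B S : Scheme.{u}} (π : C ⟶ B) (b : B ⟶ S) [IsIso b] {d : ℕ}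

theorem ker_of_isIso {A A' : Scheme.{u}} (c : A ⟶ A') [IsIso c] : c.ker = ⊥ := by
  have : c.ker = (c ≫ 𝟙 A').ker := by rw [Category.comp_id]
  rw [this, Scheme.Hom.ker_comp_of_isIso]
  simp [← Scheme.IdealSheafData.map_bot]

theorem representable_comp_iso (h : HilbD.Representable π d) : HilbD.Representable (π ≫ b) d := by
  obtain ⟨H, Z, hZ⟩ := h
  have hiso : ∀ T : Over B, IsIso (cmp π b T) := fun T =>
    pullback.map_isIso _ _ _ _ (𝟙 C) (𝟙 T.left) b (Category.id_comp _).symm (Category.id_comp _).symm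
  refine ⟨res b H, objImgC π b Z, fun U W => ?_⟩
  let T : Over B := Over.mk (U.hom ≫ inv b)
  let k : U ⟶ res b T := Over.homMk (𝟙 U.left) (by simp [T])
  let k' : res b T ⟶ U := Over.homMk (𝟙 U.left) (by simp [T])
  have hkk : k' ≫ k = 𝟙 _ := Over.OverMorphism.ext (Category.id_comp _)
  have hk'k : k ≫ k' = 𝟙 _ := Over.OverMorphism.ext (Category.id_comp _)
  haveI := hiso T
  let W₁ := objPull k' W
  have hle : (cmp π b T).ker ≤ W₁.1 := by rw [ker_of_isIso]; exact bot_le
  let W₀ : HilbD.Obj π d T := ⟨W₁.1.comap (cmp π b T),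
    (finLocFreeOfDeg_map (cmp π b T) _ _ (cmp_proj π b) _).1
      ((map_comap_closedImmersion _ hle).symm ▸ W₁.2)⟩
  have hW₀ : imgC π b T W₀.1 = W₁.1 := map_comap_closedImmersion _ hle
  obtain ⟨g, hg, huniq⟩ := hZ T W₀
  refine ⟨k ≫ resMap b g, ?_, fun g'' hg'' => ?_⟩
  · show HilbD.pull _ (k ≫ resMap b g) _ = _
    rw [← pull_comp]
    show HilbD.pull _ k (HilbD.pull _ (resMap b g) (imgC π b H Z.1)) = W.1
    rw [imgC_pull, hg, hW₀]
    show HilbD.pull _ k (HilbD.pull _ k' W.1) = W.1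
    rw [pull_comp, hk'k, pull_eq_comap]
    simp [PicF.XTmap]
  · let g₀ : T ⟶ H := Over.homMk g''.left (by
      have := Over.w g''
      show g''.left ≫ H.hom = U.hom ≫ inv b
      rw [IsIso.eq_comp_inv, Category.assoc]
      exact this)
    have hg₀ : resMap b g₀ = k' ≫ g'' := Over.OverMorphism.ext (Category.id_comp _).symm
    have he : HilbD.pull π g₀ Z.1 = W₀.1 := by
      have h1 : imgC π b T (HilbD.pull π g₀ Z.1) = imgC π b T W₀.1 := by
        rw [hW₀, ← imgC_pull, hg₀, ← pull_comp]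
        exact congrArg (HilbD.pull _ k') hg''
      have := congr(Scheme.IdealSheafData.comap $h1 (cmp π b T))
      rwa [imgC, imgC, comap_map_closedImmersion, comap_map_closedImmersion] at this
    rw [← huniq g₀ he, hg₀, ← Category.assoc, hk'k, Category.id_comp]

theorem representable_of_isAffine {X : Scheme.{u}} [IsAffine X] [IsAffine S] (f : X ⟶ S) (d : ℕ) :
    HilbD.Representable f d := by
  let a := Spec.preimage (X.isoSpec.inv ≫ f ≫ S.isoSpec.hom)
  letI : Algebra Γ(S, ⊤) Γ(X, ⊤) := a.hom.toAlgebra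
  have h := representable_comp_iso (Punct.str Γ(S, ⊤) Γ(X, ⊤)) S.isoSpec.inv
    (AffHilb.representable_str (k := Γ(S, ⊤)) (R := Γ(X, ⊤)) (d := d))
  obtain ⟨H, Z, hH⟩ := h
  obtain ⟨H₁, Z₁, -, h₁, -⟩ := representable_closed' (f' := f) X.isoSpec.hom
    (Punct.str Γ(S, ⊤) Γ(X, ⊤) ≫ S.isoSpec.inv) (by
      show X.isoSpec.hom ≫ Spec.map a ≫ S.isoSpec.inv = f
      simp [a]) hH
  exact ⟨H₁, Z₁, h₁⟩

end Groth.Agent.Grass5.Hilb
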