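import Groth.Agent.Grass5.Cond
import Groth.Agent.MP99.Basic

/-!
The vanishing locus of an ideal sheaf on a finite locally free scheme over a base: it is a closed
subscheme of the base.
-/

set_option autoImplicit false
set_option maxHeartbeats 400000
set_option backward.isDefEq.respectTransparency false
set_option backward.isDefEq.respectTransparency.types false

universe u

open AlgebraicGeometry CategoryTheory Limits

namespace Groth.Agent.Grass5.Van

/-- morphisms factor through a monomorphism as soon as they do so on a cover. -/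
lemma exists_lift_of_cover {X Y Z : Scheme.{u}} (ι : Y ⟶ Z) [Mono ι] (g : X ⟶ Z)
    (𝒰 : X.OpenCover) (h : ∀ i, ∃ a, a ≫ ι = 𝒰.f i ≫ g) : ∃ a, a ≫ ι = g := by
  choose a ha using h
  refine ⟨Scheme.Cover.glueMorphisms 𝒰 a fun i j ↦ ?_, 𝒰.hom_ext _ _ fun i ↦ ?_⟩
  · rw [← cancel_mono ι, Category.assoc, Category.assoc, ha, ha, ← Category.assoc,
      pullback.condition, Category.assoc]
  · rw [← Category.assoc, Scheme.Cover.ι_glueMorphisms, ha]

section Algebra

variable {A C B B' : Type u} [CommRing A] [CommRing C] [CommRing B] [CommRing B']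

/-- the ideal of coefficients of an ideal of a finite projective algebra. -/
def content [Algebra A B] (J : Ideal B) : Ideal A :=
  Ideal.span {a | ∃ φ : B →ₗ[A] A, ∃ j ∈ J, φ j = a}

lemma content_eq_bot_iff [Algebra A B] [Module.Projective A B] (J : Ideal B) :
    content (A := A) J = ⊥ ↔ J = ⊥ := by
  rw [content, Ideal.span_eq_bot]
  constructor
  · intro h
    rw [eq_bot_iff]
    intro j hj
    rw [Ideal.mem_bot]
    exact (Module.forall_dual_apply_eq_zero_iff A j).mp fun φ ↦ h _ ⟨φ, j, hj, rfl⟩
  · rintro rfl a ⟨φ, j, hj, rfl⟩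
    rw [Ideal.mem_bot.1 hj, map_zero]

lemma exists_coords [Algebra A B] [Module.Finite A B] [Module.Projective A B] :
    ∃ (n : ℕ) (l : Fin n → (B →ₗ[A] A)) (m : Fin n → B), ∀ z, z = ∑ i, l i z • m i := by
  obtain ⟨n, p, hp⟩ := Module.Finite.exists_fin' A B
  obtain ⟨s, hs⟩ := Module.projective_lifting_property p LinearMap.id hp
  refine ⟨n, fun i ↦ (LinearMap.proj i).comp s, fun i ↦ p (Pi.single i 1), fun z ↦ ?_⟩
  have hz : p (s z) = z := congr($hs z)
  conv_lhs => rw [← hz, pi_eq_sum_univ' (s z), map_sum]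
  exact Finset.sum_congr rfl fun i _ ↦ by rw [map_smul]; rfl

variable [Algebra A C] [Algebra A B] [Algebra A B'] [Algebra B B'] [Algebra C B']
  [IsScalarTower A C B'] [IsScalarTower A B B']

open IsScalarTower in
lemma content_map [Algebra.IsPushout A C B B'] [Module.Finite A B] [Module.Projective A B]
    (J : Ideal B) :
    content (A := C) (J.map (algebraMap B B')) = (content (A := A) J).map (algebraMap A C) := by
  let f : B →ₗ[A] B' := (toAlgHom A B B').toLinearMap
  have hf : IsBaseChange C f := Algebra.IsPushout.out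
  obtain ⟨n, l, m, hz⟩ := exists_coords (A := A) (B := B)
  apply le_antisymm
  · refine Ideal.span_le.2 ?_
    rintro _ ⟨φ, j', hj', rfl⟩
    suffices H : ∀ b' : B', φ (b' * j') ∈ (content (A := A) J).map (algebraMap A C) by
      simpa using H 1
    induction hj' using Submodule.span_induction with
    | mem x hx =>
      obtain ⟨j, hj, rfl⟩ := hx
      intro b'
      induction b' using hf.inductionOn with
      | zero => simp
      | tmul b =>
        have e : f b * algebraMap B B' j = f (b * j) := by simp [f, mul_comm]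
        rw [e, hz (b * j), map_sum, map_sum]
        refine Ideal.sum_mem _ fun i _ ↦ ?_
        have hl : algebraMap A C (l i (b * j)) ∈ (content (A := A) J).map (algebraMap A C) :=
          Ideal.mem_map_of_mem _ (Ideal.subset_span ⟨l i, b * j, J.mul_mem_left b hj, rfl⟩)
        rw [map_smul, ← _root_.algebraMap_smul C (l i (b * j)) (f (m i)), map_smul, smul_eq_mul]
        exact Ideal.mul_mem_right _ _ hl
      | smul c b' hb' => rw [smul_mul_assoc, map_smul, smul_eq_mul]; exact Ideal.mul_mem_left _ _ hb'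
      | add b₁ b₂ h₁ h₂ => rw [add_mul, map_add]; exact add_mem h₁ h₂
    | zero => intro b'; simp
    | add x y _ _ hx hy => intro b'; rw [mul_add, map_add]; exact add_mem (hx b') (hy b')
    | smul r x _ hx => intro b'; rw [smul_eq_mul, ← mul_assoc]; exact hx _
  · rw [content, content, Ideal.map_span]
    refine Ideal.span_le.2 ?_
    rintro _ ⟨_, ⟨φ, j, hj, rfl⟩, rfl⟩
    refine Ideal.subset_span ⟨hf.lift ((Algebra.linearMap A C).comp φ), algebraMap B B' j,
      Ideal.mem_map_of_mem _ hj, ?_⟩
    exact hf.lift_eq _ j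

end Algebra

section Scheme

variable {W T : Scheme.{u}} (p : W ⟶ T) [IsFinite p] [Flat p] [LocallyOfFinitePresentation p]
  (J : W.IdealSheafData)

/-- the base over `Spec ℤ`. -/
noncomputable abbrev base (T : Scheme.{u}) : Over (Spec (CommRingCat.of (ULift.{u} ℤ))) :=
  Over.mk (specULiftZIsTerminal.from T)

section Affine

variable {A : CommRingCat.{u}} (g : Spec A ⟶ T)

instance isAffine_bc : IsAffine (pullback p g) :=
  isAffine_of_isAffineHom (pullback.snd p g)

/-- the structure map of the affine base change. -/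
noncomputable def strMap : A ⟶ Γ(pullback p g, ⊤) :=
  (Scheme.ΓSpecIso A).inv ≫ (pullback.snd p g).appTop

/-- the structure of an algebra on the affine base change. -/
noncomputable abbrev algBc : Algebra A Γ(pullback p g, ⊤) := (strMap p g).hom.toAlgebra

lemma finite_strMap : (strMap p g).hom.Finite :=
  RingHom.Finite.comp (pullback.snd p g).finite_appTop
    (RingHom.Finite.of_surjective _ (ConcreteCategory.bijective_of_isIso (Scheme.ΓSpecIso A).inv).2)

lemma flat_strMap : (strMap p g).hom.Flat :=
  RingHom.Flat.comp (RingHom.Flat.of_bijective (ConcreteCategory.bijective_of_isIso (Scheme.ΓSpecIso A).inv))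
    (pullback.snd p g).flat_appTop

lemma finitePresentation_strMap : (strMap p g).hom.FinitePresentation :=
  RingHom.FinitePresentation.comp (pullback.snd p g).finitePresentation_appTop
    (RingHom.FinitePresentation.of_bijective
      (ConcreteCategory.bijective_of_isIso (Scheme.ΓSpecIso A).inv))

lemma finite_bc : letI := algBc p g; Module.Finite A Γ(pullback p g, ⊤) := finite_strMap p g

lemma projective_bc : letI := algBc p g; Module.Projective A Γ(pullback p g, ⊤) := by
  let := algBc p g
  haveI : Module.Finite A Γ(pullback p g, ⊤) := finite_strMap p g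
  haveI : Module.Flat A Γ(pullback p g, ⊤) := flat_strMap p g
  haveI : Algebra.FinitePresentation A Γ(pullback p g, ⊤) := finitePresentation_strMap p g
  haveI : Module.FinitePresentation A Γ(pullback p g, ⊤) :=
    Module.FinitePresentation.of_finite_of_finitePresentation _ _
  exact Module.Flat.projective_of_finitePresentation

/-- the ideal of the base measuring the vanishing of `J` on the base change. -/
noncomputable def idl : Ideal A :=
  letI := algBc p g
  content (A := A) ((J.comap (pullback.fst p g)).ideal ⟨⊤, isAffineOpen_top _⟩)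

lemma idl_eq_bot_iff : idl p J g = ⊥ ↔ J.comap (pullback.fst p g) = ⊥ := by
  let := algBc p g
  haveI := projective_bc p g
  rw [idl, content_eq_bot_iff]
  refine ⟨fun h ↦ Scheme.IdealSheafData.ext_of_isAffine ?_, fun h ↦ by rw [h]; rfl⟩
  rw [h]; rfl

lemma idl_map {C : CommRingCat.{u}} (φ : A ⟶ C) :
    idl p J (Spec.map φ ≫ g) = (idl p J g).map φ.hom := by
  let q : pullback p (Spec.map φ ≫ g) ⟶ pullback p g :=
    pullback.lift (pullback.fst _ _) (pullback.snd _ _ ≫ Spec.map φ)
      (pullback.condition.trans (Category.assoc _ _ _).symm)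
  have hq : IsPullback q (pullback.snd p (Spec.map φ ≫ g)) (pullback.snd p g) (Spec.map φ) := by
    refine IsPullback.of_right ?_ (by simp [q]) (IsPullback.of_hasPullback p g)
    simpa [q] using IsPullback.of_hasPullback p (Spec.map φ ≫ g)
  have hpo : IsPushout φ (strMap p g) (strMap p (Spec.map φ ≫ g)) q.appTop := by
    refine (isPushout_appTop_of_isPullback hq.flip).of_iso (Scheme.ΓSpecIso A) (Scheme.ΓSpecIso C)
      (Iso.refl _) (Iso.refl _) ?_ ?_ ?_ ?_
    · exact Scheme.ΓSpecIso_naturality φ
    all_goals simp [strMap]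
  have hJ : (J.comap (pullback.fst p (Spec.map φ ≫ g))).ideal ⟨⊤, isAffineOpen_top _⟩ =
      ((J.comap (pullback.fst p g)).ideal ⟨⊤, isAffineOpen_top _⟩).map q.appTop.hom := by
    rw [← MP99.ideal_comap_top_of_isAffine, ← Scheme.IdealSheafData.comap_comp]
    simp [q]
  let := algBc p g
  let := algBc p (Spec.map φ ≫ g)
  let := φ.hom.toAlgebra
  let := q.appTop.hom.toAlgebra
  let := ((strMap p (Spec.map φ ≫ g)).hom.comp φ.hom).toAlgebra
  haveI : IsScalarTower A C Γ(pullback p (Spec.map φ ≫ g), ⊤) := IsScalarTower.of_algebraMap_eq' rfl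
  haveI : IsScalarTower A Γ(pullback p g, ⊤) Γ(pullback p (Spec.map φ ≫ g), ⊤) :=
    IsScalarTower.of_algebraMap_eq' congr(($hpo.w).hom)
  haveI : Algebra.IsPushout A C Γ(pullback p g, ⊤) Γ(pullback p (Spec.map φ ≫ g), ⊤) :=
    CommRingCat.isPushout_iff_isPushout.mp hpo
  haveI := finite_bc p g
  haveI := projective_bc p g
  rw [idl, idl, hJ]
  exact content_map _

end Affine

/-- **Vanishing locus.** The base changes on which `J` vanishes are those factoring through a
closed subscheme of the base. -/
theorem exists_vanishing :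
    ∃ (T₀ : Scheme.{u}) (ι : T₀ ⟶ T), IsClosedImmersion ι ∧ ∀ {T' : Scheme.{u}} (g : T' ⟶ T),
      (∃ h, h ≫ ι = g) ↔ J.comap (pullback.fst p g) = ⊥ := by
  let I : ∀ A : CommAlgCat.{u} (ULift.{u} ℤ), (pt A ⟶ base T) → Ideal A :=
    fun A g ↦ idl p J (A := CommRingCat.of A) g.left
  have hI : IsNat I := fun A C φ g g' e ↦ by
    simp only [I]
    rw [e]
    exact idl_map p J g.left _
  obtain ⟨T₀, ι, hι, huniv⟩ := exists_closedImmersion_of_ideals hI
  have haff : ∀ (A : CommRingCat.{u}) (g : Spec A ⟶ T),
      (∃ h, h ≫ ι = g) ↔ J.comap (pullback.fst p g) = ⊥ := fun A g ↦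
    (huniv (algOf (base T) g) (ptOf (base T) g)).trans (idl_eq_bot_iff p J g)
  refine ⟨T₀, ι, hι, fun {T'} g ↦ ?_⟩
  let 𝒰 := T'.affineOpenCover
  have hbot : ∀ {V : Scheme.{u}} (f : V ⟶ W), J.comap f = ⊥ ↔ ∃ a, a ≫ J.subschemeι = f := by
    intro V f
    rw [eq_bot_iff, ← Scheme.IdealSheafData.le_map_iff_comap_le, Scheme.IdealSheafData.map_bot]
    constructor
    · intro h
      exact ⟨IsClosedImmersion.lift _ f ((Scheme.IdealSheafData.ker_subschemeι _).le.trans h),
        IsClosedImmersion.lift_fac _ _ _⟩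
    · rintro ⟨a, rfl⟩
      exact (Scheme.IdealSheafData.ker_subschemeι _).ge.trans (Scheme.Hom.le_ker_comp _ _)
  rw [hbot]
  constructor
  · rintro ⟨h, rfl⟩
    refine exists_lift_of_cover _ _ (𝒰.openCover.pullback₁ (pullback.snd p (h ≫ ι))) fun i ↦ ?_
    obtain ⟨a, ha⟩ := (hbot _).1 ((haff _ (𝒰.f i ≫ h ≫ ι)).1 ⟨𝒰.f i ≫ h, Category.assoc _ _ _⟩)
    refine ⟨pullback.lift (pullback.fst _ _ ≫ pullback.fst _ _) (pullback.snd _ _) ?_ ≫ a, ?_⟩
    · rw [Category.assoc, pullback.condition (f := p), ← Category.assoc, pullback.condition]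
      simp [Category.assoc]
    · simp [ha]; rfl
  · rintro ⟨a, ha⟩
    refine exists_lift_of_cover _ _ 𝒰.openCover fun i ↦ (haff _ (𝒰.f i ≫ g)).2 ((hbot _).2 ?_)
    refine ⟨pullback.lift (pullback.fst _ _) (pullback.snd _ _ ≫ 𝒰.f i)
      (pullback.condition.trans (Category.assoc _ _ _).symm) ≫ a, ?_⟩
    rw [Category.assoc, ha]
    simp

end Scheme

end Groth.Agent.Grass5.Van
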