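import Groth.Agent.Grass5.HilbBasic
import Groth.Agent.Grass5.VanLocus

/-!
Closed conditions on families of finite locally free subschemes, and push forward along closed
immersions.
-/

set_option autoImplicit false
set_option backward.isDefEq.respectTransparency false
set_option backward.isDefEq.respectTransparency.types false

universe u

open CategoryTheory CategoryTheory.Limits AlgebraicGeometry

namespace Groth.Agent.Grass5.Hilb

theorem finLocFreeOfDeg_isPullback {P X Y Z : Scheme.{u}} {fst : P ⟶ X} {snd : P ⟶ Y}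
    {f : X ⟶ Z} {g : Y ⟶ Z} (h : IsPullback fst snd f g) {d : ℕ}
    (hf : Mor2.IsFinLocFreeOfDeg d f) : Mor2.IsFinLocFreeOfDeg d snd := by
  obtain ⟨⟨h1, h2, h3⟩, hd⟩ := hf
  exact ⟨⟨MorphismProperty.of_isPullback h h1, MorphismProperty.of_isPullback h h2,
    MorphismProperty.of_isPullback h h3⟩,
    fun y ↦ by haveI := h1; haveI := h2; rw [Scheme.Hom.finrank_of_isPullback fst snd f g h]; exact hd _⟩

variable {X S : Scheme.{u}} {f : X ⟶ S} {d : ℕ} {T T' : Over S}

theorem comap_eq_bot_iff {A B : Scheme.{u}} (J : B.IdealSheafData) (i : A ⟶ B) :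
    J.comap i = ⊥ ↔ J ≤ i.ker := by
  rw [eq_bot_iff, ← Scheme.IdealSheafData.le_map_iff_comap_le, Scheme.IdealSheafData.map_bot]

theorem comap_iso_eq_bot_iff {A B : Scheme.{u}} (J : B.IdealSheafData) (e : A ≅ B) :
    J.comap e.hom = ⊥ ↔ J = ⊥ := by
  refine ⟨fun h ↦ ?_, fun h ↦ by rw [h, Scheme.IdealSheafData.comap_bot]⟩
  have := congr(Scheme.IdealSheafData.comap $h e.inv)
  rwa [← Scheme.IdealSheafData.comap_comp, e.inv_hom_id, Scheme.IdealSheafData.comap_id,
    Scheme.IdealSheafData.comap_bot] at this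

/-- base change of a family. -/
noncomputable def objPull (g : T' ⟶ T) (Z : HilbD.Obj f d T) : HilbD.Obj f d T' :=
  ⟨HilbD.pull f g Z.1, (isPullback_pull f g Z.1).elim fun _ h ↦ finLocFreeOfDeg_isPullback h Z.2⟩

/-- **Containment is a closed condition.** -/
theorem exists_locus_le (Z : HilbD.Obj f d T) (J : (PicF.XT f T).IdealSheafData) :
    ∃ (T₀ : Scheme.{u}) (ι : T₀ ⟶ T.left), IsClosedImmersion ι ∧ ∀ {T' : Over S} (g : T' ⟶ T),
      (∃ h, h ≫ ι = g.left) ↔ HilbD.pull f g J ≤ HilbD.pull f g Z.1 := by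
  obtain ⟨⟨h1, h2, h3⟩, -⟩ := Z.2
  haveI := h1; haveI := h2; haveI := h3
  obtain ⟨T₀, ι, hι, huniv⟩ :=
    Van.exists_vanishing (Z.1.subschemeι ≫ PicF.XTproj f T) (J.comap Z.1.subschemeι)
  refine ⟨T₀, ι, hι, fun {T'} g ↦ (huniv g.left).trans ?_⟩
  let h := PicF.XTmap f g
  have hp : IsPullback (pullback.fst Z.1.subschemeι h) (pullback.snd Z.1.subschemeι h ≫ PicF.XTproj f T')
      (Z.1.subschemeι ≫ PicF.XTproj f T) g.left :=
    (IsPullback.of_hasPullback _ _).paste_vert (isPullback_XTmap f g)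
  rw [← hp.isoPullback_inv_fst, Scheme.IdealSheafData.comap_comp, ← Iso.symm_hom,
    comap_iso_eq_bot_iff, ← Scheme.IdealSheafData.comap_comp, pullback.condition,
    Scheme.IdealSheafData.comap_comp, ← pull_eq_comap, comap_eq_bot_iff]
  rfl

theorem exists_locus_eq (Z₁ Z₂ : HilbD.Obj f d T) :
    ∃ (T₀ : Scheme.{u}) (ι : T₀ ⟶ T.left), IsClosedImmersion ι ∧ ∀ {T' : Over S} (g : T' ⟶ T),
      (∃ h, h ≫ ι = g.left) ↔ HilbD.pull f g Z₁.1 = HilbD.pull f g Z₂.1 := by
  obtain ⟨A, a, ha, hA⟩ := exists_locus_le Z₂ Z₁.1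
  obtain ⟨B, b, hb, hB⟩ := exists_locus_le Z₁ Z₂.1
  haveI := ha; haveI := hb
  refine ⟨pullback a b, pullback.fst a b ≫ a, inferInstance, fun {T'} g ↦ ?_⟩
  rw [le_antisymm_iff, ← hA g, ← hB g]
  constructor
  · rintro ⟨h, hh⟩
    exact ⟨⟨h ≫ pullback.fst a b, by rw [Category.assoc, hh]⟩,
      ⟨h ≫ pullback.snd a b, by rw [Category.assoc, ← pullback.condition, hh]⟩⟩
  · rintro ⟨⟨h, hh⟩, ⟨h', hh'⟩⟩
    exact ⟨pullback.lift h h' (hh.trans hh'.symm), by rw [← Category.assoc, pullback.lift_fst, hh]⟩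

/-- the structure morphism of a scheme representing the functor is separated. -/
theorem isSeparated_of_isUniversal {H : Over S} {Z : HilbD.Obj f d H}
    (hZ : HilbD.IsUniversal f d H Z) : IsSeparated H.hom := by
  let P : Over S := Over.mk (pullback.fst H.hom H.hom ≫ H.hom)
  let p₁ : P ⟶ H := Over.homMk (pullback.fst H.hom H.hom) rfl
  let p₂ : P ⟶ H := Over.homMk (pullback.snd H.hom H.hom) pullback.condition.symm
  obtain ⟨E, ι, hι, huniv⟩ := exists_locus_eq (objPull p₁ Z) (objPull p₂ Z)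
  haveI := hι
  have key : ∀ {T' : Over S} (g : T' ⟶ P), (∃ h, h ≫ ι = g.left) ↔ g ≫ p₁ = g ≫ p₂ := by
    intro T' g
    rw [huniv g]
    show HilbD.pull f g (HilbD.pull f p₁ Z.1) = HilbD.pull f g (HilbD.pull f p₂ Z.1) ↔ _
    rw [pull_comp, pull_comp]
    exact ⟨fun e ↦ (hZ T' (objPull (g ≫ p₁) Z)).unique rfl e.symm, fun e ↦ by rw [e]⟩
  let δ : H ⟶ P := Over.homMk (pullback.diagonal H.hom) (by simp [P])
  obtain ⟨h, hh⟩ := (key δ).2 (by ext1; simp [δ, p₁, p₂])
  let g : Over.mk (ι ≫ P.hom) ⟶ P := Over.homMk ι rfl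
  have he : ι ≫ pullback.fst H.hom H.hom = ι ≫ pullback.snd H.hom H.hom :=
    congr($((key g).1 ⟨𝟙 _, Category.id_comp _⟩).left)
  refine ⟨?_⟩
  have e1 : (ι ≫ pullback.fst H.hom H.hom) ≫ pullback.diagonal H.hom = ι :=
    pullback.hom_ext (by simp) (by simp [he])
  have hh' : h ≫ ι = pullback.diagonal H.hom := hh
  haveI : IsIso h := ⟨ι ≫ pullback.fst H.hom H.hom,
    by rw [← Category.assoc, hh', pullback.diagonal_fst],
    by rw [← cancel_mono ι, Category.assoc, hh', e1, Category.id_comp]⟩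
  show IsClosedImmersion (pullback.diagonal H.hom)
  rw [← hh']
  infer_instance

end Groth.Agent.Grass5.Hilb
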