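import Groth.Agent.Grass5.HilbGrassMap
import Groth.Agent.Grass5.HilbOpen
import Groth.Agent.EGA73.PBundleClosed
import Groth.Agent.EGAProj74.BundleEpi
import Groth.Agent.EGAProj74.RelTwistTriv
import Groth.Agent.Mero90.Frames
import Mathlib.LinearAlgebra.ExteriorPower.Basis

/-!
The Hilbert scheme of points of a finite scheme is projective.
-/

set_option autoImplicit false
set_option backward.isDefEq.respectTransparency false
set_option backward.isDefEq.respectTransparency.types false
set_option maxHeartbeats 400000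

noncomputable section

universe u

open CategoryTheory CategoryTheory.Limits AlgebraicGeometry TopologicalSpace Opposite
open Groth.Agent Groth.Agent.QC70

namespace Groth.Agent.Grass5.HilbProj

variable {X S : Scheme.{u}} (f : X ⟶ S) [IsFinite f] (d : ℕ)

theorem isInvertible_of_rank_one {X : Scheme.{u}} {L : X.Modules} (h : FlatMod.IsFinLocFreeOfRank 1 L) :
    PicF.IsInvertible L := fun x => by
  obtain ⟨U, hx, ⟨φ⟩⟩ := h x
  exact ⟨U, hx, ⟨φ ≪≫ coproductUniqueIso fun _ : Fin 1 => Coh.structureModule (↑U : Scheme.{u})⟩⟩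

theorem finite_sections (U : S.affineOpens) : Module.Finite Γ(S, U.1) Γ(HilbGrass.EM f, U.1) := by
  have h : (f.app U.1).hom.Finite := IsFinite.finite_app f U.1 U.2
  letI : Algebra Γ(S, U.1) Γ(X, f ⁻¹ᵁ U.1) := (f.app U.1).hom.toAlgebra
  haveI : Module.Finite Γ(S, U.1) Γ(X, f ⁻¹ᵁ U.1) := h
  exact Module.Finite.equiv
    ({ toFun := fun x => x
       invFun := fun x => x
       map_add' := fun _ _ => rfl
       map_smul' := fun _ _ => rfl
       left_inv := fun _ => rfl
       right_inv := fun _ => rfl } : Γ(X, f ⁻¹ᵁ U.1) ≃ₗ[Γ(S, U.1)] Γ(HilbGrass.EM f, U.1))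

theorem isFT_extPow {L : S.Modules} (hL : ExtPow.IsExtPow d (HilbGrass.EM f) L) : CohB1.IsFT L := by
  haveI := HilbGrass.isQuasicoherent_EM f
  haveI : L.IsQuasicoherent := Om3.isQuasicoherent_of_isExtPow hL
  obtain ⟨φ, -⟩ := hL
  refine QC70.isFiniteType_of_finite_sections L (fun U : S.affineOpens => U.1)
    (IsOpenCover.mk (iSup_affineOpens_eq_top S)) (fun U => U.2) fun U => ?_
  haveI : Module.Finite Γ(S, U.1) ((HilbGrass.EM f).val.obj (op U.1)) := finite_sections f U
  exact Module.Finite.equiv (φ U).symm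

theorem exists_projective :
    ∃ (H : Over S) (Z : HilbD.Obj f d H), HilbD.IsUniversal f d H Z ∧ RelProj.IsProjective H.hom := by
  obtain ⟨H, Z, hH⟩ := Hilb.representable_of_fibre_points f d fun s x hx => by
    obtain ⟨U, hU, hsU, -⟩ := exists_isAffineOpen_mem_and_subset (x := s) (U := ⊤) trivial
    exact ⟨f ⁻¹ᵁ U, hU.preimage f, fun i => show f.base (x i) ∈ U by rw [hx i]; exact hsU⟩
  refine ⟨H, Z, hH, ?_⟩
  haveI := HilbGrass.isQuasicoherent_EM f
  obtain ⟨G, π, Q, q, hG⟩ := GrExist.exists_isGrass (HilbGrass.EM f) d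
  obtain ⟨L, hL⟩ := FBase64.ExtPowExists.exists_isExtPow (E := HilbGrass.EM f) (p := d)
  have hLq : Coh.IsQCoh L := Om3.isQuasicoherent_of_isExtPow hL
  obtain ⟨𝒮, j, hj, P, p, chart, hP, O1, lam, hO1⟩ := EGAProj74.exists_projBundle hLq
  obtain ⟨φ, hφ⟩ := EGAProj74.exists_canonical hLq hj hO1 hP
  have hinv : PicF.IsInvertible O1 :=
    EGAProj74.isInvertible_of_isGenDegOne hO1 (EGAProj74.isGenDegOne_grSym hLq hj)
  have hG₁ : Grass.IsGrass p L 1 O1
      (((Scheme.Modules.pullbackPushforwardAdjunction p).homEquiv L O1).symm φ) :=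
    { rank := Mero90.isFinLocFreeOfRank_of_isInvertible hinv
      epi := EGAProj74.epi_canonical hLq hj hO1 hφ
      univ := fun T g M hM s hs => by
        haveI := hs
        have h := EGAProj74.existsUnique_of_epi hLq hj hP hO1 hφ g M (isInvertible_of_rank_one hM) s
        simpa only [Grass.quotBC, Category.assoc] using h }
  obtain ⟨c, hc, hcp⟩ := PluckerGen.exists_closedImmersion hG hL hG₁.isProjBundle
  let a := HilbGrass.toGrass f hG Z
  haveI : IsClosedImmersion a.left := HilbGrass.isClosedImmersion_toGrass f hG Z hH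
  haveI := hc
  refine (EGA73.PBundleClosed.isProjective_iff H.hom).2
    ⟨L, 𝒮, j, P, p, chart, a.left ≫ c, hLq, isFT_extPow f d hL, hj, hP, inferInstance, ?_⟩
  rw [Category.assoc, hcp]
  exact Over.w a

end Groth.Agent.Grass5.HilbProj
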