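import Groth.Agent.Grass5.Plucker

/-!
The Plücker morphism of the Grassmannian of any quasi-coherent module is a closed immersion.
-/

set_option autoImplicit false
set_option backward.isDefEq.respectTransparency false
set_option backward.isDefEq.respectTransparency.types false
set_option maxHeartbeats 400000

noncomputable section

universe u

open CategoryTheory CategoryTheory.Limits AlgebraicGeometry TopologicalSpace Opposite exteriorPower
open Groth.Agent Groth.Agent.QC70 Groth.Agent.SubMod72 Groth.Agent.Props58.LocFree Groth.Agent.Om3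

namespace Groth.Agent.Grass5.PluckerGen

open Grass5.QuotBC KerSub BasisLocus GrChart GrLocal ExtHom

variable {X G : Scheme.{u}} {π : G ⟶ X} {E : X.Modules} {Q : G.Modules} {r : ℕ}
  {q : (Scheme.Modules.pullback π).obj E ⟶ Q}

/-- a section of `M` on an open, pulled back to everything. -/
abbrev pullTop {T : Scheme.{u}} (h : T ⟶ G) (M : G.Modules) {O : G.Opens} (hO : ⊤ ≤ h ⁻¹ᵁ O) (m : Γ(M, O)) :
    Γ((Scheme.Modules.pullback h).obj M, ⊤) :=
  res _ hO (Amp73.pullS h M O m)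

theorem pullTop_smul {T : Scheme.{u}} (h : T ⟶ G) (M : G.Modules) {O : G.Opens} (hO : ⊤ ≤ h ⁻¹ᵁ O) (a : Γ(G, O))
    (m : Γ(M, O)) : pullTop h M hO (a • m) = h.appLE O ⊤ hO a • pullTop h M hO m := by
  show res _ hO (Amp73.pullS h M O (a • m)) = _
  rw [Amp73.pullS_smul, res_smul]
  rfl

theorem pullTop_sum {T : Scheme.{u}} (h : T ⟶ G) (M : G.Modules) {O : G.Opens} (hO : ⊤ ≤ h ⁻¹ᵁ O) {ι : Type*}
    (s : Finset ι) (m : ι → Γ(M, O)) : pullTop h M hO (∑ i ∈ s, m i) = ∑ i ∈ s, pullTop h M hO (m i) := by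
  show res _ hO (Amp73.pullS h M O _) = _
  rw [Pinch99.pullS_sum, res_sum]

theorem pullTop_img {T : Scheme.{u}} {h : T ⟶ G} {g : T ⟶ X} (wh : h ≫ π = g) {U : X.Opens} (hg : ⊤ ≤ g ⁻¹ᵁ U)
    {O : G.Opens} (hOU : O ≤ π ⁻¹ᵁ U) (hO : ⊤ ≤ h ⁻¹ᵁ O) {M : G.Modules} {E' : X.Modules}
    (s : (Scheme.Modules.pullback π).obj E' ⟶ M) (m : Γ(E', U)) :
    pullTop h M hO (res M hOU (img s (fun _ : Fin 1 => m) 0)) = (Grass.quotBC wh s).app ⊤ (GrChart.pl g E' hg m) := by
  rw [QC70.app_res]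
  subst wh
  show res _ hO (Amp73.pullS h M O (res M hOU (img s _ 0))) = res _ hg (img (Grass.quotBC _ s) (fun _ : Fin 1 => m) 0)
  rw [← Pinch99.pullS_res h M hOU, res_res, img_quotBC]
  rfl

section Grass

variable [E.IsQuasicoherent] (hG : Grass.IsGrass π E r Q q) {U : X.Opens} (hU : IsAffineOpen U)
  (σ : Fin r → Γ(E, U))

omit [E.IsQuasicoherent] in
theorem opn_le : opn hG σ ≤ π ⁻¹ᵁ U := fun p hp => by
  rw [SetLike.mem_coe.symm, Plucker.coe_opn hG] at hp
  exact hp.1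

theorem top_le_chartMor : ⊤ ≤ chartMor hG hU σ ⁻¹ᵁ opn hG σ := fun p _ =>
  range_chartMor_subset hG hU σ ⟨p, rfl⟩

omit [E.IsQuasicoherent] in
theorem stalkBasis_img : StalkBasis fun k => res Q (opn_le hG σ) (img q σ k) := by
  rw [stalkBasis_iff]
  intro p hp
  rw [basisSet_res, ← Plucker.coe_opn hG]
  exact ⟨hp, hp⟩

theorem exists_iso_chart : ∃ i : (Scheme.Modules.pullback (chartMor hG hU σ)).obj Q ≅ FlatMod.freeMod (Spec (CR σ)) r,
    Grass.quotBC (chartMor_comp hG hU σ) q ≫ i.hom = q₀ hU σ := by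
  haveI := hG.epi
  haveI := epi_q₀ hU σ
  haveI := epi_quotBC (chartMor_comp hG hU σ) q
  refine exists_iso_of_kerSub_eq ?_
  rw [← pullK_kerSub (chartMor_comp hG hU σ) q]
  exact congrArg Subtype.val (chartMor_map hG hU σ)

theorem appLE_chartMor_coord (m : Γ(E, U)) (B : Fin r → Γ(G, opn hG σ))
    (hB : ∑ k, B k • res Q (opn_le hG σ) (img q σ k) = res Q (opn_le hG σ) (img q (fun _ : Fin 1 => m) 0)) (k : Fin r) :
    (chartMor hG hU σ).appLE (opn hG σ) ⊤ (top_le_chartMor hG hU σ) (B k) = ιC σ (coord σ m k) := by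
  obtain ⟨i, hi⟩ := exists_iso_chart hG hU σ
  have hm : ∀ m : Γ(E, U), i.hom.app ⊤ (pullTop (chartMor hG hU σ) Q (top_le_chartMor hG hU σ)
      (res Q (opn_le hG σ) (img q (fun _ : Fin 1 => m) 0))) =
        (q₀ hU σ).app ⊤ (GrChart.pl (g₀ hU σ) E (top_le_g₀ hU σ) m) := fun m => by
    rw [pullTop_img (chartMor_comp hG hU σ) (top_le_g₀ hU σ) (opn_le hG σ) (top_le_chartMor hG hU σ) q m]
    exact ConcreteCategory.congr_hom (congrArg (fun φ => Scheme.Modules.Hom.app φ ⊤) hi) _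
  have h := hm m
  rw [← hB, q₀_pl, pullTop_sum, map_sum] at h
  simp only [pullTop_smul, Scheme.Modules.Hom.app_smul] at h
  have hk : ∀ k, i.hom.app ⊤ (pullTop (chartMor hG hU σ) Q (top_le_chartMor hG hU σ)
      (res Q (opn_le hG σ) (img q σ k))) = unitVec (Spec (CR σ)) r k := fun k => (hm (σ k)).trans (q₀_pl_sec hU σ k)
  simp only [hk] at h
  exact congrFun ((stalkBasis_unitVec r).eq_of_comb (W := ⊤) le_rfl
    (a := fun k => (chartMor hG hU σ).appLE (opn hG σ) ⊤ (top_le_chartMor hG hU σ) (B k))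
    (b := fun k => ιC σ (coord σ m k)) (by simp only [res_self]; exact h)) k

end Grass

section Cover

variable {L : X.Modules} {P : Scheme.{u}} {πP : P ⟶ X} {O1 : P.Modules}
  {u : (Scheme.Modules.pullback πP).obj L ⟶ O1} [L.IsQuasicoherent] (hP : Grass.IsGrass πP L 1 O1 u)

theorem exists_mem_of_span {U : X.Opens} (hU : IsAffineOpen U) {ι : Type*} (l : ι → Γ(L, U))
    (hl : Submodule.span Γ(X, U) (Set.range l) = ⊤) (p : P) (hp : πP p ∈ U) :
    ∃ i, p ∈ opn hP fun _ : Fin 1 => l i := by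
  haveI := hP.epi
  obtain ⟨τ, hτ⟩ := GrExist.exists_frame_at (GrLocal.univ hP) hU p hp
  obtain ⟨V, hpV, ⟨iso⟩⟩ := hP.rank p
  obtain ⟨s, hs⟩ := exists_stalkBasis_of_iso iso
  let e := hs.stalkEquiv p hpV
  let z : Γ(L, U) → O1.presheaf.stalk p := fun m =>
    germM O1 (πP ⁻¹ᵁ U) p hp (u.app (πP ⁻¹ᵁ U) (Amp73.pullS πP L U m))
  let a : Γ(L, U) → P.presheaf.stalk p := fun m => e.symm (z m) 0
  have hzc : ∀ m (c : Fin 1 → P.presheaf.stalk p),
      germComb (img u fun _ : Fin 1 => m) p hp c = e fun _ => c 0 * a m := fun m c => by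
    rw [show (fun _ : Fin 1 => c 0 * a m) = c 0 • e.symm (z m) from funext fun i => by
      rw [Subsingleton.elim i 0]; rfl, map_smul, e.apply_symm_apply]
    simp only [germComb, Fin.sum_univ_one]
    rfl
  have hto : ∀ m, p ∈ opn hP (fun _ : Fin 1 => m) → IsUnit (a m) := fun m h => by
    rw [SetLike.mem_coe.symm, Plucker.coe_opn hP] at h
    obtain ⟨_, hb⟩ := h
    obtain ⟨c, hc⟩ := hb.2 (e fun _ => 1)
    rw [hzc] at hc
    exact IsUnit.of_mul_eq_one_right _ (congrFun (e.injective hc) 0)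
  have hfrom : ∀ m, IsUnit (a m) → p ∈ opn hP fun _ : Fin 1 => m := fun m h => by
    rw [SetLike.mem_coe.symm, Plucker.coe_opn hP]
    refine ⟨hp, ?_⟩
    rw [funext (hzc m)]
    refine e.bijective.comp ⟨fun c c' hcc => funext fun i => ?_, fun b => ⟨fun _ => b 0 * (↑h.unit⁻¹), ?_⟩⟩
    · rw [Subsingleton.elim i 0]
      exact h.mul_right_cancel (congrFun hcc 0)
    · funext i
      rw [Subsingleton.elim i 0]
      show b 0 * _ * a m = b 0
      rw [mul_assoc, IsUnit.val_inv_mul, mul_one]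
  by_contra hne
  push Not at hne
  have key : ∀ m, a m ∈ IsLocalRing.maximalIdeal (P.presheaf.stalk p) := fun m => by
    have hm : m ∈ Submodule.span Γ(X, U) (Set.range l) := hl ▸ Submodule.mem_top
    induction hm using Submodule.span_induction with
    | mem m hm =>
      obtain ⟨i, rfl⟩ := hm
      exact fun h => hne i (hfrom _ h)
    | zero =>
      have : a (0 : Γ(L, U)) = 0 := by
        let F : Γ(L, U) →+ O1.presheaf.stalk p := AddMonoidHom.mk' z fun x y => by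
          simp only [z, Pinch99.pullS_add, map_add]
        show e.symm (F 0) 0 = 0
        rw [map_zero, map_zero]
        rfl
      rw [this]; exact zero_mem _
    | add x y _ _ hx hy =>
      have : a (x + y) = a x + a y := by
        simp only [a, z, Pinch99.pullS_add, map_add, Pi.add_apply]
      rw [this]; exact add_mem hx hy
    | smul c x _ hx =>
      have : a (c • x) = P.presheaf.germ (πP ⁻¹ᵁ U) p hp (πP.app U c) * a x := by
        simp only [a, z, Amp73.pullS_smul, Scheme.Modules.Hom.app_smul, germM_smul, map_smul, Pi.smul_apply,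
          smul_eq_mul]
      rw [this]; exact Ideal.mul_mem_left _ _ hx
  have h0 := hto (τ 0) (by rwa [show (fun _ : Fin 1 => τ 0) = τ from funext fun i => by rw [Subsingleton.elim i 0]])
  exact key (τ 0) h0

end Cover

section main

variable [E.IsQuasicoherent] {L : X.Modules}

theorem exists_wedge (hG : Grass.IsGrass π E r Q q)
    {ψL : ∀ W : X.affineOpens, ↥(⋀[Γ(X, W.1)]^r Γ(E, W.1)) ≃ₗ[Γ(X, W.1)] Γ(L, W.1)}
    (hψL : ∀ (U V : X.affineOpens) (h : V.1 ≤ U.1) (x : ↥(⋀[Γ(X, U.1)]^r Γ(E, U.1))),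
      res L h (ψL U x) = ψL V (resExt E r h x)) :
    ∃ (D : G.Modules) (w : (Scheme.Modules.pullback π).obj L ⟶ D), FlatMod.IsFinLocFreeOfRank 1 D ∧ Epi w ∧
      (∀ (U : X.affineOpens) (v : Fin r → Γ(E, U.1)),
        Plucker.lset w (ψL U (ιMulti Γ(X, U.1) r v)) = (opn hG v : Set G)) ∧
      ∀ (U : X.affineOpens) (σ : Fin r → Γ(E, U.1)) (k : Fin r) (m : Γ(E, U.1)) (B : Fin r → Γ(G, opn hG σ)),
        (∑ i, B i • res Q (opn_le hG σ) (img q σ i) = res Q (opn_le hG σ) (img q (fun _ : Fin 1 => m) 0)) →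
        res D (opn_le hG σ) (img w (fun _ : Fin 1 => ψL U (ιMulti Γ(X, U.1) r (Function.update σ k m))) 0) =
          B k • res D (opn_le hG σ) (img w (fun _ : Fin 1 => ψL U (ιMulti Γ(X, U.1) r σ)) 0) := by
  haveI := hG.epi
  haveI := Props58.LocFree.isQuasicoherent_of_isFinLocFree (GrSep.isFinLocFree_of_rank hG.rank)
  obtain ⟨D, hD⟩ := FBase64.ExtPowExists.exists_isExtPow Q r
  obtain ⟨ψ, hψ⟩ := exists_psi hD
  choose μ hμ using FBase64.ExtPowExists.exists_mu ψ hψ
  obtain ⟨θ, hθ⟩ := exists_hom_of_isExtPow hψL (Plucker.F q μ)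
    (Plucker.F_natural q μ fun h x => mu_natural hμ h x)
  let adj := Scheme.Modules.pullbackPushforwardAdjunction π
  let w := (adj.homEquiv L D).symm θ
  have hwθ : adj.homEquiv L D w = θ := Equiv.apply_symm_apply _ _
  rw [Adjunction.homEquiv_unit] at hwθ
  have hw : ∀ (U : X.affineOpens) (v : Fin r → Γ(E, U.1)),
      w.app (π ⁻¹ᵁ U.1) (Amp73.pullS π L U.1 (ψL U (ιMulti Γ(X, U.1) r v))) =
        μ (π ⁻¹ᵁ U.1) (ιMulti Γ(G, π ⁻¹ᵁ U.1) r fun k => img q v k) := fun U v => by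
    rw [← Plucker.F_ιMulti q μ U.1 v, ← hθ U]
    exact congrArg (fun a => a.app U.1 (ψL U (ιMulti Γ(X, U.1) r v))) hwθ
  have hlset : ∀ (U : X.affineOpens) (v : Fin r → Γ(E, U.1)),
      Plucker.lset w (ψL U (ιMulti Γ(X, U.1) r v)) = (opn hG v : Set G) := fun U v => by
    rw [Plucker.coe_opn hG, ← basisSet_wedge hG.rank hD hμ (img q v), ← hw]
    rfl
  refine ⟨D, w, rank_det hG.rank hD, ?_, hlset, fun U σ k m B hB => ?_⟩
  · refine epi_of_surjective_stalkMapM _ fun p z => ?_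
    obtain ⟨U, hU, hpU, -⟩ := exists_isAffineOpen_mem_and_subset (x := π p) (U := ⊤) trivial
    obtain ⟨σ, hσ⟩ := GrExist.exists_frame_at (GrLocal.univ hG) hU p hpU
    obtain ⟨hp', hb⟩ : p ∈ Plucker.lset w (ψL ⟨U, hU⟩ (ιMulti Γ(X, U) r σ)) := by rw [hlset]; exact hσ
    obtain ⟨c, rfl⟩ := hb.2 z
    refine ⟨c 0 • germM ((Scheme.Modules.pullback π).obj L) (π ⁻¹ᵁ U) p hp'
      (Amp73.pullS π L U (ψL ⟨U, hU⟩ (ιMulti Γ(X, U) r σ))), ?_⟩
    show stalkLinear w p _ = _
    rw [map_smul]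
    simp only [germComb, Fin.sum_univ_one]
    exact congrArg (c 0 • ·) (stalkMapM_germ w (U := π ⁻¹ᵁ U) hp' (Amp73.pullS π L U _))
  · have hz : ∀ v, res D (opn_le hG σ) (img w (fun _ : Fin 1 => ψL U (ιMulti Γ(X, U.1) r v)) 0) =
        μ (opn hG σ) (ιMulti Γ(G, opn hG σ) r fun x => res Q (opn_le hG σ) (img q v x)) := fun v => by
      show res D (opn_le hG σ) (w.app (π ⁻¹ᵁ U.1) (Amp73.pullS π L U.1 (ψL U (ιMulti Γ(X, U.1) r v)))) = _
      rw [hw, mu_natural hμ, resExt_ιMulti]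
    rw [hz, hz, show (fun x => res Q (opn_le hG σ) (img q (Function.update σ k m) x)) =
      Function.update (fun x => res Q (opn_le hG σ) (img q σ x)) k
        (∑ i, B i • res Q (opn_le hG σ) (img q σ i)) from funext fun x => by
          rcases eq_or_ne x k with rfl | hx
          · rw [Function.update_self, hB]
            simp only [img, Function.update_self]
          · rw [Function.update_of_ne hx]
            simp only [img, Function.update_of_ne hx], ιMulti_update, map_smul]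

variable [L.IsQuasicoherent] {P : Scheme.{u}} {πP : P ⟶ X} {O1 : P.Modules}
  {u : (Scheme.Modules.pullback πP).obj L ⟶ O1} (hP : Grass.IsGrass πP L 1 O1 u) (hG : Grass.IsGrass π E r Q q)
  {U : X.Opens} (hU : IsAffineOpen U) (σ : Fin r → Γ(E, U)) (l : Fin 1 → Γ(L, U))
  {D : G.Modules} {w : (Scheme.Modules.pullback π).obj L ⟶ D} {c : G ⟶ P} (hc : c ≫ πP = π)
  {e : (Scheme.Modules.pullback c).obj O1 ≅ D}

theorem appTop_coord (he : Grass.quotBC hc u ≫ e.hom = w)
    (a : Spec (CR σ) ⟶ Spec (CR l)) (ha : a ≫ chartMor hP hU l = chartMor hG hU σ ≫ c)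
    (wa : a ≫ g₀ hU l = g₀ hU σ) (x : Γ(L, U)) (b : Γ(G, opn hG σ))
    (hb : res D (opn_le hG σ) (img w (fun _ : Fin 1 => x) 0) = b • res D (opn_le hG σ) (img w l 0)) :
    a.appTop (ιC l (coord l x 0)) = (chartMor hG hU σ).appLE (opn hG σ) ⊤ (top_le_chartMor hG hU σ) b := by
  haveI := hP.epi
  obtain ⟨i₁, hi₁⟩ := exists_iso_chart hP hU l
  have hwP : (a ≫ chartMor hP hU l) ≫ πP = g₀ hU σ := by rw [Category.assoc, chartMor_comp, wa]
  have hwG : (chartMor hG hU σ ≫ c) ≫ πP = g₀ hU σ := by rw [Category.assoc, hc, chartMor_comp]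
  have hA : Grass.quotBC hwP u ≫ ((Scheme.Modules.pullbackComp a (chartMor hP hU l)).symm.app O1 ≪≫
      (Scheme.Modules.pullback a).mapIso i₁).hom = Grass.quotBC wa (q₀ hU l) :=
    exists_iso_comp (chartMor_comp hP hU l) wa hwP u (q₀ hU l) i₁ hi₁
  have hA' : Grass.quotBC hwG u ≫ ((Scheme.Modules.pullbackComp (chartMor hG hU σ) c).symm.app O1 ≪≫
      (Scheme.Modules.pullback (chartMor hG hU σ)).mapIso e).hom = Grass.quotBC (chartMor_comp hG hU σ) w :=
    exists_iso_comp hc (chartMor_comp hG hU σ) hwG u w e he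
  have hj := Plucker.conj_iso _ _ _ hA (quotBC_id_iso ha hwP hwG u) hA'
  generalize (((Scheme.Modules.pullbackComp a (chartMor hP hU l)).symm.app O1 ≪≫
      (Scheme.Modules.pullback a).mapIso i₁).symm ≪≫ (Scheme.Modules.pullbackCongr ha).app O1 ≪≫
    ((Scheme.Modules.pullbackComp (chartMor hG hU σ) c).symm.app O1 ≪≫
      (Scheme.Modules.pullback (chartMor hG hU σ)).mapIso e)) = j at hj
  have hj' : ∀ x, j.hom.app ⊤ ((Grass.quotBC wa (q₀ hU l)).app ⊤ (GrChart.pl (g₀ hU σ) L (top_le_g₀ hU σ) x)) =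
      (Grass.quotBC (chartMor_comp hG hU σ) w).app ⊤ (GrChart.pl (g₀ hU σ) L (top_le_g₀ hU σ) x) := fun x =>
    ConcreteCategory.congr_hom (congrArg (fun φ => Scheme.Modules.Hom.app φ ⊤) hj) _
  have hk := hj' x
  rw [← pullTop_img (chartMor_comp hG hU σ) (top_le_g₀ hU σ) (opn_le hG σ) (top_le_chartMor hG hU σ) w,
    hb, pullTop_smul, show img w l 0 = img w (fun _ : Fin 1 => l 0) 0 from rfl,
    pullTop_img (chartMor_comp hG hU σ) (top_le_g₀ hU σ) (opn_le hG σ) (top_le_chartMor hG hU σ) w,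
    ← hj', ← Scheme.Modules.Hom.app_smul] at hk
  have hk' := (ConcreteCategory.bijective_of_isIso (j.hom.app ⊤)).1 hk
  rw [quotBC_pl_sec hU l wa (top_le_g₀ hU σ) 0, quotBC_pl hU l wa (top_le_g₀ hU σ), Fin.sum_univ_one] at hk'
  exact congrFun ((stalkBasis_t₀ l a).eq_of_comb (W := ⊤) le_rfl
    (a := fun _ => a.appTop (ιC l (coord l x 0)))
    (b := fun _ => (chartMor hG hU σ).appLE (opn hG σ) ⊤ (top_le_chartMor hG hU σ) b) (by
      simp only [Fin.sum_univ_one, res_self]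
      exact hk')) 0

include hU in
theorem isClosedImmersion_chart (he : Grass.quotBC hc u ≫ e.hom = w) (upd : Γ(E, U) → Fin r → Γ(L, U))
    (hpre : c ⁻¹ᵁ opn hP l = opn hG σ)
    (hupd : ∀ (k : Fin r) (m : Γ(E, U)) (B : Fin r → Γ(G, opn hG σ)),
      (∑ i, B i • res Q (opn_le hG σ) (img q σ i) = res Q (opn_le hG σ) (img q (fun _ : Fin 1 => m) 0)) →
        res D (opn_le hG σ) (img w (fun _ : Fin 1 => upd m k) 0) = B k • res D (opn_le hG σ) (img w l 0)) :
    IsClosedImmersion (c ∣_ opn hP l) := by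
  haveI := isOpenImmersion_chartMor hP hU l
  have hr : Set.range (chartMor hG hU σ ≫ c) ⊆ Set.range (chartMor hP hU l) := by
    rw [range_chartMor hP hU l]
    rintro _ ⟨y, rfl⟩
    exact (SetLike.ext_iff.mp hpre _).mpr (range_chartMor_subset hG hU σ ⟨y, rfl⟩)
  let a := IsOpenImmersion.lift (chartMor hP hU l) (chartMor hG hU σ ≫ c) hr
  have ha : a ≫ chartMor hP hU l = chartMor hG hU σ ≫ c := IsOpenImmersion.lift_fac _ _ hr
  have wa : a ≫ g₀ hU l = g₀ hU σ := by
    rw [← chartMor_comp hP hU l, ← Category.assoc, ha, Category.assoc, hc, chartMor_comp]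
  have hgen : ∀ (m : Γ(E, U)) (k : Fin r), a.appTop (ιC l (coord l (upd m k) 0)) = ιC σ (coord σ m k) := fun m k => by
    obtain ⟨B, hB⟩ := (stalkBasis_img hG σ).exists_comb (le_refl (opn hG σ))
      (res Q (opn_le hG σ) (img q (fun _ : Fin 1 => m) 0))
    simp only [res_self] at hB
    rw [← appLE_chartMor_coord hG hU σ m B hB k]
    exact appTop_coord hP hG hU σ l hc he a ha wa _ _ (hupd k m B hB)
  have hbase : ∀ x, a.appTop (ιC l (ρ l x)) = ιC σ (ρ σ x) := fun x => by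
    rw [appTop_ρ hU l wa (top_le_g₀ hU σ), g₀_appLE]
    rfl
  haveI : IsClosedImmersion a := by
    refine IsClosedImmersion.of_surjective_of_isAffine a fun z => ?_
    obtain ⟨z', rfl⟩ := (ConcreteCategory.bijective_of_isIso (ιC σ)).2 z
    obtain ⟨p, rfl⟩ := Ideal.Quotient.mk_surjective z'
    induction p using MvPolynomial.induction_on with
    | C x => exact ⟨_, hbase x⟩
    | add p p' hp hp' =>
      obtain ⟨y, hy⟩ := hp
      obtain ⟨y', hy'⟩ := hp'
      exact ⟨y + y', by rw [map_add, map_add, map_add, hy, hy']⟩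
    | mul_X p mk hp =>
      obtain ⟨y, hy⟩ := hp
      exact ⟨y * ιC l (coord l (upd mk.1 mk.2) 0), by
        rw [map_mul, map_mul, map_mul, hy, hgen]
        rfl⟩
  obtain ⟨φG, hφG⟩ := exists_iso_opn hG hU σ
  obtain ⟨φP, hφP⟩ := exists_iso_opn hP hU l
  have hfac : (φG ≪≫ G.isoOfEq hpre.symm).hom ≫ c ∣_ opn hP l = a ≫ φP.hom := by
    rw [← cancel_mono (opn hP l).ι]
    simp only [Iso.trans_hom, Category.assoc, morphismRestrict_ι, Scheme.isoOfEq_hom_ι_assoc]
    rw [reassoc_of% hφG]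
    exact ha.symm.trans (congrArg (a ≫ ·) hφP.symm)
  have hcl : IsClosedImmersion (a ≫ φP.hom) := inferInstance
  rw [← hfac, MorphismProperty.cancel_left_of_respectsIso @IsClosedImmersion] at hcl
  exact hcl

omit [L.IsQuasicoherent] in
/-- The Grassmannian of a quasi-coherent module is a closed subscheme of a projective bundle of its exterior power. -/
theorem exists_closedImmersion (hG : Grass.IsGrass π E r Q q) (hL : ExtPow.IsExtPow r E L) {P : Scheme.{u}}
    {πP : P ⟶ X} {O1 : P.Modules} {u : (Scheme.Modules.pullback πP).obj L ⟶ O1}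
    (hP : KRR.IsProjBundle πP L O1 u) : ∃ c : G ⟶ P, IsClosedImmersion c ∧ c ≫ πP = π := by
  haveI : L.IsQuasicoherent := Om3.isQuasicoherent_of_isExtPow hL
  obtain ⟨ψL, hψL⟩ := exists_psi hL
  obtain ⟨D, w, hDr, hepi, hlset, hupd⟩ := exists_wedge hG hψL
  have hP' := Grass.IsGrass.of_isProjBundle hP
  haveI := hP'.epi
  obtain ⟨c, ⟨hc, e, he⟩, -⟩ := hP'.univ G π D hDr w hepi
  refine ⟨c, ?_, hc⟩
  let ι := Σ U : X.affineOpens, (Fin r → Γ(E, U.1))
  let Dp : ι → P.Opens := fun i => opn hP' fun _ : Fin 1 => ψL i.1 (ιMulti Γ(X, i.1.1) r i.2)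
  have hpre : ∀ i : ι, c ⁻¹ᵁ Dp i = opn hG i.2 := fun i => by
    refine Opens.ext ?_
    rw [← hlset, ← he, Plucker.lset_comp u hc hP'.rank e]
    show c ⁻¹' (Dp i : Set P) = _
    rw [Plucker.coe_opn hP']
  refine IsZariskiLocalAtTarget.of_iSup_eq_top (P := @IsClosedImmersion) Dp (top_le_iff.mp fun p _ => ?_) fun i => ?_
  · obtain ⟨U, hU, hpU, -⟩ := exists_isAffineOpen_mem_and_subset (x := πP p) (U := ⊤) trivial
    obtain ⟨v, hv⟩ := exists_mem_of_span hP' hU (fun v => ψL ⟨U, hU⟩ (ιMulti Γ(X, U) r v)) (by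
      have h := congrArg (Submodule.map (ψL ⟨U, hU⟩).toLinearMap) (ιMulti_span Γ(X, U) r Γ(E, U))
      rw [Submodule.map_span, Submodule.map_top, LinearEquiv.range, ← Set.range_comp] at h
      exact h) p hpU
    exact Opens.mem_iSup.mpr ⟨⟨⟨U, hU⟩, v⟩, hv⟩
  exact isClosedImmersion_chart hP' hG i.1.2 i.2 _ hc he
    (fun m k => ψL i.1 (ιMulti Γ(X, i.1.1) r (Function.update i.2 k m))) (hpre i) fun k m B hB => hupd i.1 i.2 k m B hB

end main

end Groth.Agent.Grass5.PluckerGen
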