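import Groth.Agent.Grass5.HilbLocus
import Groth.Agent.Grass5.PluckerGen
import Groth.Agent.FinCov99.Cover

/-!
The quotient of `f_* O_X` attached to a family of points of a scheme affine over the base.
-/

set_option autoImplicit false
set_option backward.isDefEq.respectTransparency false
set_option backward.isDefEq.respectTransparency.types false
set_option maxHeartbeats 400000

noncomputable section

universe u

open CategoryTheory CategoryTheory.Limits AlgebraicGeometry TopologicalSpace Opposite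
open Groth.Agent Groth.Agent.QC70 Groth.Agent.Props58.LocFree

namespace Groth.Agent.Grass5.HilbGrass

open Grass5.QuotBC Grass5.Hilb

variable {X S : Scheme.{u}} (f : X ⟶ S) {d : ℕ}

/-- the direct image of the structure sheaf. -/
abbrev EM : S.Modules := (Scheme.Modules.pushforward f).obj (Coh.structureModule X)

theorem isQuasicoherent_EM [IsAffineHom f] : (EM f).IsQuasicoherent := by
  haveI : (Coh.structureModule X).IsQuasicoherent := isQuasicoherent_unit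
  exact QCqs72.isQuasicoherent_pushforward (Coh.structureModule X) f

variable {T T' : Over S} (Z : HilbD.Obj f d T)

/-- the projection of a family to the base. -/
abbrev pr : Z.1.subscheme ⟶ T.left := Z.1.subschemeι ≫ PicF.XTproj f T

/-- the projection of a family to the ambient scheme. -/
abbrev am : Z.1.subscheme ⟶ X := Z.1.subschemeι ≫ pullback.fst f T.hom

theorem am_f : am f Z ≫ f = pr f Z ≫ T.hom := by
  simp only [am, pr, Category.assoc, pullback.condition]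

/-- the module of the family on the base. -/
abbrev QM : T.left.Modules := (Scheme.Modules.pushforward (pr f Z)).obj (Coh.structureModule Z.1.subscheme)

theorem rank_QM : FlatMod.IsFinLocFreeOfRank d (QM f Z) :=
  FinCov99.isFinLocFreeOfRank_of_isCover (pr f Z) d Z.2

/-- the map on functions. -/
def η : EM f ⟶ (Scheme.Modules.pushforward T.hom).obj (QM f Z) :=
  (Scheme.Modules.pushforward f).map (SheafOfModules.unitToPushforwardObjUnit (am f Z).toRingCatSheafHom) ≫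
    (Scheme.Modules.pushforwardComp (am f Z) f).hom.app _ ≫
    (Scheme.Modules.pushforwardCongr (am_f f Z)).hom.app _ ≫
    (Scheme.Modules.pushforwardComp (pr f Z) T.hom).inv.app _

theorem preimage_le (U : S.Opens) : pr f Z ⁻¹ᵁ (T.hom ⁻¹ᵁ U) ≤ am f Z ⁻¹ᵁ (f ⁻¹ᵁ U) := by
  show (pr f Z ≫ T.hom) ⁻¹ᵁ U ≤ (am f Z ≫ f) ⁻¹ᵁ U
  rw [am_f]

theorem η_app (U : S.Opens) (x : Γ(X, f ⁻¹ᵁ U)) :
    ((η f Z).app U x : Γ(Z.1.subscheme, pr f Z ⁻¹ᵁ (T.hom ⁻¹ᵁ U))) =
      (am f Z).appLE (f ⁻¹ᵁ U) (pr f Z ⁻¹ᵁ (T.hom ⁻¹ᵁ U)) (preimage_le f Z U) x := rfl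

/-- the quotient of the pulled back direct image. -/
def qZ : (Scheme.Modules.pullback T.hom).obj (EM f) ⟶ QM f Z :=
  ((Scheme.Modules.pullbackPushforwardAdjunction T.hom).homEquiv _ _).symm (η f Z)

theorem qZ_pullS (U : S.Opens) (x : Γ(X, f ⁻¹ᵁ U)) :
    ((qZ f Z).app (T.hom ⁻¹ᵁ U) (Amp73.pullS T.hom (EM f) U x) : Γ(Z.1.subscheme, pr f Z ⁻¹ᵁ (T.hom ⁻¹ᵁ U))) =
      (am f Z).appLE (f ⁻¹ᵁ U) (pr f Z ⁻¹ᵁ (T.hom ⁻¹ᵁ U)) (preimage_le f Z U) x := by
  have h : (Scheme.Modules.pullbackPushforwardAdjunction T.hom).homEquiv _ _ (qZ f Z) = η f Z :=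
    Equiv.apply_symm_apply _ _
  rw [Adjunction.homEquiv_unit] at h
  exact (congrArg (fun a => a.app U x) h).trans (η_app f Z U x)

theorem am_le {U : S.Opens} {V : T.left.Opens} (hV : V ≤ T.hom ⁻¹ᵁ U) : pr f Z ⁻¹ᵁ V ≤ am f Z ⁻¹ᵁ (f ⁻¹ᵁ U) :=
  ((pr f Z).preimage_mono hV).trans (preimage_le f Z U)

theorem qZ_res {U : S.Opens} {V : T.left.Opens} (hV : V ≤ T.hom ⁻¹ᵁ U) (x : Γ(X, f ⁻¹ᵁ U)) :
    ((qZ f Z).app V (res _ hV (Amp73.pullS T.hom (EM f) U x)) : Γ(Z.1.subscheme, pr f Z ⁻¹ᵁ V)) =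
      (am f Z).appLE (f ⁻¹ᵁ U) (pr f Z ⁻¹ᵁ V) (am_le f Z hV) x := by
  rw [QC70.app_res, qZ_pullS]
  show Z.1.subscheme.presheaf.map (homOfLE ((pr f Z).preimage_mono hV)).op _ = _
  rw [← CommRingCat.comp_apply, Scheme.Hom.appLE_map]

omit Z in
theorem proj_le {U : S.Opens} {V : T.left.Opens} (hV : V ≤ T.hom ⁻¹ᵁ U) :
    PicF.XTproj f T ⁻¹ᵁ V ≤ pullback.fst f T.hom ⁻¹ᵁ (f ⁻¹ᵁ U) := by
  show _ ≤ (pullback.fst f T.hom ≫ f) ⁻¹ᵁ U
  rw [pullback.condition]
  exact (PicF.XTproj f T).preimage_mono hV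

variable [IsAffineHom f]

omit Z in
/-- sections over an affine piece of the product are combinations of sections of the factor. -/
theorem span_XT {U : S.Opens} (hU : IsAffineOpen U) {V : T.left.Opens} (hVa : IsAffineOpen V) (hV : V ≤ T.hom ⁻¹ᵁ U)
    (z : Γ(PicF.XT f T, PicF.XTproj f T ⁻¹ᵁ V)) :
    z ∈ Submodule.span Γ(T.left, V) (Set.range fun x : Γ(X, f ⁻¹ᵁ U) =>
      show Γ((Scheme.Modules.pushforward (PicF.XTproj f T)).obj (Coh.structureModule (PicF.XT f T)), V) from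
        (pullback.fst f T.hom).appLE (f ⁻¹ᵁ U) (PicF.XTproj f T ⁻¹ᵁ V) (proj_le f hV) x) := by
  have hW : PicF.XTproj f T ⁻¹ᵁ V = pullback.fst f T.hom ⁻¹ᵁ (f ⁻¹ᵁ U) ⊓ PicF.XTproj f T ⁻¹ᵁ V :=
    (inf_eq_right.mpr (proj_le f hV)).symm
  haveI := isIso_pushoutSection_of_isAffineOpen (IsPullback.of_hasPullback f T.hom) hV (le_refl (f ⁻¹ᵁ U)) hW
    hU hVa (hU.preimage f)
  have H := CommRingCat.closure_range_union_range_eq_top_of_isPushout ((isIso_pushoutSection_iff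
    (IsPullback.of_hasPullback f T.hom) hV (le_refl (f ⁻¹ᵁ U)) hW).mp inferInstance)
  let M := Submodule.span Γ(T.left, V) (Set.range fun x : Γ(X, f ⁻¹ᵁ U) =>
      show Γ((Scheme.Modules.pushforward (PicF.XTproj f T)).obj (Coh.structureModule (PicF.XT f T)), V) from
        (pullback.fst f T.hom).appLE (f ⁻¹ᵁ U) (PicF.XTproj f T ⁻¹ᵁ V) (proj_le f hV) x)
  let a := (pullback.fst f T.hom).appLE (f ⁻¹ᵁ U) (PicF.XTproj f T ⁻¹ᵁ V) (proj_le f hV)
  let b := (PicF.XTproj f T).appLE V (PicF.XTproj f T ⁻¹ᵁ V) le_rfl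
  have hbs : ∀ (c : Γ(T.left, V)) (y : Γ(PicF.XT f T, PicF.XTproj f T ⁻¹ᵁ V)),
      (show Γ((Scheme.Modules.pushforward (PicF.XTproj f T)).obj (Coh.structureModule (PicF.XT f T)), V) from
        b c * y) = c • (show Γ((Scheme.Modules.pushforward (PicF.XTproj f T)).obj
          (Coh.structureModule (PicF.XT f T)), V) from y) := fun c y => by
    simp only [b]
    rw [← Scheme.Hom.app_eq_appLE]
    rfl
  let N := Γ((Scheme.Modules.pushforward (PicF.XTproj f T)).obj (Coh.structureModule (PicF.XT f T)), V)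
  let P : Γ(PicF.XT f T, PicF.XTproj f T ⁻¹ᵁ V) → Prop := fun y =>
    ∀ w : Γ(PicF.XT f T, PicF.XTproj f T ⁻¹ᵁ V), (show N from w) ∈ M → (show N from y * w) ∈ M
  let μ : Γ(PicF.XT f T, PicF.XTproj f T ⁻¹ᵁ V) → (N →ₗ[Γ(T.left, V)] N) := fun y =>
    { toFun := fun w => show N from y * (show Γ(PicF.XT f T, PicF.XTproj f T ⁻¹ᵁ V) from w)
      map_add' := fun p q => mul_add y (show Γ(PicF.XT f T, PicF.XTproj f T ⁻¹ᵁ V) from p)
        (show Γ(PicF.XT f T, PicF.XTproj f T ⁻¹ᵁ V) from q)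
      map_smul' := fun c q => mul_left_comm y ((PicF.XTproj f T).app V c)
        (show Γ(PicF.XT f T, PicF.XTproj f T ⁻¹ᵁ V) from q) }
  have hP : ∀ y ∈ Subring.closure (Set.range a ∪ Set.range b), P y := by
    intro y hy
    induction hy using Subring.closure_induction with
    | mem s hs =>
      intro w hw
      obtain ⟨x', rfl⟩ | ⟨c, rfl⟩ := hs
      · have hsub : M ≤ M.comap (μ (a x')) := Submodule.span_le.mpr (by
          rintro _ ⟨x, rfl⟩
          exact Submodule.subset_span ⟨x' * x, map_mul a.hom x' x⟩)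
        exact hsub hw
      · rw [hbs]
        exact Submodule.smul_mem _ _ hw
    | zero => exact fun w hw => by rw [zero_mul]; exact zero_mem M
    | one => exact fun w hw => by rw [one_mul]; exact hw
    | add y y' _ _ hy hy' => exact fun w hw => by rw [add_mul]; exact add_mem (hy w hw) (hy' w hw)
    | neg y _ hy => exact fun w hw => by rw [neg_mul]; exact neg_mem (hy w hw)
    | mul y y' _ _ hy hy' => exact fun w hw => by rw [mul_assoc]; exact hy _ (hy' w hw)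
  have h1 := hP z (by rw [show Subring.closure (Set.range a ∪ Set.range b) = ⊤ from H]; trivial) 1
    (Submodule.subset_span ⟨1, map_one a.hom⟩)
  rwa [mul_one] at h1

omit [IsAffineHom f] in
theorem app_fst {U : S.Opens} {V : T.left.Opens} (hV : V ≤ T.hom ⁻¹ᵁ U) (x : Γ(X, f ⁻¹ᵁ U)) :
    Z.1.subschemeι.app (PicF.XTproj f T ⁻¹ᵁ V)
        ((pullback.fst f T.hom).appLE (f ⁻¹ᵁ U) (PicF.XTproj f T ⁻¹ᵁ V) (proj_le f hV) x) =
      (am f Z).appLE (f ⁻¹ᵁ U) (pr f Z ⁻¹ᵁ V) (am_le f Z hV) x := by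
  rw [← CommRingCat.comp_apply, Scheme.Hom.app_eq_appLE, Scheme.Hom.appLE_comp_appLE]
  rfl

theorem epi_qZ : Epi (qZ f Z) := by
  refine epi_of_surjective_stalkMapM _ fun p z => ?_
  obtain ⟨U, hU, hpU, -⟩ := exists_isAffineOpen_mem_and_subset (x := T.hom p) (U := ⊤) trivial
  obtain ⟨V₀, hpV₀, m, rfl⟩ := germM_exist z
  obtain ⟨V, hVa, hpV, hle⟩ := exists_isAffineOpen_mem_and_subset (x := p) (U := V₀ ⊓ T.hom ⁻¹ᵁ U) ⟨hpV₀, hpU⟩
  have hV₀ : V ≤ V₀ := fun a ha => (hle ha).1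
  have hV : V ≤ T.hom ⁻¹ᵁ U := fun a ha => (hle ha).2
  rw [← germM_res hV₀ hpV m]
  haveI : IsAffineHom (PicF.XTproj f T) := MorphismProperty.pullback_snd _ _ inferInstance
  obtain ⟨y, hy⟩ : ∃ y, Z.1.subschemeι.app (PicF.XTproj f T ⁻¹ᵁ V) y =
      (res (QM f Z) hV₀ m : Γ(Z.1.subscheme, pr f Z ⁻¹ᵁ V)) :=
    Z.1.subschemeι.app_surjective (PicF.XTproj f T ⁻¹ᵁ V) (hVa.preimage (PicF.XTproj f T)) _
  let ξ : Γ(X, f ⁻¹ᵁ U) → Γ((Scheme.Modules.pullback T.hom).obj (EM f), V) :=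
    fun x => res _ hV (Amp73.pullS T.hom (EM f) U x)
  let ιl : Γ((Scheme.Modules.pushforward (PicF.XTproj f T)).obj (Coh.structureModule (PicF.XT f T)), V) →ₗ[Γ(T.left, V)]
      Γ(QM f Z, V) :=
    { toFun := fun y => Z.1.subschemeι.app (PicF.XTproj f T ⁻¹ᵁ V) y
      map_add' := fun a b => map_add _ a b
      map_smul' := fun c y => map_mul (Z.1.subschemeι.app (PicF.XTproj f T ⁻¹ᵁ V)).hom ((PicF.XTproj f T).app V c) y }
  have key : ∀ w : Γ((Scheme.Modules.pushforward (PicF.XTproj f T)).obj (Coh.structureModule (PicF.XT f T)), V),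
      ∃ v, (qZ f Z).app V v = ιl w := by
    intro w
    induction span_XT f hU hVa hV w using Submodule.span_induction with
    | mem w hw =>
      obtain ⟨x, rfl⟩ := hw
      refine ⟨ξ x, (qZ_res f Z hV x).trans ?_⟩
      exact (app_fst f Z hV x).symm
    | zero => exact ⟨0, by rw [map_zero, map_zero]⟩
    | add a b _ _ ha hb =>
      obtain ⟨va, hva⟩ := ha
      obtain ⟨vb, hvb⟩ := hb
      exact ⟨va + vb, by rw [map_add, map_add, hva, hvb]⟩
    | smul c a _ ha =>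
      obtain ⟨va, hva⟩ := ha
      exact ⟨c • va, by rw [Scheme.Modules.Hom.app_smul, hva, map_smul]⟩
  obtain ⟨v, hv⟩ := key y
  refine ⟨germM _ V p hpV v, ?_⟩
  rw [stalkMapM_germ, hv]
  exact congrArg (germM (QM f Z) V p hpV) hy

omit [IsAffineHom f] in
theorem exists_subscheme_map (t : T' ⟶ T) (I : (PicF.XT f T).IdealSheafData) :
    ∃ g : (HilbD.pull f t I).subscheme ⟶ I.subscheme,
      g ≫ I.subschemeι = (HilbD.pull f t I).subschemeι ≫ PicF.XTmap f t := by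
  rw [pull_eq_comap]
  exact ⟨(I.comapIso (PicF.XTmap f t)).hom ≫ pullback.snd _ _, by
    rw [Category.assoc, ← pullback.condition, Scheme.IdealSheafData.comapIso_hom_fst_assoc]⟩

/-- the map on functions of a base change of families. -/
def ηt {Z' : HilbD.Obj f d T'} (t : T' ⟶ T) (g : Z'.1.subscheme ⟶ Z.1.subscheme)
    (hgp : g ≫ pr f Z = pr f Z' ≫ t.left) : QM f Z ⟶ (Scheme.Modules.pushforward t.left).obj (QM f Z') :=
  (Scheme.Modules.pushforward (pr f Z)).map (SheafOfModules.unitToPushforwardObjUnit g.toRingCatSheafHom) ≫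
    (Scheme.Modules.pushforwardComp g (pr f Z)).hom.app _ ≫
    (Scheme.Modules.pushforwardCongr hgp).hom.app _ ≫
    (Scheme.Modules.pushforwardComp (pr f Z') t.left).inv.app _

omit [IsAffineHom f] in
theorem ηt_app {Z' : HilbD.Obj f d T'} (t : T' ⟶ T) (g : Z'.1.subscheme ⟶ Z.1.subscheme)
    (hgp : g ≫ pr f Z = pr f Z' ≫ t.left) (V : T.left.Opens) (y : Γ(Z.1.subscheme, pr f Z ⁻¹ᵁ V)) :
    ((ηt f Z t g hgp).app V y : Γ(Z'.1.subscheme, pr f Z' ⁻¹ᵁ (t.left ⁻¹ᵁ V))) =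
      g.appLE (pr f Z ⁻¹ᵁ V) (pr f Z' ⁻¹ᵁ (t.left ⁻¹ᵁ V))
        (by show (pr f Z' ≫ t.left) ⁻¹ᵁ V ≤ (g ≫ pr f Z) ⁻¹ᵁ V; rw [hgp]) y := rfl

omit f Z [IsAffineHom f] in
theorem symm_app_pullS {A B : Scheme.{u}} (h : A ⟶ B) {M : B.Modules} {N : A.Modules}
    (η : M ⟶ (Scheme.Modules.pushforward h).obj N) (U : B.Opens) (x : Γ(M, U)) :
    (((Scheme.Modules.pullbackPushforwardAdjunction h).homEquiv M N).symm η).app (h ⁻¹ᵁ U) (Amp73.pullS h M U x) =
      η.app U x := by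
  have h' : (Scheme.Modules.pullbackPushforwardAdjunction h).homEquiv M N
      (((Scheme.Modules.pullbackPushforwardAdjunction h).homEquiv M N).symm η) = η := Equiv.apply_symm_apply _ _
  rw [Adjunction.homEquiv_unit] at h'
  exact congrArg (fun a => a.app U x) h'

omit f Z [IsAffineHom f] in
theorem hom_ext_pullS {A B : Scheme.{u}} (h : A ⟶ B) {M : B.Modules} {N : A.Modules}
    (φ ψ : (Scheme.Modules.pullback h).obj M ⟶ N)
    (hh : ∀ (U : B.Opens) (x : Γ(M, U)),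
      φ.app (h ⁻¹ᵁ U) (Amp73.pullS h M U x) = ψ.app (h ⁻¹ᵁ U) (Amp73.pullS h M U x)) : φ = ψ := by
  apply ((Scheme.Modules.pullbackPushforwardAdjunction h).homEquiv _ _).injective
  refine Scheme.Modules.hom_ext _ _ fun U => ?_
  ext x
  rw [Adjunction.homEquiv_unit, Adjunction.homEquiv_unit]
  exact hh U x

omit f Z [IsAffineHom f] in
theorem quotBC_comp_app {A' A B : Scheme.{u}} {h : A ⟶ B} {t : A' ⟶ A} {h' : A' ⟶ B} (w : t ≫ h = h')
    {M : B.Modules} {N : A.Modules} {L : A'.Modules} (q : (Scheme.Modules.pullback h).obj M ⟶ N)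
    (φ : (Scheme.Modules.pullback t).obj N ⟶ L) (U : B.Opens) (x : Γ(M, U)) :
    res L (show t ⁻¹ᵁ (h ⁻¹ᵁ U) ≤ h' ⁻¹ᵁ U by rw [← w]; exact le_rfl)
        ((Grass.quotBC w q ≫ φ).app (h' ⁻¹ᵁ U) (Amp73.pullS h' M U x)) =
      φ.app (t ⁻¹ᵁ (h ⁻¹ᵁ U)) (Amp73.pullS t N (h ⁻¹ᵁ U) (q.app (h ⁻¹ᵁ U) (Amp73.pullS h M U x))) := by
  rw [← QC70.app_res, ← KerSub.pullS_eq_bcS w, ← KerSub.quotBC_bcS w]
  rfl

omit [IsAffineHom f] in
theorem compare_aux {Z' : HilbD.Obj f d T'} (t : T' ⟶ T) (g : Z'.1.subscheme ⟶ Z.1.subscheme)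
    (hga : g ≫ am f Z = am f Z') (hgp : g ≫ pr f Z = pr f Z' ≫ t.left) :
    Grass.quotBC (Over.w t) (qZ f Z) ≫
      ((Scheme.Modules.pullbackPushforwardAdjunction t.left).homEquiv _ _).symm (ηt f Z t g hgp) = qZ f Z' := by
  refine hom_ext_pullS T'.hom _ _ fun U x => ?_
  have hle : t.left ⁻¹ᵁ (T.hom ⁻¹ᵁ U) = T'.hom ⁻¹ᵁ U := by
    show (t.left ≫ T.hom) ⁻¹ᵁ U = _
    rw [Over.w t]
  refine GrChart.res_injective (QM f Z') hle.le hle.ge ?_
  refine (quotBC_comp_app (Over.w t) (qZ f Z) _ U x).trans ?_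
  rw [symm_app_pullS, qZ_pullS, qZ_pullS]
  refine (ηt_app f Z t g hgp (T.hom ⁻¹ᵁ U) _).trans ?_
  show _ = Z'.1.subscheme.presheaf.map (homOfLE ((pr f Z').preimage_mono hle.le)).op ((am f Z').appLE _ _ _ x)
  rw [← CommRingCat.comp_apply, Scheme.Hom.appLE_comp_appLE, ← CommRingCat.comp_apply, Scheme.Hom.appLE_map]
  simp only [hga]

attribute [local irreducible] HilbD.pull

omit [IsAffineHom f] in
theorem exists_maps (t : T' ⟶ T) {Z' : HilbD.Obj f d T'} {J : (PicF.XT f T').IdealSheafData} (hJ : Z'.1 = J)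
    (g : J.subscheme ⟶ Z.1.subscheme) (hg : g ≫ Z.1.subschemeι = J.subschemeι ≫ PicF.XTmap f t) :
    ∃ θ : (Scheme.Modules.pullback t.left).obj (QM f Z) ⟶ QM f Z',
      Grass.quotBC (Over.w t) (qZ f Z) ≫ θ = qZ f Z' := by
  subst hJ
  have hga : g ≫ am f Z = am f Z' := by
    show g ≫ Z.1.subschemeι ≫ _ = Z'.1.subschemeι ≫ _
    rw [← Category.assoc, hg, Category.assoc, FGA.XTmap_fst]
  have hgp : g ≫ pr f Z = pr f Z' ≫ t.left := by
    show g ≫ Z.1.subschemeι ≫ _ = (Z'.1.subschemeι ≫ _) ≫ _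
    rw [← Category.assoc, hg, Category.assoc, Category.assoc]
    simp only [PicF.XTmap, pullback.map, pullback.lift_snd]
  exact ⟨_, compare_aux f Z t g hga hgp⟩

omit [IsAffineHom f] in
/-- base change of the quotient of a family is the quotient of the base change. -/
theorem exists_compare (t : T' ⟶ T) :
    ∃ θ : (Scheme.Modules.pullback t.left).obj (QM f Z) ⟶ QM f (objPull t Z),
      Grass.quotBC (Over.w t) (qZ f Z) ≫ θ = qZ f (objPull t Z) := by
  obtain ⟨g, hg⟩ := exists_subscheme_map f t Z.1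
  exact exists_maps f Z t (Z' := objPull t Z) (J := HilbD.pull f t Z.1) rfl g hg

/-- families with the same quotient are equal. -/
theorem eq_of_quot_iso (Z₂ : HilbD.Obj f d T) (j : QM f Z ≅ QM f Z₂) (hj : qZ f Z ≫ j.hom = qZ f Z₂) : Z = Z₂ := by
  refine Subtype.ext ?_
  haveI : IsAffineHom (PicF.XTproj f T) := MorphismProperty.pullback_snd _ _ inferInstance
  let ι := {VU : T.left.affineOpens × S.affineOpens // VU.1.1 ≤ T.hom ⁻¹ᵁ VU.2.1}
  refine Scheme.IdealSheafData.ext_of_iSup_eq_top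
    (fun i : ι => (⟨PicF.XTproj f T ⁻¹ᵁ i.1.1.1, i.1.1.2.preimage (PicF.XTproj f T)⟩ : (PicF.XT f T).affineOpens))
    (top_le_iff.mp fun y _ => ?_) fun i => ?_
  · obtain ⟨U, hU, hyU, -⟩ := exists_isAffineOpen_mem_and_subset (x := T.hom (PicF.XTproj f T y)) (U := ⊤) trivial
    obtain ⟨V, hV, hyV, hle⟩ := exists_isAffineOpen_mem_and_subset (x := PicF.XTproj f T y) (U := T.hom ⁻¹ᵁ U) hyU
    exact Opens.mem_iSup.mpr ⟨⟨(⟨V, hV⟩, ⟨U, hU⟩), hle⟩, hyV⟩
  obtain ⟨⟨⟨V, hVa⟩, ⟨U, hU⟩⟩, hV⟩ := i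
  rw [← Scheme.IdealSheafData.ker_subschemeι_app, ← Scheme.IdealSheafData.ker_subschemeι_app]
  let ιl : ∀ W : HilbD.Obj f d T,
      Γ((Scheme.Modules.pushforward (PicF.XTproj f T)).obj (Coh.structureModule (PicF.XT f T)), V) →ₗ[Γ(T.left, V)]
        Γ(QM f W, V) := fun W =>
    { toFun := fun y => W.1.subschemeι.app (PicF.XTproj f T ⁻¹ᵁ V) y
      map_add' := fun a b => map_add _ a b
      map_smul' := fun c y => map_mul (W.1.subschemeι.app (PicF.XTproj f T ⁻¹ᵁ V)).hom ((PicF.XTproj f T).app V c) y }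
  let jl : Γ(QM f Z, V) →ₗ[Γ(T.left, V)] Γ(QM f Z₂, V) :=
    { toFun := fun y => j.hom.app V y
      map_add' := fun a b => map_add _ a b
      map_smul' := fun c y => Scheme.Modules.Hom.app_smul j.hom c y }
  have key : jl.comp (ιl Z) = ιl Z₂ := by
    refine LinearMap.ext fun w => ?_
    induction span_XT f hU hVa hV w using Submodule.span_induction with
    | mem w hw =>
      obtain ⟨x, rfl⟩ := hw
      have h : ∀ W : HilbD.Obj f d T, ιl W ((pullback.fst f T.hom).appLE (f ⁻¹ᵁ U) (PicF.XTproj f T ⁻¹ᵁ V)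
          (proj_le f hV) x) = (qZ f W).app V (res _ hV (Amp73.pullS T.hom (EM f) U x)) := fun W => by
        refine Eq.trans ?_ (qZ_res f W hV x).symm
        exact app_fst f W hV x
      show jl (ιl Z _) = _
      rw [h, h, ← hj]
      rfl
    | zero => simp only [map_zero]
    | add a b _ _ ha hb => rw [map_add, map_add, ha, hb]
    | smul c a _ ha => rw [map_smul, map_smul, ha]
  have hinj : Function.Injective jl := (ConcreteCategory.bijective_of_isIso (j.hom.app V)).1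
  ext w
  show ιl Z w = 0 ↔ ιl Z₂ w = 0
  rw [← key]
  exact ⟨fun h => by rw [LinearMap.comp_apply, h, map_zero], fun h => hinj (h.trans (map_zero jl).symm)⟩

end Groth.Agent.Grass5.HilbGrass
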