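import Groth.Agent.Grass5.HilbPush

/-!
Families of points of `C ⟶ B` as families of points of `C` over a base of `B`, for `B` separated.
-/

set_option autoImplicit false
set_option backward.isDefEq.respectTransparency false
set_option backward.isDefEq.respectTransparency.types false
set_option maxHeartbeats 400000

universe u

open CategoryTheory CategoryTheory.Limits AlgebraicGeometry

namespace Groth.Agent.Grass5.Hilb

theorem comap_map_square {A A' B B' : Scheme.{u}} {c' : A' ⟶ B'} {c : A ⟶ B} {h' : A' ⟶ A}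
    {h : B' ⟶ B} [IsClosedImmersion c] [IsClosedImmersion c'] (hp : IsPullback c' h' h c)
    (I : A.IdealSheafData) : (I.map c).comap h = (I.comap h').map c' := by
  have hk : c.ker.comap h = c'.ker := by
    rw [← Scheme.IdealSheafData.ker_fst_of_isClosedImmersion, ← hp.isoPullback_inv_fst,
      Scheme.Hom.ker_comp_of_isIso]
  have hle : c'.ker ≤ (I.map c).comap h := by
    rw [← hk, ← Scheme.IdealSheafData.map_bot]
    exact Scheme.IdealSheafData.comap_mono _ (Scheme.IdealSheafData.map_mono _ bot_le)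
  conv_lhs => rw [← map_comap_closedImmersion c' hle]
  rw [← Scheme.IdealSheafData.comap_comp, hp.w, Scheme.IdealSheafData.comap_comp,
    comap_map_closedImmersion]

variable {C B S : Scheme.{u}} (π : C ⟶ B) (b : B ⟶ S)

/-- a scheme over `B` as a scheme over `S`. -/
noncomputable abbrev res (T : Over B) : Over S := Over.mk (T.hom ≫ b)

/-- a morphism over `B` as a morphism over `S`. -/
noncomputable def resMap {T T' : Over B} (h : T' ⟶ T) : res b T' ⟶ res b T :=
  Over.homMk h.left (by simp)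

/-- the comparison `C ×_B T ⟶ C ×_S T`. -/
noncomputable def cmp (T : Over B) : PicF.XT π T ⟶ PicF.XT (π ≫ b) (res b T) :=
  pullback.lift (pullback.fst π T.hom) (pullback.snd π T.hom)
    (by simp [pullback.condition_assoc])

variable {T T' : Over B}

lemma cmp_proj : cmp π b T ≫ PicF.XTproj (π ≫ b) (res b T) = PicF.XTproj π T := by
  simp [cmp, PicF.XTproj]

lemma cmp_fst : cmp π b T ≫ pullback.fst (π ≫ b) (T.hom ≫ b) = pullback.fst π T.hom :=
  pullback.lift_fst _ _ _

instance [IsSeparated b] : IsClosedImmersion (cmp π b T) := by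
  have : cmp π b T = pullback.mapDesc π T.hom b := by
    refine pullback.hom_ext ?_ ?_ <;> simp [cmp]
  rw [this]
  infer_instance

lemma cmp_XTmap (h : T' ⟶ T) :
    cmp π b T' ≫ PicF.XTmap (π ≫ b) (resMap b h) = PicF.XTmap π h ≫ cmp π b T := by
  refine pullback.hom_ext ?_ ?_ <;> simp [cmp, PicF.XTmap, resMap]

lemma isPullback_cmp (h : T' ⟶ T) :
    IsPullback (cmp π b T') (PicF.XTmap π h) (PicF.XTmap (π ≫ b) (resMap b h)) (cmp π b T) := by
  refine IsPullback.flip (IsPullback.of_bot ?_ (cmp_XTmap π b h).symm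
    (isPullback_XTmap (π ≫ b) (resMap b h)))
  rw [cmp_proj, cmp_proj]
  exact isPullback_XTmap π h

/-- image in `C ×_S T`. -/
noncomputable def imgC (T : Over B) (I : (PicF.XT π T).IdealSheafData) :
    (PicF.XT (π ≫ b) (res b T)).IdealSheafData := I.map (cmp π b T)

variable [IsSeparated b]

theorem imgC_pull (h : T' ⟶ T) (I : (PicF.XT π T).IdealSheafData) :
    HilbD.pull (π ≫ b) (resMap b h) (imgC π b T I) = imgC π b T' (HilbD.pull π h I) := by
  rw [pull_eq_comap, pull_eq_comap]
  exact comap_map_square (isPullback_cmp π b h) I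

theorem finLocFreeOfDeg_map {A A' U : Scheme.{u}} (c : A ⟶ A') [IsClosedImmersion c] (p : A ⟶ U)
    (p' : A' ⟶ U) (hc : c ≫ p' = p) {d : ℕ} (I : A.IdealSheafData) :
    Mor2.IsFinLocFreeOfDeg d ((I.map c).subschemeι ≫ p') ↔
      Mor2.IsFinLocFreeOfDeg d (I.subschemeι ≫ p) := by
  let k := I.subschemeι ≫ c
  have hker : I.map c = k.ker := by
    rw [← Scheme.IdealSheafData.map_ker, Scheme.IdealSheafData.ker_subschemeι]
  rw [hker]
  have e : k.toImage ≫ k.ker.subschemeι ≫ p' = I.subschemeι ≫ p := by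
    rw [← Category.assoc, ← hc, ← Category.assoc]
    exact congrArg (· ≫ _) k.toImage_imageι
  constructor
  · intro h
    exact finLocFreeOfDeg_isPullback
      (fst := k.toImage) (g := 𝟙 U) (IsPullback.of_horiz_isIso ⟨by rw [Category.comp_id, e]⟩) h
  · intro h
    exact finLocFreeOfDeg_isPullback
      (fst := inv k.toImage) (g := 𝟙 U)
      (IsPullback.of_horiz_isIso ⟨by rw [Category.comp_id, ← e]; simp⟩) h

variable {d : ℕ}

/-- the image of a family. -/
noncomputable def objImgC (W : HilbD.Obj π d T) : HilbD.Obj (π ≫ b) d (res b T) :=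
  ⟨imgC π b T W.1, (finLocFreeOfDeg_map (cmp π b T) _ _ (cmp_proj π b) W.1).2 W.2⟩

omit [IsSeparated b] in
lemma surjective_of_pos (hd : 0 < d) {U : Over S} (W : HilbD.Obj (π ≫ b) d U) :
    Surjective (W.1.subschemeι ≫ PicF.XTproj (π ≫ b) U) := by
  obtain ⟨⟨h1, h2, h3⟩, hdeg⟩ := W.2
  haveI := h1; haveI := h2; haveI := h3
  exact (Scheme.Hom.one_le_finrank_iff_surjective _).1 fun y ↦ by rw [hdeg]; exact hd

/-- the maps to `B` of a family. -/
noncomputable def toB {U : Over S} (I : (PicF.XT (π ≫ b) U).IdealSheafData) : I.subscheme ⟶ B :=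
  I.subschemeι ≫ pullback.fst (π ≫ b) U.hom ≫ π

/-- **Descending to `B` is a closed condition.** -/
theorem exists_locus_factor {U : Over S} (W : HilbD.Obj (π ≫ b) d U) (hd : 0 < d) :
    ∃ (U₀ : Scheme.{u}) (ι : U₀ ⟶ U.left), IsClosedImmersion ι ∧ ∀ {U' : Over S} (h : U' ⟶ U),
      (∃ a, a ≫ ι = h.left) ↔ ∃ β : U'.left ⟶ B,
        ((HilbD.pull (π ≫ b) h W.1).subschemeι ≫ PicF.XTproj (π ≫ b) U') ≫ β =
          toB π b (HilbD.pull (π ≫ b) h W.1) ∧ β ≫ b = U'.hom := by
  obtain ⟨⟨h1, h2, h3⟩, -⟩ := W.2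
  haveI := h1; haveI := h2; haveI := h3
  let w : W.1.subscheme ⟶ U.left := W.1.subschemeι ≫ PicF.XTproj (π ≫ b) U
  let φ : W.1.subscheme ⟶ B := toB π b W.1
  have hwb : φ ≫ b = w ≫ U.hom := by
    simp [φ, w, toB, PicF.XTproj, pullback.condition]
  let ψ : pullback w w ⟶ pullback b b :=
    pullback.lift (pullback.fst w w ≫ φ) (pullback.snd w w ≫ φ) (by
      rw [Category.assoc, Category.assoc, hwb, pullback.condition_assoc])
  let p2 : pullback w w ⟶ U.left := pullback.fst w w ≫ w
  haveI : IsFinite p2 := inferInstance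
  haveI : Flat p2 := inferInstance
  haveI : LocallyOfFinitePresentation p2 := inferInstance
  obtain ⟨U₀, ι, hι, huniv⟩ := Van.exists_vanishing p2 ((pullback.diagonal b).ker.comap ψ)
  refine ⟨U₀, ι, hι, fun {U'} h ↦ (huniv h.left).trans ?_⟩
  obtain ⟨hU1, hU2⟩ := objPull h W |>.2
  obtain ⟨hU1, hU2', hU3⟩ := hU1
  let w' : (HilbD.pull (π ≫ b) h W.1).subscheme ⟶ U'.left :=
    (HilbD.pull (π ≫ b) h W.1).subschemeι ≫ PicF.XTproj (π ≫ b) U'
  haveI : IsFinite w' := hU1
  haveI : Flat w' := hU2'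
  haveI : Surjective w' := surjective_of_pos π b hd (objPull h W)
  let φ' := toB π b (HilbD.pull (π ≫ b) h W.1)
  have hw'b : φ' ≫ b = w' ≫ U'.hom := by
    simp [φ', w', toB, PicF.XTproj, pullback.condition]
  -- comparison with the base change
  obtain ⟨q, hq, hqι⟩ : ∃ q : (HilbD.pull (π ≫ b) h W.1).subscheme ⟶ W.1.subscheme,
      IsPullback q w' w h.left ∧ q ≫ φ = φ' := by
    let XT := PicF.XTmap (π ≫ b) h
    let k := pullback.snd W.1.subschemeι XT
    have hk : HilbD.pull (π ≫ b) h W.1 = k.ker := rfl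
    have hpb : IsPullback (pullback.fst W.1.subschemeι XT) (k ≫ PicF.XTproj (π ≫ b) U') w h.left :=
      (IsPullback.of_hasPullback _ _).paste_vert (isPullback_XTmap (π ≫ b) h)
    have hki : k.toImage ≫ (HilbD.pull (π ≫ b) h W.1).subschemeι = k := k.toImage_imageι
    haveI : IsIso (k.toImage) := inferInstance
    refine ⟨inv k.toImage ≫ pullback.fst W.1.subschemeι XT, hpb.of_iso (asIso k.toImage) (Iso.refl _)
      (Iso.refl _) (Iso.refl _) (by simp) ?_ (by simp) (by simp), ?_⟩
    · simp only [asIso_hom, Iso.refl_hom, Category.comp_id]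
      rw [show w' = (HilbD.pull (π ≫ b) h W.1).subschemeι ≫ PicF.XTproj (π ≫ b) U' from rfl,
        ← Category.assoc, hki]
    · rw [Category.assoc, IsIso.inv_comp_eq]
      simp only [φ, φ', toB]
      rw [pullback.condition_assoc, reassoc_of% hki]
      simp [XT, PicF.XTmap, k]
  rw [← Scheme.IdealSheafData.comap_comp, comap_eq_bot_iff]
  have hpr : h.left ≫ U.hom = U'.hom := Over.w h
  constructor
  · intro hle
    let lft := IsClosedImmersion.lift (pullback.diagonal b) _ hle
    have hlift : lft ≫ pullback.diagonal b = pullback.fst p2 h.left ≫ ψ :=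
      IsClosedImmersion.lift_fac _ _ _
    have heq : pullback.fst p2 h.left ≫ pullback.fst w w ≫ φ =
        pullback.fst p2 h.left ≫ pullback.snd w w ≫ φ := by
      have a := congr($hlift ≫ pullback.fst b b)
      have c := congr($hlift ≫ pullback.snd b b)
      simp [ψ] at a c
      exact a.symm.trans c
    have hcond : ∀ {Z : Scheme.{u}} (g₁ g₂ : Z ⟶ (HilbD.pull (π ≫ b) h W.1).subscheme),
        g₁ ≫ w' = g₂ ≫ w' → g₁ ≫ φ' = g₂ ≫ φ' := by
      intro Z g₁ g₂ e
      have e2 : (g₁ ≫ q) ≫ w = (g₂ ≫ q) ≫ w := by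
        rw [Category.assoc, Category.assoc, hq.w, reassoc_of% e]
      let z : Z ⟶ pullback p2 h.left :=
        pullback.lift (pullback.lift (g₁ ≫ q) (g₂ ≫ q) e2) (g₁ ≫ w') (by simp [p2, hq.w])
      have := congr(z ≫ $heq)
      simpa [z, hqι] using this
    obtain ⟨β, hβ⟩ : ∃ β, w' ≫ β = φ' := ⟨EffectiveEpi.desc w' φ' hcond, EffectiveEpi.fac _ _ hcond⟩
    refine ⟨β, hβ, ?_⟩
    rw [← cancel_epi w', reassoc_of% hβ, hw'b]
  · rintro ⟨β, hβ, -⟩
    have hβ' : w' ≫ β = φ' := hβ
    have key : pullback.fst p2 h.left ≫ pullback.fst w w ≫ φ =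
        pullback.fst p2 h.left ≫ pullback.snd w w ≫ φ := by
      have aux : ∀ r : pullback p2 h.left ⟶ W.1.subscheme, r ≫ w = pullback.snd p2 h.left ≫ h.left →
          r ≫ φ = pullback.snd p2 h.left ≫ β := by
        intro r hr
        let a := hq.lift r (pullback.snd p2 h.left) hr
        rw [← hq.lift_fst r _ hr, Category.assoc, hqι, ← hβ', ← Category.assoc, hq.lift_snd]
      have hc : pullback.fst p2 h.left ≫ pullback.fst w w ≫ w = pullback.snd p2 h.left ≫ h.left :=
        pullback.condition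
      rw [← Category.assoc, aux _ (by rw [Category.assoc, hc]), ← Category.assoc,
        aux _ (by rw [Category.assoc, ← pullback.condition (f := w), hc])]
    have : pullback.fst p2 h.left ≫ ψ =
        (pullback.fst p2 h.left ≫ pullback.fst w w ≫ φ) ≫ pullback.diagonal b := by
      refine pullback.hom_ext ?_ ?_
      · simp [ψ]
      · simp [ψ, key]
    rw [this]
    exact Scheme.Hom.le_ker_comp _ _

end Groth.Agent.Grass5.Hilb
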