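import Groth.Agent.Grass5.HilbLocus

/-!
Points of the Hilbert functor of an affine scheme over a base field with values in algebras: ideals of
the base change.
-/

set_option autoImplicit false
set_option linter.style.haveILetI false
set_option maxHeartbeats 400000
set_option backward.isDefEq.respectTransparency false
set_option backward.isDefEq.respectTransparency.types false

universe u

open CategoryTheory CategoryTheory.Limits AlgebraicGeometry
open scoped TensorProduct

noncomputable section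

namespace Groth.Agent.Grass5.Punct

open Groth.Agent.Grass5.Hilb

variable (k : Type u) [CommRing k] (R : Type u) [CommRing R] [Algebra k R]

/-- the structure map. -/
abbrev str : Spec (CommRingCat.of R) ⟶ Spec (CommRingCat.of k) :=
  Spec.map (CommRingCat.ofHom (algebraMap k R))

variable (B : Type u) [CommRing B] [Algebra k B]

/-- the test scheme of an algebra. -/
abbrev TB : Over (Spec (CommRingCat.of k)) := Over.mk (Spec.map (CommRingCat.ofHom (algebraMap k B)))

variable {k R B} {B' : Type u} [CommRing B'] [Algebra k B']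

/-- the morphism of an algebra map. -/
def gT (φ : B →ₐ[k] B') : TB k B' ⟶ TB k B :=
  Over.homMk (Spec.map (CommRingCat.ofHom φ.toRingHom)) (by
    show Spec.map _ ≫ Spec.map _ = Spec.map _
    rw [← Spec.map_comp]
    congr 1
    ext x
    exact φ.commutes x)

variable (k R B)

/-- the base change is affine. -/
def eXT : PicF.XT (str k R) (TB k B) ≅ Spec (CommRingCat.of (B ⊗[k] R)) :=
  pullbackSymmetry _ _ ≪≫ pullbackSpecIso k B R

lemma eXT_inv_proj : (eXT k R B).inv ≫ PicF.XTproj (str k R) (TB k B) =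
    Spec.map (CommRingCat.ofHom (algebraMap B (B ⊗[k] R))) := by
  simp only [eXT, Iso.trans_inv, Category.assoc]
  erw [pullbackSymmetry_inv_comp_snd]
  exact pullbackSpecIso_inv_fst' k B R

lemma eXT_inv_fst : (eXT k R B).inv ≫ pullback.fst (str k R) (TB k B).hom =
    Spec.map (CommRingCat.ofHom
      (Algebra.TensorProduct.includeRight : R →ₐ[k] B ⊗[k] R).toRingHom) := by
  simp only [eXT, Iso.trans_inv, Category.assoc]
  erw [pullbackSymmetry_inv_comp_fst]
  exact pullbackSpecIso_inv_snd k B R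

variable {k B}

/-- the base change of algebras. -/
abbrev bcA (φ : B →ₐ[k] B') : B ⊗[k] R →ₐ[k] B' ⊗[k] R :=
  Algebra.TensorProduct.map φ (AlgHom.id k R)

lemma eXT_natural (φ : B →ₐ[k] B') :
    Spec.map (CommRingCat.ofHom (bcA R φ).toRingHom) ≫ (eXT k R B).inv =
      (eXT k R B').inv ≫ PicF.XTmap (str k R) (gT φ) := by
  refine pullback.hom_ext ?_ ?_
  · simp only [PicF.XTmap, Category.assoc, pullback.lift_fst, Category.comp_id, eXT_inv_fst,
      ← Spec.map_comp]
    congr 1
    ext r
    simp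
  · simp only [PicF.XTmap, Category.assoc, pullback.lift_snd]
    show _ ≫ (eXT k R B).inv ≫ PicF.XTproj _ _ = (eXT k R B').inv ≫ PicF.XTproj _ _ ≫ _
    rw [eXT_inv_proj, reassoc_of% (eXT_inv_proj k R B')]
    show Spec.map _ ≫ Spec.map _ = Spec.map _ ≫ Spec.map _
    rw [← Spec.map_comp, ← Spec.map_comp]
    congr 1

variable {R}

/-- the closed immersion of an ideal. -/
def inclJ (J : Ideal (B ⊗[k] R)) : Spec (CommRingCat.of ((B ⊗[k] R) ⧸ J)) ⟶ PicF.XT (str k R) (TB k B) :=
  Spec.map (CommRingCat.ofHom (Ideal.Quotient.mk J)) ≫ (eXT k R B).inv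

instance (J : Ideal (B ⊗[k] R)) : IsClosedImmersion (inclJ J) := by
  haveI : IsClosedImmersion (Spec.map (CommRingCat.ofHom (Ideal.Quotient.mk J))) :=
    IsClosedImmersion.spec_of_surjective _ Ideal.Quotient.mk_surjective
  unfold inclJ
  infer_instance

/-- the closed subscheme of an ideal. -/
def sh (J : Ideal (B ⊗[k] R)) : (PicF.XT (str k R) (TB k B)).IdealSheafData := (inclJ J).ker

lemma pull_sh (φ : B →ₐ[k] B') (J : Ideal (B ⊗[k] R)) :
    HilbD.pull (str k R) (gT φ) (sh J) = sh (J.map (bcA R φ).toRingHom) := by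
  rw [pull_eq_comap, sh, sh]
  let J' := J.map (bcA R φ).toRingHom
  let ψ : (B ⊗[k] R) ⧸ J →+* (B' ⊗[k] R) ⧸ J' :=
    Ideal.quotientMap J' (bcA R φ).toRingHom Ideal.le_comap_map
  refine le_antisymm ?_ ?_
  · rw [← Scheme.IdealSheafData.le_map_iff_comap_le, Scheme.IdealSheafData.map_ker]
    have : inclJ J' ≫ PicF.XTmap (str k R) (gT φ) = Spec.map (CommRingCat.ofHom ψ) ≫ inclJ J := by
      rw [inclJ, inclJ, Category.assoc, ← eXT_natural, ← Category.assoc, ← Category.assoc,
        ← Spec.map_comp, ← Spec.map_comp]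
      congr 2
    rw [this]
    exact Scheme.Hom.le_ker_comp _ _
  · rw [← Scheme.IdealSheafData.ker_fst_of_isClosedImmersion]
    let g := pullback.fst (PicF.XTmap (str k R) (gT φ)) (inclJ J)
    let s := pullback.snd (PicF.XTmap (str k R) (gT φ)) (inclJ J)
    haveI : IsAffine (PicF.XT (str k R) (TB k B')) := IsAffine.of_isIso (eXT k R B').hom
    haveI : IsAffine (pullback (PicF.XTmap (str k R) (gT φ)) (inclJ J)) := isAffine_of_isAffineHom g
    let e := (pullback (PicF.XTmap (str k R) (gT φ)) (inclJ J)).isoSpec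
    let a := Spec.preimage (e.inv ≫ g ≫ (eXT k R B').hom)
    let b := Spec.preimage (e.inv ≫ s)
    have hab : CommRingCat.ofHom (bcA R φ).toRingHom ≫ a =
        CommRingCat.ofHom (Ideal.Quotient.mk J) ≫ b := by
      apply Spec.map_injective
      rw [Spec.map_comp, Spec.map_comp, Spec.map_preimage, Spec.map_preimage,
        ← cancel_mono (eXT k R B).inv]
      simp only [Category.assoc]
      rw [eXT_natural, Iso.hom_inv_id_assoc]
      congr 1
      exact pullback.condition
    have hle : J' ≤ RingHom.ker a.hom := by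
      refine Ideal.map_le_iff_le_comap.2 fun x hx => ?_
      show a.hom ((bcA R φ).toRingHom x) = 0
      rw [show a.hom ((bcA R φ).toRingHom x) = b.hom (Ideal.Quotient.mk J x) from congr($hab x),
        Ideal.Quotient.eq_zero_iff_mem.2 hx, map_zero]
    have hg : g = (e.hom ≫ Spec.map (CommRingCat.ofHom (Ideal.Quotient.lift J' a.hom hle))) ≫ inclJ J' := by
      simp only [inclJ, Category.assoc]
      rw [← Spec.map_comp_assoc,
        show CommRingCat.ofHom (Ideal.Quotient.mk J') ≫ CommRingCat.ofHom (Ideal.Quotient.lift J' a.hom hle) = a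
          from CommRingCat.hom_ext (RingHom.ext fun x => rfl), Spec.map_preimage]
      simp
    show (inclJ J').ker ≤ g.ker
    rw [hg]
    exact Scheme.Hom.le_ker_comp _ _

lemma exists_sh (I : (PicF.XT (str k R) (TB k B)).IdealSheafData) :
    ∃ J : Ideal (B ⊗[k] R), I = sh J := by
  obtain ⟨J, e, he⟩ := IsClosedImmersion.Spec_iff.1
    (inferInstance : IsClosedImmersion (I.subschemeι ≫ (eXT k R B).hom))
  refine ⟨J, ?_⟩
  have : I.subschemeι = e.hom ≫ inclJ J := by
    show _ = e.hom ≫ Spec.map _ ≫ (eXT k R B).inv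
    rw [← Category.assoc, Iso.eq_comp_inv]
    exact he
  conv_lhs => rw [← I.ker_subschemeι, this, Scheme.Hom.ker_comp_of_isIso]
  rfl

lemma finLocFreeOfDeg_sh_iff (n : ℕ) (J : Ideal (B ⊗[k] R)) :
    Mor2.IsFinLocFreeOfDeg n ((sh J).subschemeι ≫ PicF.XTproj (str k R) (TB k B)) ↔
      Mor2.IsFinLocFreeOfDeg n (Spec.map (CommRingCat.ofHom (algebraMap B ((B ⊗[k] R) ⧸ J)))) := by
  have e : (inclJ J).toImage ≫ (sh J).subschemeι = inclJ J := (inclJ J).toImage_imageι
  have : Spec.map (CommRingCat.ofHom (algebraMap B ((B ⊗[k] R) ⧸ J))) =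
      (inclJ J).toImage ≫ (sh J).subschemeι ≫ PicF.XTproj (str k R) (TB k B) := by
    rw [← Category.assoc, e, inclJ, Category.assoc, eXT_inv_proj, ← Spec.map_comp]
    rfl
  rw [this]
  constructor
  · intro h
    exact finLocFreeOfDeg_isPullback
      (IsPullback.of_horiz_isIso (g := 𝟙 _) ⟨(Category.comp_id _).symm⟩) h
  · intro h
    have e2 : (sh J).subschemeι ≫ PicF.XTproj (str k R) (TB k B) =
        inv (inclJ J).toImage ≫ (inclJ J).toImage ≫ (sh J).subschemeι ≫ PicF.XTproj (str k R) (TB k B) := by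
      rw [IsIso.inv_hom_id_assoc]
    rw [e2]
    exact finLocFreeOfDeg_isPullback
      (IsPullback.of_horiz_isIso (g := 𝟙 _) ⟨(Category.comp_id _).symm⟩) h

theorem finLocFreeOfDeg_sh_of_free [Nontrivial B] (n : ℕ) (J : Ideal (B ⊗[k] R))
    [Module.Free B ((B ⊗[k] R) ⧸ J)] [Module.Finite B ((B ⊗[k] R) ⧸ J)]
    (hn : Module.finrank B ((B ⊗[k] R) ⧸ J) = n) :
    Mor2.IsFinLocFreeOfDeg n ((sh J).subschemeι ≫ PicF.XTproj (str k R) (TB k B)) := by
  rw [finLocFreeOfDeg_sh_iff]
  haveI := Module.finitePresentation_of_projective B ((B ⊗[k] R) ⧸ J)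
  refine ⟨⟨(IsFinite.SpecMap_iff _).2 (RingHom.finite_algebraMap.2 inferInstance),
    Flat.SpecMap_iff.2 (RingHom.flat_algebraMap_iff.2 inferInstance),
    (HasRingHomProperty.Spec_iff (P := @LocallyOfFinitePresentation)).2
      (RingHom.finitePresentation_algebraMap.2 inferInstance)⟩, fun y => ?_⟩
  rw [Scheme.Hom.finrank_SpecMap_algebraMap, Module.rankAtStalk_eq_finrank_of_free]
  exact hn

theorem finrank_of_finLocFreeOfDeg_sh {K : Type u} [Field K] [Algebra k K] (n : ℕ)
    (J : Ideal (K ⊗[k] R)) [Module.Finite K ((K ⊗[k] R) ⧸ J)]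
    (h : Mor2.IsFinLocFreeOfDeg n ((sh J).subschemeι ≫ PicF.XTproj (str k R) (TB k K))) :
    Module.finrank K ((K ⊗[k] R) ⧸ J) = n := by
  rw [finLocFreeOfDeg_sh_iff] at h
  let y : PrimeSpectrum K := ⟨⊥, Ideal.isPrime_bot⟩
  have := h.2 y
  rwa [Scheme.Hom.finrank_SpecMap_algebraMap, Module.rankAtStalk_eq_finrank_of_free] at this

end Groth.Agent.Grass5.Punct
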