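import Groth.Agent.Grass5.PunctAlg
import Groth.Agent.Grass5.PunctPt

/-!
The pencil between two adjacent ideals, and connectedness of the punctual Hilbert scheme.
-/

set_option autoImplicit false
set_option linter.style.haveILetI false
set_option maxHeartbeats 400000
set_option backward.isDefEq.respectTransparency false
set_option backward.isDefEq.respectTransparency.types false

universe u

open CategoryTheory CategoryTheory.Limits AlgebraicGeometry
open scoped TensorProduct

noncomputable section

namespace Groth.Agent.Grass5.Punct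

variable {k : Type u} [Field k] {R : Type u} [CommRing R] [Algebra k R]

section Pencil

variable {K : Type u} [Field K] [Algebra k K] {ε : K ⊗[k] R →ₐ[K] K}

/-- the algebra map to the polynomial family. -/
abbrev toPoly : K →ₐ[k] Polynomial K := IsScalarTower.toAlgHom k K (Polynomial K)

/-- evaluation of the polynomial parameter. -/
abbrev evalAt (a : K) : Polynomial K →ₐ[k] K := (Polynomial.aeval a).restrictScalars k

/-- the linear extension of a linear functional to polynomial coefficients. -/
def extend {M : Type u} [AddCommGroup M] [Module (Polynomial K) M] [Module k M]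
    [IsScalarTower k (Polynomial K) M] [Module K M] [IsScalarTower K (Polynomial K) M]
    [IsScalarTower k K M] (ψ : K ⊗[k] R →ₗ[K] M) : Polynomial K ⊗[k] R →ₗ[Polynomial K] M :=
  LinearMap.liftBaseChange (Polynomial K)
    ((ψ.restrictScalars k) ∘ₗ (Algebra.TensorProduct.includeRight : R →ₐ[k] K ⊗[k] R).toLinearMap)

lemma extend_incl {M : Type u} [AddCommGroup M] [Module (Polynomial K) M] [Module k M]
    [IsScalarTower k (Polynomial K) M] [Module K M] [IsScalarTower K (Polynomial K) M]
    [IsScalarTower k K M] (ψ : K ⊗[k] R →ₗ[K] M) (x : K ⊗[k] R) :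
    extend ψ (bcA R toPoly x) = ψ x := by
  induction x with
  | zero => simp
  | add x y hx hy => simp [hx, hy]
  | tmul c r =>
    simp only [extend, bcA, Algebra.TensorProduct.map_tmul, AlgHom.id_apply,
      LinearMap.liftBaseChange_tmul, LinearMap.coe_comp, LinearMap.coe_restrictScalars,
      Function.comp_apply, AlgHom.toLinearMap_apply, Algebra.TensorProduct.includeRight_apply,
      IsScalarTower.toAlgHom_apply, algebraMap_smul]
    rw [← map_smul]
    congr 1
    simp [TensorProduct.smul_tmul']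

lemma span_incl : Submodule.span (Polynomial K) (Set.range (bcA R (toPoly (k := k) (K := K)))) = ⊤ := by
  rw [eq_top_iff]
  rintro z -
  induction z with
  | zero => exact zero_mem _
  | add x y hx hy => exact add_mem hx hy
  | tmul p r =>
    have : p ⊗ₜ[k] r = p • bcA R (toPoly (k := k) (K := K)) ((1 : K) ⊗ₜ[k] r) := by
      simp [TensorProduct.smul_tmul']
    rw [this]
    exact Submodule.smul_mem _ _ (Submodule.subset_span ⟨_, rfl⟩)

/-- coordinates modulo a pencil of two elements. -/
theorem exists_coords {A : Type u} [CommRing A] [Algebra K A] (I₀ : Ideal A)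
    [Module.Finite K (A ⧸ I₀.restrictScalars K)]
    (s w : A) (hindw : ∀ c d : K, c • s + d • w ∈ I₀ → c = 0 ∧ d = 0) :
    ∃ (N : ℕ) (α β : A →ₗ[K] K) (ρ : A →ₗ[K] Fin N → K) (σ : Fin N → A),
      α s = 1 ∧ α w = 0 ∧ β s = 0 ∧ β w = 1 ∧ ρ s = 0 ∧ ρ w = 0 ∧
      (∀ x, ρ x = 0 → x - α x • s - β x • w ∈ I₀) ∧ (∀ x ∈ I₀, α x = 0 ∧ β x = 0 ∧ ρ x = 0) ∧
      (∀ i, ρ (σ i) = Pi.single i 1) ∧ (∀ i, α (σ i) = 0) ∧ (∀ i, β (σ i) = 0) := by
  let qmap := (I₀.restrictScalars K).mkQ
  let U : Submodule K (A ⧸ I₀.restrictScalars K) := Submodule.span K {qmap s, qmap w}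
  have hli : LinearIndependent K ![qmap s, qmap w] := by
    rw [LinearIndependent.pair_iff]
    intro c d hcd
    refine hindw c d ?_
    rw [← map_smul, ← map_smul, ← map_add] at hcd
    exact (Submodule.Quotient.mk_eq_zero _).1 hcd
  obtain ⟨ρq, hρker, hρsurj⟩ : ∃ ρ : (A ⧸ I₀.restrictScalars K) →ₗ[K]
      (Fin (Module.finrank K ((A ⧸ I₀.restrictScalars K) ⧸ U)) → K),
      LinearMap.ker ρ = U ∧ Function.Surjective ρ :=
    ⟨(Module.finBasis K ((A ⧸ I₀.restrictScalars K) ⧸ U)).equivFun.toLinearMap ∘ₗ U.mkQ, by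
      rw [LinearEquiv.ker_comp, Submodule.ker_mkQ],
      (Module.finBasis K _).equivFun.surjective.comp U.mkQ_surjective⟩
  generalize Module.finrank K ((A ⧸ I₀.restrictScalars K) ⧸ U) = N at ρq
  obtain ⟨f, hf⟩ : ∃ f : (A ⧸ I₀.restrictScalars K) →ₗ[K] (Fin 2 → K),
      f (qmap s) = Pi.single 0 1 ∧ f (qmap w) = Pi.single 1 1 := by
    obtain ⟨f, hf⟩ := LinearMap.exists_extend
      ((Module.Basis.span hli).constr K (fun i => (Pi.single i (1 : K) : Fin 2 → K)))
    refine ⟨f, ?_, ?_⟩
    · have := congr($hf ((Module.Basis.span hli) 0))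
      rw [LinearMap.comp_apply, Module.Basis.constr_basis] at this
      simpa [Module.Basis.span_apply] using this
    · have := congr($hf ((Module.Basis.span hli) 1))
      rw [LinearMap.comp_apply, Module.Basis.constr_basis] at this
      simpa [Module.Basis.span_apply] using this
  let α : A →ₗ[K] K := LinearMap.proj 0 ∘ₗ f ∘ₗ qmap
  let β : A →ₗ[K] K := LinearMap.proj 1 ∘ₗ f ∘ₗ qmap
  let ρ : A →ₗ[K] Fin N → K := ρq ∘ₗ qmap
  have hρsurj' : Function.Surjective ρ := hρsurj.comp (Submodule.mkQ_surjective _)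
  have hαs : α s = 1 := by simp [α, hf.1]
  have hαw : α w = 0 := by simp [α, hf.2]
  have hβs : β s = 0 := by simp [β, hf.1]
  have hβw : β w = 1 := by simp [β, hf.2]
  have hρs : ρ s = 0 := by
    show ρq (qmap s) = 0
    rw [← LinearMap.mem_ker, hρker]; exact Submodule.subset_span (by simp)
  have hρw : ρ w = 0 := by
    show ρq (qmap w) = 0
    rw [← LinearMap.mem_ker, hρker]; exact Submodule.subset_span (by simp)
  have hI₀0 : ∀ x ∈ I₀, qmap x = 0 := fun x hx => (Submodule.Quotient.mk_eq_zero _).2 hx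
  have hdec : ∀ x, ρ x = 0 → x - α x • s - β x • w ∈ I₀ := fun x hx => by
    have hx' : qmap x ∈ U := hρker ▸ LinearMap.mem_ker.2 hx
    obtain ⟨c, d, hcd⟩ := Submodule.mem_span_pair.1 hx'
    have hα : α x = c := by
      show (f (qmap x)) 0 = c
      rw [← hcd]; simp [hf.1, hf.2]
    have hβ : β x = d := by
      show (f (qmap x)) 1 = d
      rw [← hcd]; simp [hf.1, hf.2]
    refine (Submodule.Quotient.mk_eq_zero (I₀.restrictScalars K)).1 ?_
    show qmap (x - α x • s - β x • w) = 0
    rw [map_sub, map_sub, map_smul, map_smul, hα, hβ, sub_sub, sub_eq_zero, hcd]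
  choose σ' hσ' using fun i : Fin N => hρsurj' (Pi.single i 1)
  let σ : Fin N → A := fun i => σ' i - α (σ' i) • s - β (σ' i) • w
  have hσ : ∀ i, ρ (σ i) = Pi.single i 1 := fun i => by simp [σ, hρs, hρw, hσ']
  have hσα : ∀ i, α (σ i) = 0 := fun i => by simp [σ, hαs, hαw]
  have hσβ : ∀ i, β (σ i) = 0 := fun i => by simp [σ, hβs, hβw]
  exact ⟨N, α, β, ρ, σ, hαs, hαw, hβs, hβw, hρs, hρw, hdec,
    fun x hx => by simp [α, β, ρ, hI₀0 x hx], hσ, hσα, hσβ⟩

set_option maxHeartbeats 4000000 in
/-- a family over the affine line joining two adjacent ideals. -/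
theorem exists_pencil' {I I' : Ideal (K ⊗[k] R)} (h : Adj ε I I')
    (hfin : ∀ I₀ : Ideal (K ⊗[k] R), (∃ t, I'.restrictScalars K = I₀.restrictScalars K ⊔ Submodule.span K {t}) →
      Module.Finite K ((K ⊗[k] R) ⧸ I₀.restrictScalars K)) :
    ∃ (J : Ideal (Polynomial K ⊗[k] R)) (m : ℕ),
      Mor2.IsFinLocFreeOfDeg m ((sh J).subschemeι ≫ PicF.XTproj (str k R) (TB k (Polynomial K))) ∧
      J.map (bcA R (evalAt (0 : K))).toRingHom = I ∧ J.map (bcA R (evalAt (1 : K))).toRingHom = I' := by
  obtain ⟨I₀, s, s', hs, hs', hind, hI, hI'⟩ := h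
  haveI := hfin I₀ ⟨s', hI'⟩
  obtain ⟨w, hwdef⟩ : ∃ w : K ⊗[k] R, w = s' - s := ⟨_, rfl⟩
  have hw : ∀ a ∈ RingHom.ker ε, a * w ∈ I₀ := fun a ha => by
    rw [hwdef, mul_sub]; exact sub_mem (hs' a ha) (hs a ha)
  have hindw : ∀ c d : K, c • s + d • w ∈ I₀ → c = 0 ∧ d = 0 := fun c d hcd => by
    have := hind (c - d) d (by simpa [hwdef, sub_smul, smul_sub, add_sub, sub_add_eq_add_sub] using hcd)
    exact ⟨by simpa [this.2] using this.1, this.2⟩
  obtain ⟨N, α, β, ρ, σ, hαs, hαw, hβs, hβw, hρs, hρw, hdec, hC0, hσ, hσα, hσβ⟩ :=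
    exists_coords I₀ s w hindw
  obtain ⟨ι, hιdef⟩ : ∃ ι : K ⊗[k] R →ₐ[k] Polynomial K ⊗[k] R, ι = bcA R (toPoly (k := k) (K := K)) :=
    ⟨_, rfl⟩
  have hspan : Submodule.span (Polynomial K) (Set.range ι) = ⊤ := hιdef ▸ span_incl
  let g : Polynomial K ⊗[k] R := ι s + (Polynomial.X : (Polynomial K)) • ι w
  let W : Submodule (Polynomial K) (Polynomial K ⊗[k] R) :=
    Submodule.span (Polynomial K) (insert g (ι '' (I₀ : Set (K ⊗[k] R))))
  have hιI : ∀ x ∈ I₀, ι x ∈ W := fun x hx =>
    Submodule.subset_span (Set.mem_insert_of_mem _ ⟨x, hx, rfl⟩)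
  have hgW : g ∈ W := Submodule.subset_span (Set.mem_insert _ _)
  have hιalg : ∀ c : K, ι (algebraMap K (K ⊗[k] R) c) = algebraMap (Polynomial K) _ (Polynomial.C c) := fun c => by
    rw [hιdef, Algebra.TensorProduct.algebraMap_apply, Algebra.TensorProduct.map_tmul,
      Algebra.TensorProduct.algebraMap_apply]
    simp [Polynomial.C_eq_algebraMap]
  have hιsmul : ∀ (c : K) (x : K ⊗[k] R), ι (c • x) = (Polynomial.C c : (Polynomial K)) • ι x := by
    intro c x
    rw [Algebra.smul_def, map_mul, hιalg, ← Algebra.smul_def]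
  have hmul : ∀ (a : K ⊗[k] R) (z : Polynomial K ⊗[k] R), z ∈ W → ι a * z ∈ W := by
    intro a z hz
    induction hz using Submodule.span_induction with
    | mem y hy =>
      rcases hy with rfl | ⟨x, hx, rfl⟩
      · let a' := a - algebraMap K (K ⊗[k] R) (ε a)
        have ha : ι a = algebraMap (Polynomial K) _ (Polynomial.C (ε a)) + ι a' := by
          rw [← hιalg, ← map_add]; simp [a']
        have e : ι a * g = (Polynomial.C (ε a) : (Polynomial K)) • g +
            (ι (a' * s) + (Polynomial.X : (Polynomial K)) • ι (a' * w)) := by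
          rw [ha, add_mul, ← Algebra.smul_def, map_mul, map_mul]
          simp only [g, mul_add, mul_smul_comm]
        rw [e]
        exact add_mem (W.smul_mem _ hgW) (add_mem (hιI _ (hs _ (sub_mem_ker ε a)))
          (W.smul_mem _ (hιI _ (hw _ (sub_mem_ker ε a)))))
      · rw [← map_mul]; exact hιI _ (I₀.mul_mem_left a hx)
    | zero => simp
    | add y z _ _ h1 h2 => rw [mul_add]; exact add_mem h1 h2
    | smul p y _ h1 => rw [mul_smul_comm]; exact W.smul_mem _ h1
  let J : Ideal (Polynomial K ⊗[k] R) :=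
    { carrier := W
      zero_mem' := W.zero_mem
      add_mem' := W.add_mem
      smul_mem' := fun z y hy => by
        have hz : z ∈ Submodule.span (Polynomial K) (Set.range ι) := by rw [hspan]; trivial
        show z * y ∈ W
        induction hz using Submodule.span_induction with
        | mem z hz => obtain ⟨a, rfl⟩ := hz; exact hmul a y hy
        | zero => simp
        | add u v _ _ h1 h2 => rw [add_mul]; exact add_mem h1 h2
        | smul p u _ h1 => rw [smul_mul_assoc]; exact W.smul_mem _ h1 }
  -- coordinates on the quotient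
  let ψ : K ⊗[k] R →ₗ[K] (Polynomial K) × (Fin N → (Polynomial K)) :=
    LinearMap.prod
      ((Algebra.linearMap K (Polynomial K)) ∘ₗ β - ((Polynomial.X : (Polynomial K)) • Algebra.linearMap K (Polynomial K)) ∘ₗ α)
      (((Algebra.linearMap K (Polynomial K)).compLeft (Fin N)) ∘ₗ ρ)
  let Pc := extend ψ
  have hψ : ∀ x, ψ x = (Polynomial.C (β x) - Polynomial.X * Polynomial.C (α x),
      fun i => Polynomial.C (ρ x i)) := fun x => by
    refine Prod.ext ?_ (funext fun i => rfl)
    simp [ψ, ← Polynomial.C_eq_algebraMap]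
  let Φ : (Polynomial K) × (Fin N → (Polynomial K)) →ₗ[(Polynomial K)] Polynomial K ⊗[k] R :=
    LinearMap.coprod (LinearMap.toSpanSingleton (Polynomial K) _ (ι w))
      (Fintype.linearCombination (Polynomial K) (fun i => ι (σ i)))
  have hext : ∀ x, Pc (ι x) = ψ x := fun x => hιdef ▸ extend_incl ψ x
  have hkerW : ∀ z, z - Φ (Pc z) ∈ W := by
    intro z
    have hz : z ∈ Submodule.span (Polynomial K) (Set.range ι) := by rw [hspan]; trivial
    induction hz using Submodule.span_induction with
    | mem z hz =>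
      obtain ⟨x, rfl⟩ := hz
      rw [hext, hψ]
      let x' := x - ∑ i, ρ x i • σ i
      have hx' : ρ x' = 0 := by
        simp only [x', map_sub, map_sum, map_smul, hσ]
        funext i
        simp [Finset.sum_apply, Pi.single_apply]
      have eΦ : ∀ (b : (Polynomial K)) (c : Fin N → (Polynomial K)), Φ (b, c) = b • ι w + ∑ i, c i • ι (σ i) := fun b c => rfl
      have hsm : (Polynomial.C (α x) : (Polynomial K)) • g =
          ι (α x • s) + (Polynomial.X * Polynomial.C (α x) : (Polynomial K)) • ι w := by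
        rw [hιsmul, mul_comm, mul_smul, ← smul_add]
      have e : ι x - Φ (Polynomial.C (β x) - Polynomial.X * Polynomial.C (α x),
          fun i => Polynomial.C (ρ x i)) = ι (x' - α x • s - β x • w) + (Polynomial.C (α x) : (Polynomial K)) • g := by
        have h3 : ∀ (r t : Polynomial K) (v : Polynomial K ⊗[k] R), (r - t) • v = r • v - t • v := by
          intro r t v
          induction v with
          | zero => simp
          | add u v hu hv => rw [smul_add, smul_add, smul_add, hu, hv]; abel
          | tmul p q => simp [TensorProduct.smul_tmul', sub_mul, TensorProduct.sub_tmul]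
        rw [eΦ, hsm, h3]
        simp only [x', map_sub, map_sum, hιsmul]
        abel
      rw [e]
      refine add_mem ?_ (W.smul_mem _ hgW)
      have h1 : α x' = α x := by simp [x', hσα]
      have h2 : β x' = β x := by simp [x', hσβ]
      rw [← h1, ← h2]
      exact hιI _ (hdec x' hx')
    | zero => simp
    | add u v _ _ h1 h2 =>
      rw [map_add, map_add, add_sub_add_comm]; exact add_mem h1 h2
    | smul p u _ h1 => rw [map_smul, map_smul, ← smul_sub]; exact W.smul_mem _ h1
  have hPcW : W ≤ LinearMap.ker Pc := by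
    refine Submodule.span_le.2 ?_
    rintro y (rfl | ⟨x, hx, rfl⟩)
    · rw [SetLike.mem_coe, LinearMap.mem_ker, map_add, map_smul, hext, hext, hψ, hψ,
        hαs, hαw, hβs, hβw, hρs, hρw]
      ext <;> simp
    · obtain ⟨h1, h2, h3⟩ := hC0 x hx
      rw [SetLike.mem_coe, LinearMap.mem_ker, hext, hψ, h1, h2, h3]
      ext <;> simp
  have hPcΦ : ∀ v, Pc (Φ v) = v := by
    rintro ⟨b, c⟩
    simp only [Φ, LinearMap.coprod_apply, LinearMap.toSpanSingleton_apply,
      Fintype.linearCombination_apply, map_add, map_smul, map_sum, hext, hψ, hαw, hβw, hρw,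
      hσ, hσα, hσβ]
    ext i
    · simp [Prod.fst_sum]
    · simp [Prod.snd_sum, Finset.sum_apply, Pi.single_apply, Polynomial.C_eq_zero, apply_ite Polynomial.C]
  have hker : LinearMap.ker Pc = J.restrictScalars (Polynomial K) := by
    refine le_antisymm (fun z hz => ?_) hPcW
    have := hkerW z
    rwa [LinearMap.mem_ker.1 hz, map_zero, sub_zero] at this
  let e : (Polynomial K ⊗[k] R ⧸ J) ≃ₗ[(Polynomial K)] (Polynomial K) × (Fin N → (Polynomial K)) :=
    (Submodule.Quotient.restrictScalarsEquiv (Polynomial K) J).symm.trans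
      ((Submodule.quotEquivOfEq _ _ hker.symm).trans
        (Pc.quotKerEquivOfSurjective fun v => ⟨Φ v, hPcΦ v⟩))
  haveI := Module.Free.of_equiv e.symm
  haveI := Module.Finite.equiv e.symm
  refine ⟨J, N + 1, finLocFreeOfDeg_sh_of_free (N + 1) J ?_, ?_⟩
  · rw [e.finrank_eq]; simp [add_comm]
  have hev : ∀ (a : K) (x : K ⊗[k] R), bcA R (evalAt a) (ι x) = x := by
    intro a x
    induction x with
    | zero => simp
    | add x y hx hy => simp [hx, hy]
    | tmul c r => simp [hιdef]
  have hevs : ∀ (a : K) (p : (Polynomial K)) (z : Polynomial K ⊗[k] R),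
      bcA R (evalAt a) (p • z) = (Polynomial.eval a p) • bcA R (evalAt a) z := by
    intro a p z
    rw [show p • z = algebraMap (Polynomial K) _ p * z from Algebra.smul_def p z, map_mul,
      Algebra.smul_def]
    congr 1
  have key : ∀ a : K, (J.map (bcA R (evalAt a)).toRingHom).restrictScalars K =
      I₀.restrictScalars K ⊔ Submodule.span K {s + a • w} := by
    intro a
    have hgv : bcA R (evalAt a) g = s + a • w := by simp [g, hev, hevs]
    refine le_antisymm (fun y hy => ?_) (sup_le (fun x hx => ?_) ?_)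
    · obtain ⟨z, hz, rfl⟩ := (Ideal.mem_map_iff_of_surjective (bcA R (evalAt a)).toRingHom
        (fun x => ⟨ι x, hev a x⟩)).1 hy
      show bcA R (evalAt a) z ∈ _
      clear hy
      change z ∈ W at hz
      induction hz using Submodule.span_induction with
      | mem y hy =>
        rcases hy with rfl | ⟨x, hx, rfl⟩
        · rw [hgv]; exact Submodule.mem_sup_right (Submodule.mem_span_singleton_self _)
        · rw [hev]; exact Submodule.mem_sup_left hx
      | zero => simp
      | add u v _ _ h1 h2 => rw [map_add]; exact add_mem h1 h2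
      | smul p u _ h1 => rw [hevs]; exact Submodule.smul_mem _ _ h1
    · show x ∈ J.map _
      rw [← hev a x]; exact Ideal.mem_map_of_mem _ (hιI x hx)
    · rw [Submodule.span_singleton_le_iff_mem]
      show s + a • w ∈ J.map _
      rw [← hgv]; exact Ideal.mem_map_of_mem _ hgW
  constructor <;> refine Submodule.restrictScalars_injective K (K ⊗[k] R) (K ⊗[k] R) ?_
  · rw [key 0, hI]; simp
  · rw [key 1, hI']; simp [hwdef]

/-- a family over the affine line joining two adjacent ideals of a finite algebra. -/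
theorem exists_pencil [Module.Finite K (K ⊗[k] R)] {I I' : Ideal (K ⊗[k] R)} (h : Adj ε I I') :
    ∃ (J : Ideal (Polynomial K ⊗[k] R)) (m : ℕ),
      Mor2.IsFinLocFreeOfDeg m ((sh J).subschemeι ≫ PicF.XTproj (str k R) (TB k (Polynomial K))) ∧
      J.map (bcA R (evalAt (0 : K))).toRingHom = I ∧ J.map (bcA R (evalAt (1 : K))).toRingHom = I' :=
  exists_pencil' h fun _ _ => inferInstance

end Pencil

end Groth.Agent.Grass5.Punct
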