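import Groth.Agent.Grass5.HilbStepDef
import Groth.Agent.Grass5.PunctFam
import Groth.Agent.FBase64.Geometric
import Mathlib.AlgebraicGeometry.ValuativeCriterion
import Mathlib.RingTheory.Flat.TorsionFree

/-!
Elementary steps between families of points: existence, uniqueness up to specializations, behaviour
along specializations, decomposition.
-/

set_option autoImplicit false
set_option linter.style.haveILetI false
set_option maxHeartbeats 400000
set_option backward.isDefEq.respectTransparency false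
set_option backward.isDefEq.respectTransparency.types false

universe u

open CategoryTheory CategoryTheory.Limits AlgebraicGeometry
open scoped TensorProduct

noncomputable section

namespace Groth.Agent.Grass5.HilbStep

open Groth.Agent.Grass5.Hilb Groth.Agent.Grass5.Punct Groth.Agent.HilbCurve12 Groth.Agent.HilbZeta12

variable {k : Type u} [Field k] {X : Scheme.{u}} {f : X ⟶ Spec (CommRingCat.of k)} [IsSeparated f]

lemma finite_supp {K : Type u} [Field K] [Algebra k K] {n : ℕ} (W : HilbD.Obj f n (TB k K))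
    (p : (TB k K).left ⟶ X) : (Set.range (toX f W.1) ∪ Set.range p).Finite := by
  haveI : Subsingleton (TB k K).left := inferInstanceAs (Subsingleton (PrimeSpectrum K))
  haveI : Finite (TB k K).left := Finite.of_subsingleton
  refine Set.Finite.union ?_ (Set.finite_range p)
  let t : (TB k K).left := (⟨⊥, Ideal.isPrime_bot⟩ : PrimeSpectrum K)
  refine (finite_range_toX f W t).subset ?_
  rintro _ ⟨z, rfl⟩
  exact ⟨z, Subsingleton.elim (α := (TB k K).left) _ _, rfl⟩

variable [LocallyOfFiniteType f] (hAF : AFProp X)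

include hAF

/-- a step exists over a field. -/
theorem exists_gStep (hInf : InfProp X) {K : Type u} [Field K] [Algebra k K] {n : ℕ}
    (W' : HilbD.Obj f n (TB k K)) (p : (TB k K).left ⟶ X) (hp : p ≫ f = (TB k K).hom) :
    ∃ W, GStep f (TB k K) p hp W' W := by
  obtain ⟨A, _, _, i, hiop, hi, hF⟩ := exists_chart f hAF (finite_supp W' p)
  obtain ⟨W'c, rfl⟩ := exists_upObj i f _ hi W' (fun z => hF (Or.inl ⟨z, rfl⟩))
  obtain ⟨φ, hφ⟩ := exists_lift_pt f i hi p hp fun x hx => hF (Or.inr hx)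
  obtain ⟨J', hJ'⟩ := exists_ideal W'c
  obtain ⟨hfin, hc⟩ := fin_codim (hJ' ▸ W'c.2)
  haveI := finiteType_chart f i hi
  obtain ⟨J, hJ⟩ := Flag.exists_step (noIso_augB (fun O hO hne => infinite_chart hInf i hO hne) φ) hfin
  let Wc : HilbD.Obj (str k A) (n + 1) (TB k K) :=
    ⟨sh J, deg_of_codim (hJ.fin hfin) ((hJ.codim hfin).trans (by rw [hc]))⟩
  exact ⟨upObj i f _ hi Wc, (gStep_chart f i hi φ W'c Wc hJ' rfl p hp hφ).2 ⟨hJ.le, Ideal.mul_le.2 hJ.mul⟩⟩

omit hAF in
/-- the fraction field embedding on a base change is injective. -/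
lemma bcA_injective {R K A : Type u} [CommRing R] [CommRing K] [CommRing A] [Algebra k R] [Algebra k K]
    [Algebra k A] {φ : R →ₐ[k] K} (hφ : Function.Injective φ) : Function.Injective (bcA A φ) :=
  Module.Flat.rTensor_preserves_injective_linearMap (M := A) φ.toLinearMap hφ

omit hAF in
lemma bcA_smul {R K A : Type u} [CommRing R] [CommRing K] [CommRing A] [Algebra k R] [Algebra k K]
    [Algebra k A] (φ : R →ₐ[k] K) (r : R) (y : R ⊗[k] A) : bcA A φ (r • y) = φ r • bcA A φ y := by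
  rw [Algebra.smul_def, map_mul, Algebra.smul_def]
  congr 1

omit hAF in
lemma exists_denom {R : Type u} [CommRing R] [IsDomain R] [Algebra k R] {A : Type u} [CommRing A]
    [Algebra k A] (z : FractionRing R ⊗[k] A) :
    ∃ r : R, r ≠ 0 ∧ ∃ y : R ⊗[k] A,
      algebraMap R (FractionRing R) r • z = bcA A (IsScalarTower.toAlgHom k R (FractionRing R)) y := by
  induction z with
  | zero => exact ⟨1, one_ne_zero, 0, by simp⟩
  | tmul c a =>
    obtain ⟨⟨x, r⟩, hx⟩ := IsLocalization.surj (nonZeroDivisors R) c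
    exact ⟨r, nonZeroDivisors.coe_ne_zero r, x ⊗ₜ[k] a, by
      rw [TensorProduct.smul_tmul', smul_eq_mul, mul_comm, hx]; rfl⟩
  | add z w hz hw =>
    obtain ⟨r, hr, y, hy⟩ := hz
    obtain ⟨r', hr', y', hy'⟩ := hw
    refine ⟨r * r', mul_ne_zero hr hr', r' • y + r • y', ?_⟩
    rw [map_add, bcA_smul, bcA_smul, ← hy, ← hy', IsScalarTower.coe_toAlgHom', smul_smul, smul_smul,
      map_mul, smul_add, mul_comm (algebraMap R (FractionRing R) r')]

omit hAF in
/-- the contraction of an extended ideal with torsion free quotient. -/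
lemma mem_of_map {R : Type u} [CommRing R] [IsDomain R] [Algebra k R] {A : Type u} [CommRing A]
    [Algebra k A] (J' : Ideal (R ⊗[k] A)) [Module.IsTorsionFree R ((R ⊗[k] A) ⧸ J')] (x : R ⊗[k] A)
    (hx : bcA A (IsScalarTower.toAlgHom k R (FractionRing R)) x ∈
      J'.map (bcA A (IsScalarTower.toAlgHom k R (FractionRing R))).toRingHom) : x ∈ J' := by
  have key : ∀ z ∈ J'.map (bcA A (IsScalarTower.toAlgHom k R (FractionRing R))).toRingHom,
      ∃ r : R, r ≠ 0 ∧ ∃ y ∈ J', algebraMap R (FractionRing R) r • z =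
        bcA A (IsScalarTower.toAlgHom k R (FractionRing R)) y := by
    intro z hz
    change z ∈ Submodule.span _ (_ '' (J' : Set (R ⊗[k] A))) at hz
    induction hz using Submodule.span_induction with
    | mem z hz => obtain ⟨y, hy, rfl⟩ := hz; exact ⟨1, one_ne_zero, y, hy, by simp⟩
    | zero => exact ⟨1, one_ne_zero, 0, zero_mem _, by simp⟩
    | add z w _ _ hz hw =>
      obtain ⟨r, hr, y, hy, e⟩ := hz
      obtain ⟨r', hr', y', hy', e'⟩ := hw
      refine ⟨r * r', mul_ne_zero hr hr', r' • y + r • y',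
        add_mem (J'.smul_of_tower_mem r' hy) (J'.smul_of_tower_mem r hy'), ?_⟩
      rw [map_add, bcA_smul, bcA_smul, ← e, ← e', IsScalarTower.coe_toAlgHom', smul_smul, smul_smul,
        map_mul, smul_add, mul_comm (algebraMap R (FractionRing R) r')]
    | smul c z _ hz =>
      obtain ⟨r, hr, y, hy, e⟩ := hz
      obtain ⟨s, hs, d, hd⟩ := exists_denom (A := A) c
      refine ⟨s * r, mul_ne_zero hs hr, d * y, J'.mul_mem_left _ hy, ?_⟩
      rw [map_mul (bcA A _), ← hd, ← e, smul_eq_mul, smul_mul_smul_comm, map_mul]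
  obtain ⟨r, hr, y, hy, e⟩ := key _ hx
  have e' : bcA A (IsScalarTower.toAlgHom k R (FractionRing R)) (r • x) =
      bcA A (IsScalarTower.toAlgHom k R (FractionRing R)) y := (bcA_smul _ r x).trans e
  have h1 := congrArg (Ideal.Quotient.mkₐ R J') (bcA_injective
    (φ := IsScalarTower.toAlgHom k R (FractionRing R)) (IsFractionRing.injective R (FractionRing R)) e')
  rw [map_smul] at h1
  exact Ideal.Quotient.eq_zero_iff_mem.1 ((smul_eq_zero_iff_right hr).1
    (h1.trans (Ideal.Quotient.eq_zero_iff_mem.2 hy)))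

omit hAF in
/-- a finite extension of a finite quotient by a point. -/
lemma finite_quot {R : Type u} [CommRing R] {C : Type u} [CommRing C] [Algebra R C]
    [Algebra.FiniteType R C] (ε : C →ₐ[R] R) {J' J : Ideal C}
    [Module.Finite R (C ⧸ J')] (hmul : RingHom.ker ε * J' ≤ J) :
    Module.Finite R (C ⧸ J) := by
  haveI : Algebra.IsIntegral R (C ⧸ J) := ⟨fun b => by
    obtain ⟨a, rfl⟩ := Ideal.Quotient.mk_surjective b
    obtain ⟨χ, hχ, h0⟩ := IsIntegral.of_finite R (Ideal.Quotient.mkₐ R J' a)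
    have h1 : Polynomial.aeval a χ ∈ J' := by
      rw [← Ideal.Quotient.eq_zero_iff_mem, ← Ideal.Quotient.mkₐ_eq_mk R, ← Polynomial.aeval_algHom_apply,
        Polynomial.aeval_def]
      exact h0
    refine ⟨(Polynomial.X - Polynomial.C (ε a)) * χ, (Polynomial.monic_X_sub_C _).mul hχ, ?_⟩
    rw [← Polynomial.aeval_def, ← Ideal.Quotient.mkₐ_eq_mk R, Polynomial.aeval_algHom_apply,
      Ideal.Quotient.mkₐ_eq_mk, Ideal.Quotient.eq_zero_iff_mem, map_mul, map_sub, Polynomial.aeval_X,
      Polynomial.aeval_C]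
    exact hmul (Ideal.mul_mem_mul (by rw [RingHom.mem_ker, map_sub, AlgHom.commutes]; simp) h1)⟩
  haveI : Algebra.FiniteType R (C ⧸ J) :=
    Algebra.FiniteType.of_surjective (Ideal.Quotient.mkₐ R J) Ideal.Quotient.mk_surjective
  exact Algebra.IsIntegral.finite

omit hAF in
/-- the quotient by a contracted ideal is torsion free. -/
lemma flat_quot {R : Type u} [CommRing R] [IsDomain R] [IsBezout R] [Algebra k R] {A : Type u} [CommRing A]
    [Algebra k A] (JK : Ideal (FractionRing R ⊗[k] A)) :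
    Module.Flat R ((R ⊗[k] A) ⧸ JK.comap (bcA A (IsScalarTower.toAlgHom k R (FractionRing R))).toRingHom) := by
  rw [Module.Flat.flat_iff_torsion_eq_bot_of_isBezout, eq_bot_iff]
  intro b hb
  obtain ⟨⟨r, hr⟩, hrb⟩ := Submodule.mem_torsion_iff _ |>.1 hb
  obtain ⟨a, rfl⟩ := Ideal.Quotient.mk_surjective b
  rw [Submodule.mem_bot, Ideal.Quotient.eq_zero_iff_mem]
  have h1' : r • a ∈ JK.comap (bcA A (IsScalarTower.toAlgHom k R (FractionRing R))).toRingHom :=
    Ideal.Quotient.eq_zero_iff_mem.1 ((map_smul (Ideal.Quotient.mkₐ R _) r a).trans hrb)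
  have h1 : bcA A (IsScalarTower.toAlgHom k R (FractionRing R)) (r • a) ∈ JK := h1'
  rw [bcA_smul, IsScalarTower.coe_toAlgHom'] at h1
  have h2 := JK.smul_of_tower_mem (algebraMap R (FractionRing R) r)⁻¹ h1
  rwa [smul_smul, inv_mul_cancel₀ (IsFractionRing.to_map_ne_zero_of_mem_nonZeroDivisors hr), one_smul] at h2

omit hAF in
/-- the extension of a contracted ideal. -/
lemma map_contract {R : Type u} [CommRing R] [IsDomain R] [Algebra k R] {A : Type u} [CommRing A]
    [Algebra k A] (JK : Ideal (FractionRing R ⊗[k] A)) :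
    (JK.comap (bcA A (IsScalarTower.toAlgHom k R (FractionRing R))).toRingHom).map
      (bcA A (IsScalarTower.toAlgHom k R (FractionRing R))).toRingHom = JK := by
  refine le_antisymm Ideal.map_comap_le fun z hz => ?_
  obtain ⟨r, hr, y, hy⟩ := exists_denom (A := A) z
  have hy' : y ∈ JK.comap (bcA A (IsScalarTower.toAlgHom k R (FractionRing R))).toRingHom := by
    show bcA A (IsScalarTower.toAlgHom k R (FractionRing R)) y ∈ JK
    rw [← hy]
    exact JK.smul_of_tower_mem _ hz
  have h1 := Ideal.mem_map_of_mem (bcA A (IsScalarTower.toAlgHom k R (FractionRing R))).toRingHom hy'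
  change bcA A (IsScalarTower.toAlgHom k R (FractionRing R)) y ∈ _ at h1
  rw [← hy] at h1
  have h2 := Submodule.smul_of_tower_mem _ (algebraMap R (FractionRing R) r)⁻¹ h1
  rwa [smul_smul, inv_mul_cancel₀ ((map_ne_zero_iff _ (IsFractionRing.injective R (FractionRing R))).2 hr),
    one_smul] at h2

/-- a step exists over a valuation ring. -/
theorem exists_gStep_val (hInf : InfProp X) {R : Type u} [CommRing R] [IsDomain R] [ValuationRing R]
    [Algebra k R] {n : ℕ}
    (W' : HilbD.Obj f n (TB k R)) (p : (TB k R).left ⟶ X) (hp : p ≫ f = (TB k R).hom) :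
    ∃ W, GStep f (TB k R) p hp W' W := by
  let t : (TB k R).left := IsLocalRing.closedPoint R
  have ht : ∀ s : (TB k R).left, s ⤳ t := fun s => IsLocalRing.specializes_closedPoint _
  obtain ⟨A, _, _, i, hiop, hi, hF⟩ := exists_chart f hAF
    ((finite_range_toX f W' t).union (Set.finite_singleton (p t)))
  obtain ⟨W'c, rfl⟩ := exists_upObj i f _ hi W' (within_of_fibre f W' t ht i.isOpenEmbedding.isOpen_range
    fun x hx => hF (Or.inl hx))
  obtain ⟨φ, hφ⟩ := exists_lift_pt f i hi p hp (by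
    rintro _ ⟨s, rfl⟩
    exact ((ht s).map p.continuous).mem_open i.isOpenEmbedding.isOpen_range (hF (Or.inr rfl)))
  obtain ⟨J', hJ'⟩ := exists_ideal W'c
  haveI := finiteType_chart f i hi
  let ι := IsScalarTower.toAlgHom k R (FractionRing R)
  haveI := finite_of_deg (hJ' ▸ W'c.2)
  haveI : Module.Flat R ((R ⊗[k] A) ⧸ J') := RingHom.flat_algebraMap_iff.1
    (Flat.SpecMap_iff.1 ((finLocFreeOfDeg_sh_iff n J').1 (hJ' ▸ W'c.2)).1.2.1)
  haveI : Module.Free R ((R ⊗[k] A) ⧸ J') := Module.free_of_flat_of_isLocalRing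
  have hJ'K : Mor2.IsFinLocFreeOfDeg n ((sh (J'.map (bcA A ι).toRingHom)).subschemeι ≫
      PicF.XTproj (str k A) (TB k (FractionRing R))) := by
    rw [← pull_sh, ← hJ']
    exact (objPull (gT ι) W'c).2
  obtain ⟨hfin, hc⟩ := fin_codim hJ'K
  have hε : ∀ y, augB (ι.comp φ) (bcA A ι y) = ι (augB φ y) := by
    intro y
    induction y with
    | zero => simp
    | add a b ha hb => simp only [map_add, ha, hb]
    | tmul c a => simp
  obtain ⟨JK, hJK⟩ :=
    Flag.exists_step (noIso_augB (fun O hO hne => infinite_chart hInf i hO hne) (ι.comp φ)) hfin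
  have hle : JK.comap (bcA A ι).toRingHom ≤ J' := fun x hx => mem_of_map J' x (hJK.le hx)
  have hmul : RingHom.ker (augB φ) * J' ≤ JK.comap (bcA A ι).toRingHom := Ideal.mul_le.2 fun a ha y hy => by
    show bcA A ι (a * y) ∈ JK
    rw [map_mul]
    exact hJK.mul _ (by rw [RingHom.mem_ker, hε, RingHom.mem_ker.1 ha, map_zero]) _ (Ideal.mem_map_of_mem _ hy)
  haveI := finite_quot (augB φ) hmul
  haveI := flat_quot (k := k) (A := A) JK
  haveI : Module.Free R ((R ⊗[k] A) ⧸ JK.comap (bcA A ι).toRingHom) := Module.free_of_flat_of_isLocalRing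
  -- its rank
  have hJdeg := finLocFreeOfDeg_sh_of_free (Module.finrank R ((R ⊗[k] A) ⧸ JK.comap (bcA A ι).toRingHom))
    (JK.comap (bcA A ι).toRingHom) rfl
  have hrank : Module.finrank R ((R ⊗[k] A) ⧸ JK.comap (bcA A ι).toRingHom) = n + 1 := by
    have h1 : Mor2.IsFinLocFreeOfDeg _ ((HilbD.pull (str k A) (gT ι) (sh _)).subschemeι ≫ _) :=
      (objPull (gT ι) (⟨_, hJdeg⟩ : HilbD.Obj (str k A) _ (TB k R))).2
    rw [pull_sh, map_contract] at h1
    rw [← (fin_codim h1).2, hJK.codim hfin, hc]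
  let Wc : HilbD.Obj (str k A) (n + 1) (TB k R) := ⟨sh (JK.comap (bcA A ι).toRingHom), hrank ▸ hJdeg⟩
  exact ⟨upObj i f _ hi Wc, (gStep_chart f i hi φ W'c Wc hJ' rfl p hp hφ).2 ⟨hle, hmul⟩⟩

omit [LocallyOfFiniteType f] in
/-- over an algebraically closed field every family is a step of a smaller one. -/
theorem exists_decomp {K : Type u} [Field K] [Algebra k K] [IsAlgClosed K] {n : ℕ}
    (W : HilbD.Obj f (n + 1) (TB k K)) :
    ∃ (W' : HilbD.Obj f n (TB k K)) (p : (TB k K).left ⟶ X) (hp : p ≫ f = (TB k K).hom),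
      GStep f (TB k K) p hp W' W := by
  haveI : Subsingleton (TB k K).left := inferInstanceAs (Subsingleton (PrimeSpectrum K))
  obtain ⟨A, _, _, i, hiop, hi, hF⟩ := exists_chart f hAF
    (finite_range_toX f W (⟨⊥, Ideal.isPrime_bot⟩ : PrimeSpectrum K))
  obtain ⟨Wc, rfl⟩ := exists_upObj i f _ hi W fun z =>
    hF ⟨z, Subsingleton.elim (α := (TB k K).left) _ _, rfl⟩
  obtain ⟨J, hJ⟩ := exists_ideal Wc
  obtain ⟨hfin, hc⟩ := fin_codim (hJ ▸ Wc.2)
  classical
  -- an ideal minimal above the given one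
  have hJtop : ¬ (⊤ : Ideal (K ⊗[k] A)) ≤ J := fun h => by
    obtain rfl : J = ⊤ := top_le_iff.1 h
    haveI : Subsingleton ((K ⊗[k] A) ⧸ (⊤ : Ideal (K ⊗[k] A)).restrictScalars K) :=
      Submodule.Quotient.subsingleton_iff.2 (Submodule.restrictScalars_top K _ _)
    rw [Punct.codim, Module.finrank_zero_of_subsingleton] at hc
    omega
  haveI : Module.Finite K ((K ⊗[k] A) ⧸ J.restrictScalars K) := hfin
  haveI : Module.Finite K ((K ⊗[k] A) ⧸ J) := Module.Finite.equiv (Submodule.Quotient.restrictScalarsEquiv K J)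
  haveI : IsArtinianRing ((K ⊗[k] A) ⧸ J) := IsArtinianRing.of_finite K _
  obtain ⟨Q, hQ, hQmin⟩ := IsArtinian.set_has_minimal {Q : Ideal ((K ⊗[k] A) ⧸ J) | Q ≠ ⊥} ⟨⊤, by
    intro h
    refine hJtop fun x _ => Ideal.Quotient.eq_zero_iff_mem.1 ?_
    have : Ideal.Quotient.mk J x ∈ (⊤ : Ideal ((K ⊗[k] A) ⧸ J)) := trivial
    rwa [h] at this⟩
  obtain ⟨q, hq, hq0⟩ := Submodule.exists_mem_ne_zero_of_ne_bot hQ
  obtain ⟨s, rfl⟩ := Ideal.Quotient.mk_surjective q
  have hsJ : s ∉ J := fun h => hq0 (Ideal.Quotient.eq_zero_iff_mem.2 h)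
  let 𝔪 : Ideal (K ⊗[k] A) := J.colon {s}
  have h𝔪 : ∀ a, a ∈ 𝔪 ↔ a * s ∈ J := fun a => Submodule.mem_colon_singleton
  have hmax : 𝔪.IsMaximal := Ideal.isMaximal_iff.2 ⟨fun h => hsJ (by simpa using (h𝔪 1).1 h),
    fun M a hM ha haM => by
      have h1 : Ideal.span {Ideal.Quotient.mk J (a * s)} = Q := by
        refine eq_of_le_of_not_lt ?_ (hQmin _ ?_)
        · rw [Ideal.span_singleton_le_iff_mem, map_mul]
          exact Ideal.mul_mem_left Q _ hq
        · show Ideal.span {Ideal.Quotient.mk J (a * s)} ≠ ⊥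
          rw [Ne, Ideal.span_singleton_eq_bot, Ideal.Quotient.eq_zero_iff_mem, ← h𝔪]
          exact ha
      rw [← h1, Ideal.mem_span_singleton'] at hq
      obtain ⟨b, hb⟩ := hq
      obtain ⟨b, rfl⟩ := Ideal.Quotient.mk_surjective b
      rw [← map_mul, Ideal.Quotient.eq] at hb
      have h2 : b * a - 1 ∈ M := hM ((h𝔪 _).2 (by rwa [sub_mul, one_mul, mul_assoc]))
      simpa using sub_mem (M.mul_mem_left b haM) h2⟩
  haveI := hmax
  letI : Field ((K ⊗[k] A) ⧸ 𝔪) := Ideal.Quotient.field 𝔪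
  haveI : Module.Finite K ((K ⊗[k] A) ⧸ 𝔪) :=
    have h : J ≤ 𝔪 := fun x hx => (h𝔪 x).2 (J.mul_mem_right s hx)
    Module.Finite.of_surjective (Ideal.Quotient.factorₐ K h).toLinearMap (Ideal.Quotient.factor_surjective h)
  have hbij : Function.Bijective (algebraMap K ((K ⊗[k] A) ⧸ 𝔪)) :=
    IsAlgClosed.algebraMap_bijective_of_isIntegral
  let ε : K ⊗[k] A →ₐ[K] K :=
    ((AlgEquiv.ofBijective (Algebra.ofId K ((K ⊗[k] A) ⧸ 𝔪)) hbij).symm.toAlgHom).comp (Ideal.Quotient.mkₐ K 𝔪)
  have hker : ∀ a ∈ RingHom.ker ε, a * s ∈ J := fun a ha => (h𝔪 a).1 (Ideal.Quotient.eq_zero_iff_mem.1 (by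
    have := RingHom.mem_ker.1 ha
    simpa [ε] using this))
  let φ : A →ₐ[k] K := (ε.restrictScalars k).comp Algebra.TensorProduct.includeRight
  have hεφ : augB φ = ε := Algebra.TensorProduct.ext (Algebra.ext_id_iff.2 trivial)
    (AlgHom.ext fun a => by simp [φ])
  let J' : Ideal (K ⊗[k] A) := idealOf ε _ (mem_of_span_stable hker)
  have hstep : Flag.Step ε J' J := by
    refine ⟨fun x hx => Submodule.mem_sup_left hx, fun a ha x hx => ?_, s,
      Submodule.mem_sup_right (Submodule.mem_span_singleton_self _), hsJ, idealOf_restrictScalars _ _ _⟩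
    obtain ⟨w, hw, c, rfl⟩ := Flag.mem_sup_span.1 hx
    rw [mul_add, mul_smul_comm]
    exact add_mem (J.mul_mem_left a hw) (J.smul_of_tower_mem c (hker a ha))
  have hfin' := Flag.fin_of_le hstep.le hfin
  have hc' : Punct.codim K J' = n := by have := hstep.codim hfin'; omega
  let W'c : HilbD.Obj (str k A) n (TB k K) := ⟨sh J', deg_of_codim hfin' hc'⟩
  refine ⟨upObj i f _ hi W'c, ptMap φ ≫ i, by rw [Category.assoc, hi, ptMap_str], ?_⟩
  refine (gStep_chart f i hi φ W'c Wc rfl hJ _ _ rfl).2 ⟨hstep.le, ?_⟩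
  rw [hεφ]
  exact Ideal.mul_le.2 hstep.mul

end Groth.Agent.Grass5.HilbStep
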