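import Groth.Agent.Grass5.HilbChart
import Groth.Agent.Grass5.FlagAlg
import Mathlib.RingTheory.Spectrum.Prime.Chevalley

/-!
Elementary steps between families of points: definition, charts, and the affine dictionary.
-/

set_option autoImplicit false
set_option linter.style.haveILetI false
set_option maxHeartbeats 400000
set_option backward.isDefEq.respectTransparency false
set_option backward.isDefEq.respectTransparency.types false

universe u

open CategoryTheory CategoryTheory.Limits AlgebraicGeometry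
open scoped TensorProduct

noncomputable section

namespace Groth.Agent.Grass5.HilbStep

open Groth.Agent.Grass5.Hilb Groth.Agent.Grass5.Punct Groth.Agent.HilbCurve12 Groth.Agent.HilbZeta12

section Within

variable {X S : Scheme.{u}} {f : X ⟶ S} {T : Over S}

lemma within_iff_support {P : Set X} {I : (PicF.XT f T).IdealSheafData} :
    Within f P I ↔ ∀ z ∈ I.support, pullback.fst f T.hom z ∈ P := by
  constructor
  · intro h z hz
    rw [← SetLike.mem_coe, ← Scheme.IdealSheafData.range_subschemeι] at hz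
    obtain ⟨w, rfl⟩ := hz
    exact h w
  · intro h w
    refine h _ ?_
    rw [← SetLike.mem_coe, ← Scheme.IdealSheafData.range_subschemeι]
    exact ⟨w, rfl⟩

variable (f) [IsSeparated f]

/-- `W` is obtained from `W'` by adding the point `p`. -/
structure GStep {n : ℕ} (T : Over S) (p : T.left ⟶ X) (hp : p ≫ f = T.hom) (W' : HilbD.Obj f n T)
    (W : HilbD.Obj f (n + 1) T) : Prop where
  le : W.1 ≤ W'.1
  mul : HilbD.secGraph f T p hp * W'.1 ≤ W.1

theorem GStep.pull {n : ℕ} {T' : Over S} {p : T.left ⟶ X} {hp : p ≫ f = T.hom} {W' : HilbD.Obj f n T}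
    {W : HilbD.Obj f (n + 1) T} (h : GStep f T p hp W' W) (g : T' ⟶ T) :
    GStep f T' (g.left ≫ p) (by rw [Category.assoc, hp, Over.w g]) (objPull g W') (objPull g W) := by
  refine ⟨?_, ?_⟩
  · show HilbD.pull f g W.1 ≤ HilbD.pull f g W'.1
    rw [pull_eq_comap, pull_eq_comap]
    exact Scheme.IdealSheafData.comap_mono _ h.le
  · show HilbD.secGraph f T' _ _ * HilbD.pull f g W'.1 ≤ HilbD.pull f g W.1
    rw [← pull_secGraph f T p hp g, pull_eq_comap, pull_eq_comap, pull_eq_comap, ← Div89.comap_mul]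
    exact Scheme.IdealSheafData.comap_mono _ h.mul

theorem GStep.within {n : ℕ} {p : T.left ⟶ X} {hp : p ≫ f = T.hom} {W' : HilbD.Obj f n T}
    {W : HilbD.Obj f (n + 1) T} (h : GStep f T p hp W' W) {P : Set X} (hW : Within f P W'.1)
    (hpP : Set.range p ⊆ P) : Within f P W.1 := by
  rw [within_iff_support] at hW ⊢
  intro z hz
  have h1 : z ∈ (HilbD.secGraph f T p hp * W'.1).support := Scheme.IdealSheafData.support_antitone h.mul hz
  rw [Scheme.IdealSheafData.support_mul, ← SetLike.mem_coe, TopologicalSpace.Closeds.coe_sup] at h1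
  rcases h1 with h1 | h1
  · rw [secGraph_eq, Scheme.Hom.support_ker] at h1
    obtain ⟨t, rfl⟩ := (sec f T p hp).isClosedEmbedding.isClosed_range.closure_subset h1
    rw [← Scheme.Hom.comp_apply, sec_fst]
    exact hpP ⟨t, rfl⟩
  · exact hW z h1

theorem finite_range_toX {d : ℕ} (W : HilbD.Obj f d T) (t : T.left) :
    ((toX f W.1) '' (toT f W.1 ⁻¹' {t})).Finite :=
  (card_fibre_le _ W.2 t).1.image _

theorem within_of_fibre {d : ℕ} (W : HilbD.Obj f d T) (t : T.left) (ht : ∀ s : T.left, s ⤳ t)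
    {O : Set X} (hO : IsOpen O) (h : toX f W.1 '' (toT f W.1 ⁻¹' {t}) ⊆ O) : Within f O W.1 := by
  have h1 : InFibre f O W.1 t := fun z hz => h ⟨z, hz, rfl⟩
  intro z
  exact ((ht (toT f W.1 z)).mem_open (isOpen_inFibre' f W hO) h1) z rfl

end Within

section Chart

variable {k : Type u} [Field k] {X : Scheme.{u}} (f : X ⟶ Spec (CommRingCat.of k))

/-- finite sets lie in affine opens. -/
def AFProp (X : Scheme.{u}) : Prop := ∀ F : Set X, F.Finite → ∃ U : X.Opens, IsAffineOpen U ∧ F ⊆ U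

/-- nonempty opens are infinite. -/
def InfProp (X : Scheme.{u}) : Prop := ∀ U : X.Opens, (U : Set X).Nonempty → (U : Set X).Infinite

theorem exists_chart (hAF : AFProp X) {F : Set X} (hF : F.Finite) :
    ∃ (A : Type u) (_ : CommRing A) (_ : Algebra k A) (i : Spec (CommRingCat.of A) ⟶ X),
      IsOpenImmersion i ∧ i ≫ f = str k A ∧ F ⊆ Set.range i := by
  obtain ⟨U, hU, hFU⟩ := hAF F hF
  let a := Spec.preimage (hU.fromSpec ≫ f)
  refine ⟨Γ(X, U), inferInstance, a.hom.toAlgebra, hU.fromSpec, inferInstance, ?_, ?_⟩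
  · show hU.fromSpec ≫ f = Spec.map a
    rw [Spec.map_preimage]
  · exact hU.range_fromSpec.symm ▸ hFU

theorem finiteType_chart [LocallyOfFiniteType f] {A : Type u} [CommRing A] [Algebra k A]
    (i : Spec (CommRingCat.of A) ⟶ X) [IsOpenImmersion i] (hi : i ≫ f = str k A) :
    Algebra.FiniteType k A := by
  have h : LocallyOfFiniteType (str k A) := hi ▸ inferInstance
  exact RingHom.finiteType_algebraMap.1 ((HasRingHomProperty.Spec_iff (P := @LocallyOfFiniteType)).1 h)

theorem infinite_chart (hInf : InfProp X) {A : Type u} [CommRing A]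
    (i : Spec (CommRingCat.of A) ⟶ X) [IsOpenImmersion i] {O : Set (PrimeSpectrum A)} (hO : IsOpen O)
    (hne : O.Nonempty) : O.Infinite := fun hfin =>
  hInf ⟨i '' O, i.isOpenEmbedding.isOpenMap O hO⟩ (hne.image i) (hfin.image i)

variable {K : Type u} [Field K] [Algebra k K] {A : Type u} [CommRing A] [Algebra k A]

/-- no ideal of finite codimension is reproduced by a rational point. -/
theorem noIso_augB [Algebra.FiniteType k A]
    (hinf : ∀ O : Set (PrimeSpectrum A), IsOpen O → O.Nonempty → O.Infinite) (φ : A →ₐ[k] K) :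
    Flag.NoIso (augB φ) := by
  intro I hI hle
  haveI : IsNoetherianRing (K ⊗[k] A) := Algebra.FiniteType.isNoetherianRing K _
  obtain ⟨r, hr, hr0⟩ := Submodule.exists_sub_one_mem_and_smul_eq_zero_of_fg_of_le_smul
    (RingHom.ker (augB φ)) I (IsNoetherian.noetherian I) hle
  haveI : Module.Finite K (K ⊗[k] A ⧸ I) :=
    haveI : Module.Finite K ((K ⊗[k] A) ⧸ I.restrictScalars K) := hI
    Module.Finite.equiv (Submodule.Quotient.restrictScalarsEquiv K I)
  haveI : IsArtinianRing (K ⊗[k] A ⧸ I) := IsArtinianRing.of_finite K _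
  have hfin : (PrimeSpectrum.zeroLocus (I : Set (K ⊗[k] A))).Finite := by
    rw [← Ideal.mk_ker (I := I), ← range_comap_of_surjective _ _ Ideal.Quotient.mk_surjective]
    exact Set.finite_range _
  have hsub : (PrimeSpectrum.basicOpen r : Set (PrimeSpectrum (K ⊗[k] A))) ⊆
      PrimeSpectrum.zeroLocus (I : Set (K ⊗[k] A)) := by
    intro P hP x hx
    exact (P.isPrime.mem_or_mem (by rw [show r * x = 0 from hr0 x hx]; exact P.asIdeal.zero_mem)).resolve_left hP
  have hne : (PrimeSpectrum.basicOpen r : Set (PrimeSpectrum (K ⊗[k] A))).Nonempty := by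
    haveI hp : (RingHom.ker (augB φ)).IsPrime := RingHom.ker_isPrime _
    refine ⟨⟨_, hp⟩, fun h => hp.ne_top ((Ideal.eq_top_iff_one _).2 ?_)⟩
    simpa using sub_mem h hr
  let c := Algebra.TensorProduct.comm k A K
  let σ := PrimeSpectrum.homeomorphOfRingEquiv c.toRingEquiv
  have h2 := PrimeSpectrum.isOpenMap_comap_algebraMap_tensorProduct_of_field (K := k) (A := A) (B := K)
  let ψ : PrimeSpectrum (K ⊗[k] A) → PrimeSpectrum A :=
    PrimeSpectrum.comap (algebraMap A (A ⊗[k] K)) ∘ PrimeSpectrum.comap c.toRingHom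
  have hψ : IsOpenMap ψ := h2.comp (PrimeSpectrum.isHomeomorph_comap_of_bijective (f := c.toRingHom) c.bijective).isOpenMap
  exact hinf _ (hψ _ (PrimeSpectrum.basicOpen r).2) (hne.image ψ) ((hfin.subset hsub).image ψ)

theorem exists_ideal {B : Type u} [CommRing B] [Algebra k B] {n : ℕ} (W : HilbD.Obj (str k A) n (TB k B)) :
    ∃ J : Ideal (B ⊗[k] A), W.1 = sh J :=
  exists_sh W.1

theorem finite_of_deg {B : Type u} [CommRing B] [Algebra k B] {n : ℕ} {J : Ideal (B ⊗[k] A)}
    (h : Mor2.IsFinLocFreeOfDeg n ((sh J).subschemeι ≫ PicF.XTproj (str k A) (TB k B))) :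
    Module.Finite B ((B ⊗[k] A) ⧸ J) := by
  rw [finLocFreeOfDeg_sh_iff] at h
  exact RingHom.finite_algebraMap.1 ((IsFinite.SpecMap_iff _).1 h.1.1)

theorem fin_codim {n : ℕ} {J : Ideal (K ⊗[k] A)}
    (h : Mor2.IsFinLocFreeOfDeg n ((sh J).subschemeι ≫ PicF.XTproj (str k A) (TB k K))) :
    Flag.Fin' K J ∧ Punct.codim K J = n := by
  haveI := finite_of_deg h
  exact ⟨Module.Finite.equiv (Submodule.Quotient.restrictScalarsEquiv K J).symm,
    (codim_eq' J).trans (finrank_of_finLocFreeOfDeg_sh n J h)⟩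
where
  codim_eq' (J : Ideal (K ⊗[k] A)) : Punct.codim K J = Module.finrank K ((K ⊗[k] A) ⧸ J) :=
    (Submodule.Quotient.restrictScalarsEquiv K J).finrank_eq

theorem deg_of_codim {n : ℕ} {J : Ideal (K ⊗[k] A)} (hf : Flag.Fin' K J) (hc : Punct.codim K J = n) :
    Mor2.IsFinLocFreeOfDeg n ((sh J).subschemeι ≫ PicF.XTproj (str k A) (TB k K)) := by
  haveI : Module.Finite K ((K ⊗[k] A) ⧸ J.restrictScalars K) := hf
  haveI := Module.Finite.equiv (Submodule.Quotient.restrictScalarsEquiv K J)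
  refine finLocFreeOfDeg_sh_of_free n J ?_
  rw [← hc]
  exact (Submodule.Quotient.restrictScalarsEquiv K J).finrank_eq.symm

variable [IsSeparated f] {B : Type u} [CommRing B] [Algebra k B] {n : ℕ}
  (i : Spec (CommRingCat.of A) ⟶ X) [IsOpenImmersion i] (hi : i ≫ f = str k A)

/-- the dictionary for steps in a chart. -/
theorem gStep_chart (φ : A →ₐ[k] B) (W' : HilbD.Obj (str k A) n (TB k B))
    (W : HilbD.Obj (str k A) (n + 1) (TB k B)) {J' J : Ideal (B ⊗[k] A)} (hW' : W'.1 = sh J')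
    (hW : W.1 = sh J) (p : (TB k B).left ⟶ X) (hp : p ≫ f = (TB k B).hom) (hpφ : p = ptMap φ ≫ i) :
    GStep f (TB k B) p hp (upObj i f _ hi W') (upObj i f _ hi W) ↔
      J ≤ J' ∧ RingHom.ker (augB φ) * J' ≤ J := by
  subst hpφ
  have e : HilbD.secGraph f (TB k B) (ptMap φ ≫ i) hp * (upObj i f _ hi W').1 ≤ (upObj i f _ hi W).1 ↔
      RingHom.ker (augB φ) * J' ≤ J := by
    refine (le_pushG_iff i f _ hi).trans ?_
    rw [restrG_mul, restrG_secGraph i f _ hi (ptMap φ) (ptMap_str φ)]
    show HilbD.secGraph _ _ _ _ * restrG i f _ hi (pushG i f _ hi W'.1) ≤ W.1 ↔ _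
    rw [restrG_push, secGraph_sh, hW', hW, ← sh_mul, sh_le]
  have e' : (upObj i f _ hi W).1 ≤ (upObj i f _ hi W').1 ↔ J ≤ J' := by
    rw [upObj_le_iff, hW, hW', sh_le]
  exact ⟨fun h => ⟨e'.1 h.le, e.1 h.mul⟩, fun h => ⟨e'.2 h.1, e.2 h.2⟩⟩

omit [IsSeparated f] in
include hi in
theorem exists_lift_pt (p : (TB k B).left ⟶ X) (hp : p ≫ f = (TB k B).hom)
    (hr : Set.range p ⊆ Set.range i) : ∃ φ : A →ₐ[k] B, p = ptMap φ ≫ i := by
  obtain ⟨φ, hφ⟩ := exists_ptMap (k := k) (R := A) (B := B) (IsOpenImmersion.lift i p hr) (by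
    rw [← hi, IsOpenImmersion.lift_fac_assoc, hp])
  exact ⟨φ, by rw [← hφ, IsOpenImmersion.lift_fac]⟩

end Chart

end Groth.Agent.Grass5.HilbStep
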