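import Groth.Agent.SubMod72.ToModules
import Groth.Agent.SubMod72.Extend
import Groth.Agent.Grass5.QuotBC
import Groth.Agent.Pinch99.Faithful
import Groth.Agent.Props58.PullTensor

/-!
Quotients of inverse images recorded by their kernels.
-/

set_option autoImplicit false
set_option backward.isDefEq.respectTransparency false
set_option backward.isDefEq.respectTransparency.types false
set_option maxHeartbeats 400000

noncomputable section

universe u

open CategoryTheory CategoryTheory.Limits AlgebraicGeometry TopologicalSpace Opposite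
open Groth.Agent.QC70 Groth.Agent.SubMod72

namespace Groth.Agent.Grass5.KerSub

open Grass5.QuotBC

theorem quotBC_id {X G : Scheme.{u}} {π : G ⟶ X} {E : X.Modules} {Q : G.Modules}
    {q : (Scheme.Modules.pullback π).obj E ⟶ Q} :
    Grass.quotBC (Category.id_comp π) q ≫ (Scheme.Modules.pullbackId G).hom.app Q = q := by
  have h := congr_app (Scheme.Modules.pseudofunctor_right_unitality π) E
  simp only [NatTrans.comp_app, Functor.whiskerLeft_app, Functor.rightUnitor_hom_app, eqToHom_app] at h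
  have n := (Scheme.Modules.pullbackId G).hom.naturality q
  simp only [Functor.id_map] at n
  unfold Grass.quotBC
  simp only [Category.assoc]
  rw [n, ← Category.assoc ((Scheme.Modules.pullbackComp (𝟙 G) π).inv.app E),
    ← Category.assoc ((Scheme.Modules.pullbackCongr _).inv.app E)]
  rw [show (Scheme.Modules.pullbackComp (𝟙 G) π).inv.app E ≫
    (Scheme.Modules.pullbackId G).hom.app ((Scheme.Modules.pullback π).obj E) = eqToHom (by simp) by
      rw [← h]; exact (congrArg (_ ≫ ·) (Category.comp_id _)).symm]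
  simp [Scheme.Modules.pullbackCongr]
  exact Category.id_comp _

theorem bijective_pullS_openImm {X Y : Scheme.{u}} (j : X ⟶ Y) [IsOpenImmersion j] (N : Y.Modules)
    {U : Y.Opens} (hU : U ≤ j.opensRange) : Function.Bijective (Amp73.pullS j N U) := by
  have e : j ''ᵁ (j ⁻¹ᵁ U) = U := by
    rw [Scheme.Hom.image_preimage_eq_opensRange_inf, inf_eq_right.2 hU]
  have h : (Amp73.pullS j N U : Γ(N, U) → _) = (((Scheme.Modules.restrictFunctorIsoPullback j).hom.app N).app (j ⁻¹ᵁ U))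
      ∘ (fun m => ((res N (j.image_preimage_le U) m : Γ(N, j ''ᵁ (j ⁻¹ᵁ U))) : Γ(N.restrict j, j ⁻¹ᵁ U))) :=
    funext fun m => (Props58.PullTensor.app_pullS_openImm j N U m).symm
  rw [h]
  exact (ConcreteCategory.bijective_of_isIso _).comp
    ⟨fun a b hab => by
      have := congrArg (res N e.ge) hab
      rwa [res_res, res_res, res_self, res_self] at this,
    fun c => ⟨res N e.ge (c : Γ(N, j ''ᵁ (j ⁻¹ᵁ U))), (res_res _ _ _).trans (res_self _)⟩⟩

section Basic

variable {T : Scheme.{u}} {M L L' : T.Modules}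

/-- The kernel of a map, as a subsheaf. -/
def kerSub (q : M ⟶ L) : Sub M where
  carrier W := LinearMap.ker (appLinear q W)
  res_mem {V W} h x hx := by
    rw [LinearMap.mem_ker] at hx ⊢
    show q.app V (res M h x) = 0
    rw [QC70.app_res, show q.app W x = 0 from hx, res_zero]
  local_mem {W} x hx := by
    rw [LinearMap.mem_ker]
    refine QC70.section_ext L _ _ fun p hp => ?_
    obtain ⟨V, h, hpV, hV⟩ := hx p hp
    refine ⟨V, h, hpV, ?_⟩
    rw [res_zero]
    show res L h (q.app W x) = 0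
    rw [← QC70.app_res]
    exact hV

theorem mem_kerSub {q : M ⟶ L} {W : T.Opens} {x : Γ(M, W)} :
    x ∈ (kerSub q).carrier W ↔ q.app W x = 0 := LinearMap.mem_ker

theorem sub_ext {P P' : Sub M} (h : ∀ (W : T.Opens) (x : Γ(M, W)), x ∈ P.carrier W ↔ x ∈ P'.carrier W) :
    P = P' :=
  Sub.ext (funext fun W => SetLike.ext (h W))

theorem app_eq_zero_of_comp {N : T.Modules} {a : N ⟶ M} {q : M ⟶ L} (h : a ≫ q = 0) {W : T.Opens}
    (z : Γ(N, W)) : q.app W (a.app W z) = 0 :=
  (show q.app W (a.app W z) = (a ≫ q).app W z from rfl).trans (by rw [h]; rfl)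

theorem kerSub_le_of_factor (q : M ⟶ L) (t : L ⟶ L') {W : T.Opens} {x : Γ(M, W)}
    (hx : x ∈ (kerSub q).carrier W) : x ∈ (kerSub (q ≫ t)).carrier W := by
  rw [mem_kerSub] at hx ⊢
  show t.app W (q.app W x) = 0
  rw [hx, map_zero]

theorem kerSub_comp_of_isIso (q : M ⟶ L) (t : L ⟶ L') [IsIso t] : kerSub (q ≫ t) = kerSub q :=
  sub_ext fun W x => ⟨fun h => by
    have := kerSub_le_of_factor (q ≫ t) (inv t) h
    rwa [Category.assoc, IsIso.hom_inv_id, Category.comp_id] at this,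
    kerSub_le_of_factor q t⟩

theorem exists_factor_of_kerSub_le {q : M ⟶ L} [Epi q] {q' : M ⟶ L'}
    (h : ∀ (W : T.Opens) (x : Γ(M, W)), x ∈ (kerSub q).carrier W → x ∈ (kerSub q').carrier W) :
    ∃ t : L ⟶ L', q ≫ t = q' := by
  have h0 : kernel.ι q ≫ q' = 0 := by
    refine Scheme.Modules.hom_ext _ _ fun W => ?_
    ext z
    exact mem_kerSub.mp (h W _ (mem_kerSub.mpr (app_eq_zero_of_comp (kernel.condition q) z)))
  obtain ⟨t, ht⟩ := CokernelCofork.IsColimit.desc' (Abelian.epiIsCokernelOfKernel _ (kernelIsKernel q)) _ h0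
  exact ⟨t, ht⟩

/-- Quotients with the same kernel are isomorphic. -/
theorem exists_iso_of_kerSub_eq {q : M ⟶ L} [Epi q] {q' : M ⟶ L'} [Epi q'] (h : kerSub q = kerSub q') :
    ∃ e : L ≅ L', q ≫ e.hom = q' := by
  obtain ⟨t, ht⟩ := exists_factor_of_kerSub_le (q := q) (q' := q') (fun W x hx => h ▸ hx)
  obtain ⟨t', ht'⟩ := exists_factor_of_kerSub_le (q := q') (q' := q) (fun W x hx => h ▸ hx)
  refine ⟨⟨t, t', ?_, ?_⟩, ht⟩
  · rw [← cancel_epi q, reassoc_of% ht, ht', Category.comp_id]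
  · rw [← cancel_epi q', reassoc_of% ht', ht, Category.comp_id]

/-- The quotient by a subsheaf. -/
abbrev quot (P : Sub M) : T.Modules := cokernel (toModι P)

/-- The quotient map. -/
abbrev qπ (P : Sub M) : M ⟶ quot P := cokernel.π (toModι P)

theorem ker_ι_comp (q : M ⟶ L) : toModι (kerSub q) ≫ q = 0 := by
  refine Scheme.Modules.hom_ext _ _ fun V => ?_
  ext z
  exact (mem_kerSub (q := q) (x := (toModι (kerSub q)).app V z)).mp
    ((mem_iff_exists (kerSub q) ((toModι (kerSub q)).app V z)).mpr ⟨z, rfl⟩)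

theorem kerSub_qπ (P : Sub M) : kerSub (qπ P) = P := by
  refine sub_ext fun W x => ⟨fun hx => ?_, fun hx => ?_⟩
  · obtain ⟨y, hy⟩ := (mem_iff_exists (kerSub (qπ P)) x).mp hx
    let l := Abelian.monoLift (toModι P) (toModι (kerSub (qπ P))) (ker_ι_comp (qπ P))
    have hl : l ≫ toModι P = toModι (kerSub (qπ P)) := Abelian.monoLift_comp _ _ _
    refine (mem_iff_exists P x).mpr ⟨l.app W y, Eq.trans ?_ hy⟩
    exact ConcreteCategory.congr_hom (congrArg (fun φ => Scheme.Modules.Hom.app φ W) hl) y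
  · obtain ⟨y, rfl⟩ := (mem_iff_exists P x).mp hx
    exact mem_kerSub.mpr (app_eq_zero_of_comp (cokernel.condition (toModι P)) y)

theorem eq_of_agreeOn_cover {ι : Type*} (W : ι → T.Opens) (hW : ∀ p : T, ∃ i, p ∈ W i) {P P' : Sub M}
    (h : ∀ i, AgreeOn (W i) P P') : P = P' := by
  refine sub_ext fun V x => ⟨fun hx => P'.local_mem x fun p hp => ?_, fun hx => P.local_mem x fun p hp => ?_⟩
  all_goals
    obtain ⟨i, hi⟩ := hW p
    refine ⟨V ⊓ W i, inf_le_left, ⟨hp, hi⟩, ?_⟩
  · rw [← h i _ inf_le_right]; exact P.res_mem _ hx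
  · rw [h i _ inf_le_right]; exact P'.res_mem _ hx

theorem isFinLocFreeOfRank_of_iso {n : ℕ} (i : L ≅ L') (h : FlatMod.IsFinLocFreeOfRank n L) :
    FlatMod.IsFinLocFreeOfRank n L' := fun x => by
  obtain ⟨U, hx, ⟨j⟩⟩ := h x
  exact ⟨U, hx, ⟨((Scheme.Modules.restrictFunctor U.ι).mapIso i).symm ≪≫ j⟩⟩

theorem isFinLocFreeOfRank_quot {n : ℕ} (q : M ⟶ L) [Epi q] (h : FlatMod.IsFinLocFreeOfRank n L) :
    FlatMod.IsFinLocFreeOfRank n (quot (kerSub q)) := by
  obtain ⟨i, -⟩ := exists_iso_of_kerSub_eq (q := qπ (kerSub q)) (q' := q) (kerSub_qπ _)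
  exact isFinLocFreeOfRank_of_iso i.symm h

end Basic

section BaseChange

variable {X T T' T'' : Scheme.{u}} {g : T ⟶ X} {g' : T' ⟶ X} {g'' : T'' ⟶ X} {E : X.Modules}

/-- The identification of the inverse image in two steps with the inverse image. -/
def θ {h : T' ⟶ T} (w : h ≫ g = g') (E : X.Modules) :
    (Scheme.Modules.pullback h).obj ((Scheme.Modules.pullback g).obj E) ≅ (Scheme.Modules.pullback g').obj E :=
  (Scheme.Modules.pullbackComp h g).app E ≪≫ (Scheme.Modules.pullbackCongr w).app E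

theorem quotBC_eq {h : T' ⟶ T} (w : h ≫ g = g') {L : T.Modules} (q : (Scheme.Modules.pullback g).obj E ⟶ L) :
    Grass.quotBC w q = (θ w E).inv ≫ (Scheme.Modules.pullback h).map q := by
  simp only [Grass.quotBC, θ, Iso.trans_inv, Iso.app_inv, Category.assoc]

/-- Base change of a subsheaf of an inverse image. -/
def pullK {h : T' ⟶ T} (w : h ≫ g = g') (P : Sub ((Scheme.Modules.pullback g).obj E)) :
    Sub ((Scheme.Modules.pullback g').obj E) :=
  kerSub (Grass.quotBC w (qπ P))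

theorem pullK_kerSub {h : T' ⟶ T} (w : h ≫ g = g') {L : T.Modules}
    (q : (Scheme.Modules.pullback g).obj E ⟶ L) [Epi q] : pullK w (kerSub q) = kerSub (Grass.quotBC w q) := by
  obtain ⟨i, hi⟩ := exists_iso_of_kerSub_eq (q := qπ (kerSub q)) (q' := q) (kerSub_qπ _)
  conv_rhs => rw [← hi, quotBC_postcomp]
  rw [kerSub_comp_of_isIso]
  rfl

theorem pullK_id (w : 𝟙 T ≫ g = g) (P : Sub ((Scheme.Modules.pullback g).obj E)) : pullK w P = P := by
  conv_rhs => rw [← kerSub_qπ P, ← quotBC_id (π := g) (q := qπ P)]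
  rw [kerSub_comp_of_isIso]
  rfl

theorem pullK_pullK {h : T' ⟶ T} (w : h ≫ g = g') {h' : T'' ⟶ T'} (w' : h' ≫ g' = g'')
    (w'' : (h' ≫ h) ≫ g = g'') (P : Sub ((Scheme.Modules.pullback g).obj E)) :
    pullK w' (pullK w P) = pullK w'' P := by
  haveI := epi_quotBC w (qπ P)
  rw [show pullK w P = kerSub (Grass.quotBC w (qπ P)) from rfl, pullK_kerSub, quotBC_comp w w' w'', kerSub_comp_of_isIso]
  rfl

theorem isFinLocFreeOfRank_pullK {n : ℕ} {h : T' ⟶ T} (w : h ≫ g = g')
    {P : Sub ((Scheme.Modules.pullback g).obj E)} (hP : FlatMod.IsFinLocFreeOfRank n (quot P))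
    (hpull : FlatMod.IsFinLocFreeOfRank n ((Scheme.Modules.pullback h).obj (quot P))) :
    FlatMod.IsFinLocFreeOfRank n (quot (pullK w P)) :=
  haveI := epi_quotBC w (qπ P)
  isFinLocFreeOfRank_quot _ hpull

/-- The inverse image of a section, along a morphism over the base. -/
def bcS {h : T' ⟶ T} (w : h ≫ g = g') (W : T.Opens) (x : Γ((Scheme.Modules.pullback g).obj E, W)) :
    Γ((Scheme.Modules.pullback g').obj E, h ⁻¹ᵁ W) :=
  (θ w E).hom.app (h ⁻¹ᵁ W) (Amp73.pullS h _ W x)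

variable {h : T' ⟶ T} (w : h ≫ g = g')

theorem bcS_add (W : T.Opens) (x y : Γ((Scheme.Modules.pullback g).obj E, W)) :
    bcS w W (x + y) = bcS w W x + bcS w W y := by
  simp only [bcS, Pinch99.pullS_add, map_add]

theorem bcS_zero (W : T.Opens) : bcS w W (0 : Γ((Scheme.Modules.pullback g).obj E, W)) = 0 := by
  have := bcS_add w W (0 : Γ((Scheme.Modules.pullback g).obj E, W)) 0
  rwa [add_zero, left_eq_add] at this

theorem bcS_smul (W : T.Opens) (a : Γ(T, W)) (x : Γ((Scheme.Modules.pullback g).obj E, W)) :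
    bcS w W (a • x) = h.app W a • bcS w W x := by
  simp only [bcS, Amp73.pullS_smul, Scheme.Modules.Hom.app_smul]

theorem bcS_res {W W' : T.Opens} (hW : W' ≤ W) (x : Γ((Scheme.Modules.pullback g).obj E, W)) :
    bcS w W' (res _ hW x) = res _ (h.preimage_mono hW) (bcS w W x) := by
  simp only [bcS]
  rw [← QC70.app_res]
  exact congrArg _ (Amp73.res_pullS h _ hW x).symm

theorem quotBC_bcS {L : T.Modules} (q : (Scheme.Modules.pullback g).obj E ⟶ L) (W : T.Opens)
    (x : Γ((Scheme.Modules.pullback g).obj E, W)) :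
    (Grass.quotBC w q).app (h ⁻¹ᵁ W) (bcS w W x) = Amp73.pullS h L W (q.app W x) := by
  rw [quotBC_eq]
  refine Eq.trans ?_ (Amp73.map_app_pullS h q W x)
  show ((Scheme.Modules.pullback h).map q).app _ ((θ w E).inv.app _ ((θ w E).hom.app _ _)) = _
  congr 1
  exact congr((Scheme.Modules.Hom.app $((θ w E).hom_inv_id) (h ⁻¹ᵁ W)) (Amp73.pullS h _ W x))

theorem bcS_bcS {h' : T'' ⟶ T'} (w' : h' ≫ g' = g'') (w'' : (h' ≫ h) ≫ g = g'') (W : T.Opens)
    (x : Γ((Scheme.Modules.pullback g).obj E, W)) :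
    bcS w' (h ⁻¹ᵁ W) (bcS w W x) = bcS w'' W x := by
  let q := 𝟙 ((Scheme.Modules.pullback g).obj E)
  haveI : IsIso (Grass.quotBC w' (Grass.quotBC w q)) := by
    simp only [quotBC_eq, q]
    infer_instance
  apply (ConcreteCategory.bijective_of_isIso
    ((Grass.quotBC w' (Grass.quotBC w q)).app (h' ⁻¹ᵁ (h ⁻¹ᵁ W)))).1
  rw [quotBC_bcS w', quotBC_bcS w, quotBC_comp w w' w'']
  show _ = ((Scheme.Modules.pullbackComp h' h).inv.app _).app _
    ((Grass.quotBC w'' q).app ((h' ≫ h) ⁻¹ᵁ W) (bcS w'' W x))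
  rw [quotBC_bcS w'']
  exact (Props58.PullTensor.pullS_comp h' h _ W _).symm

theorem pullS_eq_bcS {U : X.Opens} (m : Γ(E, U)) :
    bcS w (g ⁻¹ᵁ U) (Amp73.pullS g E U m) =
      res _ (show h ⁻¹ᵁ (g ⁻¹ᵁ U) ≤ g' ⁻¹ᵁ U by rw [← w]; exact le_rfl) (Amp73.pullS g' E U m) := by
  subst w
  simp only [bcS, res_self]
  apply (ConcreteCategory.bijective_of_isIso
    (((Scheme.Modules.pullbackComp h g).inv.app E).app ((h ≫ g) ⁻¹ᵁ U))).1
  refine Eq.trans ?_ (Props58.PullTensor.pullS_comp h g E U m).symm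
  have : (θ (rfl : h ≫ g = h ≫ g) E).hom ≫ (Scheme.Modules.pullbackComp h g).inv.app E = 𝟙 _ := by
    simp [θ, Scheme.Modules.pullbackCongr]
  exact congr((Scheme.Modules.Hom.app $this (h ⁻¹ᵁ (g ⁻¹ᵁ U))) (Amp73.pullS h _ _ (Amp73.pullS g E U m)))

section OpenImmersion

variable [IsOpenImmersion h]

theorem bcS_bijective {W : T.Opens} (hW : W ≤ h.opensRange) :
    Function.Bijective (bcS w W : Γ((Scheme.Modules.pullback g).obj E, W) → _) :=
  (ConcreteCategory.bijective_of_isIso ((θ w E).hom.app (h ⁻¹ᵁ W))).comp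
    (bijective_pullS_openImm h _ hW)

theorem bcS_mem_pullK {W : T.Opens} (hW : W ≤ h.opensRange) (P : Sub ((Scheme.Modules.pullback g).obj E))
    (x : Γ((Scheme.Modules.pullback g).obj E, W)) :
    bcS w W x ∈ (pullK w P).carrier (h ⁻¹ᵁ W) ↔ x ∈ P.carrier W := by
  conv_rhs => rw [← kerSub_qπ P]
  rw [pullK, mem_kerSub, mem_kerSub, quotBC_bcS]
  refine ⟨fun h0 => (bijective_pullS_openImm h _ hW).1 (h0.trans ?_), fun h0 => ?_⟩
  · exact (map_zero (((Scheme.Modules.pullbackPushforwardAdjunction h).unit.app (quot P)).app W).hom).symm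
  · rw [h0]
    exact map_zero (((Scheme.Modules.pullbackPushforwardAdjunction h).unit.app (quot P)).app W).hom

theorem ext_of_bcS {P P' : Sub ((Scheme.Modules.pullback g').obj E)}
    (hP : ∀ (W : T.Opens) (x : Γ((Scheme.Modules.pullback g).obj E, W)), W ≤ h.opensRange →
      (bcS w W x ∈ P.carrier (h ⁻¹ᵁ W) ↔ bcS w W x ∈ P'.carrier (h ⁻¹ᵁ W))) : P = P' := by
  refine sub_ext fun W' => ?_
  obtain ⟨W, hW, rfl⟩ : ∃ W : T.Opens, W ≤ h.opensRange ∧ h ⁻¹ᵁ W = W' :=
    ⟨h ''ᵁ W', h.image_le_opensRange W', h.preimage_image_eq W'⟩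
  intro x'
  obtain ⟨x, rfl⟩ := (bcS_bijective w hW).2 x'
  exact hP W x hW

/-- The sections whose inverse images lie in a subsheaf. -/
def comapK (P : Sub ((Scheme.Modules.pullback g').obj E)) : Sub ((Scheme.Modules.pullback g).obj E) where
  carrier W :=
    { carrier := {x | bcS w W x ∈ P.carrier (h ⁻¹ᵁ W)}
      add_mem' := fun {x y} hx hy => by
        show bcS w W (x + y) ∈ P.carrier (h ⁻¹ᵁ W)
        rw [bcS_add]; exact add_mem hx hy
      zero_mem' := by
        show bcS w W 0 ∈ P.carrier (h ⁻¹ᵁ W)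
        rw [bcS_zero]; exact zero_mem _
      smul_mem' := fun a x hx => by
        show bcS w W (a • x) ∈ P.carrier (h ⁻¹ᵁ W)
        rw [bcS_smul]; exact Submodule.smul_mem _ _ hx }
  res_mem {V W} hle x hx := by
    show bcS w V (res _ hle x) ∈ P.carrier (h ⁻¹ᵁ V)
    rw [bcS_res]; exact P.res_mem _ hx
  local_mem {W} x hx := P.local_mem _ fun p hp => by
    obtain ⟨V, hV, hpV, hmem⟩ := hx (h p) hp
    refine ⟨h ⁻¹ᵁ V, h.preimage_mono hV, hpV, ?_⟩
    rw [← bcS_res]
    exact hmem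

end OpenImmersion

end BaseChange

end Groth.Agent.Grass5.KerSub
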