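import Groth.Agent.Grass5.ExtHom
import Groth.Agent.Grass5.GrProps
import Mathlib.AlgebraicGeometry.ZariskisMainTheorem

/-!
The Plücker morphism of a Grassmannian is a closed immersion.
-/

set_option autoImplicit false
set_option backward.isDefEq.respectTransparency false
set_option backward.isDefEq.respectTransparency.types false
set_option maxHeartbeats 400000

noncomputable section

universe u

open CategoryTheory CategoryTheory.Limits AlgebraicGeometry TopologicalSpace Opposite exteriorPower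
open Groth.Agent Groth.Agent.QC70 Groth.Agent.SubMod72 Groth.Agent.Props58.LocFree Groth.Agent.Om3

namespace Groth.Agent.Grass5.Plucker

open Grass5.QuotBC KerSub BasisLocus GrChart GrLocal ExtHom

variable {X G : Scheme.{u}} {π : G ⟶ X} {E : X.Modules} {Q D : G.Modules} {r : ℕ}
  (q : (Scheme.Modules.pullback π).obj E ⟶ Q)
  (μ : ∀ V : G.Opens, ↥(⋀[Γ(G, V)]^r Γ(Q, V)) →ₗ[Γ(G, V)] Γ(D, V))

/-- the wedge of the images of sections. -/
def F (U : X.Opens) : ↥(⋀[Γ(X, U)]^r Γ(E, U)) →ₗ[Γ(X, U)] Γ((Scheme.Modules.pushforward π).obj D, U) :=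
  letI := (π.app U).hom.toAlgebra
  letI : Module Γ(X, U) Γ(Q, π ⁻¹ᵁ U) := Module.compHom _ (π.app U).hom
  haveI : IsScalarTower Γ(X, U) Γ(G, π ⁻¹ᵁ U) Γ(Q, π ⁻¹ᵁ U) := IsScalarTower.of_algebraMap_smul fun _ _ => rfl
  let l : Γ(E, U) →ₗ[Γ(X, U)] Γ(Q, π ⁻¹ᵁ U) :=
    { toFun := fun m => q.app (π ⁻¹ᵁ U) (Amp73.pullS π E U m)
      map_add' := fun a b => by rw [Pinch99.pullS_add, map_add]
      map_smul' := fun c m => by rw [Amp73.pullS_smul, Scheme.Modules.Hom.app_smul]; rfl }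
  { toFun := fun x => μ (π ⁻¹ᵁ U) (ExtPowAlg.extMap (S := Γ(G, π ⁻¹ᵁ U)) l r x)
    map_add' := fun a b => ((congrArg (μ (π ⁻¹ᵁ U)) (map_add (ExtPowAlg.extMap (S := Γ(G, π ⁻¹ᵁ U)) l r) a b)).trans (map_add _ _ _) :)
    map_smul' := fun c x => by
      refine Eq.trans (congrArg (μ (π ⁻¹ᵁ U)) (((ExtPowAlg.extMap (S := Γ(G, π ⁻¹ᵁ U)) l r).map_smul c x).trans
        (algebraMap_smul Γ(G, π ⁻¹ᵁ U) c _).symm)) ?_
      exact (μ (π ⁻¹ᵁ U)).map_smul _ _ }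

theorem F_ιMulti (U : X.Opens) (v : Fin r → Γ(E, U)) :
    F q μ U (ιMulti Γ(X, U) r v) = μ (π ⁻¹ᵁ U) (ιMulti Γ(G, π ⁻¹ᵁ U) r fun k => img q v k) := by
  letI := (π.app U).hom.toAlgebra
  letI : Module Γ(X, U) Γ(Q, π ⁻¹ᵁ U) := Module.compHom _ (π.app U).hom
  haveI : IsScalarTower Γ(X, U) Γ(G, π ⁻¹ᵁ U) Γ(Q, π ⁻¹ᵁ U) := IsScalarTower.of_algebraMap_smul fun _ _ => rfl
  exact congrArg (μ (π ⁻¹ᵁ U)) (ExtPowAlg.extMap_ιMulti _ r v)

theorem F_natural (hμ : ∀ {U V : G.Opens} (h : V ≤ U) x, res D h (μ U x) = μ V (resExt Q r h x))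
    (U V : X.Opens) (h : V ≤ U) (x : ↥(⋀[Γ(X, U)]^r Γ(E, U))) :
    res ((Scheme.Modules.pushforward π).obj D) h (F q μ U x) = F q μ V (resExt E r h x) := by
  refine DFunLike.congr_fun (semilinear_ext (resO X h)
    (AddMonoidHom.mk' (fun z => res ((Scheme.Modules.pushforward π).obj D) h (F q μ U z))
      fun a b => by rw [map_add, res_add])
    ((F q μ V).toAddMonoidHom.comp (resExt E r h)) (fun c m => ?_) (fun c m => ?_)
    (ιMulti_span Γ(X, U) r Γ(E, U)) ?_) x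
  · exact (congrArg (res ((Scheme.Modules.pushforward π).obj D) h) ((F q μ U).map_smul c m)).trans (res_smul h c _)
  · exact (congrArg (F q μ V) (resExt_smul E h c m)).trans ((F q μ V).map_smul _ _)
  · rintro _ ⟨v, rfl⟩
    show res ((Scheme.Modules.pushforward π).obj D) h (F q μ U _) = F q μ V (resExt E r h _)
    rw [resExt_ιMulti, F_ιMulti, F_ιMulti]
    refine (hμ (π.preimage_mono h) _).trans ?_
    rw [resExt_ιMulti]
    exact congrArg _ (congrArg _ (funext fun k => by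
      simp only [img]
      rw [← QC70.app_res, Pinch99.pullS_res]))

variable {μ} {L : X.Modules}

theorem exists_wedge [E.IsQuasicoherent] (hμ : ∀ {U V : G.Opens} (h : V ≤ U) x, res D h (μ U x) = μ V (resExt Q r h x))
    (hL : ExtPow.IsExtPow r E L) :
    ∃ w : (Scheme.Modules.pullback π).obj L ⟶ D, ∀ (U : X.affineOpens) (v : Fin r → Γ(E, U.1)),
      ∃ l : Γ(L, U.1), w.app (π ⁻¹ᵁ U.1) (Amp73.pullS π L U.1 l) =
        μ (π ⁻¹ᵁ U.1) (ιMulti Γ(G, π ⁻¹ᵁ U.1) r fun k => img q v k) := by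
  obtain ⟨ψ, hψ⟩ := exists_psi hL
  obtain ⟨θ, hθ⟩ := exists_hom_of_isExtPow hψ (F q μ) (F_natural q μ hμ)
  let adj := Scheme.Modules.pullbackPushforwardAdjunction π
  let w := (adj.homEquiv L D).symm θ
  have hw : adj.homEquiv L D w = θ := Equiv.apply_symm_apply _ _
  rw [Adjunction.homEquiv_unit] at hw
  refine ⟨w, fun U v => ⟨ψ U (ιMulti Γ(X, U.1) r v), ?_⟩⟩
  rw [← F_ιMulti q μ U.1 v, ← hθ U]
  exact congrArg (fun a => a.app U.1 (ψ U (ιMulti Γ(X, U.1) r v))) hw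

theorem conj_iso {C : Type*} [Category C] {A B₁ B₂ D₁ D₂ : C} {x : A ⟶ B₁} {x' : A ⟶ B₂} {y : A ⟶ D₁}
    {y' : A ⟶ D₂} (a : B₁ ≅ D₁) (b : B₁ ≅ B₂) (a' : B₂ ≅ D₂) (ha : x ≫ a.hom = y) (hb : x ≫ b.hom = x')
    (ha' : x' ≫ a'.hom = y') : y ≫ (a.symm ≪≫ b ≪≫ a').hom = y' := by
  simp [← ha, ← ha', ← hb]

section line

variable {U : X.Opens} {T : Scheme.{u}} {g : T ⟶ X} {L' : T.Modules}
  (s : (Scheme.Modules.pullback g).obj L ⟶ L')

/-- the basis locus of the image of one section. -/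
abbrev lset (l : Γ(L, U)) : Set T := basisSet (img s fun _ : Fin 1 => l)

theorem lset_comp {T' : Scheme.{u}} {h : T' ⟶ T} {g' : T' ⟶ X} (w : h ≫ g = g')
    (hL' : FlatMod.IsFinLocFreeOfRank 1 L') {L'' : T'.Modules} (e : (Scheme.Modules.pullback h).obj L' ≅ L'')
    (l : Γ(L, U)) : lset (Grass.quotBC w s ≫ e.hom) l = h ⁻¹' lset s l := by
  rw [lset, basisSet_img_iso, basisSet_img_quotBC w hL']

theorem img_comp_hom {L'' : T.Modules} (j : L' ⟶ L'') {σ : Fin r → Γ(L, U)} (k : Fin r) :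
    img (s ≫ j) σ k = j.app (g ⁻¹ᵁ U) (img s σ k) := rfl

end line

variable [E.IsQuasicoherent] {q} (hG : Grass.IsGrass π E r Q q) {w : (Scheme.Modules.pullback π).obj L ⟶ D}
  (hw : ∀ (U : X.affineOpens) (v : Fin r → Γ(E, U.1)), ∃ l : Γ(L, U.1),
    w.app (π ⁻¹ᵁ U.1) (Amp73.pullS π L U.1 l) = μ (π ⁻¹ᵁ U.1) (ιMulti Γ(G, π ⁻¹ᵁ U.1) r fun k => img q v k))
  {ψ : ∀ W : G.affineOpens, ↥(⋀[Γ(G, W.1)]^r Γ(Q, W.1)) ≃ₗ[Γ(G, W.1)] Γ(D, W.1)}
  (hμ : ∀ (U : G.Opens) (V : G.affineOpens) (hV : V.1 ≤ U) x, res D hV (μ U x) = ψ V (resExt Q r hV x))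
  (hD : ExtPow.IsExtPow r Q D)

omit [E.IsQuasicoherent] in
theorem coe_opn (U : X.Opens) (v : Fin r → Γ(E, U)) : (opn hG v : Set G) = basisSet (img q v) := by
  haveI := hG.epi
  exact coe_locus_of_kerSub (univ hG) v q rfl

include hG hw hμ hD

theorem exists_section_lset (U : X.affineOpens) (v : Fin r → Γ(E, U.1)) :
    ∃ l : Γ(L, U.1), lset w l = (opn hG v : Set G) ∧
      w.app (π ⁻¹ᵁ U.1) (Amp73.pullS π L U.1 l) = μ (π ⁻¹ᵁ U.1) (ιMulti Γ(G, π ⁻¹ᵁ U.1) r fun k => img q v k) := by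
  obtain ⟨l, hl⟩ := hw U v
  haveI := Props58.LocFree.isQuasicoherent_of_isFinLocFree (GrSep.isFinLocFree_of_rank hG.rank)
  refine ⟨l, ?_, hl⟩
  rw [coe_opn hG, ← basisSet_wedge hG.rank hD hμ (img q v), ← hl]
  rfl

theorem epi_wedge {N : ℕ} (hE : FlatMod.IsFinLocFreeOfRank N E) : Epi w := by
  refine epi_of_surjective_stalkMapM _ fun p z => ?_
  obtain ⟨U, hU, hpU, ⟨b⟩⟩ := GrSep.exists_basis hE (π p)
  obtain ⟨J, -, hp⟩ := exists_mem_opn hG b hU p hpU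
  obtain ⟨l, hl, -⟩ := exists_section_lset hG hw hμ hD ⟨U, hU⟩ fun k => b (J k)
  obtain ⟨hp', hb⟩ : p ∈ lset w l := by rw [hl]; exact hp
  obtain ⟨c, rfl⟩ := hb.2 z
  refine ⟨c 0 • germM ((Scheme.Modules.pullback π).obj L) (π ⁻¹ᵁ U) p hp' (Amp73.pullS π L U l), ?_⟩
  show stalkLinear w p _ = _
  rw [map_smul]
  simp only [germComb, Fin.sum_univ_one]
  exact congrArg (c 0 • ·) (stalkMapM_germ w (U := π ⁻¹ᵁ U) hp' (Amp73.pullS π L U l))

/-- Two morphisms into the same chart with the same Plücker quotient are equal. -/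
theorem eq_of_mem_opn {N : ℕ} {U : X.Opens} (hU : IsAffineOpen U)
    (b : Module.Basis (Fin N) Γ(X, U) Γ(E, U)) (J : Fin r → Fin N) {T : Scheme.{u}} {g : T ⟶ X}
    (h₁ h₂ : T ⟶ G) (w₁ : h₁ ≫ π = g) (w₂ : h₂ ≫ π = g)
    (j : (Scheme.Modules.pullback h₁).obj D ≅ (Scheme.Modules.pullback h₂).obj D)
    (hj : Grass.quotBC w₁ w ≫ j.hom = Grass.quotBC w₂ w)
    (hO₁ : ⊤ ≤ h₁ ⁻¹ᵁ opn hG fun k => b (J k)) (hO₂ : ⊤ ≤ h₂ ⁻¹ᵁ opn hG fun k => b (J k)) : h₁ = h₂ := by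
  classical
  haveI := hG.epi
  haveI := Props58.LocFree.isQuasicoherent_of_isFinLocFree (GrSep.isFinLocFree_of_rank hG.rank)
  let O := opn hG fun k => b (J k)
  have hOU : O ≤ π ⁻¹ᵁ U := fun p hp => by
    rw [SetLike.mem_coe.symm, coe_opn hG] at hp
    exact hp.1
  have hg : ⊤ ≤ g ⁻¹ᵁ U := by
    rw [← w₁]
    exact hO₁.trans (h₁.preimage_mono hOU)
  let y : Fin N → Γ(Q, O) := fun l => res Q hOU (img q (fun _ : Fin 1 => b l) 0)
  let t : Fin r → Γ(Q, O) := fun k => y (J k)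
  have ht : StalkBasis t := by
    rw [stalkBasis_iff]
    intro p hp
    show p ∈ basisSet fun k => res Q hOU (img q (fun k => b (J k)) k)
    rw [basisSet_res, ← coe_opn hG]
    exact ⟨hp, hp⟩
  choose B hB using fun l => ht.exists_comb (le_refl O) (y l)
  simp only [res_self] at hB
  choose lJ hlJ hlw using fun v : Fin r → Fin N => exists_section_lset hG hw hμ hD ⟨U, hU⟩ fun k => b (v k)
  let e : Γ(D, O) := μ O (ιMulti Γ(G, O) r t)
  let z : (Fin r → Fin N) → Γ(D, O) := fun v => res D hOU (img w (fun _ : Fin 1 => lJ v) 0)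
  have hz : ∀ v, z v = μ O (ιMulti Γ(G, O) r fun k => y (v k)) := fun v => by
    show res D hOU (w.app (π ⁻¹ᵁ U) (Amp73.pullS π L U (lJ v))) = _
    rw [hlw v, mu_natural hμ hOU, resExt_ιMulti]
    rfl
  have hzJ : z J = e := hz J
  have hzl : ∀ l k, z (Function.update J k l) = B l k • e := fun l k => by
    rw [hz, show (fun x => y (Function.update J k l x)) = Function.update t k (∑ i, B l i • t i) from
      funext fun x => by
        rcases eq_or_ne x k with rfl | hx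
        · rw [Function.update_self, Function.update_self, hB]
        · rw [Function.update_of_ne hx, Function.update_of_ne hx],
      ιMulti_update, map_smul]
  have he : StalkBasis fun _ : Fin 1 => e := by
    rw [stalkBasis_iff]
    intro p hp
    rw [basisSet_wedge hG.rank hD hμ t]
    exact (stalkBasis_iff t).mp ht hp
  let P : ∀ (M : G.Modules) (h : T ⟶ G) (hO : ⊤ ≤ h ⁻¹ᵁ O), Γ(M, O) → Γ((Scheme.Modules.pullback h).obj M, ⊤) :=
    fun M h hO m => res _ hO (Amp73.pullS h M O m)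
  have hP : ∀ (h : T ⟶ G) (hO : ⊤ ≤ h ⁻¹ᵁ O) (wh : h ≫ π = g) (n : ℕ) (E' : X.Modules) (M : G.Modules)
      (s : (Scheme.Modules.pullback π).obj E' ⟶ M) (σ : Fin n → Γ(E', U)) (k : Fin n),
      P M h hO (res M hOU (img s σ k)) = res _ hg (img (Grass.quotBC wh s) σ k) := by
    intro h hO wh n E' M s σ k
    subst wh
    show res _ hO (Amp73.pullS h M O (res M hOU (img s σ k))) = _
    rw [← Pinch99.pullS_res h M hOU, res_res, img_quotBC]
    rfl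
  let β : ∀ (h : T ⟶ G) (hO : ⊤ ≤ h ⁻¹ᵁ O), Fin N → Fin r → Γ(T, ⊤) := fun h hO l k => h.appLE O ⊤ hO (B l k)
  have hPs : ∀ (M : G.Modules) (h : T ⟶ G) (hO : ⊤ ≤ h ⁻¹ᵁ O) (a : Γ(G, O)) (m : Γ(M, O)),
      P M h hO (a • m) = h.appLE O ⊤ hO a • P M h hO m := fun M h hO a m => by
    show res _ hO (Amp73.pullS h M O (a • m)) = _
    rw [Amp73.pullS_smul, res_smul]
    rfl
  have hjz : ∀ v, j.hom.app ⊤ (P D h₁ hO₁ (z v)) = P D h₂ hO₂ (z v) := fun v => by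
    rw [hP h₁ hO₁ w₁, hP h₂ hO₂ w₂, ← hj, QC70.app_res]
    rfl
  have hββ : ∀ l k, β h₁ hO₁ l k = β h₂ hO₂ l k := by
    intro l k
    have h2 : StalkBasis fun _ : Fin 1 => P D h₂ hO₂ e :=
      (Pinch99.stalkBasis_pullS h₂ he).restrict hO₂
    have h3 := hjz (Function.update J k l)
    rw [hzl, hPs, hPs, Scheme.Modules.Hom.app_smul, ← hzJ, hjz J, hzJ] at h3
    exact congrFun (h2.eq_of_comb (W := ⊤) le_rfl (a := fun _ => β h₁ hO₁ l k) (b := fun _ => β h₂ hO₂ l k) (by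
      simp only [Fin.sum_univ_one, res_self]
      exact h3)) 0
  let τ : ∀ (h : T ⟶ G) (hO : ⊤ ≤ h ⁻¹ᵁ O), Fin r → Γ((Scheme.Modules.pullback h).obj Q, ⊤) :=
    fun h hO k => P Q h hO (t k)
  have hτ : ∀ h hO, StalkBasis (τ h hO) := fun h hO => (Pinch99.stalkBasis_pullS h ht).restrict hO
  have happ : ∀ (h : T ⟶ G) (hO : ⊤ ≤ h ⁻¹ᵁ O) (wh : h ≫ π = g) (l : Fin N),
      (Grass.quotBC wh q).app ⊤ (GrChart.pl g E hg (b l)) = ∑ k, β h hO l k • τ h hO k := by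
    intro h hO wh l
    rw [QC70.app_res]
    show res _ hg (img (Grass.quotBC wh q) (fun _ : Fin 1 => b l) 0) = _
    rw [← hP h hO wh]
    show P Q h hO (y l) = _
    conv_lhs => rw [← hB l]
    have hsum : P Q h hO (∑ k, B l k • t k) = ∑ k, P Q h hO (B l k • t k) := by
      show res _ hO (Amp73.pullS h Q O _) = _
      rw [Pinch99.pullS_sum, res_sum]
    rw [hsum]
    exact Finset.sum_congr rfl fun k _ => hPs Q h hO _ _
  have hi : ∀ k, (isoOfBasis (hτ h₁ hO₁) (hτ h₂ hO₂)).hom.app ⊤ (τ h₁ hO₁ k) = τ h₂ hO₂ k :=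
    fun k => ofBasis_app (hτ h₁ hO₁) _ k
  generalize isoOfBasis (hτ h₁ hO₁) (hτ h₂ hO₂) = i₀ at hi
  have hq : Grass.quotBC w₁ q ≫ i₀.hom = Grass.quotBC w₂ q := by
    refine hom_ext_pl hU hg _ _ fun m => ?_
    have hb : ∀ l, (Grass.quotBC w₁ q ≫ i₀.hom).app ⊤ (GrChart.pl g E hg (b l)) =
        (Grass.quotBC w₂ q).app ⊤ (GrChart.pl g E hg (b l)) := fun l => by
      show i₀.hom.app ⊤ ((Grass.quotBC w₁ q).app ⊤ (GrChart.pl g E hg (b l))) = _
      rw [happ h₁ hO₁ w₁, happ h₂ hO₂ w₂, map_sum]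
      simp only [Scheme.Modules.Hom.app_smul, hi, hββ]
    rw [← b.sum_repr m]
    let P' : Γ(E, U) →+ Γ((Scheme.Modules.pullback g).obj E, ⊤) :=
      AddMonoidHom.mk' (GrChart.pl g E hg) (GrChart.pl_add g hg)
    show (Grass.quotBC w₁ q ≫ i₀.hom).app ⊤ (P' _) = (Grass.quotBC w₂ q).app ⊤ (P' _)
    rw [map_sum P', map_sum, map_sum]
    refine Finset.sum_congr rfl fun l _ => ?_
    show (Grass.quotBC w₁ q ≫ i₀.hom).app ⊤ (GrChart.pl g E hg (b.repr m l • b l)) =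
      (Grass.quotBC w₂ q).app ⊤ (GrChart.pl g E hg (b.repr m l • b l))
    rw [show GrChart.pl g E hg (b.repr m l • b l) = resO T hg (g.app U (b.repr m l)) • GrChart.pl g E hg (b l) by
      show res _ hg (Amp73.pullS g E U _) = _
      rw [Amp73.pullS_smul, res_smul], Scheme.Modules.Hom.app_smul, Scheme.Modules.Hom.app_smul, hb]
  haveI : Epi (Grass.quotBC w₂ q) := epi_quotBC _ _
  exact (hG.univ T g _ (isFinLocFreeOfRank_pullback h₂ hG.rank) (Grass.quotBC w₂ q) inferInstance).unique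
    ⟨w₁, i₀, hq⟩ ⟨w₂, Iso.refl _, Category.comp_id _⟩

omit hG hw hμ hD in
/-- The Grassmannian is a closed subscheme of a projective bundle of the exterior power. -/
theorem exists_closedImmersion {N : ℕ} (hE : FlatMod.IsFinLocFreeOfRank N E) (hG : Grass.IsGrass π E r Q q)
    (hL : ExtPow.IsExtPow r E L) {P : Scheme.{u}} {πP : P ⟶ X} {O1 : P.Modules}
    {u : (Scheme.Modules.pullback πP).obj L ⟶ O1} (hP : KRR.IsProjBundle πP L O1 u) :
    ∃ c : G ⟶ P, IsClosedImmersion c ∧ c ≫ πP = π := by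
  haveI := hG.epi
  haveI := Props58.LocFree.isQuasicoherent_of_isFinLocFree (GrSep.isFinLocFree_of_rank hG.rank)
  obtain ⟨D, hD⟩ := FBase64.ExtPowExists.exists_isExtPow Q r
  obtain ⟨ψ, hψ⟩ := exists_psi hD
  choose μ hμ using FBase64.ExtPowExists.exists_mu ψ hψ
  obtain ⟨w, hw⟩ := exists_wedge q (μ := μ) (fun h x => mu_natural hμ h x) hL
  have hDr := rank_det hG.rank hD
  haveI := epi_wedge hG hw hμ hD hE
  have hP' := Grass.IsGrass.of_isProjBundle hP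
  obtain ⟨c, ⟨hc, e, he⟩, -⟩ := hP'.univ G π D hDr w inferInstance
  refine ⟨c, ?_, hc⟩
  have hmono : Mono c := by
    refine ⟨fun {T} h₁ h₂ hh => Scheme.hom_ext_of_forall _ _ fun p => ?_⟩
    obtain ⟨U, hU, hpU, ⟨b⟩⟩ := GrSep.exists_basis hE (π (h₁ p))
    obtain ⟨J, -, hp⟩ := exists_mem_opn hG b hU (h₁ p) hpU
    obtain ⟨l, hl, -⟩ := exists_section_lset hG hw hμ hD ⟨U, hU⟩ fun k => b (J k)
    have hpre : ∀ h : T ⟶ G, ((h ⁻¹ᵁ opn hG fun k => b (J k)) : Set T) = (h ≫ c) ⁻¹' lset u l := fun h => by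
      show h ⁻¹' ((opn hG fun k => b (J k)) : Set G) = _
      rw [← hl, ← he, lset_comp u hc hP'.rank e l]
      rfl
    refine ⟨h₁ ⁻¹ᵁ opn hG fun k => b (J k), hp, ?_⟩
    let V : T.Opens := h₁ ⁻¹ᵁ opn hG fun k => b (J k)
    have hO : ∀ h : T ⟶ G, h ≫ c = h₁ ≫ c → ⊤ ≤ (V.ι ≫ h) ⁻¹ᵁ opn hG fun k => b (J k) := fun h hcomp x _ => by
      have hx : V.ι x ∈ ((h₁ ⁻¹ᵁ opn hG fun k => b (J k)) : Set T) := x.2
      rw [hpre, ← hcomp, ← hpre] at hx
      exact hx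
    have hk : (V.ι ≫ h₁) ≫ c = (V.ι ≫ h₂) ≫ c := by rw [Category.assoc, Category.assoc, hh]
    have wP : ∀ h : (V : Scheme.{u}) ⟶ G, h ≫ π = (h ≫ c) ≫ πP := fun h => by rw [Category.assoc, hc]
    have w₂ : (V.ι ≫ h₂) ≫ π = (V.ι ≫ h₁) ≫ π := by rw [wP, ← hk, ← wP]
    have hg₁ : ((V.ι ≫ h₁) ≫ c) ≫ πP = (V.ι ≫ h₁) ≫ π := (wP _).symm
    have hg₂ : ((V.ι ≫ h₂) ≫ c) ≫ πP = (V.ι ≫ h₁) ≫ π := (wP _).symm.trans w₂
    let a := (Scheme.Modules.pullbackComp (V.ι ≫ h₁) c).symm.app O1 ≪≫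
      (Scheme.Modules.pullback (V.ι ≫ h₁)).mapIso e
    let a' := (Scheme.Modules.pullbackComp (V.ι ≫ h₂) c).symm.app O1 ≪≫
      (Scheme.Modules.pullback (V.ι ≫ h₂)).mapIso e
    have ha : Grass.quotBC hg₁ u ≫ a.hom = Grass.quotBC (rfl : (V.ι ≫ h₁) ≫ π = _) w :=
      exists_iso_comp hc rfl hg₁ u w e he
    have ha' : Grass.quotBC hg₂ u ≫ a'.hom = Grass.quotBC w₂ w := exists_iso_comp hc w₂ hg₂ u w e he
    refine eq_of_mem_opn hG hw hμ hD hU b J (V.ι ≫ h₁) (V.ι ≫ h₂) rfl w₂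
      (a.symm ≪≫ (Scheme.Modules.pullbackCongr hk).app O1 ≪≫ a') ?_ (hO h₁ rfl) (hO h₂ hh.symm)
    exact conj_iso a _ a' ha (quotBC_id_iso hk hg₁ hg₂ u) ha'
  haveI : L.IsQuasicoherent := Om3.isQuasicoherent_of_isExtPow hL
  haveI := GrSep.isSeparated hP'
  haveI := GrProps.isProper hG hE
  haveI : IsProper (c ≫ πP) := by rw [hc]; infer_instance
  haveI : IsProper c := IsProper.of_comp c πP
  exact (IsClosedImmersion.iff_isProper_and_mono c).mpr ⟨inferInstance, hmono⟩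

end Groth.Agent.Grass5.Plucker
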