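import Mathlib

/-!
Ideals of a fixed codimension in a finite algebra with nilpotent augmentation ideal are connected by
elementary steps: two ideals are adjacent when both are spanned by a common ideal and one further
element killed by the augmentation ideal modulo it.
-/

set_option autoImplicit false

universe u

namespace Groth.Agent.Grass5.Punct

variable {K : Type u} [Field K] {A : Type u} [CommRing A] [Algebra K A]

/-- the codimension of an ideal. -/
noncomputable def codim (K : Type u) [Field K] {A : Type u} [CommRing A] [Algebra K A] (I : Ideal A) : ℕ :=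
  Module.finrank K (A ⧸ I.restrictScalars K)

variable (ε : A →ₐ[K] K)

lemma sub_mem_ker (a : A) : a - algebraMap K A (ε a) ∈ RingHom.ker ε := by
  simp [RingHom.mem_ker]

/-- a subspace stable under the augmentation ideal is an ideal. -/
def idealOf (W : Submodule K A) (h : ∀ a ∈ RingHom.ker ε, ∀ w ∈ W, a * w ∈ W) : Ideal A where
  carrier := W
  zero_mem' := W.zero_mem
  add_mem' := W.add_mem
  smul_mem' a w hw := by
    show a * w ∈ W
    have := W.add_mem (h _ (sub_mem_ker ε a) w hw) (W.smul_mem (ε a) hw)
    rwa [sub_mul, Algebra.smul_def, sub_add_cancel] at this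

@[simp]
lemma idealOf_restrictScalars (W : Submodule K A) (h : ∀ a ∈ RingHom.ker ε, ∀ w ∈ W, a * w ∈ W) :
    (idealOf ε W h).restrictScalars K = W := rfl

/-- data of one elementary step from `I` to `I'`. -/
def Adj (I I' : Ideal A) : Prop :=
  ∃ (I₀ : Ideal A) (s s' : A), (∀ a ∈ RingHom.ker ε, a * s ∈ I₀) ∧ (∀ a ∈ RingHom.ker ε, a * s' ∈ I₀) ∧
    (∀ c d : K, c • s + d • s' ∈ I₀ → c = 0 ∧ d = 0) ∧
    I.restrictScalars K = I₀.restrictScalars K ⊔ Submodule.span K {s} ∧
    I'.restrictScalars K = I₀.restrictScalars K ⊔ Submodule.span K {s'}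

variable {ε}

lemma mem_of_span_stable {I₀ : Ideal A} {s : A} (hs : ∀ a ∈ RingHom.ker ε, a * s ∈ I₀) :
    ∀ a ∈ RingHom.ker ε, ∀ w ∈ I₀.restrictScalars K ⊔ Submodule.span K {s},
      a * w ∈ I₀.restrictScalars K ⊔ Submodule.span K {s} := by
  intro a ha w hw
  obtain ⟨p, hp, q, hq, rfl⟩ := Submodule.mem_sup.1 hw
  obtain ⟨c, rfl⟩ := Submodule.mem_span_singleton.1 hq
  rw [mul_add, mul_smul_comm]
  exact Submodule.mem_sup_left (add_mem (I₀.mul_mem_left a hp)
    ((I₀.restrictScalars K).smul_mem c (hs a ha)))

variable (hnil : IsNilpotent (RingHom.ker ε))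

include hnil

/-- above a smaller ideal there is an element killed by the augmentation ideal modulo it. -/
lemma exists_socle {P Q : Ideal A} (h : ¬ Q ≤ P) :
    ∃ s ∈ Q, s ∉ P ∧ ∀ a ∈ RingHom.ker ε, a * s ∈ P := by
  obtain ⟨N, hN⟩ := hnil
  by_contra hcon
  push_neg at hcon
  have hP : ∀ j : ℕ, ¬ ((RingHom.ker ε) ^ j * Q ≤ P) := by
    intro j
    induction j with
    | zero => simpa using h
    | succ j ih =>
      intro hle
      obtain ⟨s, hs, hsP⟩ := SetLike.not_le_iff_exists.1 ih
      obtain ⟨a, ha, has⟩ := hcon s (Ideal.mul_le_right hs) hsP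
      refine has (hle ?_)
      rw [pow_succ', mul_assoc]
      exact Ideal.mul_mem_mul ha hs
  refine hP N ?_
  rw [hN]
  simp

/-- an ideal strictly above another has an ideal hyperplane above the smaller one. -/
lemma exists_hyper {P Q : Ideal A} (hle : P ≤ Q) (h : ¬ Q ≤ P) :
    ∃ (I₀ : Ideal A) (s : A), P ≤ I₀ ∧ s ∈ Q ∧ s ∉ I₀ ∧ (∀ a ∈ RingHom.ker ε, a * s ∈ I₀) ∧
      Q.restrictScalars K = I₀.restrictScalars K ⊔ Submodule.span K {s} := by
  obtain ⟨N, hN⟩ := hnil
  let M : Ideal A := P ⊔ RingHom.ker ε * Q
  have hMQ : ¬ Q ≤ M := fun hM => h (by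
    have key : ∀ j : ℕ, Q ≤ P ⊔ (RingHom.ker ε) ^ j * Q := by
      intro j
      induction j with
      | zero => simp
      | succ j ih =>
        refine ih.trans (sup_le le_sup_left ?_)
        calc (RingHom.ker ε) ^ j * Q ≤ (RingHom.ker ε) ^ j * M := Ideal.mul_mono_right hM
          _ = (RingHom.ker ε) ^ j * P ⊔ (RingHom.ker ε) ^ j * (RingHom.ker ε * Q) := Ideal.mul_sup _ _ _
          _ ≤ P ⊔ (RingHom.ker ε) ^ (j + 1) * Q :=
            sup_le_sup Ideal.mul_le_right (by rw [← mul_assoc, ← pow_succ])
    simpa [hN] using key N)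
  obtain ⟨s, hsQ, hsM⟩ := SetLike.not_le_iff_exists.1 hMQ
  obtain ⟨f, hf, hfM⟩ := Submodule.exists_dual_map_eq_bot_of_notMem (p := M.restrictScalars K) hsM inferInstance
  have hfM' : ∀ x ∈ M, f x = 0 := fun x hx => by
    have := Submodule.mem_map_of_mem (f := f) (show x ∈ M.restrictScalars K from hx)
    rwa [hfM, Submodule.mem_bot] at this
  let W : Submodule K A := Q.restrictScalars K ⊓ LinearMap.ker f
  have hmQ : ∀ a ∈ RingHom.ker ε, ∀ w ∈ Q, a * w ∈ M := fun a ha w hw =>
    Ideal.mem_sup_right (Ideal.mul_mem_mul ha hw)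
  refine ⟨idealOf ε W (fun a ha w hw => ⟨Q.mul_mem_left a hw.1, hfM' _ (hmQ a ha w hw.1)⟩), s,
    fun x hx => ⟨hle hx, hfM' x (Ideal.mem_sup_left hx)⟩, hsQ, fun hs => hf hs.2,
    fun a ha => ⟨Q.mul_mem_left a hsQ, hfM' _ (hmQ a ha s hsQ)⟩, ?_⟩
  rw [idealOf_restrictScalars]
  refine le_antisymm (fun x hx => ?_) (sup_le inf_le_left (by simpa using hsQ))
  refine Submodule.mem_sup.2 ⟨x - (f x / f s) • s, ⟨sub_mem hx ?_, ?_⟩, (f x / f s) • s,
    Submodule.mem_span_singleton.2 ⟨_, rfl⟩, sub_add_cancel _ _⟩
  · exact (Q.restrictScalars K).smul_mem _ hsQ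
  · simp [hf]

variable [Module.Finite K A]

/-- the dimension of a hyperplane extension. -/
lemma finrank_sup_span {W : Submodule K A} {s : A} (hs : s ∉ W) :
    Module.finrank K ↥(W ⊔ Submodule.span K {s}) = Module.finrank K ↥W + 1 := by
  have hd : W ⊓ Submodule.span K {s} = ⊥ := by
    rw [eq_bot_iff]
    rintro x ⟨hx, hx'⟩
    obtain ⟨c, rfl⟩ := Submodule.mem_span_singleton.1 hx'
    by_cases hc : c = 0
    · simp [hc]
    · exact absurd (by simpa [hc] using W.smul_mem c⁻¹ hx) hs
  have h := Submodule.finrank_sup_add_finrank_inf_eq W (Submodule.span K {s})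
  rw [hd, finrank_bot, add_zero, finrank_span_singleton (show s ≠ 0 from fun h0 => hs (by rw [h0]; exact W.zero_mem))] at h
  exact h

/-- ideals of the same codimension are joined by elementary steps. -/
theorem reflTransGen_adj (J : Ideal A) : ∀ (I : Ideal A), codim K I = codim K J →
    Relation.ReflTransGen (Adj ε) I J := by
  suffices h : ∀ (d : ℕ) (I : Ideal A), codim K I = codim K J →
      Module.finrank K ↥(I.restrictScalars K) ≤ Module.finrank K ↥((I ⊓ J).restrictScalars K) + d →
      Relation.ReflTransGen (Adj ε) I J from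
    fun I hI => h _ I hI le_add_self
  intro d
  induction d with
  | zero =>
    intro I hI hd
    have h1 : (I ⊓ J).restrictScalars K = I.restrictScalars K :=
      Submodule.eq_of_le_of_finrank_le (fun x hx => hx.1) (by simpa using hd)
    have hIJ : I.restrictScalars K ≤ J.restrictScalars K := h1 ▸ fun x hx => hx.2
    have h2 := Submodule.finrank_quotient_add_finrank (I.restrictScalars K)
    have h3 := Submodule.finrank_quotient_add_finrank (J.restrictScalars K)
    unfold codim at hI
    have := Submodule.eq_of_le_of_finrank_le hIJ (by omega)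
    obtain rfl : I = J := Submodule.restrictScalars_injective K A A this
    exact .refl
  | succ d ih =>
    intro I hI hd
    by_cases hne : I = J
    · subst hne; exact .refl
    have hdim : Module.finrank K ↥(I.restrictScalars K) = Module.finrank K ↥(J.restrictScalars K) := by
      have h2 := Submodule.finrank_quotient_add_finrank (I.restrictScalars K)
      have h3 := Submodule.finrank_quotient_add_finrank (J.restrictScalars K)
      unfold codim at hI
      omega
    have hIJ : ¬ I ≤ I ⊓ J := fun h => hne (Submodule.restrictScalars_injective K A A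
      (Submodule.eq_of_le_of_finrank_le (fun x hx => (h hx).2) hdim.ge))
    have hJI : ¬ J ≤ I ⊓ J := fun h => hne (Submodule.restrictScalars_injective K A A
      (Submodule.eq_of_le_of_finrank_le (fun x hx => (h hx).1) hdim.le).symm)
    obtain ⟨I₀, s, hI₀, hsI, hs₀, hsk, hIeq⟩ := exists_hyper hnil (inf_le_left : I ⊓ J ≤ I) hIJ
    obtain ⟨s', hs'J, hs', hs'k⟩ := exists_socle hnil hJI
    have hs'I : s' ∉ I := fun h => hs' ⟨h, hs'J⟩
    have hI₀I : I₀ ≤ I := fun x hx =>
      hIeq.ge (Submodule.mem_sup_left (show x ∈ I₀.restrictScalars K from hx))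
    let I' : Ideal A := idealOf ε _ (mem_of_span_stable (fun a ha => hI₀ (hs'k a ha)))
    have hadj : Adj ε I I' := by
      refine ⟨I₀, s, s', hsk, fun a ha => hI₀ (hs'k a ha), fun c e hce => ?_, hIeq, rfl⟩
      have he : e = 0 := by
        by_contra he
        refine hs'I ?_
        have h1 : e • s' ∈ I.restrictScalars K := by
          have := sub_mem (show c • s + e • s' ∈ I.restrictScalars K from hI₀I hce)
            ((I.restrictScalars K).smul_mem c hsI)
          simpa using this
        simpa [he] using (I.restrictScalars K).smul_mem e⁻¹ h1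
      refine ⟨?_, he⟩
      by_contra hc
      refine hs₀ ?_
      subst he
      simpa [hc] using (I₀.restrictScalars K).smul_mem c⁻¹ (show c • s ∈ I₀.restrictScalars K by simpa using hce)
    have hs'0 : s' ∉ I₀.restrictScalars K := fun h => hs'I (hI₀I h)
    have hdim' : Module.finrank K ↥(I'.restrictScalars K) = Module.finrank K ↥(I.restrictScalars K) := by
      rw [idealOf_restrictScalars, hIeq, finrank_sup_span hnil hs'0, finrank_sup_span hnil hs₀]
    refine Relation.ReflTransGen.head hadj (ih I' ?_ ?_)
    · have h2 := Submodule.finrank_quotient_add_finrank (I.restrictScalars K)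
      have h3 := Submodule.finrank_quotient_add_finrank (I'.restrictScalars K)
      unfold codim at hI ⊢
      omega
    · have hsub : (I ⊓ J).restrictScalars K ⊔ Submodule.span K {s'} ≤ (I' ⊓ J).restrictScalars K := by
        refine sup_le (fun x hx => ⟨Submodule.mem_sup_left (hI₀ hx), hx.2⟩) ?_
        rw [Submodule.span_singleton_le_iff_mem]
        exact ⟨Submodule.mem_sup_right (Submodule.mem_span_singleton_self _), hs'J⟩
      have := Submodule.finrank_mono hsub
      rw [finrank_sup_span hnil hs'] at this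
      omega

/-- ideals of every smaller codimension exist. -/
theorem exists_codim (n : ℕ) (hn : n ≤ Module.finrank K A) : ∃ I : Ideal A, codim K I = n := by
  induction n with
  | zero =>
    refine ⟨⊤, ?_⟩
    have : Subsingleton (A ⧸ (⊤ : Ideal A).restrictScalars K) :=
      Submodule.Quotient.subsingleton_iff.2 (Submodule.restrictScalars_top K A A)
    exact Module.finrank_zero_of_subsingleton
  | succ n ih =>
    obtain ⟨I, hI⟩ := ih (by omega)
    have h2 := Submodule.finrank_quotient_add_finrank (I.restrictScalars K)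
    unfold codim at hI ⊢
    have hne : ¬ I ≤ ⊥ := fun h => by
      have h0 : Module.finrank K ↥(I.restrictScalars K) = 0 := by
        rw [le_bot_iff.1 h, Submodule.restrictScalars_bot, finrank_bot]
      omega
    obtain ⟨I₀, s, -, -, hs, -, heq⟩ := exists_hyper hnil bot_le hne
    refine ⟨I₀, ?_⟩
    have h3 := Submodule.finrank_quotient_add_finrank (I₀.restrictScalars K)
    have := finrank_sup_span hnil (W := I₀.restrictScalars K) hs
    rw [← heq] at this
    omega

end Groth.Agent.Grass5.Punct
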