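import Groth.Agent.Grass5.PunctFam

/-!
Connectedness of the punctual Hilbert scheme.
-/

set_option autoImplicit false
set_option linter.style.haveILetI false
set_option maxHeartbeats 400000
set_option backward.isDefEq.respectTransparency false
set_option backward.isDefEq.respectTransparency.types false

universe u

open CategoryTheory CategoryTheory.Limits AlgebraicGeometry
open scoped TensorProduct

noncomputable section

namespace Groth.Agent.Grass5.Punct

open Groth.Agent.Grass5.Hilb

variable {k : Type u} [Field k] {R : Type u} [CommRing R] [Algebra k R]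

section Aug

variable (ε₀ : R →ₐ[k] k) (K : Type u) [Field K] [Algebra k K]

/-- the augmentation after extension of the field. -/
def augK : K ⊗[k] R →ₐ[K] K :=
  Algebra.TensorProduct.lift (AlgHom.id K K) ((Algebra.ofId k K).comp ε₀) (fun _ _ => Commute.all _ _)

lemma augK_nilpotent (hnil : IsNilpotent (RingHom.ker ε₀)) : IsNilpotent (RingHom.ker (augK ε₀ K)) := by
  let inc := (Algebra.TensorProduct.includeRight : R →ₐ[k] K ⊗[k] R).toRingHom
  have key : ∀ x : K ⊗[k] R, x - algebraMap K _ (augK ε₀ K x) ∈ (RingHom.ker ε₀).map inc := by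
    intro x
    induction x with
    | zero => simp
    | add x y hx hy =>
      convert add_mem hx hy using 1
      simp only [map_add]; abel
    | tmul c r =>
      have : c ⊗ₜ[k] r - algebraMap K (K ⊗[k] R) (augK ε₀ K (c ⊗ₜ[k] r)) =
          algebraMap K (K ⊗[k] R) c * inc (r - algebraMap k R (ε₀ r)) := by
        simp only [augK, Algebra.TensorProduct.lift_tmul, inc, map_sub, mul_sub]
        congr 1
        · simp [Algebra.TensorProduct.algebraMap_apply]
        · rw [Algebra.algebraMap_eq_smul_one (A := R)]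
          simp only [Algebra.TensorProduct.algebraMap_apply, AlgHom.toRingHom_eq_coe, RingHom.coe_coe,
            Algebra.TensorProduct.includeRight_apply, Algebra.TensorProduct.tmul_mul_tmul, one_mul,
            mul_one, Algebra.algebraMap_self_apply, AlgHom.id_apply, AlgHom.comp_apply, Algebra.ofId_apply]
          rw [TensorProduct.tmul_smul, TensorProduct.smul_tmul', Algebra.smul_def, mul_comm]
      rw [this]
      exact Ideal.mul_mem_left _ _ (Ideal.mem_map_of_mem _ (by simp [RingHom.mem_ker]))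
  obtain ⟨N, hN⟩ := hnil
  refine ⟨N, le_bot_iff.1 ?_⟩
  refine (Ideal.pow_right_mono (J := (RingHom.ker ε₀).map inc) (fun x hx => ?_) N).trans ?_
  · have := key x
    rwa [RingHom.mem_ker.1 hx, map_zero, sub_zero] at this
  · rw [← Ideal.map_pow, hN]; simp

end Aug

variable {n : ℕ} {H : Over (Spec (CommRingCat.of k))} {Z : HilbD.Obj (str k R) n H}
  (hH : HilbD.IsUniversal (str k R) n H Z)
  {K : Type u} [Field K] [Algebra k K] [Module.Finite k R] {ε : K ⊗[k] R →ₐ[K] K}

omit [Algebra k K] in
lemma codim_eq {A : Type u} [CommRing A] [Algebra K A] (I : Ideal A) :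
    codim K I = Module.finrank K (A ⧸ I) :=
  (Submodule.Quotient.restrictScalarsEquiv K I).finrank_eq

include hH

/-- adjacent ideals give points in one connected component. -/
lemma component_of_reflTransGen {J : Ideal (K ⊗[k] R)} (gJ : TB k K ⟶ H) (hgJ : HilbD.pull _ gJ Z.1 = sh J)
    {I : Ideal (K ⊗[k] R)} (h : Relation.ReflTransGen (Adj ε) I J) :
    codim K J = n → codim K I = n ∧ ∀ (g : TB k K ⟶ H), HilbD.pull _ g Z.1 = sh I →
      ∀ p : ↑(Spec (CommRingCat.of K)), connectedComponent (g.left p) = connectedComponent (gJ.left p) := by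
  intro hJn
  induction h using Relation.ReflTransGen.head_induction_on with
  | refl =>
    refine ⟨hJn, fun g hg p => ?_⟩
    have hdeg : Mor2.IsFinLocFreeOfDeg n ((sh J).subschemeι ≫ PicF.XTproj (str k R) (TB k K)) := by
      rw [← hgJ]; exact (objPull gJ Z).2
    rw [(hH _ ⟨sh J, hdeg⟩).unique hg hgJ]
  | @head I I' hadj _ ih =>
    obtain ⟨hI'n, ih⟩ := ih
    obtain ⟨F, m, hdeg, h0, h1⟩ := exists_pencil hadj
    have hm0 : Mor2.IsFinLocFreeOfDeg m ((sh I).subschemeι ≫ PicF.XTproj (str k R) (TB k K)) := by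
      rw [← h0, ← pull_sh]; exact (objPull (gT (evalAt (0 : K))) ⟨sh F, hdeg⟩).2
    have hm1 : Mor2.IsFinLocFreeOfDeg m ((sh I').subschemeι ≫ PicF.XTproj (str k R) (TB k K)) := by
      rw [← h1, ← pull_sh]; exact (objPull (gT (evalAt (1 : K))) ⟨sh F, hdeg⟩).2
    have e1 := finrank_of_finLocFreeOfDeg_sh m I' hm1
    rw [← codim_eq, hI'n] at e1
    subst e1
    refine ⟨(codim_eq I).trans (finrank_of_finLocFreeOfDeg_sh n I hm0), fun g hg p => ?_⟩
    obtain ⟨G, hG, -⟩ := hH _ ⟨sh F, hdeg⟩
    have hg0 : HilbD.pull _ (gT (evalAt (0 : K)) ≫ G) Z.1 = sh I := by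
      rw [← pull_comp, hG]; exact (pull_sh _ F).trans (by rw [h0])
    have hg1 : HilbD.pull _ (gT (evalAt (1 : K)) ≫ G) Z.1 = sh I' := by
      rw [← pull_comp, hG]; exact (pull_sh _ F).trans (by rw [h1])
    rw [(hH _ ⟨sh I, hm0⟩).unique hg hg0, ← ih _ hg1 p]
    refine connectedComponent_eq ?_
    haveI : PreconnectedSpace (TB k (Polynomial K)).left :=
      inferInstanceAs (PreconnectedSpace (PrimeSpectrum (Polynomial K)))
    exact (isPreconnected_range G.left.continuous).subset_connectedComponent ⟨_, rfl⟩ ⟨_, rfl⟩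

omit [Algebra k K] in
/-- the punctual Hilbert scheme is connected. -/
theorem preconnectedSpace (ε₀ : R →ₐ[k] k) (hnil : IsNilpotent (RingHom.ker ε₀)) :
    PreconnectedSpace H.left := by
  rcases isEmpty_or_nonempty H.left with he | ⟨⟨h₁⟩⟩
  · infer_instance
  -- the ideal attached to a point
  have pts : ∀ h : H.left, ∃ (L : Type u) (_ : Field L) (_ : Algebra k L) (g : TB k L ⟶ H)
      (J : Ideal (L ⊗[k] R)), (∃ p, g.left p = h) ∧ HilbD.pull _ g Z.1 = sh J ∧ codim L J = n := by
    intro h
    let a := Spec.preimage (H.left.fromSpecResidueField h ≫ H.hom)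
    letI : Algebra k (H.left.residueField h) := a.hom.toAlgebra
    let g : TB k (H.left.residueField h) ⟶ H := Over.homMk (H.left.fromSpecResidueField h) (by
      show _ = Spec.map _
      rw [show CommRingCat.ofHom (algebraMap k (H.left.residueField h)) = a from rfl, Spec.map_preimage])
    obtain ⟨J, hJ⟩ := exists_sh (k := k) (R := R) (B := H.left.residueField h) (objPull g Z).1
    refine ⟨_, inferInstance, inferInstance, g, J, ?_, hJ, ?_⟩
    · have : h ∈ Set.range (H.left.fromSpecResidueField h) := by simp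
      exact this
    · rw [codim_eq]
      apply finrank_of_finLocFreeOfDeg_sh
      rw [← hJ]; exact (objPull g Z).2
  obtain ⟨L₁, _, _, g₁, J₁, -, -, hJ₁⟩ := pts h₁
  obtain ⟨I₀, hI₀⟩ := exists_codim (augK_nilpotent ε₀ k hnil) n (by
    rw [← hJ₁]
    refine (Submodule.finrank_quotient_le _).trans (le_of_eq ?_)
    rw [Module.finrank_baseChange, Module.finrank_baseChange])
  have hI₀deg : Mor2.IsFinLocFreeOfDeg n ((sh I₀).subschemeι ≫ PicF.XTproj (str k R) (TB k k)) :=
    finLocFreeOfDeg_sh_of_free n I₀ ((codim_eq I₀).symm.trans hI₀)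
  obtain ⟨g₀, hg₀, -⟩ := hH _ ⟨sh I₀, hI₀deg⟩
  let p₀ : ↑(Spec (CommRingCat.of k)) := (⟨⊥, Ideal.isPrime_bot⟩ : PrimeSpectrum k)
  have hall : ∀ h : H.left, connectedComponent h = connectedComponent (g₀.left p₀) := by
    intro h
    obtain ⟨L, _, _, g, J, ⟨p, rfl⟩, hg, hJ⟩ := pts h
    let φ : k →ₐ[k] L := Algebra.ofId k L
    let J₀ : Ideal (L ⊗[k] R) := I₀.map (bcA R φ).toRingHom
    have hgJ₀ : HilbD.pull _ (gT φ ≫ g₀) Z.1 = sh J₀ := by
      rw [← pull_comp, hg₀]; exact pull_sh φ I₀
    have hJ₀ : codim L J₀ = n := by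
      rw [codim_eq]
      apply finrank_of_finLocFreeOfDeg_sh
      rw [← hgJ₀]; exact (objPull (gT φ ≫ g₀) Z).2
    have := (component_of_reflTransGen hH (gT φ ≫ g₀) hgJ₀
      (reflTransGen_adj (augK_nilpotent ε₀ L hnil) J₀ J (hJ.trans hJ₀.symm)) hJ₀).2 g hg p
    rw [this]
    haveI : Subsingleton (TB k k).left := inferInstanceAs (Subsingleton (PrimeSpectrum k))
    have hsub : ((gT φ).left p : ↑(Spec (CommRingCat.of k))) = p₀ := Subsingleton.elim _ _
    show connectedComponent (g₀.left ((gT φ).left p)) = _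
    rw [hsub]
  rw [preconnectedSpace_iff_connectedComponent]
  intro x
  refine Set.eq_univ_of_forall fun y => ?_
  rw [hall x, ← hall y]
  exact mem_connectedComponent

end Groth.Agent.Grass5.Punct
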