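import Groth.Agent.Grass5.Closure

/-!
Representability of the Grassmannian of a free module by a closed subscheme of projective space.
-/

set_option autoImplicit false
set_option maxHeartbeats 400000
set_option backward.isDefEq.respectTransparency false

universe u

open CategoryTheory CategoryTheory.Limits AlgebraicGeometry
open scoped TensorProduct

noncomputable section

namespace Groth.Agent.Grass5.Free

open ProjPt

variable {n k : ℕ} (hk : k ≤ n) {R : Type u} [CommRing R]

section Alg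

variable {A : Type u} [CommRing A] [Algebra R A]

lemma exists_finite_cover (P : A → Prop) (h : ∀ p : PrimeSpectrum A, ∃ f, f ∉ p.asIdeal ∧ P f) :
    ∃ (ι : Type u) (_ : Fintype ι) (f : ι → A), Ideal.span (Set.range f) = ⊤ ∧ ∀ i, P (f i) := by
  have htop : Ideal.span {f | P f} = ⊤ := by
    by_contra hne
    obtain ⟨m, hm, hle⟩ := Ideal.exists_le_maximal _ hne
    obtain ⟨f, hf, hPf⟩ := h ⟨m, hm.isPrime⟩
    exact hf (hle (Ideal.subset_span hPf))
  obtain ⟨T, hT, hT1⟩ := Submodule.mem_span_finite_of_mem_span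
    ((Ideal.eq_top_iff_one _).1 htop)
  refine ⟨(T : Set A), inferInstance, Subtype.val, ?_, fun i ↦ hT i.2⟩
  rw [Subtype.range_val]
  exact (Ideal.eq_top_iff_one _).2 hT1

lemma span_map_eq_top {B : Type u} [CommRing B] [Algebra R B] (φ : A →ₐ[R] B) {ι : Type u}
    (f : ι → A) (hf : Ideal.span (Set.range f) = ⊤) :
    Ideal.span (Set.range fun i ↦ φ (f i)) = ⊤ := by
  have := congrArg (Ideal.map φ.toRingHom) hf
  rwa [Ideal.map_span, Ideal.map_top, ← Set.range_comp] at this

lemma loc_jointly_injective {ι : Type u} (f : ι → A) (hf : Ideal.span (Set.range f) = ⊤) (a : A)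
    (ha : ∀ i, loc R (f i) a = 0) : a = 0 := by
  by_contra hne
  let J : Ideal A := LinearMap.ker (LinearMap.toSpanSingleton A A a)
  have hJ : J ≠ ⊤ := fun h ↦ hne (by
    have : (1 : A) ∈ J := h ▸ Submodule.mem_top
    simpa [J] using this)
  obtain ⟨m, hm, hle⟩ := Ideal.exists_le_maximal _ hJ
  obtain ⟨i, hi⟩ : ∃ i, f i ∉ m := by
    by_contra hh
    push Not at hh
    exact hm.ne_top (top_le_iff.1 (hf ▸ Ideal.span_le.2 (Set.range_subset_iff.2 hh)))
  obtain ⟨⟨_, q, rfl⟩, hq⟩ :=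
    (IsLocalization.map_eq_zero_iff (Submonoid.powers (f i)) _ a).1 (ha i)
  exact hi (hm.isPrime.mem_of_pow_mem q (hle (by simpa [J] using hq)))

lemma isUnit_loc_comp {B : Type u} [CommRing B] [Algebra R B] (φ : A →ₐ[R] B) (g : A) :
    IsUnit (((loc R (φ g)).comp φ).toRingHom g) :=
  IsLocalization.Away.algebraMap_isUnit (φ g)

/-- lift of a ring map to localisations. -/
def awayRingHom {B : Type u} [CommRing B] [Algebra R B] (φ : A →ₐ[R] B) (g : A) :
    Localization.Away g →+* Localization.Away (φ g) :=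
  IsLocalization.Away.lift (S := Localization.Away g) g (isUnit_loc_comp φ g)

lemma awayRingHom_algebraMap {B : Type u} [CommRing B] [Algebra R B] (φ : A →ₐ[R] B) (g a : A) :
    awayRingHom φ g (algebraMap A (Localization.Away g) a) = loc R (φ g) (φ a) :=
  IsLocalization.Away.lift_eq g (isUnit_loc_comp φ g) a

/-- lift of an algebra map to localisations. -/
def awayMap {B : Type u} [CommRing B] [Algebra R B] (φ : A →ₐ[R] B) (g : A) :
    Localization.Away g →ₐ[R] Localization.Away (φ g) :=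
  { awayRingHom φ g with
    commutes' := fun r ↦ by
      have h1 : algebraMap R (Localization.Away g) r =
          algebraMap A (Localization.Away g) (algebraMap R A r) :=
        IsScalarTower.algebraMap_apply R A (Localization.Away g) r
      change awayRingHom φ g (algebraMap R (Localization.Away g) r) = _
      rw [h1, awayRingHom_algebraMap, φ.commutes, AlgHom.commutes] }

lemma awayMap_comp_loc {B : Type u} [CommRing B] [Algebra R B] (φ : A →ₐ[R] B) (g : A) :
    (awayMap φ g).comp (loc R g) = (loc R (φ g)).comp φ :=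
  AlgHom.ext fun a ↦ awayRingHom_algebraMap φ g a

/-- `Spec` of an algebra map. -/
abbrev sp {B : Type u} [CommRing B] [Algebra R B] (φ : A →ₐ[R] B) :
    Spec (CommRingCat.of B) ⟶ Spec (CommRingCat.of A) :=
  Spec.map (CommRingCat.ofHom φ.toRingHom)

lemma sp_comp {B C : Type u} [CommRing B] [Algebra R B] [CommRing C] [Algebra R C]
    (φ : A →ₐ[R] B) (ψ : B →ₐ[R] C) : sp (ψ.comp φ) = sp ψ ≫ sp φ := by
  rw [← Spec.map_comp, ← CommRingCat.ofHom_comp]
  rfl

lemma sp_loc_hom_ext {Y : Scheme.{u}} {ι : Type u} (f : ι → A)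
    (hf : Ideal.span (Set.range f) = ⊤) (a b : Spec (CommRingCat.of A) ⟶ Y)
    (h : ∀ i, sp (loc R (f i)) ≫ a = sp (loc R (f i)) ≫ b) : a = b :=
  (Scheme.affineOpenCoverOfSpanRangeEqTop (R := CommRingCat.of A) f hf).openCover.hom_ext a b h

/-- compatibility of a point of projective space and a point of the Grassmannian. -/
def Rel (g : Spec (CommRingCat.of A) ⟶ PR (plN n k) R) (N : Gr R n k A) : Prop :=
  ∀ (B : Type u) [CommRing B] [Algebra R B] (φ : A →ₐ[R] B) (s : Idx n k)
    (W : Fin n → Fin k → B) (h : IsFrame (sig s) W),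
    sp φ ≫ g = plF hk R W h ↔ Module.Grassmannian.map φ N = frameN W h

lemma rel_of_local {g : Spec (CommRingCat.of A) ⟶ PR (plN n k) R} {N : Gr R n k A} {ι : Type u}
    (f : ι → A) (hf : Ideal.span (Set.range f) = ⊤) (s : ι → Idx n k)
    (W : ∀ i, Fin n → Fin k → Localization.Away (f i)) (hW : ∀ i, IsFrame (sig (s i)) (W i))
    (hg : ∀ i, sp (loc R (f i)) ≫ g = plF hk R (W i) (hW i))
    (hN : ∀ i, Module.Grassmannian.map (loc R (f i)) N = frameN (W i) (hW i)) :
    Rel hk g N := by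
  intro B _ _ φ t V hV
  have hsp := span_map_eq_top φ f hf
  have key1 : ∀ i, Module.Grassmannian.map (loc R (φ (f i))) (Module.Grassmannian.map φ N) =
      frameN _ ((hW i).map (awayMap φ (f i))) := by
    intro i
    rw [← Module.Grassmannian.map_comp, ← awayMap_comp_loc, Module.Grassmannian.map_comp, hN,
      map_frameN]
  have key2 : ∀ i, sp (loc R (φ (f i))) ≫ sp φ ≫ g =
      plF hk R _ ((hW i).map (awayMap φ (f i))) := by
    intro i
    rw [← Category.assoc, ← sp_comp, ← awayMap_comp_loc, sp_comp, Category.assoc, hg, plF_map]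
  constructor
  · intro e
    refine ext_of_injective (fun i ↦ Localization.Away (φ (f i))) (fun i ↦ loc R (φ (f i)))
      (loc_jointly_injective _ hsp) fun i ↦ ?_
    rw [key1, map_frameN]
    refine frameN_eq_of_plF_eq hk _ _ ?_
    rw [← key2, e, plF_map]
  · intro e
    refine sp_loc_hom_ext (R := R) _ hsp _ _ fun i ↦ ?_
    rw [key2, plF_map]
    refine plF_eq_of_frameN_eq hk _ _ ?_
    rw [← key1, e, map_frameN]

lemma rel_map {B : Type u} [CommRing B] [Algebra R B] (φ : A →ₐ[R] B)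
    {g : Spec (CommRingCat.of A) ⟶ PR (plN n k) R} {N : Gr R n k A} (h : Rel hk g N) :
    Rel hk (sp φ ≫ g) (Module.Grassmannian.map φ N) := by
  intro C _ _ ψ t V hV
  rw [← Category.assoc, ← sp_comp, ← Module.Grassmannian.map_comp]
  exact h C (ψ.comp φ) t V hV

lemma exists_frames (N : Gr R n k A) :
    ∃ (ι : Type u) (_ : Fintype ι) (f : ι → A), Ideal.span (Set.range f) = ⊤ ∧ ∀ i,
      ∃ (s : Idx n k) (W : Fin n → Fin k → Localization.Away (f i)) (h : IsFrame (sig s) W),
        Module.Grassmannian.map (loc R (f i)) N = frameN W h := by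
  refine exists_finite_cover (A := A) (fun f ↦
      ∃ (s : Idx n k) (W : Fin n → Fin k → Localization.Away f) (h : IsFrame (sig s) W),
        Module.Grassmannian.map (loc R f) N = frameN W h) fun p ↦ ?_
  obtain ⟨f, σ, hf, hσ, hloc⟩ := exists_frame_near N p
  obtain ⟨W, h, e⟩ := hloc (Localization.Away f) (loc R f) (IsLocalization.Away.algebraMap_isUnit f)
  obtain ⟨s, W', h', e'⟩ := exists_sig_frame (R := R) hσ h
  exact ⟨f, hf, s, W', h', e.trans e'.symm⟩

lemma exists_plF_cover (g : Spec (CommRingCat.of A) ⟶ PR (plN n k) R)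
    (hg : g ≫ CohB1.ProjSpaceOver.toBase (plN n k) (Spec (CommRingCat.of R)) =
      Spec.map (CommRingCat.ofHom (algebraMap R A)))
    (hf : ∃ l, l ≫ ι₀ hk R = g) :
    ∃ (ι : Type u) (_ : Fintype ι) (f : ι → A), Ideal.span (Set.range f) = ⊤ ∧ ∀ i,
      ∃ (s : Idx n k) (W : Fin n → Fin k → Localization.Away (f i)) (h : IsFrame (sig s) W),
        sp (loc R (f i)) ≫ g = plF hk R W h := by
  refine exists_finite_cover (A := A) (fun f ↦
      ∃ (s : Idx n k) (W : Fin n → Fin k → Localization.Away f) (h : IsFrame (sig s) W),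
        sp (loc R f) ≫ g = plF hk R W h) fun p ↦ ?_
  obtain ⟨s, hs⟩ := exists_mem_Vo hk (g p)
  obtain ⟨_, ⟨_, ⟨f, rfl⟩, rfl⟩, hpf, hfs⟩ :=
    PrimeSpectrum.isBasis_basic_opens.exists_subset_of_mem_open
      (show p ∈ g ⁻¹ᵁ Vo hk R s from hs) (g ⁻¹ᵁ Vo hk R s).2
  obtain ⟨l, hl⟩ := hf
  refine ⟨f, hpf, s, exists_frame_of_factors hk s (sp (loc R f) ≫ g) ?_
    ⟨sp (loc R f) ≫ l, by rw [Category.assoc, hl]⟩ ?_⟩
  · rw [Category.assoc, hg, ← Spec.map_comp, ← CommRingCat.ofHom_comp]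
    exact congr(Spec.map (CommRingCat.ofHom $((loc R f).comp_algebraMap)))
  · rintro _ ⟨q, rfl⟩
    rw [Scheme.Hom.comp_apply]
    exact hfs ((PrimeSpectrum.localization_away_comap_range (Localization.Away f) f).le ⟨q, rfl⟩)

theorem exists_rel_of_point (g : Spec (CommRingCat.of A) ⟶ PR (plN n k) R)
    (hg : g ≫ CohB1.ProjSpaceOver.toBase (plN n k) (Spec (CommRingCat.of R)) =
      Spec.map (CommRingCat.ofHom (algebraMap R A)))
    (hf : ∃ l, l ≫ ι₀ hk R = g) : ∃ N : Gr R n k A, Rel hk g N := by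
  obtain ⟨ι, _, f, hspan, hloc⟩ := exists_plF_cover hk g hg hf
  choose s W hW hgW using hloc
  have hcompat : Compat (R := R) hW := by
    intro i j
    rw [map_frameN, map_frameN]
    refine frameN_eq_of_plF_eq hk ((hW i).map _) ((hW j).map _) ?_
    rw [← plF_map hk _ (W i) (hW i), ← plF_map hk _ (W j) (hW j), ← hgW, ← hgW, ← Category.assoc, ← Category.assoc, ← sp_comp,
      ← sp_comp, res_comp_loc, res_comp_loc]
  obtain ⟨N, hN⟩ := exists_glue (R := R) f hspan (fun i ↦ sig (s i)) W hW hcompat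
  exact ⟨N, rel_of_local hk f hspan s W hW hgW hN⟩

theorem exists_rel_of_gr (N : Gr R n k A) :
    ∃ l : Spec (CommRingCat.of A) ⟶ G₀ hk R,
      (l ≫ ι₀ hk R) ≫ CohB1.ProjSpaceOver.toBase (plN n k) (Spec (CommRingCat.of R)) =
        Spec.map (CommRingCat.ofHom (algebraMap R A)) ∧ Rel hk (l ≫ ι₀ hk R) N := by
  obtain ⟨ι, _, f, hspan, hloc⟩ := exists_frames N
  choose s W hW hNW using hloc
  choose l hl using fun i ↦ plF_factors hk (R := R) (A := Localization.Away (f i)) (W i) (hW i)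
  let 𝒰 := (Scheme.affineOpenCoverOfSpanRangeEqTop (R := CommRingCat.of A) f hspan).openCover
  let l₀ : Spec (CommRingCat.of A) ⟶ G₀ hk R := 𝒰.glueMorphisms l (fun (i : ι) (j : ι) ↦ by
    refine hom_left_ext _ _ fun B q ↦ ?_
    rw [← cancel_mono (ι₀ hk R)]
    let q₁ : Spec B ⟶ Spec (CommRingCat.of (Localization.Away (f i))) :=
      q ≫ pullback.fst (sp (loc R (f i))) (sp (loc R (f j)))
    let q₂ : Spec B ⟶ Spec (CommRingCat.of (Localization.Away (f j))) :=
      q ≫ pullback.snd (sp (loc R (f i))) (sp (loc R (f j)))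
    letI : Algebra R B := ((Spec.preimage q₁).hom.comp (algebraMap R _)).toAlgebra
    let φ₁ : Localization.Away (f i) →ₐ[R] B :=
      { (Spec.preimage q₁).hom with commutes' := fun _ ↦ rfl }
    have hq : q₁ ≫ sp (loc R (f i)) = q₂ ≫ sp (loc R (f j)) := by
      simp only [q₁, q₂, Category.assoc, pullback.condition]
    have hh : CommRingCat.ofHom (loc R (f i)).toRingHom ≫ Spec.preimage q₁ =
        CommRingCat.ofHom (loc R (f j)).toRingHom ≫ Spec.preimage q₂ := by
      apply Spec.map_injective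
      rw [Spec.map_comp, Spec.map_comp, Spec.map_preimage, Spec.map_preimage]
      exact hq
    let φ₂ : Localization.Away (f j) →ₐ[R] B :=
      { (Spec.preimage q₂).hom with
        commutes' := fun r ↦ by
          have := congr($(hh).hom (algebraMap R A r))
          simp only [CommRingCat.comp_apply] at this
          change (Spec.preimage q₂).hom (algebraMap R _ r) =
            (Spec.preimage q₁).hom (algebraMap R _ r)
          rw [← (loc R (f i)).commutes r, ← (loc R (f j)).commutes r]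
          exact this.symm }
    have hφ : φ₁.comp (loc R (f i)) = φ₂.comp (loc R (f j)) :=
      AlgHom.ext fun a ↦ congr($(hh).hom a)
    have e1 : sp φ₁ = q₁ := Spec.map_preimage q₁
    have e2 : sp φ₂ = q₂ := Spec.map_preimage q₂
    change (q ≫ pullback.fst (sp (loc R (f i))) (sp (loc R (f j))) ≫ l i) ≫ ι₀ hk R =
      (q ≫ pullback.snd (sp (loc R (f i))) (sp (loc R (f j))) ≫ l j) ≫ ι₀ hk R
    suffices hfin : q₁ ≫ plF hk R (W i) (hW i) = q₂ ≫ plF hk R (W j) (hW j) by
      rw [← hl i, ← hl j] at hfin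
      simpa only [q₁, q₂, Category.assoc] using hfin
    rw [← e1, ← e2, plF_map, plF_map]
    refine plF_eq_of_frameN_eq hk _ _ ?_
    rw [← map_frameN φ₁ (W i) (hW i), ← map_frameN φ₂ (W j) (hW j), ← hNW, ← hNW,
      ← Module.Grassmannian.map_comp, ← Module.Grassmannian.map_comp, hφ])
  have h₀ : ∀ i, sp (loc R (f i)) ≫ l₀ = l i := fun i ↦ Scheme.Cover.ι_glueMorphisms 𝒰 _ _ i
  have h₁ : ∀ i, sp (loc R (f i)) ≫ l₀ ≫ ι₀ hk R = plF hk R (W i) (hW i) := fun i ↦ by
    rw [← Category.assoc, h₀, hl]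
  refine ⟨l₀, sp_loc_hom_ext (R := R) f hspan _ _ fun i ↦ ?_, rel_of_local hk f hspan s W hW h₁ hNW⟩
  rw [← Category.assoc, h₁, plF_toBase, ← Spec.map_comp, ← CommRingCat.ofHom_comp]
  exact congr(Spec.map (CommRingCat.ofHom $((loc R (f i)).comp_algebraMap.symm)))

theorem rel_unique_gr {g : Spec (CommRingCat.of A) ⟶ PR (plN n k) R}
    (hg : g ≫ CohB1.ProjSpaceOver.toBase (plN n k) (Spec (CommRingCat.of R)) =
      Spec.map (CommRingCat.ofHom (algebraMap R A)))
    (hf : ∃ l, l ≫ ι₀ hk R = g) {N N' : Gr R n k A} (h : Rel hk g N) (h' : Rel hk g N') :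
    N = N' := by
  obtain ⟨ι, _, f, hspan, hloc⟩ := exists_plF_cover hk g hg hf
  refine ext_of_injective (fun i ↦ Localization.Away (f i)) (fun i ↦ loc R (f i))
    (loc_jointly_injective _ hspan) fun i ↦ ?_
  obtain ⟨s, W, hW, e⟩ := hloc i
  rw [(h _ (loc R (f i)) s W hW).1 e, (h' _ (loc R (f i)) s W hW).1 e]

theorem rel_unique_point {g g' : Spec (CommRingCat.of A) ⟶ PR (plN n k) R} {N : Gr R n k A}
    (h : Rel hk g N) (h' : Rel hk g' N) : g = g' := by
  obtain ⟨ι, _, f, hspan, hloc⟩ := exists_frames N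
  refine sp_loc_hom_ext (R := R) f hspan _ _ fun i ↦ ?_
  obtain ⟨s, W, hW, e⟩ := hloc i
  rw [(h _ (loc R (f i)) s W hW).2 e, (h' _ (loc R (f i)) s W hW).2 e]

end Alg

variable (R) in
/-- the Grassmannian over `Spec R`. -/
def X₀ : Over (Spec (CommRingCat.of R)) :=
  Over.mk (ι₀ hk R ≫ CohB1.ProjSpaceOver.toBase (plN n k) (Spec (CommRingCat.of R)))

lemma pt_hg {A : CommAlgCat.{u} R} (g : pt A ⟶ X₀ hk R) :
    (g.left ≫ ι₀ hk R) ≫ CohB1.ProjSpaceOver.toBase (plN n k) (Spec (CommRingCat.of R)) =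
      Spec.map (CommRingCat.ofHom (algebraMap R A)) := by
  rw [Category.assoc]; exact Over.w g

variable (R) in
theorem exists_representing :
    ∃ e : ∀ A : CommAlgCat.{u} R, (pt A ⟶ X₀ hk R) ≃ Gr R n k A,
      (∀ (A : CommAlgCat.{u} R) (g : pt A ⟶ X₀ hk R), Rel hk (A := A) (g.left ≫ ι₀ hk R) (e A g)) ∧
      ∀ (A B : CommAlgCat.{u} R) (φ : A ⟶ B) (g : pt A ⟶ X₀ hk R) (g' : pt B ⟶ X₀ hk R),
        g'.left = Spec.map (CommRingCat.ofHom φ.hom.toRingHom) ≫ g.left →
          e B g' = Module.Grassmannian.map φ.hom (e A g) := by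
  have h1 : ∀ (A : CommAlgCat.{u} R) (g : pt A ⟶ X₀ hk R),
      ∃ N : Gr R n k A, Rel hk (A := A) (g.left ≫ ι₀ hk R) N := fun A g ↦
    exists_rel_of_point hk _ (pt_hg hk g) ⟨g.left, rfl⟩
  choose F hF using h1
  have h2 : ∀ (A : CommAlgCat.{u} R) (N : Gr R n k A),
      ∃ g : pt A ⟶ X₀ hk R, Rel hk (A := A) (g.left ≫ ι₀ hk R) N := fun A N ↦ by
    obtain ⟨l, hl, hrel⟩ := exists_rel_of_gr hk N
    exact ⟨Over.homMk l ((Category.assoc _ _ _).symm.trans hl), hrel⟩
  choose G hG using h2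
  refine ⟨fun A ↦
    { toFun := F A
      invFun := G A
      left_inv := fun g ↦ Over.OverMorphism.ext ((cancel_mono (ι₀ hk R)).1
        (rel_unique_point hk (hG A (F A g)) (hF A g)))
      right_inv := fun N ↦ rel_unique_gr hk (pt_hg hk (G A N)) ⟨_, rfl⟩ (hF A (G A N)) (hG A N) },
    hF, fun A B φ g g' e ↦ ?_⟩
  have h3 : Rel hk (A := B) (g'.left ≫ ι₀ hk R) (Module.Grassmannian.map φ.hom (F A g)) := by
    rw [e, Category.assoc]
    exact rel_map hk φ.hom (hF A g)
  exact rel_unique_gr hk (pt_hg hk g') ⟨_, rfl⟩ (hF B g') h3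

end Groth.Agent.Grass5.Free
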